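import Mathlib
import Groth.Prelude.Def_Magnet4
import Groth.Agent.Lib.Helper5.AMonPts
import Groth.Agent.Lib.Helper18.MonPts
import Groth.Agent.Lib.Helper18.AffLine.Defs
import Groth.Agent.Lib.Helper18.AffLine.Diag

/-!
# helper1 for helper18 (S18959): étaleness of `T₀ ◁ f` from étaleness near the fixed points
-/

set_option autoImplicit false
universe u
open CategoryTheory CategoryTheory.Limits MonoidalCategory CartesianMonoidalCategory MonObj
open AlgebraicGeometry Opposite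
open Magnet Groth.Agent.Lib.Helper18.AffLine

namespace Groth.Agent.Lib.Helper1.ALET

section Cartesian

variable {C : Type*} [Category C] [CartesianMonoidalCategory C]

/-- `(T ◁ φ, snd, snd, φ)` is a pullback square. -/
theorem isPullback_whiskerLeft_snd (T : C) {Y X : C} (φ : Y ⟶ X) :
    IsPullback (T ◁ φ) (snd T Y) (snd T X) φ := by
  refine ⟨⟨by simp⟩, ⟨PullbackCone.IsLimit.mk _ (fun s => lift (s.fst ≫ fst T X) s.snd) ?_ ?_ ?_⟩⟩
  · intro s
    apply CartesianMonoidalCategory.hom_ext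
    · simp
    · simp [s.condition]
  · intro s
    simp
  · intro s m h1 h2
    apply CartesianMonoidalCategory.hom_ext
    · simp [← h1]
    · simp [← h2]

end Cartesian

theorem etale_whiskerLeft {S : Scheme.{u}} {T₀ X Y : Over S} (a : MonAct (AMonS S ℕ) X)
    (b : MonAct (AMonS S ℕ) Y) (f : X ⟶ Y) (hf : MonAct.IsEquivariant a b f) (V : X.left.Opens)
    [Etale (V.ι ≫ f.left)] (θ θ' : T₀ ⟶ AMonS S ℕ) (h : θ * θ' = 1) (h' : θ' * θ = 1)
    (hcov : ∀ ξ : (T₀ ⊗ X).left, ∃ n : ℕ, (rho a (θ ^ n)).left ξ ∈ V) :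
    Etale (T₀ ◁ f).left := by
  -- step 1: étale over `V_K`
  have BC1 : IsPullback (T₀ ◁ f).left (snd T₀ X).left (snd T₀ Y).left f.left :=
    (isPullback_whiskerLeft_snd T₀ f).map (Over.forget S)
  have sqV := isPullback_morphismRestrict (snd T₀ X).left V
  have sq := sqV.paste_vert BC1.flip
  have hVK : Etale (((snd T₀ X).left ⁻¹ᵁ V).ι ≫ (T₀ ◁ f).left) :=
    MorphismProperty.of_isPullback (P := @Etale) sq inferInstance
  -- step 2: the cover
  rw [IsZariskiLocalAtSource.iff_of_iSup_eq_top (P := @Etale)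
    (fun n : ℕ => (tau a (θ ^ n)).left ⁻¹ᵁ ((snd T₀ X).left ⁻¹ᵁ V))]
  · intro n
    have hiso : IsIso (tau a (θ ^ n)).left :=
      (inferInstance : IsIso ((Over.forget S).mapIso (tauIso a θ θ' h h' n)).hom)
    have hiso' : IsIso (tau b (θ' ^ n)).left :=
      (inferInstance : IsIso ((Over.forget S).mapIso (tauIso b θ' θ h' h n)).hom)
    have e1 : T₀ ◁ f = tau a (θ ^ n) ≫ (T₀ ◁ f) ≫ tau b (θ' ^ n) := by
      rw [← Category.assoc, tau_whiskerLeft a b f hf, Category.assoc, tau_pow b θ' θ h' h n,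
        Category.comp_id]
    have e2 : (T₀ ◁ f).left =
        (tau a (θ ^ n)).left ≫ (T₀ ◁ f).left ≫ (tau b (θ' ^ n)).left := by
      conv_lhs => rw [e1]
      rfl
    have e3 : ((tau a (θ ^ n)).left ⁻¹ᵁ ((snd T₀ X).left ⁻¹ᵁ V)).ι ≫ (T₀ ◁ f).left =
        ((tau a (θ ^ n)).left ∣_ ((snd T₀ X).left ⁻¹ᵁ V)) ≫
          (((snd T₀ X).left ⁻¹ᵁ V).ι ≫ (T₀ ◁ f).left) ≫ (tau b (θ' ^ n)).left := by
      conv_lhs => rw [e2]
      rw [← Category.assoc, ← morphismRestrict_ι]
      simp only [Category.assoc]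
    rw [e3]
    infer_instance
  · rw [eq_top_iff]
    intro ξ _
    obtain ⟨n, hn⟩ := hcov ξ
    rw [TopologicalSpace.Opens.mem_iSup]
    refine ⟨n, ?_⟩
    change (snd T₀ X).left ((tau a (θ ^ n)).left ξ) ∈ V
    rw [← Scheme.Hom.comp_apply, ← Over.comp_left, tau_snd]
    exact hn

end Groth.Agent.Lib.Helper1.ALET
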