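import Mathlib.FieldTheory.IntermediateField.Adjoin.Basic
import Mathlib.Algebra.Algebra.Operations
import Mathlib.RingTheory.TensorProduct.Basic
import Mathlib.LinearAlgebra.FiniteDimensional.Basic
import Mathlib.LinearAlgebra.Dimension.Free

/-!
# Descent of a finite-dimensional algebra to a finitely generated subfield

A finite-dimensional algebra `D` over an algebraic extension `F'` of `K` is defined over a finite
subextension `E`: the structure constants of a basis generate `E`, and the `E`-span `D₀` of the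
basis is an `E`-subalgebra with `F' ⊗[E] D₀ ≃ D`.
-/

set_option autoImplicit false
universe u v
open TensorProduct

namespace Groth.Agent.Lib.Helper1.AlgDescent

variable (K : Type u) (F' : Type u) [Field K] [Field F'] [Algebra K F'] [Algebra.IsAlgebraic K F']
  (D : Type v) [Ring D] [Algebra F' D] [FiniteDimensional F' D]

theorem exists_descent :
    ∃ (E : IntermediateField K F') (_ : FiniteDimensional K E) (D₀ : Subalgebra E D),
      FiniteDimensional E D₀ ∧ Nonempty (F' ⊗[E] D₀ ≃ₐ[F'] D) := by
  classical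
  set m := Module.finrank F' D with hm
  let b : Module.Basis (Fin m) F' D := Module.finBasis F' D
  let S : Finset F' :=
    (Finset.univ.image (fun p : Fin m × Fin m × Fin m => b.repr (b p.1 * b p.2.1) p.2.2)) ∪
      (Finset.univ.image (fun l : Fin m => b.repr 1 l))
  let E : IntermediateField K F' := IntermediateField.adjoin K (S : Set F')
  have hEfin : FiniteDimensional K E :=
    IntermediateField.finiteDimensional_adjoin (fun x _ => Algebra.IsIntegral.isIntegral x)
  have hS1 : ∀ i j l, b.repr (b i * b j) l ∈ E := by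
    intro i j l
    apply IntermediateField.subset_adjoin
    rw [Finset.mem_coe]
    exact Finset.mem_union_left _ (Finset.mem_image.mpr ⟨(i, j, l), Finset.mem_univ _, rfl⟩)
  have hS2 : ∀ l, b.repr 1 l ∈ E := by
    intro l
    apply IntermediateField.subset_adjoin
    rw [Finset.mem_coe]
    exact Finset.mem_union_right _ (Finset.mem_image.mpr ⟨l, Finset.mem_univ _, rfl⟩)
  let V : Submodule E D := Submodule.span E (Set.range b)
  have hbV : ∀ i, b i ∈ V := fun i => Submodule.subset_span ⟨i, rfl⟩
  have hsum : ∀ (x : D), (∀ l, b.repr x l ∈ E) → x ∈ V := by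
    intro x hx
    rw [← b.sum_repr x]
    refine Submodule.sum_mem _ fun l _ => ?_
    have : b.repr x l • b l = (⟨b.repr x l, hx l⟩ : E) • b l := rfl
    rw [this]
    exact Submodule.smul_mem _ _ (hbV l)
  have h1 : (1 : D) ∈ V := hsum 1 hS2
  have hmul : ∀ x y : D, x ∈ V → y ∈ V → x * y ∈ V := by
    intro x y hx hy
    have h2 : x * y ∈ V * V := Submodule.mul_mem_mul hx hy
    have h3 : V * V ≤ V := by
      rw [Submodule.span_mul_span, Submodule.span_le]
      rintro _ ⟨_, ⟨i, rfl⟩, _, ⟨j, rfl⟩, rfl⟩
      exact hsum _ (hS1 i j)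
    exact h3 h2
  let D₀ : Subalgebra E D := V.toSubalgebra h1 hmul
  have hD₀ : ∀ x : D, x ∈ D₀ ↔ x ∈ V := fun x => Iff.rfl
  have hD₀fin : FiniteDimensional E D₀ := by
    have hV : FiniteDimensional E V := FiniteDimensional.span_of_finite E (Set.finite_range b)
    exact hV
  let b' : Fin m → D₀ := fun i => ⟨b i, hbV i⟩
  let Φ : F' ⊗[E] D₀ →ₐ[F'] D :=
    Algebra.TensorProduct.lift (Algebra.ofId F' D) D₀.val (fun l x => Algebra.commutes l _)
  have hΦ : ∀ (l : F') (x : D₀), Φ (l ⊗ₜ x) = l • (x : D) := by
    intro l x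
    change Algebra.ofId F' D l * (x : D) = _
    rw [Algebra.ofId_apply, Algebra.smul_def]
  let Ψ : (Fin m → F') →ₗ[F'] F' ⊗[E] D₀ :=
    { toFun := fun l => ∑ i, l i ⊗ₜ[E] b' i
      map_add' := fun l l' => by
        simp only [Pi.add_apply, TensorProduct.add_tmul, Finset.sum_add_distrib]
      map_smul' := fun c l => by
        simp only [Pi.smul_apply, RingHom.id_apply, Finset.smul_sum, TensorProduct.smul_tmul'] }
  have hΨsurj : Function.Surjective Ψ := by
    intro t
    induction t using TensorProduct.induction_on with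
    | zero => exact ⟨0, map_zero Ψ⟩
    | add x y hx hy =>
      obtain ⟨lx, rfl⟩ := hx
      obtain ⟨ly, rfl⟩ := hy
      exact ⟨lx + ly, map_add Ψ lx ly⟩
    | tmul l x =>
      obtain ⟨c, hc⟩ := (Submodule.mem_span_range_iff_exists_fun E).mp ((hD₀ x).mp x.2)
      refine ⟨fun i => (c i : F') * l, ?_⟩
      have hx : x = ∑ i, c i • b' i := by
        apply Subtype.ext
        rw [← hc]
        simp only [b']
        rw [AddSubmonoidClass.coe_finset_sum]
        rfl
      change ∑ i, ((c i : F') * l) ⊗ₜ[E] b' i = l ⊗ₜ[E] x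
      rw [hx, TensorProduct.tmul_sum]
      refine Finset.sum_congr rfl fun i _ => ?_
      rw [TensorProduct.tmul_smul, TensorProduct.smul_tmul']
      rfl
  have hΦΨ : ∀ l : Fin m → F', Φ (Ψ l) = ∑ i, l i • b i := by
    intro l
    change Φ (∑ i, l i ⊗ₜ[E] b' i) = _
    rw [map_sum]
    exact Finset.sum_congr rfl fun i _ => hΦ (l i) (b' i)
  have hΦinj : Function.Injective Φ := by
    intro t t' htt'
    obtain ⟨l, rfl⟩ := hΨsurj t
    obtain ⟨l', rfl⟩ := hΨsurj t'
    rw [hΦΨ, hΦΨ] at htt'
    have : l = l' := by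
      have h4 := congrArg b.repr htt'
      simp only [map_sum, map_smul, Module.Basis.repr_self] at h4
      funext i
      have h5 := DFunLike.congr_fun h4 i
      simpa [Finsupp.single_apply] using h5
    rw [this]
  have hΦsurj : Function.Surjective Φ := by
    intro x
    refine ⟨Ψ (fun i => b.repr x i), ?_⟩
    rw [hΦΨ, b.sum_repr]
  exact ⟨E, hEfin, D₀, hD₀fin, ⟨AlgEquiv.ofBijective Φ ⟨hΦinj, hΦsurj⟩⟩⟩

end Groth.Agent.Lib.Helper1.AlgDescent
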