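import Mathlib

/-! Ax's theorem, part A: a local domain of characteristic zero with residue characteristic `p`
containing a primitive `M`-th root of unity (localization of the ring of algebraic integers). -/

set_option autoImplicit false

namespace Groth.Agent.Lib.Helper1.Ax

open IsLocalRing

theorem exists_ring (p : ℕ) (hp : p.Prime) (M : ℕ) (hM : 0 < M) :
    ∃ (O : Type) (_ : CommRing O) (_ : IsDomain O) (_ : IsLocalRing O), CharZero O ∧
      (p : O) ∈ maximalIdeal O ∧ ∃ ξ : O, IsPrimitiveRoot ξ M := by
  classical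
  let A := integralClosure ℤ ℂ
  have hpnu : ¬ IsUnit (p : A) := by
    rintro ⟨u, hu⟩
    have h1 : ((u⁻¹ : Aˣ) : A) * (p : A) = 1 := by rw [← hu]; exact Units.inv_mul u
    have h2 : (((u⁻¹ : Aˣ) : A) : ℂ) * (p : ℂ) = 1 := by
      have := congrArg (fun x : A => (x : ℂ)) h1
      simpa using this
    have hp0 : (p : ℂ) ≠ 0 := by exact_mod_cast hp.ne_zero
    have h3 : (((u⁻¹ : Aˣ) : A) : ℂ) = ((1 / (p : ℚ) : ℚ) : ℂ) := by
      field_simp
      push_cast
      field_simp
      exact h2
    have hint : IsIntegral ℤ (((u⁻¹ : Aˣ) : A) : ℂ) := ((u⁻¹ : Aˣ) : A).2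
    rw [h3] at hint
    have hint' : IsIntegral ℤ (1 / (p : ℚ) : ℚ) :=
      (isIntegral_algebraMap_iff (algebraMap ℚ ℂ).injective).mp hint
    obtain ⟨n, hn⟩ := IsIntegrallyClosed.isIntegral_iff.mp hint'
    have hpq : (p : ℚ) ≠ 0 := by exact_mod_cast hp.ne_zero
    have h4 : (n : ℚ) * p = 1 := by
      have : (algebraMap ℤ ℚ n) = (n : ℚ) := rfl
      rw [this] at hn
      rw [hn]; field_simp
    have h5 : (n * p : ℤ) = 1 := by exact_mod_cast h4
    have h6 : (p : ℤ) ∣ 1 := ⟨n, by rw [← h5]; ring⟩
    have h7 : (p : ℤ) = 1 ∨ (p : ℤ) = -1 := Int.isUnit_iff.mp (isUnit_of_dvd_one h6)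
    rcases h7 with h7 | h7
    · have : p = 1 := by exact_mod_cast h7
      exact hp.one_lt.ne' this
    · have : (0 : ℤ) ≤ p := Int.natCast_nonneg p
      omega
  obtain ⟨m, hm, hpm⟩ := exists_max_ideal_of_mem_nonunits (show (p : A) ∈ nonunits A from hpnu)
  have hmp : m.IsPrime := hm.isPrime
  refine ⟨Localization.AtPrime m, inferInstance, inferInstance, inferInstance, ?_, ?_, ?_⟩
  · -- char zero
    have hinj : Function.Injective (algebraMap A (Localization.AtPrime m)) :=
      IsLocalization.injective (Localization.AtPrime m) m.primeCompl_le_nonZeroDivisors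
    have : CharZero A := by
      refine ⟨fun a b hab => ?_⟩
      have := congrArg (fun x : A => (x : ℂ)) hab
      simpa using this
    exact charZero_of_injective_algebraMap hinj
  · have : (p : Localization.AtPrime m) = algebraMap A (Localization.AtPrime m) (p : A) := by
      simp
    rw [this, IsLocalization.AtPrime.to_map_mem_maximal_iff (Localization.AtPrime m) m]
    exact hpm
  · have hMne : M ≠ 0 := hM.ne'
    have hζ : IsPrimitiveRoot (Complex.exp (2 * Real.pi * Complex.I / M)) M :=
      Complex.isPrimitiveRoot_exp M hMne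
    have hint : IsIntegral ℤ (Complex.exp (2 * Real.pi * Complex.I / M)) :=
      hζ.isIntegral hM
    let ξA : A := ⟨_, hint⟩
    have hξA : IsPrimitiveRoot ξA M := by
      have : IsPrimitiveRoot ((algebraMap A ℂ) ξA) M := hζ
      exact IsPrimitiveRoot.of_map_of_injective (f := algebraMap A ℂ) this
        (Subtype.coe_injective)
    have hinj : Function.Injective (algebraMap A (Localization.AtPrime m)) :=
      IsLocalization.injective (Localization.AtPrime m) m.primeCompl_le_nonZeroDivisors
    exact ⟨algebraMap A _ ξA, hξA.map_of_injective hinj⟩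

end Groth.Agent.Lib.Helper1.Ax
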