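import Mathlib

/-! Ax's theorem, part B: base-`p` digit combinatorics. -/

set_option autoImplicit false

namespace Groth.Agent.Lib.Helper1.Ax

open Finset

variable {p a : ℕ}

/-- value of a digit vector -/
def dval (f : Fin a → Fin p) : ℕ := ∑ i, (f i : ℕ) * p ^ (i : ℕ)

/-- digit sum -/
def dwt (f : Fin a → Fin p) : ℕ := ∑ i, (f i : ℕ)

/-- geometric sum -/
def gsum (p a : ℕ) : ℕ := ∑ i : Fin a, p ^ (i : ℕ)

theorem dval_lt (f : Fin a → Fin p) : dval f < p ^ a := by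
  have := (finFunctionFinEquiv f).2
  rwa [finFunctionFinEquiv_apply] at this

theorem gsum_mul (hp : 1 ≤ p) : (p - 1) * gsum p a + 1 = p ^ a := by
  unfold gsum
  rw [Fin.sum_univ_eq_sum_range (fun i => p ^ i) a]
  induction a with
  | zero => simp
  | succ n ih =>
    rw [Finset.sum_range_succ, mul_add, pow_succ]
    have : (p - 1) * p ^ n + p ^ n = p ^ n * p := by
      obtain ⟨k, rfl⟩ : ∃ k, p = k + 1 := ⟨p - 1, by omega⟩
      simp; ring
    omega

theorem gsum_pos (ha : 0 < a) (hp : 1 ≤ p) : 0 < gsum p a := by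
  unfold gsum
  have : NeZero a := ⟨ha.ne'⟩
  calc 0 < p ^ ((0 : Fin a) : ℕ) := by positivity
    _ ≤ _ := Finset.single_le_sum (f := fun i : Fin a => p ^ (i : ℕ)) (fun _ _ => Nat.zero_le _)
        (Finset.mem_univ _)

theorem dval_eq_zero_iff (hp : 1 ≤ p) (f : Fin a → Fin p) : dval f = 0 ↔ ∀ i, (f i : ℕ) = 0 := by
  unfold dval
  rw [Finset.sum_eq_zero_iff]
  constructor
  · intro h i
    have := h i (Finset.mem_univ _)
    rcases Nat.mul_eq_zero.mp this with h1 | h1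
    · exact h1
    · exact absurd h1 (by positivity)
  · intro h i _
    rw [h i, zero_mul]

/-- cyclic shift of digit vectors -/
def dsh [NeZero a] (l : Fin a) (f : Fin a → Fin p) : Fin a → Fin p := fun i => f (i - l)

theorem dval_dsh [NeZero a] (l : Fin a) (f : Fin a → Fin p) :
    dval (dsh l f) = ∑ i, (f i : ℕ) * p ^ ((i + l : Fin a) : ℕ) := by
  unfold dval dsh
  rw [← Equiv.sum_comp (Equiv.addRight l)]
  simp

theorem pow_mod_modEq (hp : 1 ≤ p) (n : ℕ) : p ^ (n % a) ≡ p ^ n [MOD p ^ a - 1] := by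
  have h1 : p ^ a ≡ 1 [MOD p ^ a - 1] := Nat.modEq_sub (Nat.one_le_pow _ _ hp)
  conv_rhs => rw [← Nat.div_add_mod n a, pow_add, pow_mul]
  have h2 : (p ^ a) ^ (n / a) ≡ 1 [MOD p ^ a - 1] := by
    simpa using h1.pow (n / a)
  simpa using (h2.mul_right (p ^ (n % a))).symm

theorem dval_dsh_modEq [NeZero a] (hp : 1 ≤ p) (l : Fin a) (f : Fin a → Fin p) :
    dval (dsh l f) ≡ p ^ (l : ℕ) * dval f [MOD p ^ a - 1] := by
  rw [dval_dsh]
  unfold dval
  rw [Finset.mul_sum]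
  have : ∀ i : Fin a, (f i : ℕ) * p ^ ((i + l : Fin a) : ℕ) ≡
      p ^ (l : ℕ) * ((f i : ℕ) * p ^ (i : ℕ)) [MOD p ^ a - 1] := by
    intro i
    rw [Fin.val_add]
    have h := pow_mod_modEq (a := a) hp ((i : ℕ) + (l : ℕ))
    have h2 := h.mul_left (f i : ℕ)
    refine h2.trans ?_
    rw [pow_add]
    exact Nat.ModEq.refl _ |>.trans (by rw [show (f i : ℕ) * (p ^ (i : ℕ) * p ^ (l : ℕ)) =
      p ^ (l : ℕ) * ((f i : ℕ) * p ^ (i : ℕ)) by ring])
  -- sum of congruences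
  have hs : ∀ s : Finset (Fin a), (∑ i ∈ s, (f i : ℕ) * p ^ ((i + l : Fin a) : ℕ)) ≡
      ∑ i ∈ s, p ^ (l : ℕ) * ((f i : ℕ) * p ^ (i : ℕ)) [MOD p ^ a - 1] := by
    intro s
    classical
    induction s using Finset.induction_on with
    | empty => simp [Nat.ModEq.refl]
    | insert x s hx ih =>
      rw [Finset.sum_insert hx, Finset.sum_insert hx]
      exact (this x).add ih
  exact hs _

theorem sum_dval_dsh [NeZero a] (f : Fin a → Fin p) :
    ∑ l : Fin a, dval (dsh l f) = dwt f * gsum p a := by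
  simp_rw [dval_dsh]
  rw [Finset.sum_comm]
  unfold dwt gsum
  rw [Finset.sum_mul]
  refine Finset.sum_congr rfl fun i _ => ?_
  rw [← Finset.mul_sum]
  congr 1
  exact Equiv.sum_comp (Equiv.addLeft i) (fun k : Fin a => p ^ (k : ℕ))

theorem dval_dsh_eq_zero_iff [NeZero a] (hp : 1 ≤ p) (l : Fin a) (f : Fin a → Fin p) :
    dval (dsh l f) = 0 ↔ dval f = 0 := by
  rw [dval_eq_zero_iff hp, dval_eq_zero_iff hp]
  unfold dsh
  constructor
  · intro h i
    have := h (i + l)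
    simpa using this
  · intro h i
    exact h _

/-- digitwise complement -/
def dcf (f : Fin a → Fin p) : Fin a → Fin p := fun i => Fin.rev (f i)

theorem dval_dcf (hp : 1 ≤ p) (f : Fin a → Fin p) : dval f + dval (dcf f) = p ^ a - 1 := by
  have h : dval f + dval (dcf f) = (p - 1) * gsum p a := by
    unfold dval dcf gsum
    rw [← Finset.sum_add_distrib, Finset.mul_sum]
    refine Finset.sum_congr rfl fun i _ => ?_
    rw [← add_mul, Fin.val_rev]
    congr 1
    have := (f i).2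
    omega
  rw [h]
  have := gsum_mul (a := a) hp
  omega

theorem dwt_dcf (f : Fin a → Fin p) : dwt f + dwt (dcf f) = a * (p - 1) := by
  unfold dwt dcf
  rw [← Finset.sum_add_distrib]
  have : ∀ i : Fin a, ((f i : ℕ) + ((Fin.rev (f i) : Fin p) : ℕ)) = p - 1 := by
    intro i
    rw [Fin.val_rev]
    have := (f i).2
    omega
  rw [Finset.sum_congr rfl (fun i _ => this i)]
  simp

/-- decrement a nonzero digit -/
def ddec (f : Fin a → Fin p) (i₀ : Fin a) : Fin a → Fin p :=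
  Function.update f i₀ ⟨(f i₀ : ℕ) - 1, lt_of_le_of_lt (Nat.sub_le _ _) (f i₀).2⟩

theorem dval_ddec (f : Fin a → Fin p) (i₀ : Fin a) (h : (f i₀ : ℕ) ≠ 0) :
    dval f = dval (ddec f i₀) + p ^ (i₀ : ℕ) := by
  unfold dval ddec
  rw [← Finset.add_sum_erase _ _ (Finset.mem_univ i₀),
    ← Finset.add_sum_erase (f := fun i => ((Function.update f i₀ _ i : Fin p) : ℕ) * p ^ (i : ℕ))
      _ (Finset.mem_univ i₀)]
  have h1 : ∀ i ∈ Finset.univ.erase i₀,
      ((Function.update f i₀ ⟨(f i₀ : ℕ) - 1, lt_of_le_of_lt (Nat.sub_le _ _) (f i₀).2⟩ i : Fin p) : ℕ)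
        * p ^ (i : ℕ) = (f i : ℕ) * p ^ (i : ℕ) := by
    intro i hi
    rw [Function.update_of_ne (Finset.ne_of_mem_erase hi)]
  rw [Finset.sum_congr rfl h1]
  simp only [Function.update_self]
  have : (f i₀ : ℕ) * p ^ (i₀ : ℕ) = ((f i₀ : ℕ) - 1) * p ^ (i₀ : ℕ) + p ^ (i₀ : ℕ) := by
    obtain ⟨k, hk⟩ : ∃ k, (f i₀ : ℕ) = k + 1 := ⟨(f i₀ : ℕ) - 1, by omega⟩
    rw [hk]; simp; ring
  rw [this]; ring

theorem dwt_ddec (f : Fin a → Fin p) (i₀ : Fin a) (h : (f i₀ : ℕ) ≠ 0) :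
    dwt f = dwt (ddec f i₀) + 1 := by
  unfold dwt ddec
  rw [← Finset.add_sum_erase _ _ (Finset.mem_univ i₀),
    ← Finset.add_sum_erase (f := fun i => ((Function.update f i₀ _ i : Fin p) : ℕ))
      _ (Finset.mem_univ i₀)]
  have h1 : ∀ i ∈ Finset.univ.erase i₀,
      ((Function.update f i₀ ⟨(f i₀ : ℕ) - 1, lt_of_le_of_lt (Nat.sub_le _ _) (f i₀).2⟩ i : Fin p) : ℕ)
        = (f i : ℕ) := by
    intro i hi
    rw [Function.update_of_ne (Finset.ne_of_mem_erase hi)]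
  rw [Finset.sum_congr rfl h1]
  simp only [Function.update_self]
  omega

end Groth.Agent.Lib.Helper1.Ax
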