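import Groth.Agent.Lib.Helper1.AxB

/-! Ax's theorem, part C: the main combinatorial inequality. -/

set_option autoImplicit false

namespace Groth.Agent.Lib.Helper1.Ax

open Finset

theorem sum_modEq {ι : Type*} (s : Finset ι) (n : ℕ) (f g : ι → ℕ)
    (h : ∀ i ∈ s, f i ≡ g i [MOD n]) : (∑ i ∈ s, f i) ≡ ∑ i ∈ s, g i [MOD n] := by
  classical
  induction s using Finset.induction_on with
  | empty => exact Nat.ModEq.refl _
  | insert x s hx ih =>
    rw [Finset.sum_insert hx, Finset.sum_insert hx]
    exact (h x (Finset.mem_insert_self _ _)).add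
      (ih fun i hi => h i (Finset.mem_insert_of_mem hi))

theorem comb {p a : ℕ} (hp : 2 ≤ p) (ha : 0 < a) {U : Type*} [Fintype U] (N d j : ℕ)
    (hd : 0 < d) (hj : j * d < N) (dg : U → Fin N → ℕ) (hdg : ∀ v, ∑ i, dg v i = d)
    (m : U → Fin a → Fin p)
    (h0 : (p ^ a - 1) ∣ ∑ v, dval (m v))
    (hi : ∀ i, (p ^ a - 1) ∣ ∑ v, dg v i * dval (m v)) :
    a * (p - 1) * (j + 1) ≤ ∑ v, dwt (m v) +
      a * (p - 1) * ((Finset.univ.filter (fun i => ∑ v, dg v i * dval (m v) = 0)).card +
        (if ∑ v, dval (m v) = 0 then 1 else 0)) := by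
  classical
  have : NeZero a := ⟨ha.ne'⟩
  have hp1 : 1 ≤ p := by omega
  set Q := p ^ a - 1 with hQ
  have hQpos : 0 < Q := by
    have : 2 ^ 1 ≤ p ^ a := by
      calc 2 ^ 1 ≤ p ^ 1 := by simpa using hp
        _ ≤ p ^ a := Nat.pow_le_pow_right (by omega) ha
    omega
  have hjN : j + 1 ≤ N := by
    have : j ≤ j * d := Nat.le_mul_of_pos_right j hd
    omega
  set Z := Finset.univ.filter (fun i : Fin N => ∑ v, dg v i * dval (m v) = 0) with hZ
  by_cases he0 : ∑ v, dval (m v) = 0
  · -- all zero
    rw [if_pos he0]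
    have hall : ∀ v, dval (m v) = 0 := by
      intro v
      exact (Finset.sum_eq_zero_iff.mp he0) v (Finset.mem_univ _)
    have hZall : Z = Finset.univ := by
      rw [hZ]
      apply Finset.filter_true_of_mem
      intro i _
      apply Finset.sum_eq_zero
      intro v _
      rw [hall v, mul_zero]
    rw [hZall, Finset.card_univ, Fintype.card_fin]
    calc a * (p - 1) * (j + 1) ≤ a * (p - 1) * (N + 1) := Nat.mul_le_mul_left _ (by omega)
      _ ≤ _ := Nat.le_add_left _ _
  · rw [if_neg he0, add_zero]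
    -- shifted sums
    let E0 : Fin a → ℕ := fun l => ∑ v, dval (dsh l (m v))
    let Ei : Fin a → Fin N → ℕ := fun l i => ∑ v, dg v i * dval (dsh l (m v))
    have hE0dvd : ∀ l, Q ∣ E0 l := by
      intro l
      have h1 : E0 l ≡ ∑ v, p ^ (l : ℕ) * dval (m v) [MOD Q] :=
        sum_modEq _ _ _ _ fun v _ => dval_dsh_modEq hp1 l (m v)
      rw [← Finset.mul_sum] at h1
      have h2 : p ^ (l : ℕ) * ∑ v, dval (m v) ≡ 0 [MOD Q] :=
        (Nat.modEq_zero_iff_dvd.mpr (Dvd.dvd.mul_left h0 _))
      exact Nat.modEq_zero_iff_dvd.mp (h1.trans h2)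
    have hEidvd : ∀ l i, Q ∣ Ei l i := by
      intro l i
      have h1 : Ei l i ≡ ∑ v, p ^ (l : ℕ) * (dg v i * dval (m v)) [MOD Q] :=
        sum_modEq _ _ _ _ fun v _ => by
          have := (dval_dsh_modEq hp1 l (m v)).mul_left (dg v i)
          refine this.trans ?_
          rw [show dg v i * (p ^ (l : ℕ) * dval (m v)) = p ^ (l : ℕ) * (dg v i * dval (m v)) by ring]
      rw [← Finset.mul_sum] at h1
      have h2 : p ^ (l : ℕ) * ∑ v, dg v i * dval (m v) ≡ 0 [MOD Q] :=
        (Nat.modEq_zero_iff_dvd.mpr (Dvd.dvd.mul_left (hi i) _))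
      exact Nat.modEq_zero_iff_dvd.mp (h1.trans h2)
    have hEizero : ∀ l i, Ei l i = 0 ↔ ∑ v, dg v i * dval (m v) = 0 := by
      intro l i
      simp only [Ei]
      rw [Finset.sum_eq_zero_iff, Finset.sum_eq_zero_iff]
      refine forall_congr' fun v => ?_
      refine imp_congr Iff.rfl ?_
      rw [Nat.mul_eq_zero, Nat.mul_eq_zero, dval_dsh_eq_zero_iff hp1]
    have hsumEi : ∀ l, ∑ i, Ei l i = d * E0 l := by
      intro l
      simp only [Ei, E0]
      rw [Finset.sum_comm, Finset.mul_sum]
      refine Finset.sum_congr rfl fun v _ => ?_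
      rw [← Finset.sum_mul, hdg v]
    have hE0pos : ∀ l, 0 < E0 l := by
      intro l
      rw [Nat.pos_iff_ne_zero]
      intro h
      apply he0
      rw [Finset.sum_eq_zero_iff]
      intro v _
      have := (Finset.sum_eq_zero_iff.mp h) v (Finset.mem_univ _)
      exact (dval_dsh_eq_zero_iff hp1 l (m v)).mp this
    -- s = N - |Z|
    have hZc : Z.card + (Finset.univ.filter (fun i : Fin N => ¬ ∑ v, dg v i * dval (m v) = 0)).card
        = N := by
      rw [hZ, Finset.card_filter_add_card_filter_not]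
      simp
    set Zc := Finset.univ.filter (fun i : Fin N => ¬ ∑ v, dg v i * dval (m v) = 0) with hZcdef
    have hlow : ∀ l, Zc.card * Q ≤ ∑ i, Ei l i := by
      intro l
      calc Zc.card * Q = ∑ _i ∈ Zc, Q := by rw [Finset.sum_const, smul_eq_mul]
        _ ≤ ∑ i ∈ Zc, Ei l i := by
          apply Finset.sum_le_sum
          intro i hi'
          have hne : Ei l i ≠ 0 := by
            rw [Ne, hEizero]
            exact (Finset.mem_filter.mp hi').2
          exact Nat.le_of_dvd (Nat.pos_of_ne_zero hne) (hEidvd l i)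
        _ ≤ ∑ i, Ei l i := Finset.sum_le_sum_of_subset (Finset.subset_univ _)
    -- c l
    let c : Fin a → ℕ := fun l => E0 l / Q
    have hc : ∀ l, E0 l = Q * c l := fun l => (Nat.mul_div_cancel' (hE0dvd l)).symm
    have hcpos : ∀ l, 1 ≤ c l := by
      intro l
      have := hE0pos l
      rw [hc l] at this
      exact Nat.pos_of_mul_pos_left this |>.nat_succ_le
    have hsc : ∀ l, Zc.card ≤ d * c l := by
      intro l
      have h1 := hlow l
      rw [hsumEi l, hc l] at h1
      have h2 : Zc.card * Q ≤ (d * c l) * Q := by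
        calc Zc.card * Q ≤ d * (Q * c l) := h1
          _ = (d * c l) * Q := by ring
      exact Nat.le_of_mul_le_mul_right h2 hQpos
    have hper : ∀ l, j + 1 ≤ c l + Z.card := by
      intro l
      by_contra hcon
      push Not at hcon
      have h1 : c l + Z.card ≤ j := by omega
      have h2 : d * (c l + Z.card) ≤ j * d := by
        calc d * (c l + Z.card) ≤ d * j := Nat.mul_le_mul_left _ h1
          _ = j * d := by ring
      have h3 : Z.card ≤ d * Z.card := Nat.le_mul_of_pos_left _ hd
      have h4 := hsc l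
      have h5 : d * (c l + Z.card) = d * c l + d * Z.card := by ring
      omega
    have hsumper : a * (j + 1) ≤ ∑ l, c l + a * Z.card := by
      have : ∑ _l : Fin a, (j + 1) ≤ ∑ l : Fin a, (c l + Z.card) :=
        Finset.sum_le_sum fun l _ => hper l
      rw [Finset.sum_const, Finset.card_univ, Fintype.card_fin, smul_eq_mul,
        Finset.sum_add_distrib, Finset.sum_const, Finset.card_univ, Fintype.card_fin,
        smul_eq_mul] at this
      exact this
    -- total weight
    have hW : (p - 1) * ∑ l, c l = ∑ v, dwt (m v) := by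
      have h1 : ∑ l, E0 l = (∑ v, dwt (m v)) * gsum p a := by
        simp only [E0]
        rw [Finset.sum_comm, Finset.sum_mul]
        exact Finset.sum_congr rfl fun v _ => sum_dval_dsh (m v)
      have h2 : ∑ l, E0 l = Q * ∑ l, c l := by
        rw [Finset.mul_sum]
        exact Finset.sum_congr rfl fun l _ => hc l
      have h3 : Q = (p - 1) * gsum p a := by
        have := gsum_mul (p := p) (a := a) hp1
        omega
      have h4 : gsum p a * ((p - 1) * ∑ l, c l) = gsum p a * ∑ v, dwt (m v) := by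
        calc gsum p a * ((p - 1) * ∑ l, c l) = Q * ∑ l, c l := by rw [h3]; ring
          _ = ∑ l, E0 l := h2.symm
          _ = _ := by rw [h1]; ring
      exact Nat.eq_of_mul_eq_mul_left (gsum_pos ha hp1) h4
    calc a * (p - 1) * (j + 1) = (p - 1) * (a * (j + 1)) := by ring
      _ ≤ (p - 1) * (∑ l, c l + a * Z.card) := Nat.mul_le_mul_left _ hsumper
      _ = ∑ v, dwt (m v) + a * (p - 1) * Z.card := by rw [mul_add, hW]; ring
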