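import Groth.Agent.Lib.Helper1.AxB

/-! Ax's theorem, part D: additive character, Gauss sums, Stickelberger-type lower bound. -/

set_option autoImplicit false

namespace Groth.Agent.Lib.Helper1.Ax

open IsLocalRing Finset

section

variable {k : Type*} [Field k] [Fintype k] [DecidableEq k] {p : ℕ} [hp : Fact p.Prime]
  [Algebra (ZMod p) k]
variable {O : Type*} [CommRing O] [IsDomain O]

/-- the additive character `b ↦ ζ ^ Tr(b)` -/
noncomputable def axψ (ζ : O) (hζ : ζ ^ p = 1) : AddChar k O :=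
  (AddChar.zmodChar p hζ).compAddMonoidHom (Algebra.trace (ZMod p) k).toAddMonoidHom

theorem axψ_apply (ζ : O) (hζ : ζ ^ p = 1) (b : k) :
    axψ ζ hζ b = ζ ^ (Algebra.trace (ZMod p) k b).val := rfl

theorem charP_k : CharP k p :=
  charP_of_injective_algebraMap (algebraMap (ZMod p) k).injective p

theorem card_k : Fintype.card k = p ^ Module.finrank (ZMod p) k := by
  have := Module.card_eq_pow_finrank (K := ZMod p) (V := k)
  rw [this, ZMod.card]

theorem finrank_pos_k : 0 < Module.finrank (ZMod p) k := Module.finrank_pos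

theorem axψ_primitive (ζ : O) (hζ : IsPrimitiveRoot ζ p) :
    (axψ (k := k) ζ hζ.pow_eq_one).IsPrimitive := by
  intro a ha hcon
  obtain ⟨c, hc⟩ := Algebra.trace_surjective (ZMod p) k 1
  have h1 : (AddChar.mulShift (axψ (k := k) ζ hζ.pow_eq_one) a) (a⁻¹ * c) = 1 := by
    rw [hcon]; rfl
  rw [AddChar.mulShift_apply, ← mul_assoc, mul_inv_cancel₀ ha, one_mul, axψ_apply, hc] at h1
  have hp1 : 1 < p := hp.out.one_lt
  have : (1 : ZMod p).val = 1 := by
    have : Fact (1 < p) := ⟨hp1⟩
    exact ZMod.val_one p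
  rw [this, pow_one] at h1
  exact hζ.ne_one hp1 h1

theorem trace_frob (b : k) :
    Algebra.trace (ZMod p) k (b ^ p) = Algebra.trace (ZMod p) k b := by
  apply (algebraMap (ZMod p) k).injective
  rw [FiniteField.algebraMap_trace_eq_sum_pow, FiniteField.algebraMap_trace_eq_sum_pow]
  have hcard : Nat.card (ZMod p) = p := by rw [Nat.card_eq_fintype_card, ZMod.card]
  rw [hcard]
  set a := Module.finrank (ZMod p) k with ha
  have hpow : ∀ i, (b ^ p) ^ (p ^ i) = b ^ (p ^ (i + 1)) := by
    intro i; rw [← pow_mul, pow_succ']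
  simp_rw [hpow]
  have h1 : ∑ i ∈ Finset.range a, b ^ p ^ (i + 1) + b ^ p ^ 0 = ∑ i ∈ Finset.range (a + 1), b ^ p ^ i :=
    (Finset.sum_range_succ' (fun i => b ^ p ^ i) a).symm
  have h2 : ∑ i ∈ Finset.range (a + 1), b ^ p ^ i = ∑ i ∈ Finset.range a, b ^ p ^ i + b ^ p ^ a :=
    Finset.sum_range_succ (fun i => b ^ p ^ i) a
  have h3 : b ^ p ^ a = b := by
    rw [← card_k (p := p) (k := k)]
    exact FiniteField.pow_card b
  rw [h3] at h2
  rw [pow_zero, pow_one] at h1
  have := h1.trans h2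
  exact add_right_cancel this

theorem axψ_frob (ζ : O) (hζ : ζ ^ p = 1) (b : k) : axψ ζ hζ (b ^ p) = axψ ζ hζ b := by
  rw [axψ_apply, axψ_apply, trace_frob]

/-- Gauss sums are invariant under `χ ↦ χ ^ p`. -/
theorem gaussSum_pow_p (ζ : O) (hζ : ζ ^ p = 1) (χ : MulChar k O) :
    gaussSum (χ ^ p) (axψ ζ hζ) = gaussSum χ (axψ ζ hζ) := by
  have : CharP k p := charP_k
  unfold gaussSum
  have hbij : Function.Bijective (fun b : k => b ^ p) := by
    have hinj : Function.Injective (frobenius k p) := frobenius_inj k p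
    exact (Finite.injective_iff_bijective.mp hinj)
  rw [← Function.Bijective.sum_comp hbij (fun c => χ c * axψ ζ hζ c)]
  refine Finset.sum_congr rfl fun b _ => ?_
  rw [MulChar.pow_apply' χ hp.out.ne_zero, axψ_frob, map_pow]

theorem gaussSum_pow_p_pow (ζ : O) (hζ : ζ ^ p = 1) (χ : MulChar k O) (i : ℕ) :
    gaussSum (χ ^ (p ^ i)) (axψ ζ hζ) = gaussSum χ (axψ ζ hζ) := by
  induction i with
  | zero => simp
  | succ n ih => rw [pow_succ, pow_mul, gaussSum_pow_p, ih]

end

end Groth.Agent.Lib.Helper1.Ax
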