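import Groth.Agent.Lib.Helper1.AxD

/-! Ax's theorem, part E: Gauss sums of the Teichmüller character in a local domain. -/

set_option autoImplicit false

namespace Groth.Agent.Lib.Helper1.Ax

open IsLocalRing Finset

theorem assoc_p {O : Type*} [CommRing O] [IsDomain O] {p : ℕ} (hp : p.Prime) (ζ : O)
    (hζ : IsPrimitiveRoot ζ p) : Associated ((p : O)) ((ζ - 1) ^ (p - 1)) := by
  obtain ⟨n, rfl⟩ : ∃ n, p = n + 1 := ⟨p - 1, by have := hp.one_lt; omega⟩
  have h1 := hζ.prod_one_sub_pow_eq_order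
  have h2 : Associated (∏ k ∈ Finset.range n, (1 - ζ ^ (k + 1))) (∏ _k ∈ Finset.range n, (ζ - 1)) := by
    apply Associated.prod
    intro i hi
    have hi' : i < n := Finset.mem_range.mp hi
    have hcop : (i + 1).Coprime (n + 1) := by
      apply Nat.Coprime.symm
      rw [Nat.Prime.coprime_iff_not_dvd hp]
      exact Nat.not_dvd_of_pos_of_lt (by omega) (by omega)
    have := hζ.associated_sub_one_pow_sub_one_of_coprime hcop
    have h3 : (1 - ζ ^ (i + 1)) = -(ζ ^ (i + 1) - 1) := by ring
    rw [h3]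
    exact this.symm.neg_left
  rw [Finset.prod_const, Finset.card_range] at h2
  rw [h1] at h2
  simpa using h2

theorem exp_one_add {R : Type*} [CommRing R] (x : R) (n : ℕ) :
    ∃ r : R, (1 + x) ^ n = 1 + n * x + x ^ 2 * r := by
  induction n with
  | zero => exact ⟨0, by simp⟩
  | succ n ih =>
    obtain ⟨r, hr⟩ := ih
    refine ⟨r + n + x * r, ?_⟩
    rw [pow_succ, hr]; push_cast; ring

section

variable {k : Type*} [Field k] [Fintype k] [DecidableEq k] {p : ℕ} [hp : Fact p.Prime]
  [Algebra (ZMod p) k]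
variable {O : Type*} [CommRing O] [IsDomain O] [IsLocalRing O]

theorem charP_residue (ι : k →+* ResidueField O) : CharP (ResidueField O) p := by
  have : CharP k p := charP_k
  exact charP_of_injective_ringHom ι.injective p

theorem residue_pi (ι : k →+* ResidueField O) (ζ : O) (hζ : ζ ^ p = 1) :
    residue O (ζ - 1) = 0 := by
  have : CharP (ResidueField O) p := charP_residue ι
  have h1 : (residue O ζ - 1) ^ p = 0 := by
    rw [sub_pow_char, ← map_pow, hζ]; simp
  rw [map_sub, map_one]
  exact eq_zero_of_pow_eq_zero h1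

/-- the key sum in the residue field -/
theorem key_sum_k :
    ∑ b : k, b⁻¹ * algebraMap (ZMod p) k (Algebra.trace (ZMod p) k b) = -1 := by
  have hcard : Nat.card (ZMod p) = p := by rw [Nat.card_eq_fintype_card, ZMod.card]
  simp_rw [FiniteField.algebraMap_trace_eq_sum_pow, hcard, Finset.mul_sum]
  rw [Finset.sum_comm]
  obtain ⟨a', ha'⟩ : ∃ a', Module.finrank (ZMod p) k = a' + 1 :=
    ⟨Module.finrank (ZMod p) k - 1, by have := finrank_pos_k (p := p) (k := k); omega⟩
  rw [ha', Finset.sum_range_succ']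
  have h0 : ∑ b : k, b⁻¹ * b ^ p ^ 0 = -1 := by
    simp only [pow_zero, pow_one]
    have : ∀ b : k, b⁻¹ * b = if b = 0 then 0 else 1 := by
      intro b
      split_ifs with h
      · simp [h]
      · exact inv_mul_cancel₀ h
    simp_rw [this]
    rw [Finset.sum_ite, Finset.sum_const_zero, zero_add, Finset.sum_const, nsmul_eq_mul, mul_one]
    have hc : (Finset.univ.filter (fun b : k => ¬ b = 0)).card = Fintype.card k - 1 := by
      rw [Finset.filter_not, Finset.card_sdiff_of_subset (Finset.subset_univ _)]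
      simp [Finset.filter_eq']
    rw [hc]
    have hq : 1 ≤ Fintype.card k := Fintype.card_pos
    rw [Nat.cast_sub hq, FiniteField.cast_card_eq_zero]
    simp
  rw [h0]
  have hrest : ∑ i ∈ Finset.range a', ∑ b : k, b⁻¹ * b ^ p ^ (i + 1) = 0 := by
    apply Finset.sum_eq_zero
    intro i hi
    have hi' : i < a' := Finset.mem_range.mp hi
    have hpos : 0 < p ^ (i + 1) - 1 := by
      have : 2 ^ 1 ≤ p ^ (i + 1) := by
        calc 2 ^ 1 ≤ p ^ 1 := by simpa using hp.out.two_le
          _ ≤ p ^ (i + 1) := Nat.pow_le_pow_right hp.out.pos (by omega)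
      omega
    have : ∀ b : k, b⁻¹ * b ^ p ^ (i + 1) = b ^ (p ^ (i + 1) - 1) := by
      intro b
      by_cases hb : b = 0
      · rw [hb, inv_zero, zero_mul, zero_pow hpos.ne']
      · have : p ^ (i + 1) = (p ^ (i + 1) - 1) + 1 := by omega
        conv_lhs => rw [this, pow_succ]
        field_simp
    simp_rw [this]
    apply FiniteField.sum_pow_lt_card_sub_one
    rw [card_k (p := p) (k := k), ha']
    have : p ^ (i + 1) < p ^ (a' + 1) := Nat.pow_lt_pow_right hp.out.one_lt (by omega)
    omega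
  rw [hrest, zero_add]

variable (ζ : O) (hζ : IsPrimitiveRoot ζ p) (ω : MulChar k O) (ι : k →+* ResidueField O)
  (hω : ∀ b, residue O (ω b) = ι b)

/-- Gauss sums of powers of the inverse Teichmüller character -/
noncomputable def axG (ζ : O) (hζ : IsPrimitiveRoot ζ p) (ω : MulChar k O) (n : ℕ) : O :=
  gaussSum (ω⁻¹ ^ n) (axψ ζ hζ.pow_eq_one)

include hω in
theorem axG_one (hne : ω⁻¹ ≠ 1) : ∃ v : O, IsUnit v ∧ axG ζ hζ ω 1 = (ζ - 1) * v := by
  classical
  set π := ζ - 1 with hπ
  have hζπ : ζ = 1 + π := by rw [hπ]; ring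
  choose r hr using fun n : ℕ => exp_one_add π n
  let nb : k → ℕ := fun b => (Algebra.trace (ZMod p) k b).val
  let X : O := ∑ b : k, ω⁻¹ b * (nb b : O)
  let Y : O := ∑ b : k, ω⁻¹ b * r (nb b)
  have hG : axG ζ hζ ω 1 = π * (X + π * Y) := by
    unfold axG gaussSum
    rw [pow_one]
    have h1 : ∀ b : k, ω⁻¹ b * axψ ζ hζ.pow_eq_one b =
        ω⁻¹ b + π * (ω⁻¹ b * (nb b : O)) + π ^ 2 * (ω⁻¹ b * r (nb b)) := by
      intro b
      rw [axψ_apply]
      conv_lhs => rw [hζπ]
      rw [hr]; ring
    simp_rw [h1]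
    rw [Finset.sum_add_distrib, Finset.sum_add_distrib, MulChar.sum_eq_zero_of_ne_one hne,
      ← Finset.mul_sum, ← Finset.mul_sum]
    ring
  refine ⟨X + π * Y, ?_, hG⟩
  rw [← residue_ne_zero_iff_isUnit]
  have hπ0 : residue O π = 0 := residue_pi ι ζ hζ.pow_eq_one
  rw [map_add, map_mul, hπ0, zero_mul, add_zero]
  have hX : residue O X = ι (∑ b : k, b⁻¹ * algebraMap (ZMod p) k (Algebra.trace (ZMod p) k b)) := by
    simp only [X]
    rw [map_sum, map_sum]
    refine Finset.sum_congr rfl fun b _ => ?_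
    rw [map_mul, map_mul, MulChar.inv_apply', hω, map_natCast]
    congr 1
    have : algebraMap (ZMod p) k (Algebra.trace (ZMod p) k b) = ((nb b : ℕ) : k) := by
      simp only [nb]
      conv_lhs => rw [← ZMod.natCast_zmod_val (Algebra.trace (ZMod p) k b)]
      rw [map_natCast]
    rw [this, map_natCast]
  rw [hX, key_sum_k, map_neg, map_one]
  exact neg_ne_zero.mpr one_ne_zero

end

end Groth.Agent.Lib.Helper1.Ax
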