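import Groth.Agent.Lib.Helper1.AxE

/-! Ax's theorem, part F: Stickelberger-type bounds and the interpolation polynomial. -/

set_option autoImplicit false

namespace Groth.Agent.Lib.Helper1.Ax

open IsLocalRing Finset

section

variable {k : Type*} [Field k] [Fintype k] [DecidableEq k] {p : ℕ} [hp : Fact p.Prime]
  [Algebra (ZMod p) k]
variable {O : Type*} [CommRing O] [IsDomain O] [IsLocalRing O]
variable (ζ : O) (hζ : IsPrimitiveRoot ζ p) (ω : MulChar k O) (ι : k →+* ResidueField O)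
  (hω : ∀ b, residue O (ω b) = ι b)

include hω in
theorem omega_inj {b : k} (hb : ω b = 1) : b = 1 := by
  have := hω b
  rw [hb, map_one] at this
  exact ι.injective (by rw [← this, map_one])

include hω in
theorem omega_pow_eq_one {n : ℕ} (h : ω⁻¹ ^ n = 1) : (Fintype.card k - 1) ∣ n := by
  rw [← FiniteField.forall_pow_eq_one_iff k n]
  intro x
  have h1 : (ω⁻¹ ^ n) (x : k) = 1 := by rw [h, MulChar.one_apply_coe]
  rw [MulChar.pow_apply_coe, ← map_pow, MulChar.inv_apply'] at h1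
  have h2 := omega_inj ω ι hω h1
  have h3 : ((x : k) ^ n) = 1 := by
    have := congrArg (fun y => y⁻¹) h2
    simpa using this
  exact Units.ext (by simpa using h3)

theorem omega_pow_card (ω : MulChar k O) : ω⁻¹ ^ (Fintype.card k - 1) = 1 := by
  apply MulChar.ext
  intro x
  rw [MulChar.pow_apply_coe, ← map_pow, MulChar.one_apply_coe]
  have : ((x : k)) ^ (Fintype.card k - 1) = 1 :=
    FiniteField.pow_card_sub_one_eq_one _ (Units.ne_zero x)
  rw [this, map_one]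

theorem axψ_ne_one : axψ (k := k) ζ hζ.pow_eq_one ≠ 1 := by
  intro hcon
  obtain ⟨c, hc⟩ := Algebra.trace_surjective (ZMod p) k 1
  have h1 : axψ (k := k) ζ hζ.pow_eq_one c = 1 := by rw [hcon]; rfl
  rw [axψ_apply, hc] at h1
  have hp1 : 1 < p := hp.out.one_lt
  have : (1 : ZMod p).val = 1 := by
    have : Fact (1 < p) := ⟨hp1⟩
    exact ZMod.val_one p
  rw [this, pow_one] at h1
  exact hζ.ne_one hp1 h1

theorem axG_zero : axG (k := k) ζ hζ ω 0 = -1 := by
  unfold axG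
  rw [pow_zero]
  exact gaussSum_one_left (axψ_ne_one ζ hζ)

include hζ in
theorem pi_ne_zero : ζ - 1 ≠ 0 := by
  intro h
  exact hζ.ne_one hp.out.one_lt (sub_eq_zero.mp h)

include hω in
/-- upper bound: `G(val f)` divides a unit times `π ^ wt f`. -/
theorem axG_upper : ∀ (w : ℕ) (f : Fin (Module.finrank (ZMod p) k) → Fin p), dwt f = w →
    dval f < Fintype.card k - 1 →
    ∃ h v : O, IsUnit v ∧ axG ζ hζ ω (dval f) * h = (ζ - 1) ^ w * v := by
  intro w
  induction w with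
  | zero =>
    intro f hw _
    have hz : dval f = 0 := by
      rw [dval_eq_zero_iff hp.out.one_lt.le]
      intro i
      unfold dwt at hw
      exact (Finset.sum_eq_zero_iff.mp hw) i (Finset.mem_univ _)
    refine ⟨-1, 1, isUnit_one, ?_⟩
    rw [hz, axG_zero]; simp
  | succ w ih =>
    intro f hw hlt
    have hex : ∃ i₀, (f i₀ : ℕ) ≠ 0 := by
      by_contra hcon
      push Not at hcon
      have : dwt f = 0 := by
        unfold dwt
        exact Finset.sum_eq_zero fun i _ => hcon i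
      omega
    obtain ⟨i₀, hi₀⟩ := hex
    have hv := dval_ddec f i₀ hi₀
    have hwt := dwt_ddec f i₀ hi₀
    have hw' : dwt (ddec f i₀) = w := by omega
    have hlt' : dval (ddec f i₀) < Fintype.card k - 1 := by omega
    obtain ⟨h', v', hv', hih⟩ := ih (ddec f i₀) hw' hlt'
    have hpos : 0 < dval f := by
      rw [hv]
      have : 0 < p ^ (i₀ : ℕ) := pow_pos hp.out.pos _
      omega
    have hne : ω⁻¹ ^ dval f ≠ 1 := by
      intro hcon
      have := omega_pow_eq_one ω ι hω hcon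
      have := Nat.le_of_dvd hpos this
      omega
    have hne1 : ω⁻¹ ≠ 1 := by
      intro hcon
      apply hne
      rw [hcon, one_pow]
    obtain ⟨v₁, hv₁, hG1⟩ := axG_one ζ hζ ω ι hω hne1
    have hmul : ω⁻¹ ^ dval (ddec f i₀) * ω⁻¹ ^ (p ^ (i₀ : ℕ)) = ω⁻¹ ^ dval f := by
      rw [← pow_add, ← hv]
    have hJ := jacobiSum_mul_nontrivial (χ := ω⁻¹ ^ dval (ddec f i₀)) (φ := ω⁻¹ ^ (p ^ (i₀ : ℕ)))
      (by rw [hmul]; exact hne) (axψ ζ hζ.pow_eq_one)
    rw [hmul, gaussSum_pow_p_pow] at hJ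
    have hG1' : gaussSum ω⁻¹ (axψ ζ hζ.pow_eq_one) = (ζ - 1) * v₁ := by
      have := hG1
      unfold axG at this
      rwa [pow_one] at this
    refine ⟨jacobiSum (ω⁻¹ ^ dval (ddec f i₀)) (ω⁻¹ ^ (p ^ (i₀ : ℕ))) * h', v' * v₁,
      hv'.mul hv₁, ?_⟩
    unfold axG at hih ⊢
    calc gaussSum (ω⁻¹ ^ dval f) (axψ ζ hζ.pow_eq_one) *
          (jacobiSum (ω⁻¹ ^ dval (ddec f i₀)) (ω⁻¹ ^ (p ^ (i₀ : ℕ))) * h')
        = (gaussSum (ω⁻¹ ^ dval f) (axψ ζ hζ.pow_eq_one) *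
          jacobiSum (ω⁻¹ ^ dval (ddec f i₀)) (ω⁻¹ ^ (p ^ (i₀ : ℕ)))) * h' := by ring
      _ = (gaussSum (ω⁻¹ ^ dval (ddec f i₀)) (axψ ζ hζ.pow_eq_one) * h') *
          gaussSum ω⁻¹ (axψ ζ hζ.pow_eq_one) := by rw [hJ]; ring
      _ = (ζ - 1) ^ (w + 1) * (v' * v₁) := by rw [hih, hG1']; ring

include hω in
theorem axG_mul_compl {n : ℕ} (hn0 : 0 < n) (hn : n < Fintype.card k - 1) :
    ∃ ε : O, axG ζ hζ ω n * axG ζ hζ ω (Fintype.card k - 1 - n) = ε * (Fintype.card k : O) := by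
  have hne : ω⁻¹ ^ n ≠ 1 := by
    intro hcon
    have := omega_pow_eq_one ω ι hω hcon
    have := Nat.le_of_dvd hn0 this
    omega
  have hinv : ω⁻¹ ^ (Fintype.card k - 1 - n) = (ω⁻¹ ^ n)⁻¹ := by
    refine (inv_eq_of_mul_eq_one_right ?_).symm
    rw [← pow_add, show n + (Fintype.card k - 1 - n) = Fintype.card k - 1 by omega, omega_pow_card]
  unfold axG
  rw [hinv]
  have h1 := gaussSum_mul_gaussSum_eq_card hne (axψ_primitive (k := k) ζ hζ)
  have h2 := mul_gaussSum_inv_eq_gaussSum (ω⁻¹ ^ n)⁻¹ (axψ (k := k) ζ hζ.pow_eq_one)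
  refine ⟨(ω⁻¹ ^ n)⁻¹ (-1), ?_⟩
  rw [← h2, ← h1]; ring

include hω in
/-- lower bound (Stickelberger): `π ^ wt f ∣ G(val f)`. -/
theorem axG_lower (f : Fin (Module.finrank (ZMod p) k) → Fin p) (h0 : 0 < dval f)
    (hlt : dval f < Fintype.card k - 1) : (ζ - 1) ^ dwt f ∣ axG ζ hζ ω (dval f) := by
  have hq : Fintype.card k = p ^ Module.finrank (ZMod p) k := card_k
  have hp1 : 1 ≤ p := hp.out.one_lt.le
  have hvc := dval_dcf hp1 f
  have hwc := dwt_dcf f
  rw [← hq] at hvc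
  have hclt : dval (dcf f) < Fintype.card k - 1 := by omega
  obtain ⟨h, v, hv, hU⟩ := axG_upper ζ hζ ω ι hω (dwt (dcf f)) (dcf f) rfl hclt
  obtain ⟨ε, hε⟩ := axG_mul_compl ζ hζ ω ι hω h0 hlt
  have hcomp : Fintype.card k - 1 - dval f = dval (dcf f) := by omega
  rw [hcomp] at hε
  -- q = π^{a(p-1)} * w
  obtain ⟨u, hu⟩ := (assoc_p hp.out ζ hζ).symm
  have hqπ : (Fintype.card k : O) = (ζ - 1) ^ (dwt f + dwt (dcf f)) *
      (u : O) ^ Module.finrank (ZMod p) k := by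
    rw [hq, hwc, Nat.cast_pow, ← hu, mul_pow, ← pow_mul, mul_comm (p - 1) _]
  have key : (ζ - 1) ^ dwt (dcf f) * (axG ζ hζ ω (dval f) * v) =
      (ζ - 1) ^ dwt (dcf f) * ((ζ - 1) ^ dwt f * (ε * (u : O) ^ Module.finrank (ZMod p) k * h)) := by
    calc (ζ - 1) ^ dwt (dcf f) * (axG ζ hζ ω (dval f) * v)
        = axG ζ hζ ω (dval f) * ((ζ - 1) ^ dwt (dcf f) * v) := by ring
      _ = axG ζ hζ ω (dval f) * (axG ζ hζ ω (dval (dcf f)) * h) := by rw [hU]
      _ = (axG ζ hζ ω (dval f) * axG ζ hζ ω (dval (dcf f))) * h := by ring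
      _ = ε * (Fintype.card k : O) * h := by rw [hε]
      _ = _ := by rw [hqπ, pow_add]; ring
  have key2 := mul_left_cancel₀ (pow_ne_zero _ (pi_ne_zero ζ hζ)) key
  have : (ζ - 1) ^ dwt f ∣ axG ζ hζ ω (dval f) * v := ⟨_, key2⟩
  exact (hv.dvd_mul_right).mp this

end

end Groth.Agent.Lib.Helper1.Ax
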