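import Groth.Agent.Lib.Helper1.AxF

/-! Ax's theorem, part G: the interpolation polynomial of the additive character. -/

set_option autoImplicit false

namespace Groth.Agent.Lib.Helper1.Ax

open IsLocalRing Finset

section

variable {k : Type*} [Field k] [Fintype k] [DecidableEq k] {p : ℕ} [hp : Fact p.Prime]
  [Algebra (ZMod p) k]
variable {O : Type*} [CommRing O] [IsDomain O] [IsLocalRing O]
variable (ζ : O) (hζ : IsPrimitiveRoot ζ p) (ω : MulChar k O) (ι : k →+* ResidueField O)
  (hω : ∀ b, residue O (ω b) = ι b)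

/-- coefficients of the interpolation polynomial (times `q - 1`) -/
noncomputable def axc (ζ : O) (hζ : IsPrimitiveRoot ζ p) (ω : MulChar k O) (n : ℕ) : O :=
  if n = 0 then (Fintype.card k : O) - 1
  else if n = Fintype.card k - 1 then -(Fintype.card k : O) else axG ζ hζ ω n

include hζ in
theorem pi_pow_dvd_card :
    (ζ - 1) ^ (Module.finrank (ZMod p) k * (p - 1)) ∣ (Fintype.card k : O) := by
  obtain ⟨u, hu⟩ := (assoc_p hp.out ζ hζ).symm
  rw [card_k (p := p) (k := k), Nat.cast_pow, ← hu, mul_pow, ← pow_mul, mul_comm (p - 1) _]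
  exact Dvd.intro _ rfl

include hω in
theorem axc_dvd (f : Fin (Module.finrank (ZMod p) k) → Fin p) :
    (ζ - 1) ^ dwt f ∣ axc ζ hζ ω (dval f) := by
  have hp1 : 1 ≤ p := hp.out.one_lt.le
  have hq : Fintype.card k = p ^ Module.finrank (ZMod p) k := card_k
  have hq2 : 2 ≤ Fintype.card k := by
    have : 1 < Fintype.card k := Fintype.one_lt_card
    omega
  unfold axc
  split_ifs with h1 h2
  · have : dwt f = 0 := by
      unfold dwt
      exact Finset.sum_eq_zero fun i _ => (dval_eq_zero_iff hp1 f).mp h1 i
    rw [this, pow_zero]; exact one_dvd _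
  · have hvc := dval_dcf hp1 f
    have hwc := dwt_dcf f
    rw [← hq] at hvc
    have h3 : dval (dcf f) = 0 := by omega
    have : dwt (dcf f) = 0 := by
      unfold dwt
      exact Finset.sum_eq_zero fun i _ => (dval_eq_zero_iff hp1 (dcf f)).mp h3 i
    have h4 : dwt f = Module.finrank (ZMod p) k * (p - 1) := by omega
    rw [h4, dvd_neg]
    exact pi_pow_dvd_card ζ hζ
  · have hlt : dval f < Fintype.card k := by rw [hq]; exact dval_lt f
    exact axG_lower ζ hζ ω ι hω f (Nat.pos_of_ne_zero h1) (by omega)

include hω in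
theorem geom_orth (b c : k) (hb : b ≠ 0) :
    ∑ n ∈ Finset.range (Fintype.card k - 1), (ω⁻¹ ^ n) c * ω b ^ n =
      if c = b then ((Fintype.card k : O) - 1) else 0 := by
  have hq1 : 1 ≤ Fintype.card k := Fintype.card_pos
  by_cases hc : c = 0
  · rw [if_neg (by rw [hc]; exact fun h => hb h.symm)]
    apply Finset.sum_eq_zero
    intro n _
    rw [hc, MulChar.map_zero, zero_mul]
  · have hterm : ∀ n, (ω⁻¹ ^ n) c * ω b ^ n = (ω (c⁻¹ * b)) ^ n := by
      intro n
      have := MulChar.pow_apply_coe ω⁻¹ n (Units.mk0 c hc)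
      rw [Units.val_mk0] at this
      rw [this, MulChar.inv_apply', ← mul_pow, ← map_mul]
    simp_rw [hterm]
    split_ifs with hcb
    · rw [hcb, inv_mul_cancel₀ hb, map_one]
      simp [Nat.cast_sub hq1]
    · set y := ω (c⁻¹ * b) with hy
      have hy1 : y ≠ 1 := by
        intro h
        have := omega_inj ω ι hω h
        apply hcb
        field_simp at this
        exact this.symm
      have hyq : y ^ (Fintype.card k - 1) = 1 := by
        rw [hy, ← map_pow, FiniteField.pow_card_sub_one_eq_one _ (mul_ne_zero (inv_ne_zero hc) hb),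
          map_one]
      have := mul_geom_sum y (Fintype.card k - 1)
      rw [hyq, sub_self] at this
      exact (mul_eq_zero.mp this).resolve_left (sub_ne_zero.mpr hy1)

include hω in
theorem interp (b : k) :
    ((Fintype.card k : O) - 1) * axψ ζ hζ.pow_eq_one b =
      ∑ n ∈ Finset.range (Fintype.card k), axc ζ hζ ω n * ω b ^ n := by
  have hq2 : 2 ≤ Fintype.card k := by
    have : 1 < Fintype.card k := Fintype.one_lt_card
    omega
  by_cases hb : b = 0
  · rw [hb, MulChar.map_zero, AddChar.map_zero_eq_one, mul_one]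
    rw [Finset.sum_eq_single 0]
    · simp [axc]
    · intro n _ hn
      rw [zero_pow hn, mul_zero]
    · intro h
      exact absurd (Finset.mem_range.mpr (by omega)) h
  · obtain ⟨m, hm⟩ : ∃ m, Fintype.card k = m + 2 := ⟨Fintype.card k - 2, by omega⟩
    have hxq : ω b ^ (Fintype.card k - 1) = 1 := by
      rw [← map_pow, FiniteField.pow_card_sub_one_eq_one _ hb, map_one]
    -- the Gauss sum expansion
    have hG : ∑ n ∈ Finset.range (Fintype.card k - 1), axG ζ hζ ω n * ω b ^ n =
        ((Fintype.card k : O) - 1) * axψ ζ hζ.pow_eq_one b := by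
      unfold axG gaussSum
      simp_rw [Finset.sum_mul]
      rw [Finset.sum_comm]
      have : ∀ c : k, ∑ n ∈ Finset.range (Fintype.card k - 1),
          (ω⁻¹ ^ n) c * axψ ζ hζ.pow_eq_one c * ω b ^ n =
          axψ ζ hζ.pow_eq_one c * (if c = b then ((Fintype.card k : O) - 1) else 0) := by
        intro c
        rw [← geom_orth ω ι hω b c hb, Finset.mul_sum]
        refine Finset.sum_congr rfl fun n _ => by ring
      simp_rw [this]
      simp [mul_comm]
    rw [← hG]
    have e1 : Fintype.card k = (m + 1) + 1 := by omega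
    have e2 : Fintype.card k - 1 = m + 1 := by omega
    rw [e2] at hxq
    conv_rhs => rw [e1, Finset.sum_range_succ, Finset.sum_range_succ']
    rw [e2, Finset.sum_range_succ']
    have hmid : ∀ n ∈ Finset.range m, axc ζ hζ ω (n + 1) * ω b ^ (n + 1) =
        axG ζ hζ ω (n + 1) * ω b ^ (n + 1) := by
      intro n hn
      have hn' : n < m := Finset.mem_range.mp hn
      unfold axc
      rw [if_neg (by omega), if_neg (by omega)]
    rw [Finset.sum_congr rfl hmid]
    have h0 : axc ζ hζ ω 0 = (Fintype.card k : O) - 1 := by simp [axc]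
    have hl : axc ζ hζ ω (m + 1) = -(Fintype.card k : O) := by
      unfold axc
      rw [if_neg (by omega), if_pos (by omega)]
    rw [h0, hl, hxq, axG_zero]
    ring

include hω in
theorem interp' (b : k) :
    ((Fintype.card k : O) - 1) * axψ ζ hζ.pow_eq_one b =
      ∑ f : Fin (Module.finrank (ZMod p) k) → Fin p,
        axc ζ hζ ω (dval f) * ω b ^ (dval f) := by
  rw [interp ζ hζ ω ι hω b]
  have hq : Fintype.card k = p ^ Module.finrank (ZMod p) k := card_k
  rw [hq, ← Fin.sum_univ_eq_sum_range (fun n => axc ζ hζ ω n * ω b ^ n)]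
  rw [← Equiv.sum_comp (finFunctionFinEquiv (m := p) (n := Module.finrank (ZMod p) k))]
  refine Finset.sum_congr rfl fun f _ => ?_
  rw [finFunctionFinEquiv_apply]
  rfl

end

end Groth.Agent.Lib.Helper1.Ax
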