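import Groth.Agent.Lib.Helper1.AxG
import Groth.Agent.Lib.Helper1.AxC

/-! Ax's theorem, part H: the main expansion. -/

set_option autoImplicit false

namespace Groth.Agent.Lib.Helper1.Ax

open IsLocalRing Finset

theorem addChar_sum {A M ι : Type*} [AddCommMonoid A] [CommMonoid M] (ψ : AddChar A M)
    (s : Finset ι) (f : ι → A) : ψ (∑ i ∈ s, f i) = ∏ i ∈ s, ψ (f i) := by
  classical
  induction s using Finset.induction_on with
  | empty => simp
  | insert x s hx ih =>
    rw [Finset.sum_insert hx, Finset.prod_insert hx, AddChar.map_add_eq_mul, ih]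

section

variable {k : Type*} [Field k] [Fintype k] [DecidableEq k] {p : ℕ} [hp : Fact p.Prime]
  [Algebra (ZMod p) k]
variable {O : Type*} [CommRing O] [IsDomain O] [IsLocalRing O]
variable (ζ : O) (hζ : IsPrimitiveRoot ζ p) (ω : MulChar k O) (ι : k →+* ResidueField O)
  (hω : ∀ b, residue O (ω b) = ι b)

/-- power sums of Teichmüller representatives -/
noncomputable def axS (ω : MulChar k O) (e : ℕ) : O := ∑ t : k, ω t ^ e

theorem axS_zero : axS ω 0 = (Fintype.card k : O) := by
  simp [axS]

include hω in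
theorem axS_eq_zero {e : ℕ} (he : ¬ (Fintype.card k - 1) ∣ e) : axS ω e = 0 := by
  have he0 : e ≠ 0 := by
    rintro rfl
    exact he (dvd_zero _)
  unfold axS
  have hne : ω ^ e ≠ 1 := by
    intro hcon
    apply he
    apply omega_pow_eq_one ω ι hω
    rw [inv_pow, hcon, inv_one]
  have := MulChar.sum_eq_zero_of_ne_one hne
  simp_rw [MulChar.pow_apply' ω he0] at this
  exact this

include hω in
theorem main_identity {N : ℕ} (F : MvPolynomial (Fin N) k) :
    ((Fintype.card k : O) - 1) ^ (Fintype.card F.support) *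
      ((Fintype.card k : O) *
        (Fintype.card {x : Fin N → k // MvPolynomial.eval x F = 0} : O)) =
    ∑ m : F.support → (Fin (Module.finrank (ZMod p) k) → Fin p),
      (∏ v, axc ζ hζ ω (dval (m v)) * ω (F.coeff v) ^ dval (m v)) *
        axS ω (∑ v, dval (m v)) *
        ∏ i, axS ω (∑ v : F.support, (v.1 i) * dval (m v)) := by
  classical
  have hprim : (axψ (k := k) ζ hζ.pow_eq_one).IsPrimitive := axψ_primitive ζ hζ
  -- step 1: counting via the additive character
  have h1 : (Fintype.card k : O) *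
      (Fintype.card {x : Fin N → k // MvPolynomial.eval x F = 0} : O) =
      ∑ x : Fin N → k, ∑ y : k, axψ ζ hζ.pow_eq_one (y * MvPolynomial.eval x F) := by
    simp_rw [AddChar.sum_mulShift _ hprim]
    simp only [Nat.cast_ite, Nat.cast_zero]
    rw [Finset.sum_ite, Finset.sum_const_zero, add_zero, Finset.sum_const, nsmul_eq_mul,
      Fintype.card_subtype]
    push_cast
    ring
  -- pointwise identity
  have h2 : ∀ (x : Fin N → k) (y : k),
      ((Fintype.card k : O) - 1) ^ (Fintype.card F.support) * axψ ζ hζ.pow_eq_one (y * MvPolynomial.eval x F) =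
      ∑ m : F.support → (Fin (Module.finrank (ZMod p) k) → Fin p),
        (∏ v, axc ζ hζ ω (dval (m v)) * ω (F.coeff v) ^ dval (m v)) *
          (ω y ^ (∑ v, dval (m v)) *
          ∏ i, ω (x i) ^ (∑ v : F.support, (v.1 i) * dval (m v))) := by
    intro x y
    have hev : y * MvPolynomial.eval x F =
        ∑ v : F.support, y * (F.coeff v * ∏ i, x i ^ (v : Fin N →₀ ℕ) i) := by
      rw [MvPolynomial.eval_eq', Finset.mul_sum,
        ← Finset.sum_coe_sort F.support (fun d => y * (F.coeff d * ∏ i, x i ^ d i))]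
    rw [hev, addChar_sum,
      show Fintype.card F.support = (Finset.univ : Finset F.support).card from
        Finset.card_univ.symm, ← Finset.prod_const, ← Finset.prod_mul_distrib]
    simp_rw [interp' ζ hζ ω ι hω]
    rw [Fintype.prod_sum]
    refine Finset.sum_congr rfl fun m _ => ?_
    have hterm : ∀ v : F.support,
        axc ζ hζ ω (dval (m v)) * ω (y * (F.coeff v * ∏ i, x i ^ (v : Fin N →₀ ℕ) i)) ^ dval (m v) =
        (axc ζ hζ ω (dval (m v)) * ω (F.coeff v) ^ dval (m v)) *
          (ω y ^ dval (m v) * ∏ i, ω (x i) ^ ((v : Fin N →₀ ℕ) i * dval (m v))) := by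
      intro v
      rw [map_mul, map_mul, map_prod, mul_pow, mul_pow, ← Finset.prod_pow]
      simp_rw [map_pow, ← pow_mul]
      ring
    simp_rw [hterm]
    have hB : ∏ v : F.support, ω y ^ dval (m v) = ω y ^ ∑ v, dval (m v) :=
      Finset.prod_pow_eq_pow_sum _ _ _
    have hC : ∏ v : F.support, ∏ i, ω (x i) ^ (v.1 i * dval (m v)) =
        ∏ i, ω (x i) ^ ∑ v : F.support, (v.1 i) * dval (m v) := by
      rw [Finset.prod_comm]
      exact Finset.prod_congr rfl fun i _ => Finset.prod_pow_eq_pow_sum _ _ _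
    simp only [Finset.prod_mul_distrib]
    rw [hB, hC]
  rw [h1, Finset.mul_sum]
  simp_rw [Finset.mul_sum, h2]
  -- swap sums
  have h3 : ∀ m : F.support → (Fin (Module.finrank (ZMod p) k) → Fin p),
      axS ω (∑ v, dval (m v)) * ∏ i, axS ω (∑ v : F.support, (v.1 i) * dval (m v)) =
      ∑ x : Fin N → k, ∑ y : k, (ω y ^ (∑ v, dval (m v)) *
          ∏ i, ω (x i) ^ (∑ v : F.support, (v.1 i) * dval (m v))) := by
    intro m
    unfold axS
    rw [Fintype.prod_sum, Finset.sum_mul_sum, Finset.sum_comm]
  simp_rw [mul_assoc, h3, Finset.mul_sum]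
  conv_rhs => rw [Finset.sum_comm]
  refine Finset.sum_congr rfl fun x _ => ?_
  rw [Finset.sum_comm]

end

end Groth.Agent.Lib.Helper1.Ax
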