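import Groth.Agent.Lib.Helper1.AxH

/-! Ax's theorem, part I: divisibility of each term, and descent to `ℕ`. -/

set_option autoImplicit false

namespace Groth.Agent.Lib.Helper1.Ax

open IsLocalRing Finset

section

variable {k : Type*} [Field k] [Fintype k] [DecidableEq k] {p : ℕ} [hp : Fact p.Prime]
  [Algebra (ZMod p) k]
variable {O : Type*} [CommRing O] [IsDomain O] [IsLocalRing O]
variable (ζ : O) (hζ : IsPrimitiveRoot ζ p) (ω : MulChar k O) (ι : k →+* ResidueField O)
  (hω : ∀ b, residue O (ω b) = ι b)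

include hω in
theorem term_dvd {N d j : ℕ} (hd : 0 < d) (F : MvPolynomial (Fin N) k) (hF : F.IsHomogeneous d)
    (hj : j * d < N) (m : F.support → (Fin (Module.finrank (ZMod p) k) → Fin p)) :
    (ζ - 1) ^ (Module.finrank (ZMod p) k * (p - 1) * (j + 1)) ∣
      (∏ v, axc ζ hζ ω (dval (m v)) * ω (F.coeff v) ^ dval (m v)) *
        axS ω (∑ v, dval (m v)) *
        ∏ i, axS ω (∑ v : F.support, (v.1 i) * dval (m v)) := by
  classical
  have hq : Fintype.card k = p ^ Module.finrank (ZMod p) k := card_k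
  by_cases h0 : (Fintype.card k - 1) ∣ ∑ v, dval (m v)
  swap
  · rw [axS_eq_zero ω ι hω h0, mul_zero, zero_mul]; exact dvd_zero _
  by_cases hi : ∀ i : Fin N, (Fintype.card k - 1) ∣ ∑ v : F.support, (v.1 i) * dval (m v)
  swap
  · push Not at hi
    obtain ⟨i, hi⟩ := hi
    rw [Finset.prod_eq_zero (Finset.mem_univ i) (axS_eq_zero ω ι hω hi), mul_zero]
    exact dvd_zero _
  -- combinatorial inequality
  have hdg : ∀ v : F.support, ∑ i, (v.1 i) = d := by
    intro v
    have hv : MvPolynomial.coeff v.1 F ≠ 0 := MvPolynomial.mem_support_iff.mp v.2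
    have h1 : Finsupp.degree v.1 = d := by
      rw [Finsupp.degree_eq_weight_one]; exact hF hv
    rw [← h1, Finsupp.degree_eq_sum]
  rw [hq] at h0 hi
  have hcomb := comb (p := p) (a := Module.finrank (ZMod p) k) hp.out.two_le finrank_pos_k N d j hd hj
    (fun (v : F.support) i => v.1 i) hdg m h0 hi
  set Z := Finset.univ.filter (fun i : Fin N => ∑ v : F.support, (v.1 i) * dval (m v) = 0) with hZ
  set W := ∑ v, dwt (m v) with hW
  set δ := (if ∑ v, dval (m v) = 0 then 1 else 0 : ℕ) with hδ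
  -- the three divisibilities
  have hQ : (ζ - 1) ^ (Module.finrank (ZMod p) k * (p - 1)) ∣ (Fintype.card k : O) := pi_pow_dvd_card ζ hζ
  have d1 : (ζ - 1) ^ W ∣ ∏ v, axc ζ hζ ω (dval (m v)) * ω (F.coeff v) ^ dval (m v) := by
    rw [hW, ← Finset.prod_pow_eq_pow_sum]
    apply Finset.prod_dvd_prod_of_dvd
    intro v _
    exact Dvd.dvd.mul_right (axc_dvd ζ hζ ω ι hω (m v)) _
  have d2 : ((ζ - 1) ^ (Module.finrank (ZMod p) k * (p - 1))) ^ δ ∣ axS ω (∑ v, dval (m v)) := by
    rw [hδ]
    split_ifs with h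
    · rw [h, axS_zero, pow_one]; exact hQ
    · rw [pow_zero]; exact one_dvd _
  have d3 : ((ζ - 1) ^ (Module.finrank (ZMod p) k * (p - 1))) ^ Z.card ∣
      ∏ i, axS ω (∑ v : F.support, (v.1 i) * dval (m v)) := by
    have : ((ζ - 1) ^ (Module.finrank (ZMod p) k * (p - 1))) ^ Z.card =
        ∏ i : Fin N, (if ∑ v : F.support, (v.1 i) * dval (m v) = 0 then
          (ζ - 1) ^ (Module.finrank (ZMod p) k * (p - 1)) else 1) := by
      rw [Finset.prod_ite, Finset.prod_const_one, mul_one, Finset.prod_const]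
    rw [this]
    apply Finset.prod_dvd_prod_of_dvd
    intro i _
    split_ifs with h
    · rw [h, axS_zero]; exact hQ
    · exact one_dvd _
  have hall := mul_dvd_mul (mul_dvd_mul d1 d2) d3
  refine dvd_trans ?_ hall
  rw [← pow_mul, ← pow_mul, ← pow_add, ← pow_add]
  apply pow_dvd_pow
  calc Module.finrank (ZMod p) k * (p - 1) * (j + 1)
      ≤ W + Module.finrank (ZMod p) k * (p - 1) * (Z.card + δ) := hcomb
    _ = W + Module.finrank (ZMod p) k * (p - 1) * δ +
        Module.finrank (ZMod p) k * (p - 1) * Z.card := by ring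

include hω hζ in
theorem ax_abstract {N d j : ℕ} (hd : 0 < d) (F : MvPolynomial (Fin N) k)
    (hF : F.IsHomogeneous d) (hj : j * d < N) :
    (ζ - 1) ^ (Module.finrank (ZMod p) k * (p - 1) * (j + 1)) ∣
      ((Fintype.card k : O) - 1) ^ (Fintype.card F.support) *
      ((Fintype.card k : O) *
        (Fintype.card {x : Fin N → k // MvPolynomial.eval x F = 0} : O)) := by
  rw [main_identity ζ hζ ω ι hω F]
  apply Finset.dvd_sum
  intro m _
  exact term_dvd ζ hζ ω ι hω hd F hF hj m

end

/-- descent of `p`-power divisibility from a local domain to `ℕ`. -/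
theorem descent {O : Type*} [CommRing O] [IsDomain O] [IsLocalRing O] [CharZero O] {p : ℕ}
    (hp : p.Prime) (hpm : (p : O) ∈ maximalIdeal O) :
    ∀ (t M : ℕ), ((p : O) ^ t ∣ (M : O)) → p ^ t ∣ M := by
  intro t
  induction t with
  | zero => intro M _; simp
  | succ t ih =>
    intro M hM
    have hpM : (p : O) ∣ (M : O) := dvd_trans (dvd_pow_self _ (Nat.succ_ne_zero t)) hM
    have hpdvd : p ∣ M := by
      by_contra hcon
      have hcop : Nat.Coprime p M := (Nat.Prime.coprime_iff_not_dvd hp).mpr hcon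
      obtain ⟨x, y, hxy⟩ : ∃ x y : ℤ, (p : ℤ) * x + (M : ℤ) * y = 1 := by
        have := Int.gcd_eq_gcd_ab (p : ℤ) (M : ℤ)
        have hg : Int.gcd (p : ℤ) (M : ℤ) = 1 := by
          rw [Int.gcd_natCast_natCast]; exact hcop
        rw [hg] at this
        exact ⟨_, _, by rw [← this]; simp⟩
      have h1 : (p : O) * (x : O) + (M : O) * (y : O) = 1 := by
        have := congrArg (fun z : ℤ => (z : O)) hxy
        simpa using this
      have h2 : (p : O) ∣ 1 := by
        rw [← h1]
        exact dvd_add (Dvd.intro _ rfl) (Dvd.dvd.mul_right hpM _)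
      have h3 : IsUnit (p : O) := isUnit_of_dvd_one h2
      exact (mem_nonunits_iff.mp ((mem_maximalIdeal _).mp hpm)) h3
    obtain ⟨M', rfl⟩ := hpdvd
    have hp0 : (p : O) ≠ 0 := by exact_mod_cast hp.ne_zero
    have : (p : O) ^ t ∣ (M' : O) := by
      rw [pow_succ', Nat.cast_mul] at hM
      exact (mul_dvd_mul_iff_left hp0).mp hM
    rw [pow_succ']
    exact Nat.mul_dvd_mul_left p (ih M' this)

end Groth.Agent.Lib.Helper1.Ax
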