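import Groth.Agent.Lib.Helper1.AxI
import Groth.Agent.Lib.Helper1.AxA

/-! Ax's theorem, part J: construction of the Teichmüller character and the final statement. -/

set_option autoImplicit false

namespace Groth.Agent.Lib.Helper1.Ax

open IsLocalRing Finset Polynomial

universe u

/-- existence of the Teichmüller character compatible with an embedding of `k` in the residue
field. -/
theorem exists_teich {k : Type u} [Field k] [Fintype k] [DecidableEq k] {p : ℕ} [hp : Fact p.Prime]
    [Algebra (ZMod p) k] {O : Type} [CommRing O] [IsDomain O] [IsLocalRing O]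
    (hpm : (p : O) ∈ maximalIdeal O) (ξ : O) (hξ : IsPrimitiveRoot ξ (Fintype.card k - 1)) :
    ∃ (ω : MulChar k O) (ι : k →+* ResidueField O), ∀ b, residue O (ω b) = ι b := by
  classical
  have hq2 : 2 ≤ Fintype.card k := by
    have : 1 < Fintype.card k := Fintype.one_lt_card
    omega
  have hqpos : 0 < Fintype.card k - 1 := by omega
  -- char p on the residue field
  have hchar : CharP (ResidueField O) p := by
    rw [CharP.charP_iff_prime_eq_zero hp.out]
    have : residue O (p : O) = 0 := (residue_eq_zero_iff _).mpr hpm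
    simpa using this
  let _ : Algebra (ZMod p) (ResidueField O) := ZMod.algebra _ p
  -- splitting
  have hprod := X_pow_sub_one_eq_prod hqpos hξ
  have hsplitO : Splits (X ^ (Fintype.card k - 1) - 1 : O[X]) := by
    rw [hprod]
    exact Splits.prod fun z _ => Splits.X_sub_C z
  have hsplitO' : Splits (X ^ Fintype.card k - X : O[X]) := by
    have : (X ^ Fintype.card k - X : O[X]) = X * (X ^ (Fintype.card k - 1) - 1) := by
      have : Fintype.card k = (Fintype.card k - 1) + 1 := by omega
      conv_lhs => rw [this, pow_succ]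
      ring
    rw [this]
    exact Splits.X.mul hsplitO
  have hsplitκ : Splits ((X ^ Fintype.card k - X : (ZMod p)[X]).map
      (algebraMap (ZMod p) (ResidueField O))) := by
    have := hsplitO'.map (residue O)
    simpa using this
  let ι : k →+* ResidueField O :=
    (IsSplittingField.lift k (X ^ Fintype.card k - X : (ZMod p)[X]) hsplitκ).toRingHom
  -- generator
  obtain ⟨g₀, hg₀⟩ := IsCyclic.exists_generator (α := kˣ)
  have hιg : ι (g₀ : k) ^ (Fintype.card k - 1) = 1 := by
    rw [← map_pow, FiniteField.pow_card_sub_one_eq_one _ (Units.ne_zero g₀), map_one]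
  -- ι g₀ is the residue of a root of unity
  have hex : ∃ z ∈ nthRootsFinset (Fintype.card k - 1) (1 : O), residue O z = ι (g₀ : k) := by
    have h1 := congrArg (fun P : O[X] => (P.map (residue O)).eval (ι (g₀ : k))) hprod
    simp only [Polynomial.map_sub, Polynomial.map_pow, Polynomial.map_X, Polynomial.map_one,
      eval_sub, eval_pow, eval_X, eval_one, hιg, sub_self, Polynomial.map_prod,
      Polynomial.map_C, eval_prod, eval_C] at h1
    obtain ⟨z, hz, hz0⟩ := Finset.prod_eq_zero_iff.mp h1.symm
    exact ⟨z, hz, (sub_eq_zero.mp hz0).symm⟩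
  obtain ⟨z₀, hz₀mem, hz₀⟩ := hex
  have hz₀pow : z₀ ^ (Fintype.card k - 1) = 1 := ((mem_nthRootsFinset hqpos 1).mp hz₀mem)
  let z₀u : Oˣ := Units.ofPowEqOne z₀ (Fintype.card k - 1) hz₀pow hqpos.ne'
  have hz₀u : z₀u ∈ rootsOfUnity (Fintype.card kˣ) O := by
    rw [mem_rootsOfUnity, Fintype.card_units]
    exact Units.ext (by simpa [z₀u] using hz₀pow)
  let ω : MulChar k O := MulChar.ofRootOfUnity hz₀u hg₀
  have hωg : ω (g₀ : k) = z₀ := by
    have := MulChar.ofRootOfUnity_spec hz₀u hg₀
    simpa [z₀u] using this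
  refine ⟨ω, ι, ?_⟩
  intro b
  by_cases hb : b = 0
  · rw [hb, MulChar.map_zero, map_zero, map_zero]
  · have hmem : Units.mk0 b hb ∈ Submonoid.powers g₀ := mem_powers_iff_mem_zpowers.mpr (hg₀ _)
    obtain ⟨n, hn⟩ := hmem
    have hbn : b = (g₀ : k) ^ n := by
      have := congrArg (fun u : kˣ => (u : k)) hn
      simpa using this.symm
    rw [hbn, map_pow, map_pow, map_pow, hωg, hz₀]

/-- **Ax's theorem** for homogeneous forms. -/
theorem ax_theorem (k : Type u) [Field k] [Fintype k] [DecidableEq k] (N d j : ℕ)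
    (hd : 0 < d) (F : MvPolynomial (Fin N) k) (hF : F.IsHomogeneous d) (hj : j * d < N) :
    Fintype.card k ^ j ∣ Fintype.card {x : Fin N → k // MvPolynomial.eval x F = 0} := by
  classical
  set p := ringChar k with hpdef
  have hchar : CharP k p := ringChar.charP k
  have hp : Fact p.Prime := ⟨CharP.char_is_prime k p⟩
  let _ : Algebra (ZMod p) k := ZMod.algebra k p
  have hq : Fintype.card k = p ^ Module.finrank (ZMod p) k := card_k
  have hq2 : 2 ≤ Fintype.card k := by
    have : 1 < Fintype.card k := Fintype.one_lt_card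
    omega
  have hMpos : 0 < (Fintype.card k - 1) * p := Nat.mul_pos (by omega) hp.out.pos
  obtain ⟨O, _, _, _, hO0, hpm, ξ, hξ⟩ := exists_ring p hp.out _ hMpos
  have hζ : IsPrimitiveRoot (ξ ^ (Fintype.card k - 1)) p := hξ.pow hMpos rfl
  have hξ' : IsPrimitiveRoot (ξ ^ p) (Fintype.card k - 1) := hξ.pow hMpos (mul_comm _ _)
  obtain ⟨ω, ι, hω⟩ := exists_teich (k := k) hpm (ξ ^ p) hξ'
  have hmain := ax_abstract (ξ ^ (Fintype.card k - 1)) hζ ω ι hω hd F hF hj
  set Z := Fintype.card {x : Fin N → k // MvPolynomial.eval x F = 0} with hZ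
  set n := Fintype.card F.support with hn
  set a := Module.finrank (ZMod p) k with ha
  -- replace π-power by p-power
  have hassoc : Associated ((p : O) ^ (a * (j + 1)))
      ((ξ ^ (Fintype.card k - 1) - 1) ^ (a * (p - 1) * (j + 1))) := by
    have := (assoc_p hp.out _ hζ).pow_pow (n := a * (j + 1))
    rw [← pow_mul] at this
    rwa [show a * (p - 1) * (j + 1) = (p - 1) * (a * (j + 1)) by ring]
  have h1 : (p : O) ^ (a * (j + 1)) ∣
      (((Fintype.card k - 1) ^ n * (Fintype.card k * Z) : ℕ) : O) := by
    rw [hassoc.dvd_iff_dvd_left]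
    have hcast : (((Fintype.card k - 1) ^ n * (Fintype.card k * Z) : ℕ) : O) =
        ((Fintype.card k : O) - 1) ^ n * ((Fintype.card k : O) * (Z : O)) := by
      push_cast [Nat.cast_sub (show 1 ≤ Fintype.card k by omega)]
      ring
    rw [hcast]
    exact hmain
  have h2 := descent hp.out hpm _ _ h1
  -- now in ℕ
  have h3 : Fintype.card k ^ j * Fintype.card k ∣
      ((Fintype.card k - 1) ^ n * Z) * Fintype.card k := by
    have : p ^ (a * (j + 1)) = Fintype.card k ^ j * Fintype.card k := by
      rw [hq, ← pow_mul, ← pow_add]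
      congr 1
    rw [← this]
    refine dvd_trans h2 (dvd_of_eq ?_)
    ring
  have h4 : Fintype.card k ^ j ∣ (Fintype.card k - 1) ^ n * Z :=
    Nat.dvd_of_mul_dvd_mul_right (by omega) h3
  have hcop : Nat.Coprime (Fintype.card k ^ j) ((Fintype.card k - 1) ^ n) := by
    apply Nat.Coprime.pow
    obtain ⟨r, hr⟩ : ∃ r, Fintype.card k = r + 1 := ⟨Fintype.card k - 1, by omega⟩
    rw [hr]
    simp
  exact hcop.dvd_of_dvd_mul_left h4

end Groth.Agent.Lib.Helper1.Ax
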