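import Mathlib.Algebra.Central.Defs
import Mathlib.Algebra.Central.Basic
import Mathlib.RingTheory.SimpleRing.Basic
import Mathlib.RingTheory.TwoSidedIdeal.Operations
import Mathlib.RingTheory.TensorProduct.Basic
import Mathlib.LinearAlgebra.TensorProduct.Basis
import Mathlib.LinearAlgebra.Basis.VectorSpace
import Mathlib.LinearAlgebra.FreeModule.Basic
import Mathlib.RingTheory.Flat.Basic

set_option autoImplicit false

namespace Groth.Agent.Lib.Helper1.CSA

open TensorProduct

section core

variable {k A D : Type*} [Field k] [Ring A] [Algebra k A] [Ring D] [Algebra k D]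
variable {ι : Type*} (w : ι → A)

/-- `Φ c = ∑ i, w i ⊗ c i`. -/
noncomputable def Phi : (ι →₀ D) →ₗ[k] A ⊗[k] D :=
  Finsupp.lsum ℕ (fun i => TensorProduct.mk k A D (w i))

@[simp] theorem Phi_single (i : ι) (d : D) : Phi (k := k) w (Finsupp.single i d) = w i ⊗ₜ[k] d := by
  simp [Phi]

/-- right multiplication on coefficients -/
noncomputable def rmul (d : D) (c : ι →₀ D) : ι →₀ D := c.mapRange (· * d) (zero_mul d)

@[simp] theorem rmul_apply (d : D) (c : ι →₀ D) (i : ι) : rmul d c i = c i * d := by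
  simp [rmul]

theorem rmul_add (d : D) (c c' : ι →₀ D) : rmul d (c + c') = rmul d c + rmul d c' := by
  ext i; simp [add_mul]

theorem Phi_rmul (d : D) (c : ι →₀ D) :
    Phi (k := k) w (rmul d c) = Phi (k := k) w c * ((1 : A) ⊗ₜ[k] d) := by
  induction c using Finsupp.induction_linear with
  | zero =>
    have : rmul d (0 : ι →₀ D) = 0 := by ext i; simp
    simp [this]
  | add f g hf hg => rw [rmul_add, map_add, hf, hg, map_add, add_mul]
  | single i e =>
    have : rmul d (Finsupp.single i e) = Finsupp.single i (e * d) := by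
      ext j; by_cases h : i = j <;> simp [h]
    simp [this]

theorem Phi_smul (d : D) (c : ι →₀ D) :
    Phi (k := k) w (d • c) = ((1 : A) ⊗ₜ[k] d) * Phi (k := k) w c := by
  induction c using Finsupp.induction_linear with
  | zero => simp
  | add f g hf hg => rw [smul_add, map_add, hf, hg, map_add, mul_add]
  | single i e => simp

theorem Phi_mapRange_algebraMap (l : ι →₀ k) :
    Phi (k := k) w (l.mapRange (algebraMap k D) (map_zero _)) =
      (Finsupp.linearCombination k w l) ⊗ₜ[k] (1 : D) := by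
  induction l using Finsupp.induction_linear with
  | zero => simp
  | add f g hf hg =>
    rw [Finsupp.mapRange_add (map_add _), map_add, hf, hg, map_add, add_tmul]
  | single i μ =>
    simp [Algebra.algebraMap_eq_smul_one, TensorProduct.smul_tmul]

theorem core [Algebra.IsCentral k D] [IsSimpleRing D]
    (I : TwoSidedIdeal (A ⊗[k] D))
    (H : ∀ l : ι →₀ k, (Finsupp.linearCombination k w l) ⊗ₜ[k] (1 : D) ∈ I → l = 0) :
    ∀ c : ι →₀ D, Phi (k := k) w c ∈ I → c = 0 := by
  classical
  suffices ∀ n : ℕ, ∀ c : ι →₀ D, c.support.card = n → Phi (k := k) w c ∈ I → c = 0 from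
    fun c hc => this _ c rfl hc
  intro n
  induction n using Nat.strong_induction_on with
  | _ n ih =>
  intro c hcn hc
  by_contra hne
  obtain ⟨i₀, hi₀⟩ : ∃ i₀, i₀ ∈ c.support := Finsupp.support_nonempty_iff.mpr hne
  let L : TwoSidedIdeal D := TwoSidedIdeal.mk'
    {d | ∃ c' : ι →₀ D, Phi (k := k) w c' ∈ I ∧ c'.support ⊆ c.support ∧ c' i₀ = d}
    ⟨0, by simp, by simp, rfl⟩
    (by
      rintro x y ⟨c1, h1, s1, rfl⟩ ⟨c2, h2, s2, rfl⟩
      exact ⟨c1 + c2, by rw [map_add]; exact I.add_mem h1 h2,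
        (Finsupp.support_add).trans (Finset.union_subset s1 s2), rfl⟩)
    (by
      rintro x ⟨c1, h1, s1, rfl⟩
      exact ⟨-c1, by rw [map_neg]; exact I.neg_mem h1, by rwa [Finsupp.support_neg], rfl⟩)
    (by
      rintro x y ⟨c1, h1, s1, rfl⟩
      exact ⟨x • c1, by rw [Phi_smul]; exact I.mul_mem_left _ _ h1,
        (Finsupp.support_smul).trans s1, rfl⟩)
    (by
      rintro x y ⟨c1, h1, s1, rfl⟩
      exact ⟨rmul y c1, by rw [Phi_rmul]; exact I.mul_mem_right _ _ h1,
        (Finsupp.support_mapRange).trans s1, by simp⟩)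
  have h1L : (1 : D) ∈ L :=
    IsSimpleRing.one_mem_of_ne_zero_mem L (Finsupp.mem_support_iff.mp hi₀)
      ((TwoSidedIdeal.mem_mk' ..).mpr ⟨c, hc, subset_rfl, rfl⟩)
  obtain ⟨c', hc'I, hc's, hc'1⟩ := (TwoSidedIdeal.mem_mk' ..).mp h1L
  have hcomm : ∀ d : D, d • c' - rmul d c' = 0 := by
    intro d
    refine ih (d • c' - rmul d c').support.card ?_ _ rfl ?_
    · rw [← hcn]
      apply Finset.card_lt_card
      refine ⟨fun i hi => ?_, fun h => ?_⟩
      · by_contra hic
        have : c' i = 0 := by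
          by_contra h0
          exact hic (hc's (Finsupp.mem_support_iff.mpr h0))
        simp [this] at hi
      · have := h hi₀
        simp [hc'1] at this
    · rw [map_sub, Phi_smul, Phi_rmul]
      exact I.sub_mem (I.mul_mem_left _ _ hc'I) (I.mul_mem_right _ _ hc'I)
  have hcen : ∀ i, c' i ∈ Subalgebra.center k D := by
    intro i
    rw [Subalgebra.mem_center_iff]
    intro d
    have := DFunLike.congr_fun (hcomm d) i
    simp only [Finsupp.coe_sub, Finsupp.coe_smul, Pi.sub_apply, Pi.smul_apply, smul_eq_mul,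
      rmul_apply, Finsupp.coe_zero, Pi.zero_apply] at this
    exact sub_eq_zero.mp this
  have hinj : Function.Injective (Algebra.linearMap k D) := FaithfulSMul.algebraMap_injective k D
  obtain ⟨g, hg⟩ := LinearMap.exists_leftInverse_of_injective (Algebra.linearMap k D)
    (LinearMap.ker_eq_bot.mpr hinj)
  have hg' : ∀ μ : k, g (algebraMap k D μ) = μ := fun μ => LinearMap.congr_fun hg μ
  have hc'eq : c' = (c'.mapRange g (map_zero g)).mapRange (algebraMap k D) (map_zero _) := by
    ext i
    have hi := hcen i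
    rw [Algebra.IsCentral.center_eq_bot, Algebra.mem_bot] at hi
    obtain ⟨μ, hμ⟩ := hi
    simp [← hμ, hg']
  have hl := H (c'.mapRange g (map_zero g)) (by rw [← Phi_mapRange_algebraMap, ← hc'eq]; exact hc'I)
  rw [hl] at hc'eq
  have : c' i₀ = 0 := by rw [hc'eq]; simp
  rw [hc'1] at this
  exact one_ne_zero this

end core

section tensorSimple

variable (k A D : Type*) [Field k] [Ring A] [Algebra k A] [Ring D] [Algebra k D]

theorem nontrivial_tensor [Nontrivial A] [Nontrivial D] : Nontrivial (A ⊗[k] D) :=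
  Algebra.TensorProduct.nontrivial_of_algebraMap_injective_of_flat_left k A D
    (FaithfulSMul.algebraMap_injective k D)

theorem Phi_eq_sum {ι : Type*} (w : ι → A) (c : ι →₀ D) :
    Phi (k := k) w c = c.sum fun i d => w i ⊗ₜ[k] d := by
  simp only [Phi, Finsupp.lsum_apply]
  rfl

/-- A simple, D central simple (no finiteness needed) ⟹ `A ⊗ D` simple. -/
theorem isSimpleRing_tensor [IsSimpleRing A] [Algebra.IsCentral k D] [IsSimpleRing D] :
    IsSimpleRing (A ⊗[k] D) := by
  have : Nontrivial (A ⊗[k] D) := nontrivial_tensor k A D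
  apply IsSimpleRing.of_eq_bot_or_eq_top
  intro I
  let I₀ : TwoSidedIdeal A :=
    I.comap (Algebra.TensorProduct.includeLeft : A →ₐ[k] A ⊗[k] D)
  rcases eq_bot_or_eq_top I₀ with h | h
  · left
    let b := Module.Free.chooseBasis k A
    rw [eq_bot_iff]
    intro z hz
    obtain ⟨c, rfl⟩ := TensorProduct.eq_repr_basis_left b z
    rw [← Phi_eq_sum] at hz ⊢
    have H : ∀ l : _ →₀ k, (Finsupp.linearCombination k b l) ⊗ₜ[k] (1 : D) ∈ I → l = 0 := by
      intro l hl
      have : Finsupp.linearCombination k b l ∈ I₀ := by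
        rw [TwoSidedIdeal.mem_comap]
        exact hl
      rw [h] at this
      have h0 : Finsupp.linearCombination k b l = 0 := this
      exact linearIndependent_iff.mp b.linearIndependent l h0
    have := core (w := b) I H c hz
    rw [this, map_zero]
    exact TwoSidedIdeal.zero_mem _
  · right
    rw [eq_top_iff]
    intro z _
    have h1 : (1 : A) ∈ I₀ := by rw [h]; trivial
    rw [TwoSidedIdeal.mem_comap] at h1
    have : z = z * ((1 : A) ⊗ₜ[k] (1 : D)) := by
      rw [← Algebra.TensorProduct.one_def, mul_one]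
    rw [this]
    exact I.mul_mem_left _ _ h1

end tensorSimple

section idealGen

variable {k A D : Type*} [Field k] [Ring A] [Algebra k A] [Ring D] [Algebra k D]

theorem Phi_mapRange_smul {ι : Type*} (w : ι → A) (κ : D) (l : ι →₀ k) :
    Phi (k := k) w (l.mapRange (fun μ => μ • κ) (zero_smul k κ)) =
      (Finsupp.linearCombination k w l) ⊗ₜ[k] κ := by
  induction l using Finsupp.induction_linear with
  | zero => simp
  | add f g hf hg =>
    have : (f + g).mapRange (fun μ => μ • κ) (zero_smul k κ) =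
        f.mapRange (fun μ => μ • κ) (zero_smul k κ) + g.mapRange (fun μ => μ • κ) (zero_smul k κ) := by
      ext i; simp [add_smul]
    rw [this, map_add, hf, hg, map_add, add_tmul]
  | single i μ =>
    simp [TensorProduct.smul_tmul]

/-- Two-sided ideals of `A ⊗ D` with `D` central simple are generated by the `a ⊗ 1` they contain. -/
theorem twoSidedIdeal_eq_span [Algebra.IsCentral k D] [IsSimpleRing D]
    (I : TwoSidedIdeal (A ⊗[k] D)) :
    I = TwoSidedIdeal.span ((fun a : A => a ⊗ₜ[k] (1 : D)) '' {a : A | a ⊗ₜ[k] (1 : D) ∈ I}) := by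
  classical
  set J := TwoSidedIdeal.span ((fun a : A => a ⊗ₜ[k] (1 : D)) '' {a : A | a ⊗ₜ[k] (1 : D) ∈ I})
    with hJ
  have hJI : J ≤ I := by
    rw [hJ, TwoSidedIdeal.span_le]
    rintro _ ⟨a, ha, rfl⟩
    exact ha
  refine le_antisymm ?_ hJI
  let I₀ : Submodule k A :=
    { carrier := {a | a ⊗ₜ[k] (1 : D) ∈ I}
      add_mem' := fun {a b} ha hb => by
        change (a + b) ⊗ₜ[k] (1 : D) ∈ I
        rw [add_tmul]; exact I.add_mem ha hb
      zero_mem' := by
        change (0 : A) ⊗ₜ[k] (1 : D) ∈ I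
        rw [zero_tmul]; exact I.zero_mem
      smul_mem' := fun μ a ha => by
        change (μ • a) ⊗ₜ[k] (1 : D) ∈ I
        have : (μ • a) ⊗ₜ[k] (1 : D) = (algebraMap k A μ ⊗ₜ[k] (1 : D)) * (a ⊗ₜ[k] (1 : D)) := by
          rw [Algebra.TensorProduct.tmul_mul_tmul, mul_one, Algebra.smul_def]
        rw [this]
        exact I.mul_mem_left _ _ ha }
  obtain ⟨W, hW⟩ := Submodule.exists_isCompl I₀
  let bW := Module.Free.chooseBasis k W
  let w : _ → A := fun i => (bW i : A)
  have hwli : LinearIndependent k w :=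
    bW.linearIndependent.map' W.subtype (Submodule.ker_subtype W)
  have hlc : ∀ l, Finsupp.linearCombination k w l = ((Finsupp.linearCombination k bW l : W) : A) := by
    intro l
    have := (LinearMap.map_finsupp_linearCombination W.subtype (g := bW) l).symm
    simpa [w, Function.comp_def] using this
  have H : ∀ l : _ →₀ k, (Finsupp.linearCombination k w l) ⊗ₜ[k] (1 : D) ∈ I → l = 0 := by
    intro l hl
    have h1 : Finsupp.linearCombination k w l ∈ I₀ := hl
    have h2 : Finsupp.linearCombination k w l ∈ W := by rw [hlc]; exact Subtype.property _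
    have h0 : Finsupp.linearCombination k w l = 0 := by
      have := Submodule.mem_inf.mpr ⟨h1, h2⟩
      rwa [hW.inf_eq_bot, Submodule.mem_bot] at this
    exact linearIndependent_iff.mp hwli l h0
  have hdecomp : ∀ z : A ⊗[k] D, ∃ y ∈ J, ∃ c, z = y + Phi (k := k) w c := by
    intro z
    induction z using TensorProduct.induction_on with
    | zero => exact ⟨0, J.zero_mem, 0, by simp⟩
    | add z₁ z₂ h₁ h₂ =>
      obtain ⟨y₁, hy₁, c₁, rfl⟩ := h₁
      obtain ⟨y₂, hy₂, c₂, rfl⟩ := h₂
      exact ⟨y₁ + y₂, J.add_mem hy₁ hy₂, c₁ + c₂, by rw [map_add]; abel⟩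
    | tmul a κ =>
      have : a ∈ I₀ ⊔ W := by rw [hW.sup_eq_top]; trivial
      obtain ⟨a₀, ha₀, aw, haw, rfl⟩ := Submodule.mem_sup.mp this
      refine ⟨a₀ ⊗ₜ[k] κ, ?_, (bW.repr ⟨aw, haw⟩).mapRange (fun μ => μ • κ) (zero_smul k κ), ?_⟩
      · have : a₀ ⊗ₜ[k] κ = (a₀ ⊗ₜ[k] (1 : D)) * ((1 : A) ⊗ₜ[k] κ) := by
          rw [Algebra.TensorProduct.tmul_mul_tmul, mul_one, one_mul]
        rw [this]
        exact J.mul_mem_right _ _ (TwoSidedIdeal.subset_span ⟨a₀, ha₀, rfl⟩)
      · rw [Phi_mapRange_smul, hlc, bW.linearCombination_repr, add_tmul]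
  intro z hz
  obtain ⟨y, hy, c, rfl⟩ := hdecomp z
  have hc : Phi (k := k) w c ∈ I := by
    have := I.sub_mem hz (hJI hy)
    simpa using this
  have := core (w := w) I H c hc
  rw [this, map_zero, add_zero]
  exact hy

end idealGen

end Groth.Agent.Lib.Helper1.CSA
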