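import Groth.Agent.Lib.Helper1.CSADescent
import Mathlib.Algebra.Algebra.Subalgebra.Centralizer

set_option autoImplicit false
set_option linter.unusedSectionVars false

namespace Groth.Agent.Lib.Helper1.CSA

open TensorProduct

universe u v w

section baseChange

variable {k : Type u} [Field k] {A : Type v} [Ring A] [Algebra k A]
  {K : Type w} [Field K] [Algebra k K]

/-- base change of a central algebra to a field extension is central -/
theorem isCentral_baseChange [Algebra.IsCentral k A] : Algebra.IsCentral K (K ⊗[k] A) := by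
  constructor
  intro x hx
  have h1 : x ∈ Subalgebra.centralizer k
      ((Algebra.TensorProduct.includeRight : A →ₐ[k] K ⊗[k] A).range : Set (K ⊗[k] A)) := by
    rw [Subalgebra.mem_centralizer_iff]
    rintro _ ⟨a, rfl⟩
    exact (Subalgebra.mem_center_iff.mp hx _)
  rw [Subalgebra.centralizer_range_includeRight_eq_center_tensorProduct] at h1
  obtain ⟨y, rfl⟩ := h1
  clear hx
  induction y using TensorProduct.induction_on with
  | zero => rw [map_zero]; exact Subalgebra.zero_mem _
  | tmul c z =>
    obtain ⟨r, hr⟩ := Algebra.mem_bot.mp (Algebra.IsCentral.out (K := k) z.2)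
    rw [Algebra.mem_bot]
    refine ⟨r • c, ?_⟩
    change _ = c ⊗ₜ[k] (z : A)
    rw [Algebra.TensorProduct.algebraMap_apply, Algebra.algebraMap_self, RingHom.id_apply,
      ← hr, Algebra.algebraMap_eq_smul_one, TensorProduct.tmul_smul, TensorProduct.smul_tmul']
  | add x y hx hy => rw [map_add]; exact Subalgebra.add_mem _ hx hy

/-- descent of simplicity along a field extension -/
theorem isSimpleRing_of_baseChange (hKA : IsSimpleRing (K ⊗[k] A)) : IsSimpleRing A := by
  have hnt : Nontrivial A := by
    by_contra hA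
    rw [not_nontrivial_iff_subsingleton] at hA
    have : Subsingleton (K ⊗[k] A) := by
      refine ⟨fun x y => ?_⟩
      have h0 : ∀ z : K ⊗[k] A, z = 0 := by
        intro z
        induction z using TensorProduct.induction_on with
        | zero => rfl
        | tmul c a => rw [Subsingleton.elim a 0, TensorProduct.tmul_zero]
        | add x y hx hy => rw [hx, hy, add_zero]
      rw [h0 x, h0 y]
    exact not_subsingleton _ this
  refine IsSimpleRing.of_eq_bot_or_eq_top fun I => ?_
  by_cases hI : I = ⊤
  · exact Or.inr hI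
  left
  have hJ : I.asIdeal ≠ ⊤ := by
    intro hJ
    apply hI
    rw [eq_top_iff]
    intro x _
    have : x ∈ I.asIdeal := hJ ▸ Submodule.mem_top
    exact (TwoSidedIdeal.mem_asIdeal).mp this
  have hQ : Nontrivial (A ⧸ I.asIdeal) := Ideal.Quotient.nontrivial_iff.mpr hJ
  have hKQ : Nontrivial (K ⊗[k] (A ⧸ I.asIdeal)) := nontrivial_tensor k K _
  let g : K ⊗[k] A →ₐ[K] K ⊗[k] (A ⧸ I.asIdeal) :=
    Algebra.TensorProduct.map (AlgHom.id K K) (Ideal.Quotient.mkₐ k I.asIdeal)
  have hg : Function.Injective g := RingHom.injective g.toRingHom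
  rw [eq_bot_iff]
  intro a ha
  rw [TwoSidedIdeal.mem_bot]
  have h1 : g (1 ⊗ₜ a) = 0 := by
    change (1 : K) ⊗ₜ[k] (Ideal.Quotient.mk I.asIdeal a) = 0
    rw [Ideal.Quotient.eq_zero_iff_mem.mpr (TwoSidedIdeal.mem_asIdeal.mpr ha),
      TensorProduct.tmul_zero]
  have h2 : (1 : K) ⊗ₜ[k] a = 0 := hg (by rw [h1, map_zero])
  have hinj : Function.Injective (Algebra.TensorProduct.includeRight : A →ₐ[k] K ⊗[k] A) :=
    Algebra.TensorProduct.includeRight_injective (FaithfulSMul.algebraMap_injective k K)
  exact hinj (by rw [map_zero]; exact h2)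

/-- descent of centrality along a field extension -/
theorem isCentral_of_baseChange (hKA : Algebra.IsCentral K (K ⊗[k] A)) :
    Algebra.IsCentral k A := by
  constructor
  intro z hz
  rw [Subalgebra.mem_center_iff] at hz
  have h1 : (1 : K) ⊗ₜ[k] z ∈ Subalgebra.center K (K ⊗[k] A) := by
    rw [Subalgebra.mem_center_iff]
    intro x
    induction x using TensorProduct.induction_on with
    | zero => simp
    | tmul c a =>
      rw [Algebra.TensorProduct.tmul_mul_tmul, Algebra.TensorProduct.tmul_mul_tmul, hz a,
        mul_comm]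
    | add x y hx hy => rw [add_mul, mul_add, hx, hy]
  obtain ⟨c, hc⟩ := Algebra.mem_bot.mp (hKA.out h1)
  rw [Algebra.TensorProduct.algebraMap_apply] at hc
  by_contra hz'
  have hz'' : z ∉ Submodule.span k {(1 : A)} := by
    intro hmem
    obtain ⟨r, hr⟩ := Submodule.mem_span_singleton.mp hmem
    apply hz'
    rw [Algebra.mem_bot]
    exact ⟨r, by rw [Algebra.algebraMap_eq_smul_one, hr]⟩
  obtain ⟨φ, hφz, hφ⟩ := Submodule.exists_le_ker_of_notMem hz''
  have hφ1 : φ 1 = 0 := hφ (Submodule.mem_span_singleton_self 1)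
  have h2 := congrArg (LinearMap.lTensor K φ) hc
  rw [LinearMap.lTensor_tmul, LinearMap.lTensor_tmul, hφ1, TensorProduct.tmul_zero] at h2
  have h3 := congrArg (TensorProduct.rid k K) h2
  rw [map_zero, TensorProduct.rid_tmul] at h3
  rw [eq_comm, smul_eq_zero] at h3
  rcases h3 with h3 | h3
  · exact hφz h3
  · exact one_ne_zero h3

end baseChange

end Groth.Agent.Lib.Helper1.CSA
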