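import Groth.Agent.Lib.Helper1.CSASplit
import Mathlib.RingTheory.MatrixAlgebra
import Mathlib.LinearAlgebra.Matrix.Reindex

set_option autoImplicit false

namespace Groth.Agent.Lib.Helper1.CSA

open TensorProduct

universe u v w

section basic

variable {k : Type*} [Field k] {A : Type v} [Ring A] [Algebra k A]
  {K : Type w} [Field K] [Algebra k K]

/-- splitting is invariant under isomorphism of the algebra -/
theorem Splits.of_algEquiv {B : Type*} [Ring B] [Algebra k B] (e : A ≃ₐ[k] B)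
    (h : Curves.Splits k A K) : Curves.Splits k B K := by
  obtain ⟨n, hn, ⟨f⟩⟩ := h
  exact ⟨n, hn, ⟨(Algebra.TensorProduct.congr (AlgEquiv.refl : K ≃ₐ[K] K) e.symm).trans f⟩⟩

/-- `K' ⊗[K] M_n(K) ≃ M_n(K')` as `K'`-algebras -/
noncomputable def matrixBaseChange (K' : Type*) [Field K'] [Algebra K K'] (n : ℕ) :
    K' ⊗[K] Matrix (Fin n) (Fin n) K ≃ₐ[K'] Matrix (Fin n) (Fin n) K' :=
  AlgEquiv.ofRingEquiv (f := (matrixEquivTensor (Fin n) K K').symm.toRingEquiv) (fun a => by
    change (matrixEquivTensor (Fin n) K K').symm (a ⊗ₜ 1) = _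
    rw [matrixEquivTensor_apply_symm]
    ext i j
    simp [Matrix.algebraMap_matrix_apply, Matrix.one_apply])

/-- `K' ⊗[K] (K ⊗[k] A) ≃ K' ⊗[k] A` for a not necessarily commutative `A` -/
noncomputable def cancelBaseChange' (K' : Type*) [Field K'] [Algebra k K'] [Algebra K K']
    [IsScalarTower k K K'] : K' ⊗[K] (K ⊗[k] A) ≃ₐ[K'] K' ⊗[k] A :=
  AlgEquiv.symm <| AlgEquiv.ofLinearEquiv
    (TensorProduct.AlgebraTensorModule.cancelBaseChange k K K' K' A).symm
    (by simp [Algebra.TensorProduct.one_def]) <|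
      LinearMap.map_mul_of_map_mul_tmul (fun _ _ _ _ ↦ by simp)

/-- splitting persists in field extensions -/
theorem Splits.of_tower (K' : Type*) [Field K'] [Algebra k K'] [Algebra K K'] [IsScalarTower k K K']
    (h : Curves.Splits k A K) : Curves.Splits k A K' := by
  obtain ⟨n, hn, ⟨f⟩⟩ := h
  refine ⟨n, hn, ⟨?_⟩⟩
  exact ((cancelBaseChange' (k := k) (A := A) (K := K) K').symm.trans
    (Algebra.TensorProduct.congr (AlgEquiv.refl : K' ≃ₐ[K'] K') f)).trans (matrixBaseChange K' n)

/-- splitting persists along `k`-embeddings of fields -/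
theorem Splits.of_algHom {K' : Type*} [Field K'] [Algebra k K'] (f : K →ₐ[k] K')
    (h : Curves.Splits k A K) : Curves.Splits k A K' := by
  let : Algebra K K' := f.toRingHom.toAlgebra
  have : IsScalarTower k K K' := IsScalarTower.of_algebraMap_eq (fun x => (f.commutes x).symm)
  exact Splits.of_tower K' h

/-- if `K` splits `A` then it splits `M_n(A)` -/
theorem Splits.matrix (n : ℕ) (hn : n ≠ 0) (h : Curves.Splits k A K) :
    Curves.Splits k (Matrix (Fin n) (Fin n) A) K := by
  obtain ⟨r, hr, ⟨e⟩⟩ := h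
  refine ⟨r * n, Nat.mul_ne_zero hr hn, ⟨?_⟩⟩
  exact (Algebra.TensorProduct.congr (AlgEquiv.refl : K ≃ₐ[K] K) (matrixEquivTensor (Fin n) k A)).trans
    ((Algebra.TensorProduct.assoc k k K K A (Matrix (Fin n) (Fin n) k)).symm.trans
    ((Algebra.TensorProduct.congr e (AlgEquiv.refl : Matrix (Fin n) (Fin n) k ≃ₐ[k] _)).trans
    ((Matrix.kroneckerTMulAlgEquiv (Fin r) (Fin n) k K K k).trans
    ((Algebra.TensorProduct.rid k K K).mapMatrix.trans
    (Matrix.reindexAlgEquiv K K finProdFinEquiv)))))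

end basic

end Groth.Agent.Lib.Helper1.CSA
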