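import Groth.Agent.Lib.Helper1.CSADivision
import Mathlib.Algebra.Central.Matrix
import Mathlib.RingTheory.SimpleModule.WedderburnArtin

set_option autoImplicit false

namespace Groth.Agent.Lib.Helper1.CSA

open TensorProduct

universe u

/-- if `M_n(D)` is central over `k` then so is `D` -/
theorem isCentral_of_matrix (k : Type*) [Field k] (D : Type*) [Ring D] [Algebra k D]
    (n : ℕ) [NeZero n] [Algebra.IsCentral k (Matrix (Fin n) (Fin n) D)] :
    Algebra.IsCentral k D := by
  constructor
  intro d hd
  have h1 : Matrix.scalarAlgHom (Fin n) k d ∈ Subalgebra.center k (Matrix (Fin n) (Fin n) D) := by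
    rw [Matrix.subalgebraCenter_eq_scalarAlgHom_map]
    exact ⟨d, hd, rfl⟩
  have h2 := Algebra.IsCentral.out (K := k) h1
  obtain ⟨c, hc⟩ := Algebra.mem_bot.mp h2
  rw [Algebra.mem_bot]
  refine ⟨c, ?_⟩
  have h3 := congrFun (congrFun hc 0) 0
  simpa [Matrix.algebraMap_matrix_apply] using h3

section maximal

variable (k : Type*) [Field k] (D : Type u) [Ring D] [Algebra k D] [FiniteDimensional k D]

/-- existence of a maximal commutative subalgebra in a finite-dimensional algebra -/
theorem exists_maximal_comm : ∃ L : Subalgebra k D, (∀ x ∈ L, ∀ y ∈ L, x * y = y * x) ∧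
    ∀ L' : Subalgebra k D, (∀ x ∈ L', ∀ y ∈ L', x * y = y * x) → L ≤ L' → L' = L := by
  classical
  let P : ℕ → Prop := fun m => ∃ L : Subalgebra k D,
    (∀ x ∈ L, ∀ y ∈ L, x * y = y * x) ∧ Module.finrank k L = m
  have hbot : P (Module.finrank k (⊥ : Subalgebra k D)) := by
    refine ⟨⊥, ?_, rfl⟩
    intro x hx y hy
    obtain ⟨a, rfl⟩ := Algebra.mem_bot.mp hx
    exact Algebra.commutes a y
  have hle : ∀ L : Subalgebra k D, Module.finrank k L ≤ Module.finrank k D := fun L =>
    Submodule.finrank_le (Subalgebra.toSubmodule L)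
  obtain ⟨L, hL, hLm⟩ := Nat.findGreatest_spec (P := P) (hle ⊥) hbot
  refine ⟨L, hL, fun L' hL' hLL' => ?_⟩
  have h1 : Module.finrank k L' ≤ Nat.findGreatest P (Module.finrank k D) :=
    Nat.le_findGreatest (hle L') ⟨L', hL', rfl⟩
  have h2 : Module.finrank k L ≤ Module.finrank k L' :=
    Submodule.finrank_mono (s := Subalgebra.toSubmodule L) (t := Subalgebra.toSubmodule L') hLL'
  exact (Subalgebra.eq_of_le_of_finrank_eq hLL' (le_antisymm h2 (hLm ▸ h1))).symm

end maximal

section square

variable (k : Type*) [Field k]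

/-- the dimension of a central division algebra is a square -/
theorem exists_finrank_eq_sq_division (D : Type u) [DivisionRing D] [Algebra k D]
    [Algebra.IsCentral k D] [FiniteDimensional k D] :
    ∃ l : ℕ, Module.finrank k D = l ^ 2 := by
  obtain ⟨L, hL, hmax⟩ := exists_maximal_comm k D
  exact ⟨_, finrank_eq_sq_of_maximal_comm k D L hL hmax⟩

/-- **Wedderburn** for central simple algebras: `A ≃ M_n(D)` with `D` a central division
algebra. -/
theorem exists_algEquiv_matrix_central_division (A : Type u) [Ring A] [Algebra k A]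
    [Algebra.IsCentral k A] [IsSimpleRing A] [FiniteDimensional k A] :
    ∃ (n : ℕ) (_ : NeZero n) (D : Type u) (_ : DivisionRing D) (_ : Algebra k D)
      (_ : Module.Finite k D) (_ : Algebra.IsCentral k D),
      Nonempty (A ≃ₐ[k] Matrix (Fin n) (Fin n) D) := by
  have : IsArtinianRing A := IsArtinianRing.of_finite k A
  obtain ⟨n, hn, D, hD, hA, hfin, ⟨e⟩⟩ :=
    IsSimpleRing.exists_algEquiv_matrix_divisionRing_finite k A
  have : Algebra.IsCentral k (Matrix (Fin n) (Fin n) D) := Algebra.IsCentral.of_algEquiv k _ _ e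
  exact ⟨n, hn, D, hD, hA, hfin, isCentral_of_matrix k D n, ⟨e⟩⟩

/-- the dimension of a central simple algebra is a square -/
theorem isSquare_finrank (A : Type u) [Ring A] [Algebra k A]
    [Algebra.IsCentral k A] [IsSimpleRing A] [FiniteDimensional k A] :
    IsSquare (Module.finrank k A) := by
  obtain ⟨n, hn, D, hD, hA, hfin, hc, ⟨e⟩⟩ := exists_algEquiv_matrix_central_division k A
  obtain ⟨l, hl⟩ := exists_finrank_eq_sq_division k D
  refine ⟨n * l, ?_⟩
  rw [e.toLinearEquiv.finrank_eq, Module.finrank_matrix, hl]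
  simp only [Fintype.card_fin]
  ring

end square

end Groth.Agent.Lib.Helper1.CSA
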