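import Groth.Agent.Lib.Helper1.AlgDescent
import Groth.Agent.Lib.Helper1.CSAWedderburn
import Groth.Agent.Lib.Helper1.CSABaseChange
import Groth.Agent.Lib.Helper1.CSASplitBasic
import Groth.Agent.Lib.Helper1.CSAIdeal
import Mathlib.FieldTheory.SeparableClosure
import Mathlib.FieldTheory.Separable

/-!
# Triviality of Brauer groups of finite separable extensions vs. splitting over a big field
-/

set_option autoImplicit false
universe u
open TensorProduct

namespace Groth.Agent.Lib.Helper1.BrauerCd

section dir1

variable (K F : Type u) [Field K] [Field F] [Algebra K F]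

theorem splits_of_trivial
    (ha : ∀ (F' : Type u) [Field F'] [Algebra F F'] [FiniteDimensional F F']
        [Algebra.IsSeparable F F']
        (D : Type u) [DivisionRing D] [Algebra F' D] [Algebra.IsCentral F' D]
        [FiniteDimensional F' D], Module.finrank F' D = 1)
    (E : Type u) [Field E] [Algebra K E] [FiniteDimensional K E] [Algebra.IsSeparable K E]
    (D : Type u) [DivisionRing D] [Algebra E D] [Algebra.IsCentral E D] [FiniteDimensional E D]
    (M : Type u) [Field M] [Algebra K M] [Algebra E M] [Algebra F M] [IsScalarTower K E M]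
    [IsScalarTower K F M] :
    ∃ n : ℕ, Nonempty ((M ⊗[E] D) ≃ₐ[M] Matrix (Fin n) (Fin n) M) := by
  classical
  let b := Module.finBasis K E
  let S : Set M := Set.range (fun i => algebraMap E M (b i))
  have hSfin : Finite S := Set.finite_range _
  let F' : IntermediateField F M := IntermediateField.adjoin F S
  have hint : ∀ x ∈ S, IsIntegral F x := by
    rintro _ ⟨i, rfl⟩
    have h1 : IsIntegral K (b i) := Algebra.IsIntegral.isIntegral (b i)
    have h2 : IsIntegral K (algebraMap E M (b i)) := h1.algebraMap
    exact h2.tower_top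
  have hsepS : ∀ x ∈ S, IsSeparable F x := by
    rintro _ ⟨i, rfl⟩
    have h1 : IsSeparable K (b i) := Algebra.IsSeparable.isSeparable K (b i)
    have h2 : IsSeparable K (algebraMap E M (b i)) := by
      have := minpoly.algebraMap_eq (algebraMap E M).injective (A := K) (b i)
      unfold IsSeparable
      rw [this]
      exact h1
    exact IsSeparable.tower_top F h2
  have hF'fin : FiniteDimensional F F' := IntermediateField.finiteDimensional_adjoin hint
  have hF'sep : Algebra.IsSeparable F F' := by
    rw [← le_separableClosure_iff]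
    rw [IntermediateField.adjoin_le_iff]
    intro x hx
    exact hsepS x hx
  have hrange : ∀ x : E, algebraMap E M x ∈ F' := by
    intro x
    rw [← b.sum_repr x, map_sum]
    refine sum_mem fun i _ => ?_
    rw [Algebra.smul_def, map_mul]
    refine mul_mem ?_ (IntermediateField.subset_adjoin F S ⟨i, rfl⟩)
    rw [← IsScalarTower.algebraMap_apply K E M, IsScalarTower.algebraMap_apply K F M]
    exact F'.algebraMap_mem _
  let iE : E →+* F' := (algebraMap E M).codRestrict F'.toSubfield.toSubring hrange
  let : Algebra E F' := iE.toAlgebra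
  have htower : IsScalarTower E F' M := IsScalarTower.of_algebraMap_eq (fun _ => rfl)
  have hc : Algebra.IsCentral F' (F' ⊗[E] D) := Groth.Agent.Lib.Helper1.CSA.isCentral_baseChange
  have hs : IsSimpleRing (F' ⊗[E] D) := Groth.Agent.Lib.Helper1.CSA.isSimpleRing_tensor E F' D
  obtain ⟨n, hn, D', hD', hDA', hDfin', hDc', ⟨e⟩⟩ :=
    Groth.Agent.Lib.Helper1.CSA.exists_algEquiv_matrix_central_division F' (F' ⊗[E] D)
  have hrank := ha F' D'
  have hbij : Function.Bijective (Algebra.ofId F' D') := by
    have hinj : Function.Injective (Algebra.ofId F' D') := (Algebra.ofId F' D').toRingHom.injective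
    refine ⟨hinj, ?_⟩
    have hdim : Module.finrank F' F' = Module.finrank F' D' := by rw [hrank, Module.finrank_self]
    exact (LinearMap.injective_iff_surjective_of_finrank_eq_finrank
      (f := (Algebra.ofId F' D').toLinearMap) hdim).mp hinj
  let g : F' ≃ₐ[F'] D' := AlgEquiv.ofBijective (Algebra.ofId F' D') hbij
  have hsplit : Curves.Splits E D F' := ⟨n, NeZero.ne n, ⟨e.trans g.symm.mapMatrix⟩⟩
  obtain ⟨r, _, hr⟩ := Groth.Agent.Lib.Helper1.CSA.Splits.of_tower (k := E) (K := F') M hsplit
  exact ⟨r, hr⟩

end dir1

section dir2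

variable (K F : Type u) [Field K] [Field F] [Algebra K F] [Algebra.IsSeparable K F]

theorem trivial_of_splits
    (hb : ∀ (E : Type u) [Field E] [Algebra K E] [FiniteDimensional K E] [Algebra.IsSeparable K E]
        (D : Type u) [DivisionRing D] [Algebra E D] [Algebra.IsCentral E D]
        [FiniteDimensional E D]
        (M : Type u) [Field M] [Algebra K M] [Algebra E M] [Algebra F M] [IsScalarTower K E M]
        [IsScalarTower K F M],
        ∃ n : ℕ, Nonempty ((M ⊗[E] D) ≃ₐ[M] Matrix (Fin n) (Fin n) M))
    (F' : Type u) [Field F'] [Algebra F F'] [FiniteDimensional F F'] [Algebra.IsSeparable F F']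
    (D : Type u) [DivisionRing D] [Algebra F' D] [Algebra.IsCentral F' D]
    [FiniteDimensional F' D] : Module.finrank F' D = 1 := by
  classical
  let : Algebra K F' := ((algebraMap F F').comp (algebraMap K F)).toAlgebra
  have htower : IsScalarTower K F F' := IsScalarTower.of_algebraMap_eq (fun _ => rfl)
  have hsepKF' : Algebra.IsSeparable K F' := Algebra.IsSeparable.trans K F F'
  have halg : Algebra.IsAlgebraic K F' := Algebra.IsSeparable.isAlgebraic K F'
  obtain ⟨E, hEfin, D₀, hD₀fin, ⟨Φ⟩⟩ :=
    Groth.Agent.Lib.Helper1.AlgDescent.exists_descent K F' D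
  have hsepE : Algebra.IsSeparable K E := Algebra.isSeparable_tower_bot_of_isSeparable K E F'
  let : DivisionRing D₀ := divisionRingOfFiniteDimensional E D₀
  have hcF' : Algebra.IsCentral F' (F' ⊗[E] D₀) := Algebra.IsCentral.of_algEquiv F' D _ Φ.symm
  have hc : Algebra.IsCentral E D₀ :=
    Groth.Agent.Lib.Helper1.CSA.isCentral_of_baseChange (K := F') hcF'
  obtain ⟨n, ⟨φ⟩⟩ := hb E D₀ F'
  let g : D ≃ₐ[F'] Matrix (Fin n) (Fin n) F' := Φ.symm.trans φ
  have hdim : Module.finrank F' D = n * n := by
    rw [g.toLinearEquiv.finrank_eq, Module.finrank_matrix]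
    simp
  have hpos : 0 < Module.finrank F' D := Module.finrank_pos
  have hn1 : n < 2 := by
    by_contra hcon
    push_neg at hcon
    let i0 : Fin n := ⟨0, by omega⟩
    let i1 : Fin n := ⟨1, by omega⟩
    have hne : i0 ≠ i1 := by
      intro h
      have := congrArg Fin.val h
      simp [i0, i1] at this
    have hprod : g.symm (Matrix.single i0 i0 1) * g.symm (Matrix.single i1 i1 1) = 0 := by
      rw [← map_mul, Matrix.single_mul_single_of_ne _ _ _ _ hne, map_zero]
    rcases mul_eq_zero.mp hprod with h | h
    · have h2 := congrArg g h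
      rw [AlgEquiv.apply_symm_apply, map_zero] at h2
      have h3 := congrFun (congrFun h2 i0) i0
      simp at h3
    · have h2 := congrArg g h
      rw [AlgEquiv.apply_symm_apply, map_zero] at h2
      have h3 := congrFun (congrFun h2 i1) i1
      simp at h3
  have hn0 : n ≠ 0 := by
    rintro rfl
    rw [hdim] at hpos
    exact lt_irrefl 0 hpos
  have : n = 1 := by omega
  rw [hdim, this]

end dir2

end Groth.Agent.Lib.Helper1.BrauerCd
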