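import Groth.Agent.Lib.Helper1.CSADegree
import Mathlib.Data.Matrix.Composition
import Mathlib.Algebra.BrauerGroup.Defs

set_option autoImplicit false
set_option linter.unusedSectionVars false

namespace Groth.Agent.Lib.Helper1.CSA

open TensorProduct

universe u v w

section tensorMatrix

variable (k : Type*) [Field k] (A : Type v) [Ring A] [Algebra k A]
  (K : Type w) [Field K] [Algebra k K]

/-- `(K ⊗ A) ⊗ M_n(k) ≃ M_n(K ⊗ A)` as `K`-algebras -/
noncomputable def tensorMatrixAux (n : ℕ) :
    (K ⊗[k] A) ⊗[k] Matrix (Fin n) (Fin n) k ≃ₐ[K] Matrix (Fin n) (Fin n) (K ⊗[k] A) :=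
  AlgEquiv.ofRingEquiv (f := (matrixEquivTensor (Fin n) k (K ⊗[k] A)).symm.toRingEquiv) (fun c => by
    change (matrixEquivTensor (Fin n) k (K ⊗[k] A)).symm ((c ⊗ₜ 1) ⊗ₜ 1) = _
    rw [matrixEquivTensor_apply_symm]
    ext i j
    simp [Matrix.algebraMap_matrix_apply, Matrix.one_apply])

/-- `K ⊗ M_n(A) ≃ M_n(K ⊗ A)` as `K`-algebras -/
noncomputable def tensorMatrix (n : ℕ) :
    K ⊗[k] Matrix (Fin n) (Fin n) A ≃ₐ[K] Matrix (Fin n) (Fin n) (K ⊗[k] A) :=
  (Algebra.TensorProduct.congr (AlgEquiv.refl : K ≃ₐ[K] K) (matrixEquivTensor (Fin n) k A)).trans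
    ((Algebra.TensorProduct.assoc k k K K A (Matrix (Fin n) (Fin n) k)).symm.trans
      (tensorMatrixAux k A K n))

end tensorMatrix

section ofMatrix

variable {k : Type*} [Field k] {A : Type v} [Ring A] [Algebra k A]
  [Algebra.IsCentral k A] [IsSimpleRing A] [FiniteDimensional k A]
  {K : Type w} [Field K] [Algebra k K]

/-- if `K` splits `M_n(A)` then it splits `A` -/
theorem Splits.of_matrix (n : ℕ) (hn : n ≠ 0)
    (h : Curves.Splits k (Matrix (Fin n) (Fin n) A) K) : Curves.Splits k A K := by
  obtain ⟨r, hr, ⟨e⟩⟩ := h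
  have hs : IsSimpleRing (K ⊗[k] A) := isSimpleRing_tensor k K A
  have hart : IsArtinianRing (K ⊗[k] A) := IsArtinianRing.of_finite K _
  obtain ⟨s, hs0, D', hD', hA', hfinD', ⟨e1⟩⟩ :=
    IsSimpleRing.exists_algEquiv_matrix_divisionRing_finite K (K ⊗[k] A)
  have : NeZero n := ⟨hn⟩
  have : NeZero r := ⟨hr⟩
  have hns : NeZero (n * s) := ⟨Nat.mul_ne_zero hn (NeZero.ne s)⟩
  let e2 : Matrix (Fin (n * s)) (Fin (n * s)) D' ≃ₐ[K] Matrix (Fin r) (Fin r) K :=
    ((Matrix.reindexAlgEquiv K D' finProdFinEquiv).symm.trans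
      ((Matrix.compAlgEquiv (Fin n) (Fin s) D' K).symm.trans
        (e1.mapMatrix (m := Fin n)).symm)).trans ((tensorMatrix k A K n).symm.trans e)
  obtain ⟨e3⟩ := nonempty_algEquiv_of_matrix_algEquiv K D' K (n * s) r e2
  exact ⟨s, NeZero.ne s, ⟨e1.trans e3.mapMatrix⟩⟩

end ofMatrix

section brauerSplit

variable (k : Type u) [Field k]

/-- if `K` embeds in `B` with `dim B = [K:k]^2` and `A` is Brauer equivalent to `B`, then `K`
splits `A` -/
theorem splits_of_brauer (A B : CSA.{u, u} k) (K : Type u) [Field K] [Algebra k K]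
    [FiniteDimensional k K] (f : K →ₐ[k] B) (hAB : IsBrauerEquivalent A B)
    (hdim : Module.finrank k B = Module.finrank k K ^ 2) : Curves.Splits k A K := by
  obtain ⟨n, m, hn, hm, ⟨e⟩⟩ := hAB
  have h1 : Curves.Splits k B K := splits_of_finrank_eq_sq k B K f hdim
  have h2 := Splits.matrix (k := k) (K := K) m hm h1
  have h3 := Splits.of_algEquiv (K := K) e.symm h2
  exact Splits.of_matrix n hn h3

end brauerSplit

section smulEnd

variable {k : Type*} [Field k] {D : Type v} [DivisionRing D] [Algebra k D]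
  {K : Type w} [Field K] [Algebra k K]

open Matrix.Module

/-- scalar multiplication by `K` as `D`-linear endomorphisms of `Kⁿ` (with `D` acting through a
splitting) -/
noncomputable def splitScalar (n : ℕ) (e : K ⊗[k] D ≃ₐ[K] Matrix (Fin n) (Fin n) K) :
    K →ₐ[k] Module.End D (ModVia (splitAct k D K n e)) where
  toFun l :=
    { toFun := fun v => ((l • (show Fin n → K from v) : Fin n → K))
      map_add' := fun v w => smul_add l (show Fin n → K from v) (show Fin n → K from w)
      map_smul' := fun x v => by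
        change l • ((e ((1 : K) ⊗ₜ[k] x)) • (show Fin n → K from v)) =
          (e ((1 : K) ⊗ₜ[k] x)) • (l • (show Fin n → K from v))
        rw [smul_comm] }
  map_one' := by
    ext v
    change ((1 : K) • (show Fin n → K from v) : Fin n → K) = v
    rw [one_smul]
  map_mul' l l' := by
    ext v
    change ((l * l') • (show Fin n → K from v) : Fin n → K) = l • (l' • (show Fin n → K from v))
    rw [mul_smul]
  map_zero' := by
    ext v
    change ((0 : K) • (show Fin n → K from v) : Fin n → K) = 0
    rw [zero_smul]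
  map_add' l l' := by
    ext v
    change ((l + l') • (show Fin n → K from v) : Fin n → K) =
      l • (show Fin n → K from v) + l' • (show Fin n → K from v)
    rw [add_smul]
  commutes' c := by
    ext v
    change ((algebraMap k K c) • (show Fin n → K from v) : Fin n → K) =
      c • (show Fin n → K from v)
    rw [algebraMap_smul]

end smulEnd

section brauerExists

open Matrix.Module

variable (k : Type u) [Field k]

/-- a splitting field `K` of a central division algebra `D` embeds in some `M_m(D)` of dimension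
`[K:k]^2` -/
theorem exists_embedding_of_splits_division (D : Type u) [DivisionRing D] [Algebra k D]
    [Algebra.IsCentral k D] [FiniteDimensional k D] (K : Type u) [Field K] [Algebra k K]
    [FiniteDimensional k K] (hs : Curves.Splits k D K) :
    ∃ (m : ℕ) (_ : m ≠ 0) (_ : K →ₐ[k] Matrix (Fin m) (Fin m) D),
      Module.finrank k (Matrix (Fin m) (Fin m) D) = Module.finrank k K ^ 2 := by
  obtain ⟨d, hd, ⟨e⟩⟩ := hs
  have hdim : Module.finrank k D = d ^ 2 := by
    have h1 := e.toLinearEquiv.finrank_eq
    rw [Module.finrank_baseChange, Module.finrank_matrix] at h1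
    simp only [Fintype.card_fin, Module.finrank_self, mul_one] at h1
    rw [h1, pow_two]
  set V := ModVia (splitAct k D K d e) with hV
  have hVk : Module.finrank k V = d * Module.finrank k K := by
    change Module.finrank k (Fin d → K) = _
    rw [Module.finrank_pi_fintype]
    simp
  have hVD := Module.finrank_mul_finrank k D V
  set m := Module.finrank D V with hm
  have hdpos : 0 < d := Nat.pos_of_ne_zero hd
  have hKm : Module.finrank k K = d * m := by
    rw [hVk, hdim, pow_two, mul_assoc] at hVD
    exact (Nat.eq_of_mul_eq_mul_left hdpos hVD).symm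
  have hm0 : m ≠ 0 := by
    intro h0
    have : 0 < Module.finrank k K := Module.finrank_pos
    rw [hKm, h0, mul_zero] at this
    exact lt_irrefl 0 this
  have : Module.Finite D V := Module.Finite.of_restrictScalars_finite k D V
  let b : Module.Basis (Fin m) D V := Module.finBasis D V
  let Θ : Module.End D V ≃ₐ[k] (Matrix (Fin m) (Fin m) D)ᵐᵒᵖ :=
    (b.equivFun.conjAlgEquiv k).trans ((endVecAlgEquivMatrixEnd (Fin m) k D D).trans
      ((AlgEquiv.moduleEndSelf k).symm.mapMatrix.trans AlgEquiv.mopMatrix))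
  let g : K →ₐ[k] (Matrix (Fin m) (Fin m) D)ᵐᵒᵖ := Θ.toAlgHom.comp (splitScalar d e)
  have hg : ∀ x y, Commute (g x) (g y) := by
    intro x y
    change g x * g y = g y * g x
    rw [← map_mul, ← map_mul, mul_comm]
  refine ⟨m, hm0, ((AlgEquiv.opOp k (Matrix (Fin m) (Fin m) D)).symm.toAlgHom).comp
    (g.toOpposite hg), ?_⟩
  rw [Module.finrank_matrix, hdim, hKm]
  simp only [Fintype.card_fin]
  ring

/-- if `K` splits `A`, some algebra Brauer equivalent to `A` contains `K` as a subfield of
maximal dimension -/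
theorem exists_brauer_of_splits (A : CSA.{u, u} k) (K : Type u) [Field K] [Algebra k K]
    [FiniteDimensional k K] (hs : Curves.Splits k A K) :
    ∃ (B : CSA.{u, u} k) (_ : K →ₐ[k] B), IsBrauerEquivalent A B ∧
      Module.finrank k B = Module.finrank k K ^ 2 := by
  obtain ⟨n, hn, D, hD, hA, hfin, hc, ⟨e⟩⟩ := exists_algEquiv_matrix_central_division k A
  have hsD : Curves.Splits k D K :=
    Splits.of_matrix n (NeZero.ne n) (Splits.of_algEquiv (K := K) e hs)
  obtain ⟨m, hm0, f, hdim⟩ := exists_embedding_of_splits_division k D K hsD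
  have : Nonempty (Fin m) := ⟨⟨0, Nat.pos_of_ne_zero hm0⟩⟩
  have hsimple : IsSimpleRing (Matrix (Fin m) (Fin m) D) := IsSimpleRing.matrix _ _
  refine ⟨{ toAlgCat := AlgCat.of k (Matrix (Fin m) (Fin m) D)
            isCentral := inferInstanceAs (Algebra.IsCentral k (Matrix (Fin m) (Fin m) D))
            isSimple := hsimple
            fin_dim := inferInstanceAs (FiniteDimensional k (Matrix (Fin m) (Fin m) D)) },
    f, ⟨m, n, hm0, NeZero.ne n, ⟨?_⟩⟩, hdim⟩
  exact (e.mapMatrix (m := Fin m)).trans ((Matrix.compAlgEquiv (Fin m) (Fin n) D k).trans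
    ((Matrix.reindexAlgEquiv k D (Equiv.prodComm (Fin m) (Fin n))).trans
      (Matrix.compAlgEquiv (Fin n) (Fin m) D k).symm))

end brauerExists

end Groth.Agent.Lib.Helper1.CSA
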