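import Groth.Agent.Lib.Helper1.CSASkolem
import Mathlib.Algebra.Algebra.Subalgebra.Centralizer
import Mathlib.LinearAlgebra.Matrix.ToLin
import Mathlib.RingTheory.SimpleRing.Matrix
import Mathlib.RingTheory.SimpleModule.Basic
import Mathlib.RingTheory.SimpleRing.Congr
import Mathlib.LinearAlgebra.Dimension.Free
import Mathlib.LinearAlgebra.FiniteDimensional.Lemmas

set_option autoImplicit false

namespace Groth.Agent.Lib.Helper1.CSA

open TensorProduct

universe u

section centEnd

variable {k : Type*} [Field k] {A : Type u} [Ring A] [Algebra k A] (B : Subalgebra k A)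

/-- left multiplication by `c ∈ C_A(B)` as a `B ⊗ Aᵐᵒᵖ`-linear endomorphism of `A`. -/
noncomputable def centLmul (c : Subalgebra.centralizer k (B : Set A)) :
    Module.End (B ⊗[k] Aᵐᵒᵖ) (ModVia (actHom B.val)) where
  toFun v := ((c : A) * (show A from v) : A)
  map_add' x y := mul_add (c : A) x y
  map_smul' r v := by
    change (c : A) * (actHom B.val r (show A from v)) = actHom B.val r ((c : A) * (show A from v))
    induction r using TensorProduct.induction_on with
    | zero => simp
    | add x y hx hy => simp only [map_add, LinearMap.add_apply, mul_add, hx, hy]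
    | tmul b a =>
      have hc : (b : A) * (c : A) = c * b := (Subalgebra.mem_centralizer_iff k).mp c.2 b b.2
      simp only [actHom_tmul, Subalgebra.coe_val]
      rw [← mul_assoc, ← mul_assoc, ← mul_assoc, hc]

theorem centLmul_apply (c : Subalgebra.centralizer k (B : Set A)) (v : A) :
    centLmul B c v = (c : A) * v := rfl

/-- `C_A(B) → End_{B ⊗ Aᵐᵒᵖ}(A)` as an algebra map. -/
noncomputable def centToEnd : Subalgebra.centralizer k (B : Set A) →ₐ[k]
    Module.End (B ⊗[k] Aᵐᵒᵖ) (ModVia (actHom B.val)) where
  toFun := centLmul B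
  map_one' := by
    ext v
    change ((1 : A) * (show A from v) : A) = v
    rw [one_mul]
  map_mul' c c' := by
    ext v
    change (((c : A) * (c' : A)) * (show A from v) : A) = (c : A) * ((c' : A) * (show A from v))
    rw [mul_assoc]
  map_zero' := by
    ext v
    change ((0 : A) * (show A from v) : A) = 0
    rw [zero_mul]
  map_add' c c' := by
    ext v
    change (((c : A) + (c' : A)) * (show A from v) : A) =
      (c : A) * (show A from v) + (c' : A) * (show A from v)
    rw [add_mul]
  commutes' r := by
    ext v
    change ((algebraMap k A r) * (show A from v) : A) = (r • (show A from v) : A)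
    rw [Algebra.smul_def]

theorem centToEnd_apply (c : Subalgebra.centralizer k (B : Set A)) (v : A) :
    centToEnd B c v = (c : A) * v := rfl

theorem centToEnd_bijective : Function.Bijective (centToEnd B) := by
  constructor
  · intro c c' h
    have := LinearMap.congr_fun h (1 : A)
    rw [centToEnd_apply, centToEnd_apply, mul_one, mul_one] at this
    exact Subtype.ext this
  · intro φ
    let f : A → A := fun v => φ v
    have h1 : ∀ (b : B) (a : A) (v : A), f ((b : A) * v * a) = (b : A) * f v * a := by
      intro b a v
      have := φ.map_smul (b ⊗ₜ[k] MulOpposite.op a) v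
      rw [ModVia.smul_def, ModVia.smul_def, actHom_tmul, actHom_tmul] at this
      exact this
    have hφ : ∀ v : A, f v = f 1 * v := by
      intro v
      have := h1 1 v 1
      simpa using this
    have hcC : f 1 ∈ Subalgebra.centralizer k (B : Set A) := by
      rw [Subalgebra.mem_centralizer_iff]
      intro b hb
      have h2 := h1 ⟨b, hb⟩ 1 1
      rw [mul_one, mul_one, mul_one] at h2
      change f b = b * f 1 at h2
      rw [hφ b] at h2
      exact h2.symm
    refine ⟨⟨f 1, hcC⟩, ?_⟩
    ext v
    rw [centToEnd_apply]
    exact (hφ v).symm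

/-- `C_A(B) ≃ End_{B ⊗ Aᵐᵒᵖ}(A)`. -/
noncomputable def centEquivEnd : Subalgebra.centralizer k (B : Set A) ≃ₐ[k]
    Module.End (B ⊗[k] Aᵐᵒᵖ) (ModVia (actHom B.val)) :=
  AlgEquiv.ofBijective (centToEnd B) (centToEnd_bijective B)

end centEnd

section structureDim

variable (k : Type*) [Field k] (R : Type u) [Ring R] [Algebra k R] [IsSimpleRing R]
  [FiniteDimensional k R]

/-- structure of finite modules and their endomorphism algebras over a finite-dimensional simple
algebra. -/
theorem exists_structure : ∃ (I : Ideal R) (_ : IsSimpleModule R I),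
    ∀ (M : Type u) [AddCommGroup M] [Module k M] [Module R M] [IsScalarTower k R M]
      [FiniteDimensional k M],
      ∃ n : ℕ, Nonempty (M ≃ₗ[R] (Fin n → I)) ∧
        Nonempty (Module.End R M ≃ₐ[k] Matrix (Fin n) (Fin n) (Module.End R I)) := by
  have : IsArtinianRing R := IsArtinianRing.of_finite k R
  obtain ⟨I, hI, h⟩ := exists_simple_decomp R
  refine ⟨I, hI, fun M _ _ _ _ _ => ?_⟩
  have : Module.Finite R M := Module.Finite.of_restrictScalars_finite k R M
  obtain ⟨n, ⟨e⟩⟩ := h M
  exact ⟨n, ⟨e⟩, ⟨(e.conjAlgEquiv k).trans (endVecAlgEquivMatrixEnd (Fin n) k R I)⟩⟩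

/-- For a module `M` over a finite-dimensional simple algebra `R`:
`(dim M)^2 = dim R * dim End_R(M)`. -/
theorem finrank_sq_eq (M : Type u) [AddCommGroup M] [Module k M] [Module R M]
    [IsScalarTower k R M] [FiniteDimensional k M] :
    Module.finrank k M ^ 2 = Module.finrank k R * Module.finrank k (Module.End R M) := by
  obtain ⟨I, hI, h⟩ := exists_structure k R
  obtain ⟨n, ⟨e⟩, ⟨eE⟩⟩ := h M
  obtain ⟨r, ⟨eR⟩, ⟨eER⟩⟩ := h R
  have : FiniteDimensional k I :=
    Module.Finite.of_injective (I.subtype.restrictScalars k) I.injective_subtype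
  set s := Module.finrank k I with hs
  set δ := Module.finrank k (Module.End R I) with hδ
  have h1 : Module.finrank k M = n * s := by
    rw [(e.restrictScalars k).finrank_eq, Module.finrank_pi_fintype]
    simp [hs]
  have h2 : Module.finrank k (Module.End R M) = n * n * δ := by
    rw [eE.toLinearEquiv.finrank_eq, Module.finrank_matrix]
    simp [hδ]
  have h3 : Module.finrank k R = r * s := by
    rw [(eR.restrictScalars k).finrank_eq, Module.finrank_pi_fintype]
    simp [hs]
  have h4 : Module.finrank k R = r * r * δ := by
    have e1 : Module.finrank k R = Module.finrank k (Module.End R R) := by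
      rw [← (AlgEquiv.moduleEndSelf k (A := R)).toLinearEquiv.finrank_eq,
        ← (MulOpposite.opLinearEquiv k (M := R)).finrank_eq]
    rw [e1, eER.toLinearEquiv.finrank_eq, Module.finrank_matrix]
    simp [hδ]
  have hpos : 0 < Module.finrank k R := Module.finrank_pos
  have hr : 0 < r := by
    rcases Nat.eq_zero_or_pos r with h0 | h0
    · rw [h3, h0, zero_mul] at hpos
      exact absurd hpos (lt_irrefl 0)
    · exact h0
  have h5 : s = r * δ := by
    have : r * s = r * (r * δ) := by rw [← h3, h4, mul_assoc]
    exact Nat.eq_of_mul_eq_mul_left hr this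
  rw [h1, h2, h3, h5]
  ring

end structureDim

section centralizerThm

variable (k : Type*) [Field k] (A : Type u) [Ring A] [Algebra k A]
  [Algebra.IsCentral k A] [IsSimpleRing A] [FiniteDimensional k A]
  (B : Subalgebra k A) [IsSimpleRing B]

/-- The centralizer of a simple subalgebra of a central simple algebra is simple. -/
theorem isSimpleRing_centralizer : IsSimpleRing (Subalgebra.centralizer k (B : Set A)) := by
  have : IsSimpleRing (B ⊗[k] Aᵐᵒᵖ) := isSimpleRing_tensor k B Aᵐᵒᵖ
  obtain ⟨I, hI, h⟩ := exists_structure k (B ⊗[k] Aᵐᵒᵖ)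
  obtain ⟨n, ⟨e⟩, ⟨eE⟩⟩ := h (ModVia (actHom B.val))
  have hn : n ≠ 0 := by
    rintro rfl
    have h1 : (1 : A) = 0 := by
      have : e (1 : A) = e (0 : A) := Subsingleton.elim _ _
      exact e.injective this
    exact one_ne_zero h1
  have : Nonempty (Fin n) := ⟨⟨0, Nat.pos_of_ne_zero hn⟩⟩
  classical
  have hD : IsSimpleRing (Module.End (B ⊗[k] Aᵐᵒᵖ) I) :=
    DivisionRing.isSimpleRing (Module.End (B ⊗[k] Aᵐᵒᵖ) I)
  have : IsSimpleRing (Matrix (Fin n) (Fin n) (Module.End (B ⊗[k] Aᵐᵒᵖ) I)) :=
    IsSimpleRing.matrix _ _
  exact IsSimpleRing.of_ringEquiv ((centEquivEnd B).trans eE).symm.toRingEquiv this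

/-- `dim A = dim B * dim C_A(B)`. -/
theorem finrank_eq_mul_centralizer :
    Module.finrank k A =
      Module.finrank k B * Module.finrank k (Subalgebra.centralizer k (B : Set A)) := by
  have : IsSimpleRing (B ⊗[k] Aᵐᵒᵖ) := isSimpleRing_tensor k B Aᵐᵒᵖ
  have h := finrank_sq_eq k (B ⊗[k] Aᵐᵒᵖ) (ModVia (actHom B.val))
  have h1 : Module.finrank k (ModVia (actHom B.val)) = Module.finrank k A := rfl
  have h2 : Module.finrank k (B ⊗[k] Aᵐᵒᵖ) = Module.finrank k B * Module.finrank k A := by
    rw [Module.finrank_tensorProduct, ← (MulOpposite.opLinearEquiv k (M := A)).finrank_eq]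
  have h3 : Module.finrank k (Module.End (B ⊗[k] Aᵐᵒᵖ) (ModVia (actHom B.val))) =
      Module.finrank k (Subalgebra.centralizer k (B : Set A)) :=
    ((centEquivEnd B).toLinearEquiv.finrank_eq).symm
  rw [h1, h2, h3] at h
  have hpos : 0 < Module.finrank k A := Module.finrank_pos
  have : Module.finrank k A * Module.finrank k A = Module.finrank k A *
      (Module.finrank k B * Module.finrank k (Subalgebra.centralizer k (B : Set A))) := by
    rw [← pow_two, h]
    ring
  exact Nat.eq_of_mul_eq_mul_left hpos this

end centralizerThm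

section doubleCentralizer

variable (k : Type*) [Field k] (A : Type u) [Ring A] [Algebra k A]
  [Algebra.IsCentral k A] [IsSimpleRing A] [FiniteDimensional k A]
  (B : Subalgebra k A) [IsSimpleRing B]

/-- **Double centralizer theorem**. -/
theorem centralizer_centralizer :
    Subalgebra.centralizer k (Subalgebra.centralizer k (B : Set A) : Set A) = B := by
  have hC : IsSimpleRing (Subalgebra.centralizer k (B : Set A)) := isSimpleRing_centralizer k A B
  have h1 := finrank_eq_mul_centralizer k A B
  have h2 := finrank_eq_mul_centralizer k A (Subalgebra.centralizer k (B : Set A))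
  have hpos : 0 < Module.finrank k (Subalgebra.centralizer k (B : Set A)) := Module.finrank_pos
  have h3 : Module.finrank k B = Module.finrank k
      (Subalgebra.centralizer k (Subalgebra.centralizer k (B : Set A) : Set A)) := by
    have : Module.finrank k (Subalgebra.centralizer k (B : Set A)) * Module.finrank k B =
        Module.finrank k (Subalgebra.centralizer k (B : Set A)) * Module.finrank k
          (Subalgebra.centralizer k (Subalgebra.centralizer k (B : Set A) : Set A)) := by
      rw [← h2, mul_comm, ← h1]
    exact Nat.eq_of_mul_eq_mul_left hpos this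
  exact (Subalgebra.eq_of_le_of_finrank_eq (Subalgebra.le_centralizer_centralizer k) h3).symm

/-- If moreover `B` is central, then `B ⊗ C_A(B) ≃ A`. -/
theorem tensor_centralizer_bijective [Algebra.IsCentral k B] :
    Function.Bijective (Algebra.TensorProduct.lift B.val (Subalgebra.centralizer k (B : Set A)).val
      (fun x y => y.2 x.1 x.2)) := by
  have hC : IsSimpleRing (Subalgebra.centralizer k (B : Set A)) := isSimpleRing_centralizer k A B
  have hCB : IsSimpleRing (Subalgebra.centralizer k (B : Set A) ⊗[k] B) :=
    isSimpleRing_tensor k (Subalgebra.centralizer k (B : Set A)) B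
  have hBC : IsSimpleRing (B ⊗[k] Subalgebra.centralizer k (B : Set A)) :=
    IsSimpleRing.of_ringEquiv
      (Algebra.TensorProduct.comm k (Subalgebra.centralizer k (B : Set A)) B).toRingEquiv hCB
  set f := Algebra.TensorProduct.lift B.val (Subalgebra.centralizer k (B : Set A)).val
      (fun x y => y.2 x.1 x.2) with hf
  have hinj : Function.Injective f := RingHom.injective f.toRingHom
  have hdim : Module.finrank k (B ⊗[k] Subalgebra.centralizer k (B : Set A)) =
      Module.finrank k A := by
    rw [Module.finrank_tensorProduct, ← finrank_eq_mul_centralizer k A B]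
  exact ⟨hinj, (LinearMap.injective_iff_surjective_of_finrank_eq_finrank
    (f := f.toLinearMap) hdim).mp hinj⟩

end doubleCentralizer

end Groth.Agent.Lib.Helper1.CSA
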