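import Groth.Agent.Lib.Helper1.CSASplitField
import Mathlib.LinearAlgebra.Matrix.Module
import Mathlib.LinearAlgebra.Dimension.Free

set_option autoImplicit false
set_option linter.unusedSectionVars false

namespace Groth.Agent.Lib.Helper1.CSA

open TensorProduct

universe u v w

section degree

open Matrix.Module

variable (k : Type*) [Field k] (D : Type v) [DivisionRing D] [Algebra k D]
  [FiniteDimensional k D] (K : Type w) [Field K] [Algebra k K] [FiniteDimensional k K]

/-- the action of `D` on `Kⁿ` coming from a splitting `K ⊗ D ≃ M_n(K)` -/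
noncomputable def splitAct (n : ℕ) (e : K ⊗[k] D ≃ₐ[K] Matrix (Fin n) (Fin n) K) :
    D →ₐ[k] Module.End k (Fin n → K) :=
  (Algebra.lsmul k k (Fin n → K)).comp
    ((e.toAlgHom.restrictScalars k).comp Algebra.TensorProduct.includeRight)

/-- the degree of a splitting field of a division algebra of dimension `d^2` is divisible
by `d` -/
theorem dvd_finrank_of_splits (d : ℕ) (hd : Module.finrank k D = d ^ 2)
    (hs : Curves.Splits k D K) : d ∣ Module.finrank k K := by
  obtain ⟨n, hn, ⟨e⟩⟩ := hs
  have hnd : n = d := by
    have h1 := e.toLinearEquiv.finrank_eq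
    rw [Module.finrank_baseChange, Module.finrank_matrix, hd] at h1
    simp only [Fintype.card_fin, Module.finrank_self, mul_one] at h1
    rw [pow_two] at h1
    exact (Nat.mul_self_inj.mp h1).symm
  have hdpos : 0 < d := by
    rcases Nat.eq_zero_or_pos d with h0 | h0
    · exact absurd (hnd.trans h0) hn
    · exact h0
  have h2 := Module.finrank_mul_finrank k D (ModVia (splitAct k D K n e))
  have h3 : Module.finrank k (ModVia (splitAct k D K n e)) = n * Module.finrank k K := by
    change Module.finrank k (Fin n → K) = _
    rw [Module.finrank_pi_fintype]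
    simp
  subst hnd
  rw [h3, hd, pow_two, mul_assoc] at h2
  have h4 := Nat.eq_of_mul_eq_mul_left hdpos h2
  exact ⟨_, h4.symm⟩

end degree

end Groth.Agent.Lib.Helper1.CSA
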