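import Groth.Agent.Lib.Helper1.CSASplitField
import Mathlib.RingTheory.Flat.Basic
import Mathlib.RingTheory.Ideal.Quotient.Operations
import Mathlib.LinearAlgebra.Basis.VectorSpace

set_option autoImplicit false

namespace Groth.Agent.Lib.Helper1.CSA

open TensorProduct

universe u v w

/-- universe-polymorphic transfer of centrality along an algebra isomorphism -/
theorem isCentral_of_algEquiv' {K : Type*} [CommSemiring K] {D : Type*} {D' : Type*} [Semiring D]
    [Algebra K D] [Semiring D'] [Algebra K D'] [h : Algebra.IsCentral K D] (e : D ≃ₐ[K] D') :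
    Algebra.IsCentral K D' := by
  constructor
  intro x hx
  have h1 : e.symm x ∈ Subalgebra.center K D := by
    rw [Subalgebra.mem_center_iff] at hx ⊢
    intro y
    have := hx (e y)
    apply e.injective
    rw [map_mul, map_mul, e.apply_symm_apply]
    exact this
  obtain ⟨c, hc⟩ := Algebra.mem_bot.mp (h.out h1)
  rw [Algebra.mem_bot]
  refine ⟨c, ?_⟩
  have := congrArg e hc
  rwa [e.commutes, e.apply_symm_apply] at this

section descent

variable {k : Type u} [Field k] {A : Type v} [Ring A] [Algebra k A]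
  {K : Type w} [Field K] [Algebra k K]

theorem finiteDimensional_of_splits (h : Curves.Splits k A K) : FiniteDimensional k A := by
  obtain ⟨n, hn, ⟨e⟩⟩ := h
  have h1 : Module.Finite K (K ⊗[k] A) := Module.Finite.equiv e.symm.toLinearEquiv
  have h2 := Module.rank_lt_aleph0_iff.mpr h1
  rw [Module.rank_baseChange] at h2
  exact Module.rank_lt_aleph0_iff.mp (Cardinal.lift_lt_aleph0.mp h2)

theorem nontrivial_of_splits (h : Curves.Splits k A K) : Nontrivial A := by
  obtain ⟨n, hn, ⟨e⟩⟩ := h
  have : Nonempty (Fin n) := ⟨⟨0, Nat.pos_of_ne_zero hn⟩⟩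
  have h1 : Nontrivial (K ⊗[k] A) := e.toEquiv.nontrivial
  by_contra hA
  rw [not_nontrivial_iff_subsingleton] at hA
  have : Subsingleton (K ⊗[k] A) := by
    refine ⟨fun x y => ?_⟩
    have h0 : ∀ z : K ⊗[k] A, z = 0 := by
      intro z
      induction z using TensorProduct.induction_on with
      | zero => rfl
      | tmul c a => rw [Subsingleton.elim a 0, TensorProduct.tmul_zero]
      | add x y hx hy => rw [hx, hy, add_zero]
    rw [h0 x, h0 y]
  exact not_subsingleton _ this

theorem isSimpleRing_of_splits (h : Curves.Splits k A K) : IsSimpleRing A := by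
  have hnt := nontrivial_of_splits h
  obtain ⟨n, hn, ⟨e⟩⟩ := h
  have : Nonempty (Fin n) := ⟨⟨0, Nat.pos_of_ne_zero hn⟩⟩
  have hM : IsSimpleRing (Matrix (Fin n) (Fin n) K) := IsSimpleRing.matrix _ _
  have hKA : IsSimpleRing (K ⊗[k] A) := IsSimpleRing.of_ringEquiv e.symm.toRingEquiv hM
  refine IsSimpleRing.of_eq_bot_or_eq_top fun I => ?_
  by_cases hI : I = ⊤
  · exact Or.inr hI
  left
  have hJ : I.asIdeal ≠ ⊤ := by
    intro hJ
    apply hI
    rw [eq_top_iff]
    intro x _
    have : x ∈ I.asIdeal := hJ ▸ Submodule.mem_top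
    exact (TwoSidedIdeal.mem_asIdeal).mp this
  have hQ : Nontrivial (A ⧸ I.asIdeal) := Ideal.Quotient.nontrivial_iff.mpr hJ
  have hKQ : Nontrivial (K ⊗[k] (A ⧸ I.asIdeal)) := nontrivial_tensor k K _
  let g : K ⊗[k] A →ₐ[K] K ⊗[k] (A ⧸ I.asIdeal) :=
    Algebra.TensorProduct.map (AlgHom.id K K) (Ideal.Quotient.mkₐ k I.asIdeal)
  have hg : Function.Injective g := RingHom.injective g.toRingHom
  rw [eq_bot_iff]
  intro a ha
  rw [TwoSidedIdeal.mem_bot]
  have h1 : g (1 ⊗ₜ a) = 0 := by
    change (1 : K) ⊗ₜ[k] (Ideal.Quotient.mk I.asIdeal a) = 0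
    rw [Ideal.Quotient.eq_zero_iff_mem.mpr (TwoSidedIdeal.mem_asIdeal.mpr ha),
      TensorProduct.tmul_zero]
  have h2 : (1 : K) ⊗ₜ[k] a = 0 := hg (by rw [h1, map_zero])
  have hinj : Function.Injective (Algebra.TensorProduct.includeRight : A →ₐ[k] K ⊗[k] A) :=
    Algebra.TensorProduct.includeRight_injective (FaithfulSMul.algebraMap_injective k K)
  exact hinj (by rw [map_zero]; exact h2)

theorem isCentral_of_splits (h : Curves.Splits k A K) : Algebra.IsCentral k A := by
  obtain ⟨n, hn, ⟨e⟩⟩ := h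
  have hKA : Algebra.IsCentral K (K ⊗[k] A) := isCentral_of_algEquiv' e.symm
  constructor
  intro z hz
  rw [Subalgebra.mem_center_iff] at hz
  have h1 : (1 : K) ⊗ₜ[k] z ∈ Subalgebra.center K (K ⊗[k] A) := by
    rw [Subalgebra.mem_center_iff]
    intro x
    induction x using TensorProduct.induction_on with
    | zero => simp
    | tmul c a =>
      rw [Algebra.TensorProduct.tmul_mul_tmul, Algebra.TensorProduct.tmul_mul_tmul, hz a,
        mul_comm]
    | add x y hx hy => rw [add_mul, mul_add, hx, hy]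
  obtain ⟨c, hc⟩ := Algebra.mem_bot.mp (hKA.out h1)
  rw [Algebra.TensorProduct.algebraMap_apply] at hc
  by_contra hz'
  have hz'' : z ∉ Submodule.span k {(1 : A)} := by
    intro hmem
    obtain ⟨r, hr⟩ := Submodule.mem_span_singleton.mp hmem
    apply hz'
    rw [Algebra.mem_bot]
    exact ⟨r, by rw [Algebra.algebraMap_eq_smul_one, hr]⟩
  obtain ⟨φ, hφz, hφ⟩ := Submodule.exists_le_ker_of_notMem hz''
  have hφ1 : φ 1 = 0 := hφ (Submodule.mem_span_singleton_self 1)
  have h2 := congrArg (LinearMap.lTensor K φ) hc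
  rw [LinearMap.lTensor_tmul, LinearMap.lTensor_tmul, hφ1, TensorProduct.tmul_zero] at h2
  have h3 := congrArg (TensorProduct.rid k K) h2
  rw [map_zero, TensorProduct.rid_tmul] at h3
  rw [eq_comm, smul_eq_zero] at h3
  rcases h3 with h3 | h3
  · exact hφz h3
  · exact one_ne_zero h3

end descent

end Groth.Agent.Lib.Helper1.CSA
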