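import Groth.Agent.Lib.Helper1.CSACentralizer
import Mathlib.Algebra.Algebra.Subalgebra.Lattice

set_option autoImplicit false

namespace Groth.Agent.Lib.Helper1.CSA

open TensorProduct

universe u

/-- a nontrivial ring in which every nonzero element has a right inverse is simple -/
theorem isSimpleRing_of_exists_mul_eq_one (R : Type*) [Ring R] [Nontrivial R]
    (h : ∀ x : R, x ≠ 0 → ∃ y, x * y = 1) : IsSimpleRing R := by
  refine IsSimpleRing.of_eq_bot_or_eq_top fun I => ?_
  by_cases hI : I = ⊥
  · exact Or.inl hI
  · right
    have : ∃ x ∈ I, x ≠ 0 := by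
      by_contra hcon
      apply hI
      rw [eq_bot_iff]
      intro x hx
      rw [TwoSidedIdeal.mem_bot]
      by_contra hx0
      exact hcon ⟨x, hx, hx0⟩
    obtain ⟨x, hx, hx0⟩ := this
    obtain ⟨y, hy⟩ := h x hx0
    rw [eq_top_iff]
    intro z _
    have h1 : (1 : R) ∈ I := hy ▸ I.mul_mem_right x y hx
    have := I.mul_mem_left z 1 h1
    rwa [mul_one] at this

section division

variable (k : Type*) [Field k] (D : Type u) [DivisionRing D] [Algebra k D]

/-- a finite-dimensional subalgebra of a division algebra is a simple ring -/
theorem isSimpleRing_subalgebra_of_division (L : Subalgebra k D) [FiniteDimensional k L] :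
    IsSimpleRing L := by
  apply isSimpleRing_of_exists_mul_eq_one
  intro x hx
  let f : L →ₗ[k] L := LinearMap.mulLeft k x
  have hinj : Function.Injective f := by
    intro a b hab
    have h1 : (x : D) * a = x * b := congrArg Subtype.val hab
    have hx' : (x : D) ≠ 0 := fun h0 => hx (Subtype.ext h0)
    exact Subtype.ext (mul_left_cancel₀ hx' h1)
  obtain ⟨y, hy⟩ := (LinearMap.injective_iff_surjective (f := f)).mp hinj 1
  exact ⟨y, hy⟩

end division

section maxComm

variable (k : Type*) [Field k] (D : Type u) [Ring D] [Algebra k D]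

/-- a maximal commutative subalgebra is its own centralizer -/
theorem centralizer_eq_of_maximal_comm (L : Subalgebra k D)
    (hcomm : ∀ x ∈ L, ∀ y ∈ L, x * y = y * x)
    (hmax : ∀ L' : Subalgebra k D, (∀ x ∈ L', ∀ y ∈ L', x * y = y * x) → L ≤ L' → L' = L) :
    Subalgebra.centralizer k (L : Set D) = L := by
  apply le_antisymm
  · intro x hx
    rw [Subalgebra.mem_centralizer_iff] at hx
    set s : Set D := insert x (L : Set D) with hs
    have hs_comm : ∀ a ∈ s, ∀ b ∈ s, a * b = b * a := by
      intro a ha b hb
      rcases ha with rfl | ha <;> rcases hb with rfl | hb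
      · rfl
      · exact (hx b hb).symm
      · exact hx a ha
      · exact hcomm a ha b hb
    have hc := Algebra.isMulCommutative_adjoin k hs_comm
    have hL' : Algebra.adjoin k s = L := by
      apply hmax
      · intro a ha b hb
        exact setLike_mul_comm ha hb
      · intro y hy
        exact Algebra.subset_adjoin (Set.mem_insert_of_mem x hy)
    rw [← hL']
    exact Algebra.subset_adjoin (Set.mem_insert x _)
  · intro x hx
    rw [Subalgebra.mem_centralizer_iff]
    intro y hy
    exact hcomm y hy x hx

end maxComm

section maxSubfield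

variable (k : Type*) [Field k] (D : Type u) [DivisionRing D] [Algebra k D]
  [Algebra.IsCentral k D] [FiniteDimensional k D]

/-- for a maximal commutative subalgebra `L` of a central division algebra `D`,
`dim D = (dim L)^2`. -/
theorem finrank_eq_sq_of_maximal_comm (L : Subalgebra k D)
    (hcomm : ∀ x ∈ L, ∀ y ∈ L, x * y = y * x)
    (hmax : ∀ L' : Subalgebra k D, (∀ x ∈ L', ∀ y ∈ L', x * y = y * x) → L ≤ L' → L' = L) :
    Module.finrank k D = Module.finrank k L ^ 2 := by
  have : IsSimpleRing L := isSimpleRing_subalgebra_of_division k D L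
  have h := finrank_eq_mul_centralizer k D L
  rw [centralizer_eq_of_maximal_comm k D L hcomm hmax] at h
  rw [h, pow_two]

end maxSubfield

end Groth.Agent.Lib.Helper1.CSA
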