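import Mathlib.RingTheory.SimpleModule.WedderburnArtin
import Mathlib.RingTheory.SimpleModule.Isotypic
import Mathlib.LinearAlgebra.Dimension.Constructions
import Mathlib.LinearAlgebra.FiniteDimensional.Basic
import Mathlib.RingTheory.Artinian.Module

set_option autoImplicit false

namespace Groth.Agent.Lib.Helper1.CSA

universe u v

section moduleIso

variable (k : Type*) [Field k] (R : Type v) [Ring R] [Algebra k R] [IsSimpleRing R]
  [FiniteDimensional k R]
variable (M N : Type u) [AddCommGroup M] [AddCommGroup N] [Module k M] [Module k N]
  [Module R M] [Module R N] [IsScalarTower k R M] [IsScalarTower k R N]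
  [FiniteDimensional k M] [FiniteDimensional k N]

/-- Over a finite-dimensional simple algebra, modules of the same finite dimension are isomorphic. -/
theorem nonempty_linearEquiv_of_finrank_eq (h : Module.finrank k M = Module.finrank k N) :
    Nonempty (M ≃ₗ[R] N) := by
  have : IsArtinianRing R := IsArtinianRing.of_finite k R
  have : Module.Finite R M := Module.Finite.of_restrictScalars_finite k R M
  have : Module.Finite R N := Module.Finite.of_restrictScalars_finite k R N
  by_cases hM : Subsingleton M
  · have hN : Subsingleton N := by
      have h0 : Module.finrank k M = 0 := Module.finrank_zero_of_subsingleton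
      rw [h0] at h
      exact Module.finrank_zero_iff.mp h.symm
    exact ⟨{ toFun := fun _ => 0, invFun := fun _ => 0, map_add' := by simp, map_smul' := by simp,
             left_inv := fun x => Subsingleton.elim _ _, right_inv := fun x => Subsingleton.elim _ _ }⟩
  have hMn : Nontrivial M := not_subsingleton_iff_nontrivial.mp hM
  have hNn : Nontrivial N := by
    by_contra hN
    rw [not_nontrivial_iff_subsingleton] at hN
    have h0 : Module.finrank k N = 0 := Module.finrank_zero_of_subsingleton
    rw [h0] at h
    exact hM (Module.finrank_zero_iff.mp h)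
  obtain ⟨n, _, S, hS, ⟨e⟩⟩ := (IsSimpleRing.isIsotypic R M).linearEquiv_fun
  obtain ⟨m, _, S', hS', ⟨e'⟩⟩ := (IsSimpleRing.isIsotypic R N).linearEquiv_fun
  -- S ≃ S'
  let T := S.map (LinearMap.inl R M N)
  let T' := S'.map (LinearMap.inr R M N)
  let eT : S ≃ₗ[R] T := S.equivMapOfInjective _ LinearMap.inl_injective
  let eT' : S' ≃ₗ[R] T' := S'.equivMapOfInjective _ LinearMap.inr_injective
  have : IsSimpleModule R T := IsSimpleModule.congr eT.symm
  have : IsSimpleModule R T' := IsSimpleModule.congr eT'.symm
  obtain ⟨eTT⟩ := IsSimpleRing.isIsotypic R (M × N) T T'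
  let eS : S' ≃ₗ[R] S := eT'.trans (eTT.trans eT.symm)
  -- dimension count
  have : FiniteDimensional k S :=
    Module.Finite.of_injective (S.subtype.restrictScalars k) S.injective_subtype
  have : FiniteDimensional k S' :=
    Module.Finite.of_injective (S'.subtype.restrictScalars k) S'.injective_subtype
  have h1 : Module.finrank k M = n * Module.finrank k S := by
    rw [(e.restrictScalars k).finrank_eq, Module.finrank_pi_fintype]
    simp
  have h2 : Module.finrank k N = m * Module.finrank k S := by
    rw [(e'.restrictScalars k).finrank_eq, Module.finrank_pi_fintype,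
      (eS.restrictScalars k).finrank_eq]
    simp
  have hpos : 0 < Module.finrank k S := by
    have : Nontrivial S := IsSimpleModule.nontrivial R S
    exact Module.finrank_pos
  have hnm : n = m := by
    rw [h1, h2] at h
    exact Nat.eq_of_mul_eq_mul_right hpos h
  subst hnm
  exact ⟨e.trans ((LinearEquiv.piCongrRight fun _ => eS.symm).trans e'.symm)⟩

end moduleIso

section structureThm

variable (R : Type v) [Ring R] [IsSimpleRing R] [IsArtinianRing R]

/-- Over a simple artinian ring `R` there is a simple left ideal `I` such that every finite module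
(in the same universe) is a finite power of `I`. -/
theorem exists_simple_decomp : ∃ (I : Ideal R) (_ : IsSimpleModule R I),
    ∀ (M : Type v) [AddCommGroup M] [Module R M] [Module.Finite R M],
      ∃ n : ℕ, Nonempty (M ≃ₗ[R] (Fin n → I)) := by
  obtain ⟨I, hI⟩ := IsAtomic.exists_atom (Ideal R)
  rw [← isSimpleModule_iff_isAtom] at hI
  refine ⟨I, hI, fun M _ _ _ => ?_⟩
  have hiso : IsIsotypicOfType R M I := by
    intro m hm
    let T := Submodule.map (LinearMap.inl R R M) I
    let T' := Submodule.map (LinearMap.inr R R M) m
    let eT : I ≃ₗ[R] T := Submodule.equivMapOfInjective _ LinearMap.inl_injective I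
    let eT' : m ≃ₗ[R] T' := Submodule.equivMapOfInjective _ LinearMap.inr_injective m
    have : IsSimpleModule R T := IsSimpleModule.congr eT.symm
    have : IsSimpleModule R T' := IsSimpleModule.congr eT'.symm
    obtain ⟨eTT⟩ := IsSimpleRing.isIsotypic R (R × M) T T'
    exact ⟨eT'.trans (eTT.trans eT.symm)⟩
  exact hiso.linearEquiv_fun

end structureThm

end Groth.Agent.Lib.Helper1.CSA
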