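import Groth.Agent.Lib.Helper1.CSASplit
import Mathlib.FieldTheory.JacobsonNoether
import Mathlib.RingTheory.AdjoinRoot
import Mathlib.FieldTheory.SeparableDegree
import Mathlib.FieldTheory.Separable

set_option autoImplicit false
set_option linter.unusedSectionVars false

namespace Groth.Agent.Lib.Helper1.CSA

open TensorProduct

universe u v w

section centAlg

variable {k : Type*} [Field k] {D : Type v} [DivisionRing D] [Algebra k D]
  {L : Type w} [Field L] [Algebra k L] (ι : L →ₐ[k] D)

/-- the map from `L` into the centralizer of its image -/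
def toCent : L →ₐ[k] Subalgebra.centralizer k (ι.range : Set D) :=
  ι.codRestrict _ (fun l => by
    rw [Subalgebra.mem_centralizer_iff]
    rintro _ ⟨l', rfl⟩
    change ι l' * ι l = ι l * ι l'
    rw [← map_mul, ← map_mul, mul_comm])

theorem toCent_coe (l : L) : ((toCent ι l : Subalgebra.centralizer k (ι.range : Set D)) : D) = ι l :=
  rfl

/-- the centralizer of the image of `L` as an `L`-algebra -/
@[instance_reducible]
def algCent : Algebra L (Subalgebra.centralizer k (ι.range : Set D)) :=
  RingHom.toAlgebra' (toCent ι).toRingHom (fun l c => by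
    apply Subtype.ext
    have := (Subalgebra.mem_centralizer_iff k).mp c.2 (ι l) ⟨l, rfl⟩
    exact this)

attribute [local instance] algCent

theorem algCent_algebraMap (l : L) :
    ((algebraMap L (Subalgebra.centralizer k (ι.range : Set D)) l :
      Subalgebra.centralizer k (ι.range : Set D)) : D) = ι l := rfl

instance : IsScalarTower k L (Subalgebra.centralizer k (ι.range : Set D)) :=
  IsScalarTower.of_algebraMap_eq (fun c => by
    apply Subtype.ext
    change algebraMap k D c = ι (algebraMap k L c)
    rw [ι.commutes])

end centAlg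

section larger

variable (k : Type*) [Field k] (D : Type v) [DivisionRing D] [Algebra k D]
  [Algebra.IsCentral k D] [FiniteDimensional k D]
  (L : Type w) [Field L] [Algebra k L] [FiniteDimensional k L]

attribute [local instance] algCent

theorem finrank_range_eq (ι : L →ₐ[k] D) : Module.finrank k ι.range = Module.finrank k L :=
  ((AlgEquiv.ofInjective ι (RingHom.injective ι.toRingHom)).toLinearEquiv.finrank_eq).symm

theorem isCentral_cent (ι : L →ₐ[k] D) :
    Algebra.IsCentral L (Subalgebra.centralizer k (ι.range : Set D)) := by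
  have hB : IsSimpleRing ι.range := isSimpleRing_subalgebra_of_division k D ι.range
  constructor
  intro z hz
  rw [Subalgebra.mem_center_iff] at hz
  have hz' : (z : D) ∈ Subalgebra.centralizer k
      (Subalgebra.centralizer k (ι.range : Set D) : Set D) := by
    rw [Subalgebra.mem_centralizer_iff]
    intro c hc
    exact congrArg Subtype.val (hz ⟨c, hc⟩)
  rw [centralizer_centralizer k D ι.range] at hz'
  obtain ⟨l, hl⟩ := hz'
  rw [Algebra.mem_bot]
  exact ⟨l, Subtype.ext hl⟩

theorem finrank_sq_le (ι : L →ₐ[k] D) : Module.finrank k L ^ 2 ≤ Module.finrank k D := by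
  have hB : IsSimpleRing ι.range := isSimpleRing_subalgebra_of_division k D ι.range
  have h1 := finrank_eq_mul_centralizer k D ι.range
  have hle : ι.range ≤ Subalgebra.centralizer k (ι.range : Set D) := by
    rintro _ ⟨l, rfl⟩
    exact (toCent ι l).2
  have h2 : Module.finrank k ι.range ≤
      Module.finrank k (Subalgebra.centralizer k (ι.range : Set D)) :=
    Submodule.finrank_mono (s := Subalgebra.toSubmodule ι.range)
      (t := Subalgebra.toSubmodule (Subalgebra.centralizer k (ι.range : Set D))) hle
  rw [finrank_range_eq] at h1 h2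
  rw [h1, pow_two]
  exact Nat.mul_le_mul_left _ h2

theorem bot_ne_top_cent (ι : L →ₐ[k] D) (h : Module.finrank k L ^ 2 ≠ Module.finrank k D) :
    (⊥ : Subalgebra L (Subalgebra.centralizer k (ι.range : Set D))) ≠ ⊤ := by
  have hB : IsSimpleRing ι.range := isSimpleRing_subalgebra_of_division k D ι.range
  intro hbt
  apply h
  have h1 := finrank_eq_mul_centralizer k D ι.range
  have hle : Subalgebra.centralizer k (ι.range : Set D) ≤ ι.range := by
    intro c hc
    have : (⟨c, hc⟩ : Subalgebra.centralizer k (ι.range : Set D)) ∈
        (⊥ : Subalgebra L (Subalgebra.centralizer k (ι.range : Set D))) := by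
      rw [hbt]; exact Algebra.mem_top
    obtain ⟨l, hl⟩ := Algebra.mem_bot.mp this
    exact ⟨l, congrArg Subtype.val hl⟩
  have h2 : Module.finrank k (Subalgebra.centralizer k (ι.range : Set D)) ≤
      Module.finrank k ι.range :=
    Submodule.finrank_mono (s := Subalgebra.toSubmodule
      (Subalgebra.centralizer k (ι.range : Set D))) (t := Subalgebra.toSubmodule ι.range) hle
  have h3 := finrank_sq_le k D L ι
  rw [finrank_range_eq] at h1 h2
  apply le_antisymm h3
  rw [h1, pow_two]
  exact Nat.mul_le_mul_left _ h2

end larger

section adjoinRootSep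

open Polynomial IntermediateField

/-- `AdjoinRoot p` is separable over `L` if `p` is irreducible and separable -/
theorem isSeparable_adjoinRoot {L : Type w} [Field L] (p : L[X]) [Fact (Irreducible p)]
    (hp : p.Separable) : Algebra.IsSeparable L (AdjoinRoot p) := by
  have hp0 : p ≠ 0 := (Fact.out : Irreducible p).ne_zero
  have hroot : IsSeparable L (AdjoinRoot.root p) := by
    unfold IsSeparable
    rw [AdjoinRoot.minpoly_root hp0]
    exact hp.mul_unit (Polynomial.isUnit_C.mpr (by simpa using hp0))
  have h1 : Algebra.IsSeparable L L⟮AdjoinRoot.root p⟯ :=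
    (isSeparable_adjoin_simple_iff_isSeparable L (AdjoinRoot p)).mpr hroot
  have htop : L⟮AdjoinRoot.root p⟯ = ⊤ := by
    rw [← IntermediateField.toSubalgebra_injective.eq_iff, IntermediateField.top_toSubalgebra,
      eq_top_iff, ← AdjoinRoot.adjoinRoot_eq_top (f := p)]
    exact IntermediateField.algebra_adjoin_le_adjoin L _
  constructor
  intro y
  have hy : y ∈ L⟮AdjoinRoot.root p⟯ := htop ▸ IntermediateField.mem_top
  have := Algebra.IsSeparable.isSeparable L (⟨y, hy⟩ : L⟮AdjoinRoot.root p⟯)
  unfold IsSeparable at this ⊢
  rwa [IntermediateField.minpoly_eq] at this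

end adjoinRootSep

section largerSep

open Polynomial

variable (k : Type*) [Field k] (D : Type v) [DivisionRing D] [Algebra k D]
  [Algebra.IsCentral k D] [FiniteDimensional k D]
  (L : Type w) [Field L] [Algebra k L] [FiniteDimensional k L] [Algebra.IsSeparable k L]

attribute [local instance] algCent

/-- a non-maximal separable subfield of a central division algebra can be enlarged -/
theorem exists_larger_separable (ι : L →ₐ[k] D)
    (h : Module.finrank k L ^ 2 ≠ Module.finrank k D) :
    ∃ (L' : Type w) (_ : Field L') (_ : Algebra k L') (_ : FiniteDimensional k L')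
      (_ : Algebra.IsSeparable k L') (_ : L' →ₐ[k] D),
      Module.finrank k L < Module.finrank k L' := by
  have hcentral := isCentral_cent k D L ι
  have hne := bot_ne_top_cent k D L ι h
  let : DivisionRing (Subalgebra.centralizer k (ι.range : Set D)) :=
    divisionRingOfFiniteDimensional k _
  have hfin : Module.Finite L (Subalgebra.centralizer k (ι.range : Set D)) :=
    Module.Finite.of_restrictScalars_finite k L _
  have halg : Algebra.IsAlgebraic L (Subalgebra.centralizer k (ι.range : Set D)) :=
    Algebra.IsAlgebraic.of_finite L _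
  obtain ⟨x, hx, hsep⟩ := JacobsonNoether.exists_separable_and_not_isCentral' hne
  have hint : IsIntegral L x := Algebra.IsIntegral.isIntegral x
  have hirr : Irreducible (minpoly L x) := minpoly.irreducible hint
  have : Fact (Irreducible (minpoly L x)) := ⟨hirr⟩
  have hp0 : minpoly L x ≠ 0 := hirr.ne_zero
  let φ : AdjoinRoot (minpoly L x) →ₐ[L] Subalgebra.centralizer k (ι.range : Set D) :=
    Ideal.Quotient.liftₐ (Ideal.span {minpoly L x}) (Polynomial.aeval x) (fun a ha => by
      obtain ⟨q, rfl⟩ := Ideal.mem_span_singleton.mp ha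
      rw [map_mul, minpoly.aeval, zero_mul])
  have hsepL : Algebra.IsSeparable L (AdjoinRoot (minpoly L x)) :=
    isSeparable_adjoinRoot (minpoly L x) hsep
  have hfinL : FiniteDimensional L (AdjoinRoot (minpoly L x)) :=
    (AdjoinRoot.powerBasis hp0).finite
  have hfink : FiniteDimensional k (AdjoinRoot (minpoly L x)) :=
    FiniteDimensional.trans k L _
  have hsepk : Algebra.IsSeparable k (AdjoinRoot (minpoly L x)) :=
    Algebra.IsSeparable.trans k L _
  refine ⟨AdjoinRoot (minpoly L x), inferInstance, inferInstance, hfink, hsepk,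
    (Subalgebra.val _).comp (φ.restrictScalars k), ?_⟩
  rw [← Module.finrank_mul_finrank k L (AdjoinRoot (minpoly L x))]
  have hdim : Module.finrank L (AdjoinRoot (minpoly L x)) = (minpoly L x).natDegree := by
    rw [(AdjoinRoot.powerBasis hp0).finrank, AdjoinRoot.powerBasis_dim]
  have h2 : 2 ≤ (minpoly L x).natDegree := by
    rw [minpoly.two_le_natDegree_iff hint]
    intro hmem
    apply hx
    rw [Algebra.mem_bot]
    exact hmem
  have hLpos : 0 < Module.finrank k L := Module.finrank_pos
  rw [hdim]
  nlinarith

end largerSep

section maxSep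

variable (k : Type u) [Field k] (D : Type v) [DivisionRing D] [Algebra k D]
  [Algebra.IsCentral k D] [FiniteDimensional k D]

/-- existence of a separable subfield `L` of a central division algebra with `[L:k]^2 = dim D` -/
theorem exists_separable_subfield :
    ∃ (L : Type u) (_ : Field L) (_ : Algebra k L) (_ : FiniteDimensional k L)
      (_ : Algebra.IsSeparable k L) (_ : L →ₐ[k] D),
      Module.finrank k L ^ 2 = Module.finrank k D := by
  classical
  let P : ℕ → Prop := fun m => ∃ (L : Type u) (_ : Field L) (_ : Algebra k L)
    (_ : FiniteDimensional k L) (_ : Algebra.IsSeparable k L) (_ : L →ₐ[k] D),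
    Module.finrank k L = m
  have hP1 : P 1 := ⟨k, inferInstance, inferInstance, inferInstance, inferInstance,
    Algebra.ofId k D, Module.finrank_self k⟩
  have hDpos : 1 ≤ Module.finrank k D := Module.finrank_pos
  obtain ⟨L, hF, hA, hfin, hsep, ι, hm⟩ := Nat.findGreatest_spec (P := P) hDpos hP1
  refine ⟨L, hF, hA, hfin, hsep, ι, ?_⟩
  by_contra hne
  obtain ⟨L', hF', hA', hfin', hsep', ι', hlt⟩ := exists_larger_separable k D L ι hne
  have hle : Module.finrank k L' ≤ Module.finrank k D :=
    LinearMap.finrank_le_finrank_of_injective (f := ι'.toLinearMap)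
      (RingHom.injective ι'.toRingHom)
  have := Nat.le_findGreatest (P := P) hle ⟨L', hF', hA', hfin', hsep', ι', rfl⟩
  omega

/-- a central division algebra contains a maximal commutative subalgebra separable over `k` -/
theorem exists_separable_maximal_comm :
    ∃ L : Subalgebra k D, (∀ x ∈ L, ∀ y ∈ L, x * y = y * x) ∧
      (∀ L' : Subalgebra k D, (∀ x ∈ L', ∀ y ∈ L', x * y = y * x) → L ≤ L' → L' = L) ∧
      Algebra.IsSeparable k L := by
  obtain ⟨L, hF, hA, hfin, hsep, ι, hsq⟩ := exists_separable_subfield k D
  have hB : IsSimpleRing ι.range := isSimpleRing_subalgebra_of_division k D ι.range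
  have hcomm : ∀ x ∈ ι.range, ∀ y ∈ ι.range, x * y = y * x := by
    rintro _ ⟨a, rfl⟩ _ ⟨b, rfl⟩
    change ι a * ι b = ι b * ι a
    rw [← map_mul, ← map_mul, mul_comm]
  have hle : ι.range ≤ Subalgebra.centralizer k (ι.range : Set D) := by
    intro x hx
    rw [Subalgebra.mem_centralizer_iff]
    intro y hy
    exact hcomm y hy x hx
  have hcent : Subalgebra.centralizer k (ι.range : Set D) = ι.range := by
    symm
    apply Subalgebra.eq_of_le_of_finrank_eq hle
    have h1 := finrank_eq_mul_centralizer k D ι.range
    rw [finrank_range_eq, ← hsq, pow_two] at h1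
    rw [finrank_range_eq]
    exact Nat.eq_of_mul_eq_mul_left Module.finrank_pos h1
  refine ⟨ι.range, hcomm, ?_, ?_⟩
  · intro L' hL' hLL'
    apply le_antisymm _ hLL'
    rw [← hcent]
    intro x hx
    rw [Subalgebra.mem_centralizer_iff]
    intro y hy
    exact hL' y (hLL' hy) x hx
  · constructor
    intro y
    obtain ⟨a, rfl⟩ := (AlgEquiv.ofInjective ι (RingHom.injective ι.toRingHom)).surjective y
    have h1 : IsSeparable k a := Algebra.IsSeparable.isSeparable k a
    unfold IsSeparable at h1 ⊢
    have : minpoly k ((AlgEquiv.ofInjective ι (RingHom.injective ι.toRingHom)) a) =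
        minpoly k a :=
      minpoly.algHom_eq (AlgEquiv.ofInjective ι (RingHom.injective ι.toRingHom)).toAlgHom
        (AlgEquiv.injective _) a
    rw [this]
    exact h1

end maxSep

end Groth.Agent.Lib.Helper1.CSA
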