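import Groth.Agent.Lib.Helper1.CSAIdeal
import Groth.Agent.Lib.Helper1.CSAModule
import Mathlib.Algebra.Algebra.Bilinear
import Mathlib.Algebra.Algebra.Opposite

set_option autoImplicit false

namespace Groth.Agent.Lib.Helper1.CSA

open TensorProduct

universe u v

section ModVia

variable {k : Type*} [Field k] {R : Type v} [Ring R] [Algebra k R]
  {V : Type u} [AddCommGroup V] [Module k V]

/-- `V` as an `R`-module through an algebra map `R → End_k V`. -/
def ModVia (_φ : R →ₐ[k] Module.End k V) : Type u := V

variable (φ : R →ₐ[k] Module.End k V)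

instance : AddCommGroup (ModVia φ) := inferInstanceAs (AddCommGroup V)
instance : Module k (ModVia φ) := inferInstanceAs (Module k V)
instance : Module R (ModVia φ) := Module.compHom V φ.toRingHom

theorem ModVia.smul_def (r : R) (v : ModVia φ) : r • v = (φ r) (show V from v) := rfl

instance : IsScalarTower k R (ModVia φ) where
  smul_assoc c r v := by
    change φ (c • r) v = c • (φ r v)
    rw [map_smul]
    rfl

instance [FiniteDimensional k V] : FiniteDimensional k (ModVia φ) :=
  inferInstanceAs (FiniteDimensional k V)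

/-- Two actions of a finite-dimensional simple algebra on the same finite-dimensional space are
conjugate. -/
theorem exists_conj [IsSimpleRing R] [FiniteDimensional k R] [FiniteDimensional k V]
    (φ ψ : R →ₐ[k] Module.End k V) :
    ∃ T : V ≃ₗ[k] V, ∀ r v, T (φ r v) = ψ r (T v) := by
  have h : Module.finrank k (ModVia φ) = Module.finrank k (ModVia ψ) := rfl
  obtain ⟨e⟩ := nonempty_linearEquiv_of_finrank_eq k R (ModVia φ) (ModVia ψ) h
  refine ⟨e.restrictScalars k, fun r v => ?_⟩
  exact e.map_smul r v

end ModVia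

section SkolemNoether

variable {k : Type*} [Field k] {A : Type u} [Ring A] [Algebra k A]

/-- right multiplication as an algebra map from the opposite algebra -/
def rmulHom : Aᵐᵒᵖ →ₐ[k] Module.End k A where
  toFun a := LinearMap.mulRight k a.unop
  map_one' := by ext; simp
  map_mul' x y := by ext v; simp [mul_assoc]
  map_zero' := by ext; simp
  map_add' x y := by ext; simp [mul_add]
  commutes' c := by ext v; simp [Algebra.commutes, Algebra.smul_def]

@[simp] theorem rmulHom_apply (a : Aᵐᵒᵖ) (v : A) : rmulHom (k := k) a v = v * a.unop := rfl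

variable {B : Type v} [Ring B] [Algebra k B]

/-- action of `B ⊗ Aᵐᵒᵖ` on `A` through `f : B → A`: `(b ⊗ op a) • v = f b * v * a`. -/
noncomputable def actHom (f : B →ₐ[k] A) : B ⊗[k] Aᵐᵒᵖ →ₐ[k] Module.End k A :=
  Algebra.TensorProduct.lift ((Algebra.lmul k A).comp f) rmulHom (fun b a => by
    ext v
    simp [mul_assoc])

theorem actHom_tmul (f : B →ₐ[k] A) (b : B) (a : Aᵐᵒᵖ) (v : A) :
    actHom f (b ⊗ₜ a) v = f b * v * a.unop := by
  simp [actHom, mul_assoc]

/-- **Skolem–Noether**. -/
theorem skolem_noether [Algebra.IsCentral k A] [IsSimpleRing A] [FiniteDimensional k A]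
    [IsSimpleRing B] (f g : B →ₐ[k] A) :
    ∃ x : Aˣ, ∀ b : B, f b = x * g b * ↑x⁻¹ := by
  have : FiniteDimensional k B :=
    Module.Finite.of_injective f.toLinearMap (RingHom.injective f.toRingHom)
  have : IsSimpleRing (B ⊗[k] Aᵐᵒᵖ) := isSimpleRing_tensor k B Aᵐᵒᵖ
  obtain ⟨T, hT⟩ := exists_conj (actHom g) (actHom f)
  have hT1 : ∀ b v, T (g b * v) = f b * T v := by
    intro b v
    have := hT (b ⊗ₜ 1) v
    simpa [actHom_tmul] using this
  have hT2 : ∀ a v, T (v * a) = T v * a := by
    intro a v
    have := hT (1 ⊗ₜ MulOpposite.op a) v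
    simpa [actHom_tmul] using this
  have hS2 : ∀ a v, T.symm (v * a) = T.symm v * a := by
    intro a v
    apply T.injective
    rw [hT2, T.apply_symm_apply, T.apply_symm_apply]
  set x := T 1 with hx
  set y := T.symm 1 with hy
  have hTx : ∀ a, T a = x * a := by
    intro a
    have := hT2 a 1
    rwa [one_mul] at this
  have hSy : ∀ a, T.symm a = y * a := by
    intro a
    have := hS2 a 1
    rwa [one_mul] at this
  have hxy : x * y = 1 := by rw [← hTx, hy, T.apply_symm_apply]
  have hyx : y * x = 1 := by rw [← hSy, hx, T.symm_apply_apply]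
  refine ⟨⟨x, y, hxy, hyx⟩, fun b => ?_⟩
  have h1 : x * g b = f b * x := by
    rw [← hTx, ← hT1 b 1, mul_one]
  change f b = x * g b * y
  rw [h1, mul_assoc, hxy, mul_one]

end SkolemNoether

end Groth.Agent.Lib.Helper1.CSA
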