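import Groth.Agent.Lib.Helper1.CSAUnique
import Groth.Prelude.Def_Curves
import Mathlib.RingTheory.TensorProduct.Maps
import Mathlib.LinearAlgebra.Matrix.ToLin
import Mathlib.LinearAlgebra.Dimension.Constructions
import Mathlib.LinearAlgebra.FreeModule.Finite.Matrix
import Mathlib.FieldTheory.Tower

set_option autoImplicit false

namespace Groth.Agent.Lib.Helper1.CSA

open TensorProduct

universe u v w

section RMod

variable {k : Type*} [Field k] {A : Type v} [Ring A] [Algebra k A]
  {L : Type w} [Field L] [Algebra k L]

/-- `A` as an `L`-vector space through right multiplication by `ι l`. -/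
def RMod (_ι : L →ₐ[k] A) : Type v := A

variable (ι : L →ₐ[k] A)

instance : AddCommGroup (RMod ι) := inferInstanceAs (AddCommGroup A)
instance : Module k (RMod ι) := inferInstanceAs (Module k A)
instance : Module A (RMod ι) := inferInstanceAs (Module A A)
instance : IsScalarTower k A (RMod ι) := inferInstanceAs (IsScalarTower k A A)

instance : Module L (RMod ι) where
  smul l v := ((show A from v) * ι l : A)
  one_smul v := by change ((show A from v) * ι 1 : A) = v; rw [map_one, mul_one]
  mul_smul l l' v := by
    change ((show A from v) * ι (l * l') : A) = ((show A from v) * ι l') * ι l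
    rw [mul_comm l l', map_mul, mul_assoc]
  smul_zero l := by change ((0 : A) * ι l : A) = 0; rw [zero_mul]
  smul_add l v w := by
    change (((show A from v) + (show A from w)) * ι l : A) = (show A from v) * ι l + (show A from w) * ι l
    rw [add_mul]
  add_smul l l' v := by
    change ((show A from v) * ι (l + l') : A) = (show A from v) * ι l + (show A from v) * ι l'
    rw [map_add, mul_add]
  zero_smul v := by change ((show A from v) * ι 0 : A) = 0; rw [map_zero, mul_zero]

theorem RMod.smul_def (l : L) (v : RMod ι) : l • v = ((show A from v) * ι l : A) := rfl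

theorem RMod.smul_def' (a : A) (v : RMod ι) : a • v = (a * (show A from v) : A) := rfl

instance : IsScalarTower k L (RMod ι) where
  smul_assoc c l v := by
    change ((show A from v) * ι (c • l) : A) = c • ((show A from v) * ι l : A)
    rw [map_smul, mul_smul_comm]

instance : SMulCommClass A L (RMod ι) where
  smul_comm a l v := by
    change (a * ((show A from v) * ι l) : A) = (a * (show A from v)) * ι l
    rw [mul_assoc]

instance [FiniteDimensional k A] : FiniteDimensional k (RMod ι) :=
  inferInstanceAs (FiniteDimensional k A)

/-- the map `L ⊗ A → End_L(A)` -/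
noncomputable def splitHom : L ⊗[k] A →ₐ[L] Module.End L (RMod ι) :=
  Algebra.TensorProduct.lift (Algebra.ofId L (Module.End L (RMod ι)))
    (Algebra.lsmul k L (RMod ι)) (fun l a => by
      ext v
      change l • (a • v) = a • (l • v)
      exact (smul_comm a l v).symm)

end RMod

section splitMax

variable (k : Type*) [Field k] (A : Type v) [Ring A] [Algebra k A]
  [Algebra.IsCentral k A] [IsSimpleRing A] [FiniteDimensional k A]
  (L : Type w) [Field L] [Algebra k L] [FiniteDimensional k L]

theorem splitHom_bijective (ι : L →ₐ[k] A) (h : Module.finrank k A = Module.finrank k L ^ 2) :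
    Function.Bijective (splitHom ι) ∧ Module.finrank L (RMod ι) = Module.finrank k L := by
  have hLpos : 0 < Module.finrank k L := Module.finrank_pos
  have : Module.Finite L (RMod ι) := Module.Finite.of_restrictScalars_finite k L (RMod ι)
  have h1 : Module.finrank k (RMod ι) = Module.finrank k L * Module.finrank L (RMod ι) :=
    (Module.finrank_mul_finrank k L (RMod ι)).symm
  have h2 : Module.finrank k (RMod ι) = Module.finrank k A := rfl
  have h3 : Module.finrank L (RMod ι) = Module.finrank k L := by
    rw [h2, h, pow_two] at h1
    exact (Nat.eq_of_mul_eq_mul_left hLpos h1).symm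
  refine ⟨?_, h3⟩
  have hs : IsSimpleRing (L ⊗[k] A) := isSimpleRing_tensor k L A
  have : Nontrivial (RMod ι) := inferInstanceAs (Nontrivial A)
  have hinj : Function.Injective (splitHom ι) := RingHom.injective (splitHom ι).toRingHom
  have hdim : Module.finrank L (L ⊗[k] A) = Module.finrank L (Module.End L (RMod ι)) := by
    rw [Module.finrank_baseChange, Module.finrank_linearMap, h3, h, pow_two]
  exact ⟨hinj, (LinearMap.injective_iff_surjective_of_finrank_eq_finrank
    (f := (splitHom ι).toLinearMap) hdim).mp hinj⟩

/-- a subfield `L` of a central simple algebra `A` with `dim A = [L:k]^2` splits `A` -/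
theorem splits_of_finrank_eq_sq (ι : L →ₐ[k] A)
    (h : Module.finrank k A = Module.finrank k L ^ 2) :
    Curves.Splits k A L := by
  obtain ⟨hbij, hrank⟩ := splitHom_bijective k A L ι h
  have : Module.Finite L (RMod ι) := Module.Finite.of_restrictScalars_finite k L (RMod ι)
  refine ⟨Module.finrank k L, (Module.finrank_pos).ne', ⟨?_⟩⟩
  let b : Module.Basis (Fin (Module.finrank k L)) L (RMod ι) := Module.finBasisOfFinrankEq L _ hrank
  exact (AlgEquiv.ofBijective (splitHom ι) hbij).trans (LinearMap.toMatrixAlgEquiv b)

end splitMax

end Groth.Agent.Lib.Helper1.CSA
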