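import Groth.Agent.Lib.Helper1.CSASplitBasic
import Groth.Agent.Lib.Helper1.CSASeparable
import Mathlib.FieldTheory.IsSepClosed
import Mathlib.FieldTheory.Galois.Basic
import Mathlib.FieldTheory.Normal.Closure

set_option autoImplicit false

namespace Groth.Agent.Lib.Helper1.CSA

open TensorProduct

universe u v w

section sepSplit

variable (k : Type u) [Field k] (A : Type v) [Ring A] [Algebra k A]
  [Algebra.IsCentral k A] [IsSimpleRing A] [FiniteDimensional k A]

/-- every central simple algebra is split by a finite separable extension -/
theorem exists_separable_splitting :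
    ∃ (k' : Type u) (_ : Field k') (_ : Algebra k k'), FiniteDimensional k k' ∧
      Algebra.IsSeparable k k' ∧ Curves.Splits k A k' := by
  obtain ⟨n, hn, D, hD, hA, hfin, hc, ⟨e⟩⟩ := exists_algEquiv_matrix_central_division k A
  obtain ⟨L, hF, hAL, hfinL, hsep, ι, hsq⟩ := exists_separable_subfield k D
  refine ⟨L, hF, hAL, hfinL, hsep, ?_⟩
  exact Splits.of_algEquiv e.symm
    (Splits.matrix n (NeZero.ne n) (splits_of_finrank_eq_sq k D L ι hsq.symm))

end sepSplit

section galSplit

variable (k : Type u) [Field k] (A : Type v) [Ring A] [Algebra k A]
  [Algebra.IsCentral k A] [IsSimpleRing A] [FiniteDimensional k A]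

/-- every central simple algebra is split by the separable closure -/
theorem splits_separableClosure : Curves.Splits k A (SeparableClosure k) := by
  obtain ⟨K, hF, hA, hfin, hsep, hs⟩ := exists_separable_splitting k A
  exact Splits.of_algHom (IsSepClosed.lift : K →ₐ[k] SeparableClosure k) hs

/-- every central simple algebra is split by a finite Galois extension -/
theorem exists_galois_splitting :
    ∃ (k' : Type u) (_ : Field k') (_ : Algebra k k'), FiniteDimensional k k' ∧
      IsGalois k k' ∧ Curves.Splits k A k' := by
  obtain ⟨K, hF, hA, hfin, hsep, hs⟩ := exists_separable_splitting k A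
  let f : K →ₐ[k] SeparableClosure k := IsSepClosed.lift
  let : Algebra K (SeparableClosure k) := f.toRingHom.toAlgebra
  have : IsScalarTower k K (SeparableClosure k) :=
    IsScalarTower.of_algebraMap_eq (fun x => (f.commutes x).symm)
  exact ⟨IntermediateField.normalClosure k K (SeparableClosure k), inferInstance, inferInstance,
    inferInstance, inferInstance, Splits.of_tower _ hs⟩

end galSplit

end Groth.Agent.Lib.Helper1.CSA
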