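import Groth.Agent.Lib.Helper1.CSAWedderburn
import Mathlib.LinearAlgebra.Matrix.Module
import Mathlib.Algebra.Algebra.Tower

set_option autoImplicit false

namespace Groth.Agent.Lib.Helper1.CSA

open TensorProduct

universe u v w

section simpleUnique

variable (R : Type u) [Ring R] [IsSimpleRing R] [IsArtinianRing R]

/-- over a simple artinian ring any two simple modules are isomorphic (any universes) -/
theorem nonempty_linearEquiv_of_simple (S : Type v) (S' : Type w) [AddCommGroup S] [Module R S]
    [IsSimpleModule R S] [AddCommGroup S'] [Module R S'] [IsSimpleModule R S'] :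
    Nonempty (S ≃ₗ[R] S') := by
  let eT : S ≃ₗ[R] LinearMap.range (LinearMap.inl R S S') :=
    LinearEquiv.ofInjective _ LinearMap.inl_injective
  let eT' : S' ≃ₗ[R] LinearMap.range (LinearMap.inr R S S') :=
    LinearEquiv.ofInjective _ LinearMap.inr_injective
  have : IsSimpleModule R (LinearMap.range (LinearMap.inl R S S')) := IsSimpleModule.congr eT.symm
  have : IsSimpleModule R (LinearMap.range (LinearMap.inr R S S')) := IsSimpleModule.congr eT'.symm
  obtain ⟨eTT⟩ := IsSimpleRing.isIsotypic R (S × S') (LinearMap.range (LinearMap.inl R S S'))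
    (LinearMap.range (LinearMap.inr R S S'))
  exact ⟨eT.trans (eTT.symm.trans eT'.symm)⟩

end simpleUnique

section matrixVec

open Matrix.Module

variable (k : Type*) [Field k] (D : Type u) [DivisionRing D] [Algebra k D] (n : ℕ) [NeZero n]

/-- `Dⁿ` is a simple `M_n(D)`-module -/
theorem isSimpleModule_vec : IsSimpleModule (Matrix (Fin n) (Fin n) D) (Fin n → D) := by
  rw [isSimpleModule_iff_toSpanSingleton_surjective]
  refine ⟨inferInstance, fun v hv u => ?_⟩
  obtain ⟨i₁, hi₁⟩ : ∃ i, v i ≠ 0 := by
    by_contra hcon
    apply hv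
    ext i
    by_contra hi
    exact hcon ⟨i, hi⟩
  refine ⟨Matrix.of fun i j => if j = i₁ then u i * (v i₁)⁻¹ else 0, ?_⟩
  ext i
  rw [LinearMap.toSpanSingleton_apply, Matrix.Module.smul_apply]
  rw [Finset.sum_eq_single i₁]
  · simp [inv_mul_cancel_right₀ hi₁]
  · intro j _ hj
    simp [hj]
  · intro h
    exact absurd (Finset.mem_univ _) h

/-- right scalar multiplication on `Dⁿ` as an `M_n(D)`-linear endomorphism -/
def vecRmul (d : D) : Module.End (Matrix (Fin n) (Fin n) D) (Fin n → D) where
  toFun v := fun i => v i * d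
  map_add' v w := by ext i; simp [add_mul]
  map_smul' N v := by
    ext i
    simp [Finset.sum_mul, mul_assoc]

/-- `Dᵐᵒᵖ → End_{M_n(D)}(Dⁿ)` -/
def vecEndHom : Dᵐᵒᵖ →ₐ[k] Module.End (Matrix (Fin n) (Fin n) D) (Fin n → D) where
  toFun d := vecRmul D n d.unop
  map_one' := by ext v i; simp [vecRmul]
  map_mul' a b := by ext v i; simp [vecRmul, mul_assoc]
  map_zero' := by ext v i; simp [vecRmul]
  map_add' a b := by ext v i; simp [vecRmul, mul_add]
  commutes' r := by
    ext v i
    simp [vecRmul, Algebra.commutes, Algebra.smul_def]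

theorem vecEndHom_bijective : Function.Bijective (vecEndHom k D n) := by
  constructor
  · intro a b hab
    have := congrFun (LinearMap.congr_fun hab (Pi.single 0 1)) 0
    simp only [vecEndHom, vecRmul, AlgHom.coe_mk, RingHom.coe_mk, MonoidHom.coe_mk, OneHom.coe_mk,
      LinearMap.coe_mk, AddHom.coe_mk, Pi.single_eq_same, one_mul] at this
    exact MulOpposite.unop_injective this
  · intro g
    set w := g (Pi.single 0 1) with hw
    refine ⟨MulOpposite.op (w 0), ?_⟩
    ext v i
    let N : Matrix (Fin n) (Fin n) D := Matrix.of fun i j => if j = 0 then v i else 0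
    have hN : N • (Pi.single 0 1 : Fin n → D) = v := by
      ext i
      rw [Matrix.Module.smul_apply, Finset.sum_eq_single 0]
      · simp [N]
      · intro j _ hj
        simp [hj]
      · intro h
        exact absurd (Finset.mem_univ _) h
    have h1 : g v = N • w := by rw [hw, ← g.map_smul, hN]
    rw [h1, Matrix.Module.smul_apply, Finset.sum_eq_single 0]
    · simp [N, vecEndHom, vecRmul]
    · intro j _ hj
      simp [N, hj]
    · intro h
      exact absurd (Finset.mem_univ _) h

/-- `Dᵐᵒᵖ ≃ End_{M_n(D)}(Dⁿ)` -/
noncomputable def vecEndEquiv :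
    Dᵐᵒᵖ ≃ₐ[k] Module.End (Matrix (Fin n) (Fin n) D) (Fin n → D) :=
  AlgEquiv.ofBijective (vecEndHom k D n) (vecEndHom_bijective k D n)

end matrixVec

section pullback

variable {k : Type*} [Field k] {R : Type u} [Ring R] [Algebra k R] {R' : Type v} [Ring R']
  [Algebra k R'] (e : R ≃ₐ[k] R') (S' : Type w) [AddCommGroup S'] [Module k S'] [Module R' S']
  [IsScalarTower k R' S']

/-- the structure map of the module pulled back along an algebra isomorphism -/
noncomputable def pullHom : R →ₐ[k] Module.End k S' := (Algebra.lsmul k k S').comp e.toAlgHom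

theorem pull_smul (r : R) (x : ModVia (pullHom e S')) :
    r • x = (e r • (show S' from x) : S') := rfl

theorem isSimpleModule_pull [IsSimpleModule R' S'] :
    IsSimpleModule R (ModVia (pullHom e S')) := by
  have h := (isSimpleModule_iff_toSpanSingleton_surjective (R := R') (M := S')).mp inferInstance
  rw [isSimpleModule_iff_toSpanSingleton_surjective]
  refine ⟨h.1, fun x hx y => ?_⟩
  obtain ⟨r', hr'⟩ := h.2 x hx y
  refine ⟨e.symm r', ?_⟩
  rw [LinearMap.toSpanSingleton_apply] at hr' ⊢
  rw [pull_smul, e.apply_symm_apply]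
  exact hr'

/-- endomorphisms of the pulled-back module are the endomorphisms of the module -/
noncomputable def pullEndEquiv :
    Module.End R (ModVia (pullHom e S')) ≃ₐ[k] Module.End R' S' where
  toFun f :=
    { toFun := fun x => f x
      map_add' := fun x y => f.map_add x y
      map_smul' := fun r' x => by
        have := f.map_smul (e.symm r') x
        rw [pull_smul, pull_smul, e.apply_symm_apply] at this
        exact this }
  invFun g :=
    { toFun := fun x => g x
      map_add' := fun x y => g.map_add x y
      map_smul' := fun r x => by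
        change g (e r • (show S' from x)) = e r • g x
        exact g.map_smul (e r) x }
  left_inv f := rfl
  right_inv g := rfl
  map_mul' f g := rfl
  map_add' f g := rfl
  commutes' c := rfl

end pullback

section uniqueness

open Matrix.Module

/-- uniqueness of the division algebra in Wedderburn's theorem -/
theorem nonempty_algEquiv_of_matrix_algEquiv (k : Type*) [Field k]
    (D : Type v) [DivisionRing D] [Algebra k D] [FiniteDimensional k D]
    (D' : Type w) [DivisionRing D'] [Algebra k D']
    (n m : ℕ) [NeZero n] [NeZero m]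
    (e : Matrix (Fin n) (Fin n) D ≃ₐ[k] Matrix (Fin m) (Fin m) D') :
    Nonempty (D ≃ₐ[k] D') := by
  have : IsArtinianRing (Matrix (Fin n) (Fin n) D) := IsArtinianRing.of_finite k _
  have h1 : IsSimpleModule (Matrix (Fin n) (Fin n) D) (Fin n → D) := isSimpleModule_vec D n
  have h2 : IsSimpleModule (Matrix (Fin m) (Fin m) D') (Fin m → D') := isSimpleModule_vec D' m
  have h3 : IsSimpleModule (Matrix (Fin n) (Fin n) D) (ModVia (pullHom e (Fin m → D'))) :=
    isSimpleModule_pull e _
  obtain ⟨f⟩ := nonempty_linearEquiv_of_simple (Matrix (Fin n) (Fin n) D) (Fin n → D)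
    (ModVia (pullHom e (Fin m → D')))
  exact ⟨AlgEquiv.unop ((vecEndEquiv k D n).trans ((f.conjAlgEquiv k).trans
    ((pullEndEquiv e _).trans (vecEndEquiv k D' m).symm)))⟩

end uniqueness

end Groth.Agent.Lib.Helper1.CSA
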