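import Groth.Prelude.Def_Curves
import Mathlib.Algebra.MvPolynomial.Basic
import Mathlib.Algebra.MvPolynomial.Eval
import Mathlib.Algebra.MvPolynomial.Rename
import Mathlib.Algebra.MonoidAlgebra.MapDomain
import Mathlib.RingTheory.MvPolynomial.Homogeneous
import Mathlib.Data.Fintype.BigOperators

/-!
# `C_i` fields: the Lang–Nagata substitution framework

`IsCi K i` (prelude, systems version).  The main tool `exists_zero_of_functionals`:
if `K` is `C_i`, `B` is a commutative `K`-algebra, `ω : E → B` a finite family, `f ρ` forms of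
degree `d ρ` over `B` in variables `N`, and `φ ρ τ : B →ₗ[K] K` functionals with
`∑ ρ, card (T ρ) * d ρ ^ i < card N * card E`, then there is a nonzero `c : N × E → K` with
`φ ρ τ (f ρ (a))  = 0` for all `ρ, τ` where `a j = ∑ l, c (j, l) • ω l`.
-/

set_option autoImplicit false

namespace Groth.Agent.Lib.Helper1.Ci

open MvPolynomial

universe u v w

section fintypeVersion

variable {K : Type u} [Field K] {i : ℕ}

/-- the `C_i` property for systems indexed by arbitrary finite types -/
theorem isCi_fintype (hK : Curves.IsCi K i) {R N : Type*} [Fintype R] [Fintype N]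
    (f : R → MvPolynomial N K) (d : R → ℕ) (hf : ∀ ρ, (f ρ).IsHomogeneous (d ρ))
    (hd : ∀ ρ, 0 < d ρ) (hcount : ∑ ρ, d ρ ^ i < Fintype.card N) :
    ∃ a : N → K, a ≠ 0 ∧ ∀ ρ, MvPolynomial.eval a (f ρ) = 0 := by
  classical
  let eR := Fintype.equivFin R
  let eN := Fintype.equivFin N
  obtain ⟨a', ha', hz⟩ := hK (Fintype.card R) (Fintype.card N)
    (fun ρ' => rename eN (f (eR.symm ρ'))) (fun ρ' => d (eR.symm ρ'))
    (fun ρ' => (hf _).rename_isHomogeneous) (fun ρ' => hd _)
    (by
      rw [Equiv.sum_comp eR.symm (fun ρ => d ρ ^ i)]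
      exact hcount)
  refine ⟨a' ∘ eN, ?_, ?_⟩
  · intro h0
    apply ha'
    funext x
    have := congrFun h0 (eN.symm x)
    simpa using this
  · intro ρ
    have := hz (eR ρ)
    simp only [Equiv.symm_apply_apply] at this
    rw [eval_rename] at this
    exact this

end fintypeVersion

section coeffMap

variable {K B : Type*} [Field K] [CommRing B] [Algebra K B] {σ : Type*}

/-- apply a `K`-linear functional to the coefficients of a polynomial -/
noncomputable def coeffMap (φ : B →ₗ[K] K) (F : MvPolynomial σ B) : MvPolynomial σ K :=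
  AddMonoidAlgebra.map φ.toAddMonoidHom F

theorem coeff_coeffMap (φ : B →ₗ[K] K) (F : MvPolynomial σ B) (m : σ →₀ ℕ) :
    coeff m (coeffMap φ F) = φ (coeff m F) := by
  unfold coeffMap MvPolynomial.coeff
  rw [AddMonoidAlgebra.coeff_map]
  rfl

theorem coeffMap_add (φ : B →ₗ[K] K) (F G : MvPolynomial σ B) :
    coeffMap φ (F + G) = coeffMap φ F + coeffMap φ G := by
  ext m
  simp [coeff_coeffMap]

theorem coeffMap_monomial (φ : B →ₗ[K] K) (m : σ →₀ ℕ) (b : B) :
    coeffMap φ (monomial m b) = monomial m (φ b) := by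
  classical
  ext m'
  rw [coeff_coeffMap, coeff_monomial, coeff_monomial]
  split_ifs <;> simp

theorem eval_coeffMap (φ : B →ₗ[K] K) (F : MvPolynomial σ B) (c : σ → K) :
    eval c (coeffMap φ F) = φ (eval (fun x => algebraMap K B (c x)) F) := by
  induction F using MvPolynomial.induction_on' with
  | monomial m b =>
    rw [coeffMap_monomial, eval_monomial, eval_monomial]
    have : (m.prod fun n e => (algebraMap K B (c n)) ^ e) =
        algebraMap K B (m.prod fun n e => c n ^ e) := by
      rw [Finsupp.prod, Finsupp.prod, map_prod]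
      simp
    rw [this, mul_comm b, ← Algebra.smul_def, map_smul, smul_eq_mul, mul_comm]
  | add F G hF hG => rw [coeffMap_add, map_add, map_add, map_add, hF, hG]

theorem coeffMap_isHomogeneous (φ : B →ₗ[K] K) (F : MvPolynomial σ B) (d : ℕ)
    (hF : F.IsHomogeneous d) : (coeffMap φ F).IsHomogeneous d := by
  intro m hm
  apply hF
  intro h0
  apply hm
  rw [coeff_coeffMap, h0, map_zero]

end coeffMap

section framework

variable {K : Type u} [Field K] {B : Type v} [CommRing B] [Algebra K B]

/-- the linear substitution `x_j ↦ ∑ l, ω l * X (j, l)` -/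
noncomputable def subst {N E : Type*} [Fintype E] (ω : E → B) (F : MvPolynomial N B) :
    MvPolynomial (N × E) B :=
  aeval (fun j => ∑ l, C (ω l) * X (j, l)) F

theorem subst_isHomogeneous {N E : Type*} [Fintype E] (ω : E → B) (F : MvPolynomial N B) (d : ℕ)
    (hF : F.IsHomogeneous d) : (subst ω F).IsHomogeneous d := by
  have := hF.aeval (S := B) (n := 1) (fun j : N => ∑ l, C (ω l) * X ((j, l) : N × E)) (by
    intro j
    apply IsHomogeneous.sum
    intro l _
    have := (isHomogeneous_C (N × E) (ω l)).mul (isHomogeneous_X B ((j, l) : N × E))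
    simpa using this)
  simpa [subst] using this

theorem eval_subst {N E : Type*} [Fintype E] (ω : E → B) (F : MvPolynomial N B)
    (x : N × E → B) :
    eval x (subst ω F) = eval (fun j => ∑ l, ω l * x (j, l)) F := by
  unfold subst
  have : (eval x).comp (aeval (fun j => ∑ l, C (ω l) * X ((j, l) : N × E)) :
      MvPolynomial N B →ₐ[B] MvPolynomial (N × E) B).toRingHom
      = eval (fun j => ∑ l, ω l * x (j, l)) := by
    apply MvPolynomial.ringHom_ext
    · intro b
      simp
    · intro j
      simp
  exact congrArg (fun h => h F) this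

/-- The Lang–Nagata framework. -/
theorem exists_zero_of_functionals {i : ℕ} (hK : Curves.IsCi K i)
    {R N E : Type*} [Fintype R] [Fintype N] [Fintype E] (ω : E → B)
    (f : R → MvPolynomial N B) (d : R → ℕ) (hf : ∀ ρ, (f ρ).IsHomogeneous (d ρ))
    (hd : ∀ ρ, 0 < d ρ) (T : R → Type*) [∀ ρ, Fintype (T ρ)]
    (φ : ∀ ρ, T ρ → (B →ₗ[K] K))
    (hcount : ∑ ρ, Fintype.card (T ρ) * d ρ ^ i < Fintype.card N * Fintype.card E) :
    ∃ c : N × E → K, c ≠ 0 ∧
      ∀ ρ (τ : T ρ), φ ρ τ (eval (fun j => ∑ l, c (j, l) • ω l) (f ρ)) = 0 := by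
  classical
  obtain ⟨c, hc, hz⟩ := isCi_fintype hK (R := Σ ρ, T ρ) (N := N × E)
    (fun p => coeffMap (φ p.1 p.2) (subst ω (f p.1))) (fun p => d p.1)
    (fun p => coeffMap_isHomogeneous _ _ _ (subst_isHomogeneous ω _ _ (hf p.1)))
    (fun p => hd p.1)
    (by
      rw [Fintype.sum_sigma, Fintype.card_prod]
      simpa using hcount)
  refine ⟨c, hc, fun ρ τ => ?_⟩
  have := hz ⟨ρ, τ⟩
  simp only at this
  rw [eval_coeffMap, eval_subst] at this
  have e : (fun j => ∑ l, c (j, l) • ω l) = fun j => ∑ l, ω l * (algebraMap K B) (c (j, l)) := by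
    funext j
    refine Finset.sum_congr rfl fun l _ => ?_
    rw [Algebra.smul_def, mul_comm]
  rw [e]
  exact this

end framework

end Groth.Agent.Lib.Helper1.Ci
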