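import Mathlib

/-!
# Connected components of the source of an open and closed map with finite fibres

If `f : X → Y` is open, closed, has finite fibres and `Y` is preconnected, then every connected
component of `X` surjects onto `Y`.  No quasi-compactness is needed: one picks a clopen
neighbourhood `W` of the given point meeting one fixed fibre in the smallest possible number of
points; such a `W` is preconnected because every nonempty clopen subset of `X` surjects onto `Y`.
-/

namespace Groth.Agent.Lib.Helper1.CompSurj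

open Set

theorem exists_mem_connectedComponent {X Y : Type*} [TopologicalSpace X] [TopologicalSpace Y]
    [PreconnectedSpace Y] (f : X → Y) (hopen : IsOpenMap f) (hclosed : IsClosedMap f)
    (hfin : ∀ y, (f ⁻¹' {y}).Finite) (x : X) (p : Y) :
    ∃ y ∈ connectedComponent x, f y = p := by
  classical
  -- every nonempty clopen set surjects
  have hsurj : ∀ W : Set X, IsClopen W → W.Nonempty → f '' W = univ := by
    intro W hW hne
    exact IsClopen.eq_univ ⟨hclosed _ hW.isClosed, hopen _ hW.isOpen⟩ (hne.image f)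
  have hF : (f ⁻¹' {p}).Finite := hfin p
  -- choose a clopen neighbourhood of `x` minimizing the number of points over `p`
  have hP : ∃ n, ∃ W : Set X, IsClopen W ∧ x ∈ W ∧ (W ∩ f ⁻¹' {p}).ncard = n :=
    ⟨_, univ, isClopen_univ, mem_univ x, rfl⟩
  obtain ⟨W, hW, hxW, hn⟩ := Nat.find_spec hP
  have hmin : ∀ W' : Set X, IsClopen W' → x ∈ W' →
      (W ∩ f ⁻¹' {p}).ncard ≤ (W' ∩ f ⁻¹' {p}).ncard := by
    intro W' hW' hx'
    rw [hn]
    exact Nat.find_min' hP ⟨W', hW', hx', rfl⟩
  have key : ∀ U V : Set X, IsOpen U → IsOpen V → W ⊆ U ∪ V → W ∩ (U ∩ V) = ∅ → x ∈ U →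
      (W ∩ V).Nonempty → False := by
    intro U V hU hV hWUV hempty hxU hWV
    have hWU_eq : W ∩ U = W ∩ (W ∩ V)ᶜ := by
      ext z
      constructor
      · rintro ⟨hz, hzU⟩
        refine ⟨hz, fun hzV => ?_⟩
        have : z ∈ W ∩ (U ∩ V) := ⟨hz, hzU, hzV.2⟩
        rw [hempty] at this
        exact this
      · rintro ⟨hz, hzn⟩
        refine ⟨hz, ?_⟩
        rcases hWUV hz with h | h
        · exact h
        · exact absurd ⟨hz, h⟩ hzn
    have hWV_eq : W ∩ V = W ∩ (W ∩ U)ᶜ := by
      ext z
      constructor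
      · rintro ⟨hz, hzV⟩
        refine ⟨hz, fun hzU => ?_⟩
        have : z ∈ W ∩ (U ∩ V) := ⟨hz, hzU.2, hzV⟩
        rw [hempty] at this
        exact this
      · rintro ⟨hz, hzn⟩
        refine ⟨hz, ?_⟩
        rcases hWUV hz with h | h
        · exact absurd ⟨hz, h⟩ hzn
        · exact h
    have hcU : IsClopen (W ∩ U) := by
      refine ⟨?_, hW.isOpen.inter hU⟩
      rw [hWU_eq]
      exact hW.isClosed.inter (hW.isOpen.inter hV).isClosed_compl
    have hcV : IsClopen (W ∩ V) := by
      refine ⟨?_, hW.isOpen.inter hV⟩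
      rw [hWV_eq]
      exact hW.isClosed.inter (hW.isOpen.inter hU).isClosed_compl
    have hp : p ∈ f '' (W ∩ V) := by rw [hsurj _ hcV hWV]; exact mem_univ p
    obtain ⟨z, hzWV, hzp⟩ := hp
    have hlt : ((W ∩ U) ∩ f ⁻¹' {p}).ncard < (W ∩ f ⁻¹' {p}).ncard := by
      apply Set.ncard_lt_ncard _ (hF.subset inter_subset_right)
      refine ⟨fun a ha => ⟨ha.1.1, ha.2⟩, fun hsub => ?_⟩
      have hz : z ∈ (W ∩ U) ∩ f ⁻¹' {p} := hsub ⟨hzWV.1, hzp⟩
      have : z ∈ W ∩ (U ∩ V) := ⟨hzWV.1, hz.1.2, hzWV.2⟩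
      rw [hempty] at this
      exact this
    exact absurd (hmin _ hcU ⟨hxW, hxU⟩) (not_le.mpr hlt)
  -- hence `W` is preconnected
  have hpre : IsPreconnected W := by
    intro U V hU hV hWUV hWU hWV
    by_contra hempty
    rw [not_nonempty_iff_eq_empty] at hempty
    rcases hWUV hxW with hxU | hxV
    · exact key U V hU hV hWUV hempty hxU hWV
    · refine key V U hV hU (by rwa [union_comm]) (by rwa [inter_comm V U]) hxV hWU
  have hsub : W ⊆ connectedComponent x := hpre.subset_connectedComponent hxW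
  have hp : p ∈ f '' W := by rw [hsurj _ hW ⟨x, hxW⟩]; exact mem_univ p
  obtain ⟨y, hyW, hyp⟩ := hp
  exact ⟨y, hsub hyW, hyp⟩

end Groth.Agent.Lib.Helper1.CompSurj
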