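import Mathlib.RingTheory.KrullDimension.Polynomial
import Mathlib.RingTheory.Jacobson.Ring
import Mathlib.RingTheory.Ideal.Height
import Mathlib.RingTheory.KrullDimension.Field
import Mathlib.Algebra.MvPolynomial.Equiv

/-!
# Height of maximal ideals of `k[x_1..x_n]`
-/

set_option autoImplicit false

namespace Groth.Agent.Lib.Helper1.Ci

open MvPolynomial

universe u

/-- Every maximal ideal of `k[x_1, …, x_n]` has height `n`. -/
theorem height_of_isMaximal (k : Type u) [Field k] (n : ℕ)
    (M : Ideal (MvPolynomial (Fin n) k)) [hM : M.IsMaximal] : M.height = n := by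
  induction n with
  | zero =>
    have h1 : (M.height : WithBot ℕ∞) ≤ ringKrullDim (MvPolynomial (Fin 0) k) :=
      Ideal.height_le_ringKrullDim_of_ne_top hM.ne_top
    rw [MvPolynomial.ringKrullDim_of_isNoetherianRing, ringKrullDim_eq_zero_of_field] at h1
    simp only [Nat.card_eq_fintype_card, Fintype.card_fin, Nat.cast_zero, add_zero] at h1
    have h2 : M.height ≤ 0 := by exact_mod_cast h1
    simpa using h2
  | succ n ih =>
    let e : MvPolynomial (Fin (n + 1)) k ≃+* Polynomial (MvPolynomial (Fin n) k) :=
      (MvPolynomial.finSuccEquiv k n).toRingEquiv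
    let P : Ideal (Polynomial (MvPolynomial (Fin n) k)) := M.map e
    have hP : P.IsMaximal := Ideal.map_isMaximal_of_equiv e
    let p : Ideal (MvPolynomial (Fin n) k) := P.under (MvPolynomial (Fin n) k)
    have hp : p.IsMaximal := by
      have := Polynomial.isMaximal_comap_C_of_isJacobsonRing P
      exact this
    have h1 : P.height = p.height + 1 := Polynomial.height_eq_height_add_one p P
    have h2 : P.height = M.height := e.height_map M
    rw [← h2, h1, ih p]
    simp

end Groth.Agent.Lib.Helper1.Ci
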