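import Mathlib
import Groth.Prelude.Def_CohB1
import Groth.Agent.Lib.Lead.FinTypeTop

/-!
# helper1 for helper15 (S7212): finite type descends from the pushforward along an embedding
-/

set_option autoImplicit false
universe u
open CategoryTheory CategoryTheory.Limits AlgebraicGeometry Opposite TopologicalSpace
open Groth.Agent.Lib.Lead.FinTypeTop

namespace Groth.Agent.Lib.Helper1.FTPushT1

theorem isFT_of_isFT_pushforward {U P : Scheme.{u}} (i : U ⟶ P) [IsClosedImmersion i]
    (N : U.Modules) (h : CohB1.IsFT ((Scheme.Modules.pushforward i).obj N)) : CohB1.IsFT N := by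
  refine isFiniteType_of_locSpan (T := U.toTopCat) (R := U.ringCatSheaf) N (fun x => ?_)
  obtain ⟨V, hxV, n, s, hs⟩ := exists_locSpan_of_isFiniteType (T := P.toTopCat)
    (R := P.ringCatSheaf) ((Scheme.Modules.pushforward i).obj N) h (i x)
  refine ⟨i ⁻¹ᵁ V, hxV, n, s, ?_⟩
  intro W' hW' m x' hx'
  -- an open `W` of `P` with `i⁻¹ W = W'`
  obtain ⟨t, ht, htW⟩ := i.isEmbedding.isInducing.isOpen_iff.mp W'.2
  let W : P.Opens := ⟨t, ht⟩
  have hWW' : i ⁻¹ᵁ (W ⊓ V) ≤ W' := by
    intro z hz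
    have : z ∈ i ⁻¹' t := hz.1
    rw [htW] at this
    exact this
  have hx0 : i x' ∈ W ⊓ V := by
    refine ⟨?_, hW' hx'⟩
    have : x' ∈ i ⁻¹' t := by rw [htW]; exact hx'
    exact this
  obtain ⟨W₁, hW₁, hxW₁, hmem⟩ := hs (W ⊓ V) inf_le_right (rs N hWW' m) (i x') hx0
  have hW₁' : i ⁻¹ᵁ W₁ ≤ i ⁻¹ᵁ (W ⊓ V) := fun z hz => hW₁ hz
  refine ⟨i ⁻¹ᵁ W₁, le_trans hW₁' hWW', hxW₁, ?_⟩
  have key : ∀ z : ((Scheme.Modules.pushforward i).obj N).val.obj (op W₁),
      z ∈ Submodule.span (P.ringCatSheaf.obj.obj (op W₁))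
        (Set.range fun j : ULift.{u} (Fin n) =>
          rs ((Scheme.Modules.pushforward i).obj N) (hW₁.trans inf_le_right) (s j.down)) →
      (show N.val.obj (op (i ⁻¹ᵁ W₁)) from z) ∈
        Submodule.span (U.ringCatSheaf.obj.obj (op (i ⁻¹ᵁ W₁)))
          (Set.range fun j : ULift.{u} (Fin n) =>
            rs N ((le_trans hW₁' hWW').trans hW') (s j.down)) := by
    intro z hz
    induction hz using Submodule.span_induction with
    | mem z hz =>
      obtain ⟨j, rfl⟩ := hz
      exact Submodule.subset_span ⟨j, rfl⟩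
    | zero => exact Submodule.zero_mem _
    | add a b _ _ ha hb => exact Submodule.add_mem _ ha hb
    | smul r a _ ha =>
      exact Submodule.smul_mem _ ((i.toRingCatSheafHom.hom.app (op W₁)).hom r) ha
  have h2 : rs N hW₁' (rs N hWW' m) ∈
      Submodule.span (U.ringCatSheaf.obj.obj (op (i ⁻¹ᵁ W₁)))
        (Set.range fun j : ULift.{u} (Fin n) =>
          rs N ((le_trans hW₁' hWW').trans hW') (s j.down)) := key _ hmem
  rw [rs_rs] at h2
  exact h2

end Groth.Agent.Lib.Helper1.FTPushT1
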