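import Groth.Agent.Lib.Helper1.CSASkolem
import Mathlib.RingTheory.MatrixAlgebra
import Mathlib.FieldTheory.Galois.Basic
import Mathlib.LinearAlgebra.Matrix.Kronecker
import Mathlib.Algebra.Central.Matrix
import Groth.Prelude.Def_Curves

/-!
# Factor sets of central simple algebras split by a Galois extension

For a finite Galois extension `K/k` with group `G`, a `k`-algebra `B` *realizes* a factor set
`a : G → G → Kˣ` when there are a `k`-algebra map `ψ : B → M_ι(K)` with `dim B = |ι|²` and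
invertible matrices `g σ` with `g σ * σ(ψ b) = ψ b * g σ` and `g σ * σ(g τ) = a σ τ • g (σ τ)`.
-/

set_option autoImplicit false
universe u u' v w
open scoped TensorProduct Kronecker

namespace Groth.Agent.Lib.Helper1.Factor

/-- the group of 2-coboundaries of `Gal(K/k)` with values in `Kˣ` -/
def cobdry (k : Type u) [Field k] (K : Type u') [Field K] [Algebra k K] :
    Subgroup ((K ≃ₐ[k] K) → (K ≃ₐ[k] K) → Kˣ) where
  carrier := {a | ∃ b : (K ≃ₐ[k] K) → Kˣ,
    ∀ σ τ, (a σ τ : K) * b (σ * τ) = b σ * σ (b τ)}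
  mul_mem' := by
    rintro a a' ⟨b, hb⟩ ⟨b', hb'⟩
    refine ⟨b * b', fun σ τ => ?_⟩
    simp only [Pi.mul_apply, Units.val_mul, map_mul]
    rw [mul_mul_mul_comm, hb, hb', mul_mul_mul_comm]
  one_mem' := ⟨1, fun σ τ => by simp⟩
  inv_mem' := by
    rintro a ⟨b, hb⟩
    refine ⟨b⁻¹, fun σ τ => ?_⟩
    simp only [Pi.inv_apply, Units.val_inv_eq_inv_val, map_inv₀]
    rw [← mul_inv, ← mul_inv, hb]

theorem mem_cobdry {k : Type u} [Field k] {K : Type u'} [Field K] [Algebra k K]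
    {a : (K ≃ₐ[k] K) → (K ≃ₐ[k] K) → Kˣ} :
    a ∈ cobdry k K ↔ ∃ b : (K ≃ₐ[k] K) → Kˣ,
      ∀ σ τ, (a σ τ : K) * b (σ * τ) = b σ * σ (b τ) := Iff.rfl

section mapMatrix

variable {k : Type u} [Field k] {K : Type u'} [Field K] [Algebra k K]
  {ι : Type*} [Fintype ι] [DecidableEq ι] {κ : Type*} [Fintype κ] [DecidableEq κ]

theorem mapMatrix_smul (σ : K ≃ₐ[k] K) (c : K) (M : Matrix ι ι K) :
    σ.mapMatrix (c • M) = σ c • σ.mapMatrix M := by
  ext i j
  simp [AlgEquiv.mapMatrix_apply]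

theorem mapMatrix_mul_apply (σ τ : K ≃ₐ[k] K) (M : Matrix ι ι K) :
    (σ * τ).mapMatrix M = σ.mapMatrix (τ.mapMatrix M) := by
  ext i j
  simp [AlgEquiv.mapMatrix_apply, AlgEquiv.mul_apply]

theorem mapMatrix_kronecker (σ : K ≃ₐ[k] K) (M : Matrix ι ι K) (N : Matrix κ κ K) :
    σ.mapMatrix (M ⊗ₖ N) = σ.mapMatrix M ⊗ₖ σ.mapMatrix N := by
  ext ⟨i, j⟩ ⟨i', j'⟩
  simp [AlgEquiv.mapMatrix_apply]

theorem det_mapMatrix (σ : K ≃ₐ[k] K) (M : Matrix ι ι K) :
    (σ.mapMatrix M).det = σ M.det := by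
  rw [AlgEquiv.mapMatrix_apply]
  exact (AlgEquiv.map_det σ M).symm

theorem isUnit_det_mapMatrix (σ : K ≃ₐ[k] K) {M : Matrix ι ι K} (h : IsUnit M.det) :
    IsUnit (σ.mapMatrix M).det := by
  rw [det_mapMatrix]
  exact h.map σ

end mapMatrix

section realizes

variable {k : Type u} [Field k] {K : Type u'} [Field K] [Algebra k K]

/-- `(ψ, g)` is a splitting datum of `B` with factor set `a` -/
def IsDatum {B : Type v} [Ring B] [Algebra k B] {ι : Type} [Fintype ι] [DecidableEq ι]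
    (ψ : B →ₐ[k] Matrix ι ι K) (g : (K ≃ₐ[k] K) → Matrix ι ι K)
    (a : (K ≃ₐ[k] K) → (K ≃ₐ[k] K) → Kˣ) : Prop :=
  Module.finrank k B = Fintype.card ι ^ 2 ∧ (∀ σ, IsUnit (g σ).det) ∧
    (∀ σ b, g σ * σ.mapMatrix (ψ b) = ψ b * g σ) ∧
    (∀ σ τ, g σ * σ.mapMatrix (g τ) = (a σ τ : K) • g (σ * τ))

/-- the `k`-algebra `B` realizes the factor set `a` -/
def Realizes (B : Type v) [Ring B] [Algebra k B]
    (a : (K ≃ₐ[k] K) → (K ≃ₐ[k] K) → Kˣ) : Prop :=
  ∃ (ι : Type) (_ : Fintype ι) (_ : DecidableEq ι) (ψ : B →ₐ[k] Matrix ι ι K)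
    (g : (K ≃ₐ[k] K) → Matrix ι ι K), IsDatum ψ g a

variable {B : Type v} [Ring B] [Algebra k B] {C : Type w} [Ring C] [Algebra k C]
  {a a' : (K ≃ₐ[k] K) → (K ≃ₐ[k] K) → Kˣ}

theorem Realizes.of_algEquiv (e : B ≃ₐ[k] C) (h : Realizes B a) : Realizes C a := by
  obtain ⟨ι, _, _, ψ, g, hdim, hu, hcomm, hcoc⟩ := h
  refine ⟨ι, inferInstance, inferInstance, ψ.comp e.symm.toAlgHom, g, ?_, hu, ?_, hcoc⟩
  · rw [← hdim, e.toLinearEquiv.finrank_eq]
  · intro σ b
    exact hcomm σ _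

theorem IsDatum.reindex {ι κ : Type} [Fintype ι] [DecidableEq ι] [Fintype κ] [DecidableEq κ]
    {ψ : B →ₐ[k] Matrix ι ι K} {g : (K ≃ₐ[k] K) → Matrix ι ι K} (h : IsDatum ψ g a)
    (e : ι ≃ κ) :
    IsDatum ((Matrix.reindexAlgEquiv k K e).toAlgHom.comp ψ)
      (fun σ => Matrix.reindexAlgEquiv k K e (g σ)) a := by
  obtain ⟨hdim, hu, hcomm, hcoc⟩ := h
  have hmap : ∀ (σ : K ≃ₐ[k] K) (M : Matrix ι ι K),
      σ.mapMatrix (Matrix.reindexAlgEquiv k K e M) =
        Matrix.reindexAlgEquiv k K e (σ.mapMatrix M) := by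
    intro σ M
    ext i j
    simp [AlgEquiv.mapMatrix_apply]
  refine ⟨?_, ?_, ?_, ?_⟩
  · rw [hdim, Fintype.card_congr e]
  · intro σ
    change IsUnit (Matrix.reindex e e (g σ)).det
    rw [Matrix.det_reindex_self]
    exact hu σ
  · intro σ b
    change Matrix.reindexAlgEquiv k K e (g σ) *
      σ.mapMatrix (Matrix.reindexAlgEquiv k K e (ψ b)) =
      Matrix.reindexAlgEquiv k K e (ψ b) * Matrix.reindexAlgEquiv k K e (g σ)
    rw [hmap, ← map_mul, ← map_mul, hcomm]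
  · intro σ τ
    change Matrix.reindexAlgEquiv k K e (g σ) *
      σ.mapMatrix (Matrix.reindexAlgEquiv k K e (g τ)) =
      (a σ τ : K) • Matrix.reindexAlgEquiv k K e (g (σ * τ))
    rw [hmap, ← map_mul, hcoc]
    ext i j
    simp

/-- left factor embedding into the Kronecker product -/
noncomputable def kronLeft {ι κ : Type} [Fintype ι] [DecidableEq ι] [Fintype κ] [DecidableEq κ]
    (ψ : B →ₐ[k] Matrix ι ι K) : B →ₐ[k] Matrix (ι × κ) (ι × κ) K where
  toFun b := ψ b ⊗ₖ (1 : Matrix κ κ K)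
  map_one' := by rw [map_one, Matrix.one_kronecker_one]
  map_mul' x y := by rw [map_mul, ← Matrix.mul_kronecker_mul, one_mul]
  map_zero' := by rw [map_zero, Matrix.zero_kronecker]
  map_add' x y := by rw [map_add, Matrix.add_kronecker]
  commutes' r := by
    rw [AlgHom.commutes, Algebra.algebraMap_eq_smul_one, Algebra.algebraMap_eq_smul_one,
      Matrix.smul_kronecker, Matrix.one_kronecker_one]

/-- right factor embedding into the Kronecker product -/
noncomputable def kronRight {ι κ : Type} [Fintype ι] [DecidableEq ι] [Fintype κ] [DecidableEq κ]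
    (ψ : C →ₐ[k] Matrix κ κ K) : C →ₐ[k] Matrix (ι × κ) (ι × κ) K where
  toFun c := (1 : Matrix ι ι K) ⊗ₖ ψ c
  map_one' := by rw [map_one, Matrix.one_kronecker_one]
  map_mul' x y := by rw [map_mul, ← Matrix.mul_kronecker_mul, one_mul]
  map_zero' := by rw [map_zero, Matrix.kronecker_zero]
  map_add' x y := by rw [map_add, Matrix.kronecker_add]
  commutes' r := by
    rw [AlgHom.commutes, Algebra.algebraMap_eq_smul_one, Algebra.algebraMap_eq_smul_one,
      Matrix.kronecker_smul, Matrix.one_kronecker_one]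

theorem Realizes.tensor (hB : Realizes B a) (hC : Realizes C a') :
    Realizes (B ⊗[k] C) (a * a') := by
  obtain ⟨ι, _, _, ψ, g, hdim, hu, hcomm, hcoc⟩ := hB
  obtain ⟨κ, _, _, ψ', g', hdim', hu', hcomm', hcoc'⟩ := hC
  have hcm : ∀ (b : B) (c : C), Commute (kronLeft (κ := κ) ψ b) (kronRight (ι := ι) ψ' c) := by
    intro b c
    change (ψ b ⊗ₖ (1 : Matrix κ κ K)) * ((1 : Matrix ι ι K) ⊗ₖ ψ' c) =
      ((1 : Matrix ι ι K) ⊗ₖ ψ' c) * (ψ b ⊗ₖ (1 : Matrix κ κ K))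
    rw [← Matrix.mul_kronecker_mul, ← Matrix.mul_kronecker_mul, one_mul, mul_one, one_mul,
      mul_one]
  let Ψ : B ⊗[k] C →ₐ[k] Matrix (ι × κ) (ι × κ) K :=
    Algebra.TensorProduct.lift (kronLeft ψ) (kronRight ψ') hcm
  have hΨ : ∀ b c, Ψ (b ⊗ₜ[k] c) = ψ b ⊗ₖ ψ' c := by
    intro b c
    change (ψ b ⊗ₖ (1 : Matrix κ κ K)) * ((1 : Matrix ι ι K) ⊗ₖ ψ' c) = _
    rw [← Matrix.mul_kronecker_mul, one_mul, mul_one]
  refine ⟨ι × κ, inferInstance, inferInstance, Ψ, fun σ => g σ ⊗ₖ g' σ, ?_, ?_, ?_, ?_⟩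
  · rw [Module.finrank_tensorProduct, hdim, hdim', Fintype.card_prod, mul_pow]
  · intro σ
    rw [Matrix.det_kronecker]
    exact ((hu σ).pow _).mul ((hu' σ).pow _)
  · intro σ t
    induction t using TensorProduct.induction_on with
    | zero => simp
    | tmul b c =>
      rw [hΨ, mapMatrix_kronecker, ← Matrix.mul_kronecker_mul, ← Matrix.mul_kronecker_mul,
        hcomm, hcomm']
    | add t t' ht ht' => rw [map_add, map_add, mul_add, add_mul, ht, ht']
  · intro σ τ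
    rw [mapMatrix_kronecker, ← Matrix.mul_kronecker_mul, hcoc, hcoc', Matrix.smul_kronecker,
      Matrix.kronecker_smul, smul_smul, Pi.mul_apply, Pi.mul_apply, Units.val_mul]

/-- the degree-th power of a realized factor set is the coboundary of the determinants -/
theorem Realizes.pow_mem_cobdry (h : Realizes B a) (r : ℕ) (hr : Module.finrank k B = r ^ 2) :
    a ^ r ∈ cobdry k K := by
  obtain ⟨ι, _, _, ψ, g, hdim, hu, hcomm, hcoc⟩ := h
  have hcard : Fintype.card ι = r := by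
    rw [hr] at hdim
    exact (Nat.pow_left_injective two_ne_zero hdim).symm
  refine ⟨fun σ => (hu σ).unit, fun σ τ => ?_⟩
  have h1 := congrArg Matrix.det (hcoc σ τ)
  rw [Matrix.det_mul, det_mapMatrix, Matrix.det_smul, hcard] at h1
  simp only [Pi.pow_apply, Units.val_pow_eq_pow_val, IsUnit.unit_spec]
  rw [← h1]

/-- the 2-cocycle identity of a realized factor set -/
theorem Realizes.cocycle (h : Realizes B a) (hB : Module.finrank k B ≠ 0)
    (σ τ ρ : K ≃ₐ[k] K) :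
    (a σ τ : K) * a (σ * τ) ρ = σ (a τ ρ) * a σ (τ * ρ) := by
  obtain ⟨ι, _, _, ψ, g, hdim, hu, hcomm, hcoc⟩ := h
  have hne : Nonempty ι := by
    by_contra hemp
    rw [not_nonempty_iff] at hemp
    apply hB
    rw [hdim, Fintype.card_eq_zero]
    rfl
  have h1 : (g σ * σ.mapMatrix (g τ)) * (σ * τ).mapMatrix (g ρ) =
      ((a σ τ : K) * a (σ * τ) ρ) • g (σ * τ * ρ) := by
    rw [hcoc, Matrix.smul_mul, hcoc, smul_smul]
  have h2 : (g σ * σ.mapMatrix (g τ)) * (σ * τ).mapMatrix (g ρ) =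
      (σ (a τ ρ) * a σ (τ * ρ)) • g (σ * τ * ρ) := by
    rw [mapMatrix_mul_apply, mul_assoc, ← map_mul, hcoc, mapMatrix_smul, Matrix.mul_smul,
      hcoc, smul_smul, mul_assoc]
  have h3 := h1.symm.trans h2
  have hg := hu (σ * τ * ρ)
  have h4 := congrArg (· * (g (σ * τ * ρ))⁻¹) h3
  simp only [Matrix.smul_mul, Matrix.mul_nonsing_inv _ hg] at h4
  obtain ⟨i⟩ := hne
  have h5 := congrFun (congrFun h4 i) i
  simpa using h5

/-- the `|G|`-th power of a realized factor set is a coboundary -/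
theorem Realizes.pow_card_mem_cobdry [FiniteDimensional k K] (h : Realizes B a)
    (hB : Module.finrank k B ≠ 0) :
    a ^ Fintype.card (K ≃ₐ[k] K) ∈ cobdry k K := by
  classical
  refine ⟨fun σ => ∏ ρ, a σ ρ, fun σ τ => ?_⟩
  have hc := h.cocycle hB σ τ
  simp only [Pi.pow_apply, Units.val_pow_eq_pow_val, Units.coe_prod, map_prod]
  have h1 : ∏ ρ : K ≃ₐ[k] K, ((a σ τ : K) * a (σ * τ) ρ) =
      ∏ ρ, (σ (a τ ρ) * a σ (τ * ρ)) := Finset.prod_congr rfl (fun ρ _ => hc ρ)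
  rw [Finset.prod_mul_distrib, Finset.prod_mul_distrib, Finset.prod_const, Finset.card_univ]
    at h1
  rw [h1, mul_comm]
  congr 1
  exact Fintype.prod_equiv (Equiv.mulLeft τ) _ _ (fun ρ => rfl)

end realizes

section csa

variable {k : Type u} [Field k] {K : Type u'} [Field K] [Algebra k K]
  {B : Type v} [Ring B] [Algebra k B] {ι : Type} [Fintype ι] [DecidableEq ι]

/-- the `K`-linear extension of `ψ` -/
noncomputable def extK (ψ : B →ₐ[k] Matrix ι ι K) : K ⊗[k] B →ₐ[K] Matrix ι ι K :=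
  Algebra.TensorProduct.lift (Algebra.ofId K _) ψ (fun x b => Algebra.commutes x _)

theorem extK_tmul (ψ : B →ₐ[k] Matrix ι ι K) (x : K) (b : B) :
    extK ψ (x ⊗ₜ[k] b) = x • ψ b := by
  change (Algebra.ofId K _ x) * ψ b = _
  rw [Algebra.ofId_apply, ← Algebra.smul_def]

variable [Algebra.IsCentral k B] [IsSimpleRing B] [Nonempty ι]

theorem finite_of_finrank (hdim : Module.finrank k B = Fintype.card ι ^ 2) :
    FiniteDimensional k B :=
  Module.finite_of_finrank_pos (by rw [hdim]; exact pow_pos Fintype.card_pos 2)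

theorem extK_bijective (ψ : B →ₐ[k] Matrix ι ι K)
    (hdim : Module.finrank k B = Fintype.card ι ^ 2) : Function.Bijective (extK ψ) := by
  have : IsSimpleRing (K ⊗[k] B) := CSA.isSimpleRing_tensor k K B
  have hinj : Function.Injective (extK ψ) := (extK ψ).toRingHom.injective
  have : FiniteDimensional k B := finite_of_finrank hdim
  refine ⟨hinj, ?_⟩
  have hfr : Module.finrank K (K ⊗[k] B) = Module.finrank K (Matrix ι ι K) := by
    rw [Module.finrank_baseChange, Module.finrank_matrix, hdim]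
    simp [pow_two]
  exact (LinearMap.injective_iff_surjective_of_finrank_eq_finrank
    (f := (extK ψ).toLinearMap) hfr).mp hinj

theorem exists_scalar (ψ : B →ₐ[k] Matrix ι ι K)
    (hdim : Module.finrank k B = Fintype.card ι ^ 2) (z : Matrix ι ι K)
    (hz : ∀ b, z * ψ b = ψ b * z) : ∃ c : K, z = c • (1 : Matrix ι ι K) := by
  have hall : ∀ M : Matrix ι ι K, z * M = M * z := by
    intro M
    obtain ⟨t, rfl⟩ := (extK_bijective ψ hdim).2 M
    induction t using TensorProduct.induction_on with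
    | zero => simp
    | tmul x b => rw [extK_tmul, Matrix.mul_smul, Matrix.smul_mul, hz]
    | add t t' ht ht' => rw [map_add, mul_add, add_mul, ht, ht']
  have h1 : z ∈ Set.range (Matrix.scalar ι) :=
    Matrix.mem_range_scalar_iff_commute_single'.mpr (fun i j => (hall _).symm)
  obtain ⟨c, hc⟩ := h1
  refine ⟨c, ?_⟩
  rw [← hc, Matrix.smul_one_eq_diagonal]
  rfl

theorem exists_smul_of_intertwine (ψ : B →ₐ[k] Matrix ι ι K)
    (hdim : Module.finrank k B = Fintype.card ι ^ 2) (θ : B → Matrix ι ι K)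
    (M N : Matrix ι ι K) (hM : IsUnit M.det) (hMi : ∀ b, M * θ b = ψ b * M)
    (hNi : ∀ b, N * θ b = ψ b * N) : ∃ c : K, N = c • M := by
  have hz : ∀ b, (N * M⁻¹) * ψ b = ψ b * (N * M⁻¹) := by
    intro b
    have h1 : M⁻¹ * ψ b = θ b * M⁻¹ := by
      have h2 : M⁻¹ * (M * θ b) * M⁻¹ = M⁻¹ * (ψ b * M) * M⁻¹ := by rw [hMi b]
      rw [← mul_assoc, Matrix.nonsing_inv_mul _ hM, one_mul, mul_assoc (M⁻¹), mul_assoc (ψ b),
        Matrix.mul_nonsing_inv _ hM, mul_one] at h2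
      exact h2.symm
    rw [mul_assoc, h1, ← mul_assoc, hNi, mul_assoc]
  obtain ⟨c, hc⟩ := exists_scalar ψ hdim (N * M⁻¹) hz
  refine ⟨c, ?_⟩
  have h3 := congrArg (· * M) hc
  simp only [Matrix.nonsing_inv_mul_cancel_right _ _ hM, Matrix.smul_mul, one_mul] at h3
  exact h3

theorem exists_isDatum (ψ : B →ₐ[k] Matrix ι ι K)
    (hdim : Module.finrank k B = Fintype.card ι ^ 2) :
    ∃ (g : (K ≃ₐ[k] K) → Matrix ι ι K) (a : (K ≃ₐ[k] K) → (K ≃ₐ[k] K) → Kˣ),
      IsDatum ψ g a := by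
  have : IsSimpleRing (K ⊗[k] B) := CSA.isSimpleRing_tensor k K B
  have hσ : ∀ σ : K ≃ₐ[k] K, ∃ x : (Matrix ι ι K)ˣ,
      ∀ b, (x : Matrix ι ι K) * σ.mapMatrix (ψ b) = ψ b * x := by
    intro σ
    obtain ⟨x, hx⟩ := CSA.skolem_noether (k := K) (extK ψ)
      (extK ((σ.mapMatrix (m := ι)).toAlgHom.comp ψ))
    refine ⟨x, fun b => ?_⟩
    have h1 := hx (1 ⊗ₜ b)
    rw [extK_tmul, extK_tmul, one_smul, one_smul] at h1
    change ψ b = x * σ.mapMatrix (ψ b) * _ at h1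
    conv_rhs => rw [h1]
    rw [mul_assoc, Units.inv_mul, mul_one]
  choose g hg using hσ
  have hu : ∀ σ, IsUnit ((g σ : Matrix ι ι K)).det :=
    fun σ => (Matrix.isUnit_iff_isUnit_det _).mp (g σ).isUnit
  have hcoc : ∀ σ τ, ∃ c : Kˣ, (g σ : Matrix ι ι K) * σ.mapMatrix (g τ : Matrix ι ι K) =
      (c : K) • (g (σ * τ) : Matrix ι ι K) := by
    intro σ τ
    obtain ⟨c, hc⟩ := exists_smul_of_intertwine ψ hdim (fun b => (σ * τ).mapMatrix (ψ b))
      (g (σ * τ)) (g σ * σ.mapMatrix (g τ : Matrix ι ι K)) (hu _) (hg _) (fun b => by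
        rw [mapMatrix_mul_apply, mul_assoc, ← map_mul, hg τ, map_mul, ← mul_assoc, hg σ,
          mul_assoc])
    have hc0 : c ≠ 0 := by
      rintro rfl
      rw [zero_smul] at hc
      have h2 := congrArg Matrix.det hc
      rw [Matrix.det_mul, Matrix.det_zero] at h2
      exact (((hu σ).mul (isUnit_det_mapMatrix σ (hu τ))).ne_zero) h2
    exact ⟨Units.mk0 c hc0, hc⟩
  choose a ha using hcoc
  exact ⟨fun σ => g σ, a, hdim, hu, hg, ha⟩

theorem IsDatum.div_mem_cobdry {ψ ψ' : B →ₐ[k] Matrix ι ι K}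
    {g g' : (K ≃ₐ[k] K) → Matrix ι ι K} {a a' : (K ≃ₐ[k] K) → (K ≃ₐ[k] K) → Kˣ}
    (h : IsDatum ψ g a) (h' : IsDatum ψ' g' a') : a' / a ∈ cobdry k K := by
  obtain ⟨hdim, hu, hcomm, hcoc⟩ := h
  obtain ⟨-, hu', hcomm', hcoc'⟩ := h'
  have : IsSimpleRing (K ⊗[k] B) := CSA.isSimpleRing_tensor k K B
  obtain ⟨u, hu0⟩ := CSA.skolem_noether (k := K) (extK ψ') (extK ψ)
  have hconj : ∀ b, ψ' b = u * ψ b * (↑u⁻¹ : Matrix ι ι K) := by
    intro b
    have h1 := hu0 (1 ⊗ₜ b)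
    rw [extK_tmul, extK_tmul, one_smul, one_smul] at h1
    exact h1
  have hc1 : ∀ b, (u : Matrix ι ι K) * ψ b = ψ' b * u := by
    intro b
    rw [hconj, mul_assoc, Units.inv_mul, mul_one]
  have hc2 : ∀ b, (↑u⁻¹ : Matrix ι ι K) * ψ' b = ψ b * (↑u⁻¹ : Matrix ι ι K) := by
    intro b
    rw [hconj, ← mul_assoc, ← mul_assoc, Units.inv_mul, one_mul]
  -- the transported intertwiners
  let N : (K ≃ₐ[k] K) → Matrix ι ι K :=
    fun σ => (↑u⁻¹ : Matrix ι ι K) * g' σ * σ.mapMatrix (u : Matrix ι ι K)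
  have hN : ∀ σ b, N σ * σ.mapMatrix (ψ b) = ψ b * N σ := by
    intro σ b
    change (↑u⁻¹ : Matrix ι ι K) * g' σ * σ.mapMatrix (u : Matrix ι ι K) * σ.mapMatrix (ψ b) =
      ψ b * ((↑u⁻¹ : Matrix ι ι K) * g' σ * σ.mapMatrix (u : Matrix ι ι K))
    rw [mul_assoc, ← map_mul, hc1, map_mul, ← mul_assoc, mul_assoc (↑u⁻¹ : Matrix ι ι K),
      hcomm', ← mul_assoc, hc2, mul_assoc, mul_assoc, mul_assoc]
  have hNu : ∀ σ, IsUnit (N σ).det := by
    intro σ
    change IsUnit ((↑u⁻¹ : Matrix ι ι K) * g' σ * σ.mapMatrix (u : Matrix ι ι K)).det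
    rw [Matrix.det_mul, Matrix.det_mul]
    have hu1 : IsUnit ((↑u⁻¹ : Matrix ι ι K)).det :=
      (Matrix.isUnit_iff_isUnit_det _).mp (u⁻¹).isUnit
    have hu2 : IsUnit ((u : Matrix ι ι K)).det :=
      (Matrix.isUnit_iff_isUnit_det _).mp u.isUnit
    exact (hu1.mul (hu' σ)).mul (isUnit_det_mapMatrix σ hu2)
  have hNcoc : ∀ σ τ, N σ * σ.mapMatrix (N τ) = (a' σ τ : K) • N (σ * τ) := by
    intro σ τ
    change (↑u⁻¹ : Matrix ι ι K) * g' σ * σ.mapMatrix (u : Matrix ι ι K) *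
      σ.mapMatrix ((↑u⁻¹ : Matrix ι ι K) * g' τ * τ.mapMatrix (u : Matrix ι ι K)) =
      (a' σ τ : K) • ((↑u⁻¹ : Matrix ι ι K) * g' (σ * τ) *
        (σ * τ).mapMatrix (u : Matrix ι ι K))
    rw [map_mul, map_mul, ← mapMatrix_mul_apply, ← mul_assoc, ← mul_assoc,
      mul_assoc _ (σ.mapMatrix (u : Matrix ι ι K)), ← map_mul, Units.mul_inv, map_one, mul_one,
      mul_assoc (↑u⁻¹ : Matrix ι ι K), hcoc', Matrix.mul_smul, Matrix.smul_mul]
  have hcs : ∀ σ, ∃ c : Kˣ, N σ = (c : K) • g σ := by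
    intro σ
    obtain ⟨c, hc⟩ := exists_smul_of_intertwine ψ hdim (fun b => σ.mapMatrix (ψ b))
      (g σ) (N σ) (hu σ) (hcomm σ) (hN σ)
    have hc0 : c ≠ 0 := by
      rintro rfl
      rw [zero_smul] at hc
      have h2 := (hNu σ).ne_zero
      rw [hc, Matrix.det_zero] at h2
      exact h2 rfl
    exact ⟨Units.mk0 c hc0, hc⟩
  choose c hc using hcs
  refine ⟨c, fun σ τ => ?_⟩
  have h1 := hNcoc σ τ
  rw [hc σ, hc τ, hc (σ * τ), mapMatrix_smul, Matrix.smul_mul, Matrix.mul_smul, hcoc, smul_smul,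
    smul_smul, smul_smul] at h1
  have hg := hu (σ * τ)
  have h4 := congrArg (· * (g (σ * τ))⁻¹) h1
  simp only [Matrix.smul_mul, Matrix.mul_nonsing_inv _ hg] at h4
  obtain ⟨i⟩ := ‹Nonempty ι›
  have h5 := congrFun (congrFun h4 i) i
  simp only [Matrix.smul_apply, Matrix.one_apply_eq, smul_eq_mul, mul_one] at h5
  simp only [Pi.div_apply, Units.val_div_eq_div_val]
  have ha0 : (a σ τ : K) ≠ 0 := (a σ τ).ne_zero
  field_simp
  rw [← h5]
  ring

end csa

section corollaries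

variable {k : Type u} [Field k] {K : Type u'} [Field K] [Algebra k K]
  {B : Type v} [Ring B] [Algebra k B] [Algebra.IsCentral k B] [IsSimpleRing B]
  {a a' : (K ≃ₐ[k] K) → (K ≃ₐ[k] K) → Kˣ}

/-- two factor sets realized by the same central simple algebra are cohomologous -/
theorem Realizes.div_mem_cobdry [FiniteDimensional k B] (h : Realizes B a)
    (h' : Realizes B a') : a' / a ∈ cobdry k K := by
  obtain ⟨ι, _, _, ψ, g, hd⟩ := h
  obtain ⟨ι', _, _, ψ', g', hd'⟩ := h'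
  have hpos : 0 < Module.finrank k B := Module.finrank_pos
  have hcard : Fintype.card ι' = Fintype.card ι := by
    have h1 := hd.1
    rw [hd'.1] at h1
    exact Nat.pow_left_injective two_ne_zero h1
  have hne : Nonempty ι := by
    by_contra hemp
    rw [not_nonempty_iff] at hemp
    rw [hd.1, Fintype.card_eq_zero] at hpos
    exact absurd hpos (by norm_num)
  exact IsDatum.div_mem_cobdry hd (hd'.reindex (Fintype.equivOfCardEq hcard))

theorem exists_realizes_of_algHom {ι : Type} [Fintype ι] [DecidableEq ι] [Nonempty ι]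
    (ψ : B →ₐ[k] Matrix ι ι K) (hdim : Module.finrank k B = Fintype.card ι ^ 2) :
    ∃ a : (K ≃ₐ[k] K) → (K ≃ₐ[k] K) → Kˣ, Realizes B a := by
  obtain ⟨g, a, h⟩ := exists_isDatum ψ hdim
  exact ⟨a, ι, inferInstance, inferInstance, ψ, g, h⟩

theorem exists_realizes_of_splits (h : Curves.Splits k B K) :
    ∃ a : (K ≃ₐ[k] K) → (K ≃ₐ[k] K) → Kˣ, Realizes B a := by
  obtain ⟨n, hn, ⟨φ⟩⟩ := h
  have : NeZero n := ⟨hn⟩
  let ψ : B →ₐ[k] Matrix (Fin n) (Fin n) K :=
    (φ.toAlgHom.restrictScalars k).comp Algebra.TensorProduct.includeRight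
  have hdim : Module.finrank k B = Fintype.card (Fin n) ^ 2 := by
    have h1 := φ.toLinearEquiv.finrank_eq
    rw [Module.finrank_baseChange, Module.finrank_matrix] at h1
    simp only [Fintype.card_fin, Module.finrank_self, mul_one] at h1
    rw [h1, Fintype.card_fin, pow_two]
  exact exists_realizes_of_algHom ψ hdim

end corollaries

end Groth.Agent.Lib.Helper1.Factor
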