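import Groth.Agent.Lib.Helper1.FactorSet
import Groth.Agent.S13298

/-!
# Splitting criterion for factor sets

A simple algebra realizing a factor set which is a coboundary is split (Hilbert 90 for `GL_n`),
and conversely the factor sets of a split algebra are coboundaries.
-/

set_option autoImplicit false
universe u u' v w
open scoped TensorProduct Kronecker MatrixGroups

namespace Groth.Agent.Lib.Helper1.Factor

section conj

variable {k : Type*} [CommSemiring k] {R : Type*} [Semiring R] [Algebra k R]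

/-- conjugation by a unit as an algebra map -/
def conjAlgHom (u : Rˣ) : R →ₐ[k] R where
  toFun x := u * x * ↑u⁻¹
  map_one' := by simp
  map_mul' x y := by
    simp only [mul_assoc, Units.inv_mul_cancel_left]
  map_zero' := by simp
  map_add' x y := by simp [mul_add, add_mul]
  commutes' r := by
    rw [← Algebra.commutes, mul_assoc, Units.mul_inv, mul_one]

@[simp] theorem conjAlgHom_apply (u : Rˣ) (x : R) :
    conjAlgHom (k := k) u x = u * x * ↑u⁻¹ := rfl

end conj

section hilbert90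

open Matrix
attribute [local instance] CSAGal.matrixAction GpH1.unitsAction

/-- Hilbert 90 for `GL_n`, matrix form (universe polymorphic; from helper99's S13298) -/
theorem hilbert90_GL' (K : Type u) (L : Type u') [Field K] [Field L]
    [Algebra K L] [FiniteDimensional K L] [IsGalois K L] (n : ℕ)
    (B : (L ≃ₐ[K] L) → GL (Fin n) L)
    (hB : ∀ σ τ : L ≃ₐ[K] L,
      (B σ : Matrix (Fin n) (Fin n) L) * (B τ : Matrix (Fin n) (Fin n) L).map σ =
        (B (σ * τ) : Matrix (Fin n) (Fin n) L)) :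
    ∃ A : GL (Fin n) L, ∀ σ : L ≃ₐ[K] L,
      (B σ : Matrix (Fin n) (Fin n) L) =
        ((A⁻¹ : GL (Fin n) L) : Matrix (Fin n) (Fin n) L) * (A : Matrix (Fin n) (Fin n) L).map σ := by
  have hcoc : GpH1.IsOneCocycle B := by
    intro σ τ
    apply Units.ext
    rw [← hB σ τ]
    rfl
  have h := Groth.Agent.S13298.result K L n (GpH1.OneCocycle.cl ⟨B, hcoc⟩)
  change _ = (GpH1.OneCocycle.trivial : GpH1.OneCocycle (L ≃ₐ[K] L) (GL (Fin n) L)).cl at h
  rw [GpH1.OneCocycle.cl_eq_cl_iff] at h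
  obtain ⟨c, hc⟩ := h
  refine ⟨c, fun σ => ?_⟩
  have := hc σ
  change B σ = c⁻¹ * 1 * σ • c at this
  rw [this, mul_one]
  rfl

end hilbert90

section split

variable {k : Type u} [Field k] {K : Type u'} [Field K] [Algebra k K]
  [FiniteDimensional k K] [IsGalois k K]
  {B : Type v} [Ring B] [Algebra k B]
  {a : (K ≃ₐ[k] K) → (K ≃ₐ[k] K) → Kˣ}

/-- a matrix over `K` fixed entrywise by the Galois group comes from `k` -/
theorem mem_range_mapMatrix {n : ℕ} (M : Matrix (Fin n) (Fin n) K)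
    (hM : ∀ σ : K ≃ₐ[k] K, σ.mapMatrix M = M) :
    M ∈ (AlgHom.mapMatrix (m := Fin n) (Algebra.ofId k K)).range := by
  have h1 : ∀ i j, ∃ c : k, algebraMap k K c = M i j := by
    intro i j
    rw [← Set.mem_range, IsGalois.mem_range_algebraMap_iff_fixed]
    intro σ
    have := congrFun (congrFun (hM σ) i) j
    simpa [AlgEquiv.mapMatrix_apply] using this
  choose c hc using h1
  refine ⟨Matrix.of c, ?_⟩
  ext i j
  simp [AlgHom.mapMatrix_apply, Algebra.ofId_apply, hc]

theorem IsDatum.split_of_mem_cobdry [IsSimpleRing B] {n : ℕ}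
    {ψ : B →ₐ[k] Matrix (Fin n) (Fin n) K} {g : (K ≃ₐ[k] K) → Matrix (Fin n) (Fin n) K}
    (h : IsDatum ψ g a)
    (ha : a ∈ cobdry k K) (hB : Module.finrank k B ≠ 0) :
    ∃ n : ℕ, n ≠ 0 ∧ Nonempty (B ≃ₐ[k] Matrix (Fin n) (Fin n) k) := by
  obtain ⟨hdim, hu, hcomm, hcoc⟩ := h
  rw [Fintype.card_fin] at hdim
  have hn0 : n ≠ 0 := by
    rintro h0
    rw [h0] at hdim
    exact hB hdim
  obtain ⟨b, hb⟩ := ha
  -- the genuine cocycle
  have hdet : ∀ σ, IsUnit (((((b σ)⁻¹ : Kˣ) : K) • g σ).det) := by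
    intro σ
    rw [Matrix.det_smul]
    exact ((b σ)⁻¹.isUnit.pow _).mul (hu σ)
  let h : (K ≃ₐ[k] K) → GL (Fin n) K := fun σ =>
    Matrix.GeneralLinearGroup.mk'' ((((b σ)⁻¹ : Kˣ) : K) • g σ) (hdet σ)
  have hh : ∀ σ, ((h σ : GL (Fin n) K) : Matrix (Fin n) (Fin n) K) =
      (((b σ)⁻¹ : Kˣ) : K) • g σ := fun σ => rfl
  have hcoc' : ∀ σ τ : K ≃ₐ[k] K,
      (h σ : Matrix (Fin n) (Fin n) K) * (h τ : Matrix (Fin n) (Fin n) K).map σ =
        (h (σ * τ) : Matrix (Fin n) (Fin n) K) := by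
    intro σ τ
    rw [hh, hh, hh, ← AlgEquiv.mapMatrix_apply, mapMatrix_smul, Matrix.smul_mul,
      Matrix.mul_smul, hcoc, smul_smul, smul_smul]
    congr 1
    have h1 := hb σ τ
    have h2 : (b (σ * τ) : K) ≠ 0 := (b (σ * τ)).ne_zero
    have h3 : (b σ : K) ≠ 0 := (b σ).ne_zero
    have h4 : σ (b τ : K) ≠ 0 := by
      rw [Ne, map_eq_zero]
      exact (b τ).ne_zero
    simp only [Units.val_inv_eq_inv_val, map_inv₀]
    field_simp
    rw [← h1]
  obtain ⟨A, hA⟩ := hilbert90_GL' k K n h hcoc'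
  -- the conjugated embedding has Galois-fixed entries
  let ψ' : B →ₐ[k] Matrix (Fin n) (Fin n) K := (conjAlgHom (k := k) A).comp ψ
  have hfix : ∀ (x : B) (σ : K ≃ₐ[k] K), σ.mapMatrix (ψ' x) = ψ' x := by
    intro x σ
    change σ.mapMatrix ((A : Matrix (Fin n) (Fin n) K) * ψ x *
      ((A⁻¹ : GL (Fin n) K) : Matrix (Fin n) (Fin n) K)) =
      (A : Matrix (Fin n) (Fin n) K) * ψ x * ((A⁻¹ : GL (Fin n) K) : Matrix (Fin n) (Fin n) K)
    have h1 : (h σ : Matrix (Fin n) (Fin n) K) * σ.mapMatrix (ψ x) =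
        ψ x * (h σ : Matrix (Fin n) (Fin n) K) := by
      rw [hh, Matrix.smul_mul, Matrix.mul_smul, hcomm]
    rw [hA σ, ← AlgEquiv.mapMatrix_apply] at h1
    -- h1 : A⁻¹ * σ A * σ (ψ x) = ψ x * (A⁻¹ * σ A)
    have h2 : σ.mapMatrix (A : Matrix (Fin n) (Fin n) K) * σ.mapMatrix (ψ x) =
        (A : Matrix (Fin n) (Fin n) K) * ψ x *
          ((A⁻¹ : GL (Fin n) K) : Matrix (Fin n) (Fin n) K) *
          σ.mapMatrix (A : Matrix (Fin n) (Fin n) K) := by
      have h3 := congrArg (fun X => (A : Matrix (Fin n) (Fin n) K) * X) h1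
      simp only [← mul_assoc] at h3
      rw [Units.mul_inv, one_mul] at h3
      exact h3
    rw [map_mul, map_mul, h2, mul_assoc, ← map_mul, Units.mul_inv, map_one, mul_one]
  -- hence it lands in matrices over k
  let F : Matrix (Fin n) (Fin n) k →ₐ[k] Matrix (Fin n) (Fin n) K :=
    AlgHom.mapMatrix (Algebra.ofId k K)
  have hFinj : Function.Injective F := by
    intro M N hMN
    ext i j
    have := congrFun (congrFun hMN i) j
    simp only [F, AlgHom.mapMatrix_apply, Matrix.map_apply, Algebra.ofId_apply] at this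
    exact (algebraMap k K).injective this
  have hmem : ∀ x, ψ' x ∈ F.range := fun x => mem_range_mapMatrix (ψ' x) (hfix x)
  let θ : B →ₐ[k] Matrix (Fin n) (Fin n) k :=
    (AlgEquiv.ofInjective F hFinj).symm.toAlgHom.comp (ψ'.codRestrict F.range hmem)
  have : NeZero n := ⟨hn0⟩
  have hθinj : Function.Injective θ := θ.toRingHom.injective
  have : FiniteDimensional k B := Module.finite_of_finrank_pos (Nat.pos_of_ne_zero hB)
  have hfr : Module.finrank k B = Module.finrank k (Matrix (Fin n) (Fin n) k) := by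
    rw [hdim, Module.finrank_matrix]
    simp [pow_two]
  have hθsurj : Function.Surjective θ :=
    (LinearMap.injective_iff_surjective_of_finrank_eq_finrank (f := θ.toLinearMap) hfr).mp hθinj
  exact ⟨n, hn0, ⟨AlgEquiv.ofBijective θ ⟨hθinj, hθsurj⟩⟩⟩

theorem Realizes.split_of_mem_cobdry [IsSimpleRing B] (h : Realizes B a)
    (ha : a ∈ cobdry k K) (hB : Module.finrank k B ≠ 0) :
    ∃ n : ℕ, n ≠ 0 ∧ Nonempty (B ≃ₐ[k] Matrix (Fin n) (Fin n) k) := by
  obtain ⟨ι, _, _, ψ₀, g₀, hd₀⟩ := h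
  exact (hd₀.reindex (Fintype.equivFin ι)).split_of_mem_cobdry ha hB

end split

end Groth.Agent.Lib.Helper1.Factor
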