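import Groth.Prelude.Def_W4c6instabfans3FanCvx
import Groth.Agent.Lib.Helper83.FanSeq
import Groth.Agent.Lib.Helper83.FanMax
import Mathlib

/-!
# Uniqueness of local maxima of strictly quasi-concave functions on compact convex subsets of `P F`
(helper1)

The endpoints may be irrational, so no segment joins them directly.  Instead:
* a local maximum `x` dominates strictly every other point of every cell through `x`
  (`lt_of_mem_cell`, strict quasi-concavity inside the cell);
* hence `{Φ ≥ Φ x} \ {x}` is closed by the cellwise closedness criterion of a quasi-separated fan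
  (`isClosed_superlevel_diff`): `x` is a *topologically* strict local maximum;
* choose an open `O ∋ x` with closure inside that strict neighbourhood; on the compact frontier of `O`
  the function is bounded by some `s'' < Φ x`; a segment between rational points `a ∈ O` and `b`
  near `y` with values `> s''` is connected, hence meets the frontier, where quasi-concavity gives a
  value `> s''`: contradiction.
-/

set_option autoImplicit false
universe u v
open CategoryTheory Opposite Instab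
open Instab Instab.Fan

namespace Groth.Agent.Lib.Helper1.FanLocMax

open Groth.Agent.Lib.Helper83 Groth.Agent.Lib.Helper83.FanMax

variable {F : Fan.{u}}

theorem exists_pos {n : ICone} (v : Fan.Orth n) : ∃ i, 0 < v.1 i := by
  by_contra h
  push Not at h
  exact v.2.2 (funext fun i => le_antisymm (h i) (v.2.1 i))

/-- the point `v + |t| w` of the punctured orthant. -/
noncomputable def pth {n : ICone} (v w : Fan.Orth n) (t : ℝ) : Fan.Orth n :=
  ⟨v.1 + |t| • w.1, fun i => by
    simp only [Pi.add_apply, Pi.smul_apply, smul_eq_mul]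
    exact add_nonneg (v.2.1 i) (mul_nonneg (abs_nonneg t) (w.2.1 i)), fun h => by
    obtain ⟨i, hi⟩ := exists_pos v
    have h1 := congrFun h i
    simp only [Pi.add_apply, Pi.smul_apply, smul_eq_mul, Pi.zero_apply] at h1
    have := mul_nonneg (abs_nonneg t) (w.2.1 i)
    linarith⟩

theorem pth_val {n : ICone} (v w : Fan.Orth n) (t : ℝ) : (pth v w t).1 = v.1 + |t| • w.1 := rfl

theorem pth_zero {n : ICone} (v w : Fan.Orth n) : pth v w 0 = v := by
  apply Subtype.ext
  rw [pth_val, abs_zero, zero_smul, add_zero]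

theorem continuous_pth {n : ICone} (v w : Fan.Orth n) : Continuous (pth v w) := by
  apply Continuous.subtype_mk
  exact continuous_const.add (continuous_abs.smul continuous_const)

/-- a local maximum strictly dominates every other point of every cell through it. -/
theorem lt_of_mem_cell (U : Set (Fan.P F)) (hLC : Fan.IsLocallyConvex U)
    {Γ : Type v} [LinearOrder Γ] (Φ : U → Γ) (hΦ : Fan.IsStrictQuasiConcaveOn U Φ)
    (x : U) (hx : IsLocalMax Φ x) {n : ICone} (ξ : F.obj (op n)) (v w : Fan.Orth n)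
    (hv : Fan.P.mk ξ v = x.1) (hw : Fan.P.mk ξ w ∈ U) (hne : Fan.P.mk ξ w ≠ x.1) :
    Φ ⟨_, hw⟩ < Φ x := by
  have hvU : Fan.P.mk ξ v ∈ U := by rw [hv]; exact x.2
  have hnp : ¬ ∃ c : ℝ, w.1 = c • v.1 := by
    rintro ⟨c, hc⟩
    obtain ⟨i, hi⟩ := exists_pos w
    have h1 := congrFun hc i
    simp only [Pi.smul_apply, smul_eq_mul] at h1
    have hcpos : 0 < c := by
      by_contra hcn
      push Not at hcn
      have := mul_nonpos_of_nonpos_of_nonneg hcn (v.2.1 i)
      linarith
    exact hne ((FanCone.mk_eq_of_smul ξ v w c hcpos hc).symm.trans hv)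
  have hmem : ∀ t : ℝ, Fan.P.mk ξ (pth v w t) ∈ U := by
    intro t
    by_cases ht : t = 0
    · rw [ht, pth_zero]; exact hvU
    · exact hLC n ξ v (pth v w t) w hvU hw
        ⟨1, |t|, one_pos, abs_pos.2 ht, by rw [pth_val, one_smul]⟩
  let γ : ℝ → U := fun t => ⟨Fan.P.mk ξ (pth v w t), hmem t⟩
  have hγ : Continuous γ := ((continuous_mk ξ).comp (continuous_pth v w)).subtype_mk _
  have hγ0 : γ 0 = x := by
    apply Subtype.ext
    change Fan.P.mk ξ (pth v w 0) = x.1
    rw [pth_zero, hv]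
  have hev : ∀ᶠ t in nhds (0 : ℝ), Φ (γ t) ≤ Φ x := by
    have h1 : Filter.Tendsto γ (nhds 0) (nhds x) := by
      have := hγ.tendsto 0
      rwa [hγ0] at this
    exact h1.eventually hx
  obtain ⟨δ, hδ, hδP⟩ := Metric.eventually_nhds_iff.1 hev
  have ht0 : (δ / 2) ≠ 0 := by positivity
  have hle : Φ (γ (δ / 2)) ≤ Φ x := by
    apply hδP
    rw [Real.dist_eq, sub_zero, abs_of_pos (by positivity)]
    linarith
  have hq := hΦ n ξ v (pth v w (δ / 2)) w hvU (hmem _) hw hnp
    ⟨1, |δ / 2|, one_pos, abs_pos.2 ht0, by rw [pth_val, one_smul]⟩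
  have e0 : (⟨_, hvU⟩ : U) = x := Subtype.ext hv
  have e1 : (⟨_, hmem (δ / 2)⟩ : U) = γ (δ / 2) := rfl
  rw [e0, e1] at hq
  have h2 : min (Φ x) (Φ ⟨_, hw⟩) < Φ x := lt_of_lt_of_le hq hle
  rcases min_lt_iff.1 h2 with h | h
  · exact absurd h (lt_irrefl _)
  · exact h

theorem isClosed_cell (hF : F.IsQuasiSeparated) {n : ICone} (ξ : F.obj (op n)) :
    IsClosed (Fan.P.cell ξ) := by
  have := ((FanTop.qsep_top F hF).2 Set.univ).1 isClosed_univ n ξ
  rwa [Set.univ_inter] at this

/-- a local maximum is a topologically strict local maximum. -/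
theorem isClosed_superlevel_diff (hF : F.IsQuasiSeparated) [T2Space (Fan.P F)]
    (U : Set (Fan.P F)) (hUc : IsCompact U) (hLC : Fan.IsLocallyConvex U)
    {Γ : Type v} [LinearOrder Γ] [TopologicalSpace Γ] [OrderTopology Γ]
    (Φ : U → Γ) (hΦc : Continuous Φ) (hΦ : Fan.IsStrictQuasiConcaveOn U Φ)
    (x : U) (hx : IsLocalMax Φ x) : IsClosed {z : U | Φ x ≤ Φ z ∧ z ≠ x} := by
  have hcs : CompactSpace U := isCompact_iff_compactSpace.mp hUc
  have hA : IsClosed {z : U | Φ x ≤ Φ z} := isClosed_le continuous_const hΦc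
  have hAim : IsClosed (Subtype.val '' {z : U | Φ x ≤ Φ z}) :=
    (hA.isCompact.image continuous_subtype_val).isClosed
  have hB : IsClosed (Subtype.val '' {z : U | Φ x ≤ Φ z ∧ z ≠ x}) := by
    rw [(FanTop.qsep_top F hF).2]
    intro n ξ
    by_cases hxc : x.1 ∈ Fan.P.cell ξ
    · have hempty : Subtype.val '' {z : U | Φ x ≤ Φ z ∧ z ≠ x} ∩ Fan.P.cell ξ = ∅ := by
        rw [Set.eq_empty_iff_forall_notMem]
        rintro p ⟨⟨z, ⟨hz1, hz2⟩, rfl⟩, ⟨w, hw⟩⟩
        obtain ⟨v, hv⟩ := hxc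
        have hwU : Fan.P.mk ξ w ∈ U := by rw [hw]; exact z.2
        have hne : Fan.P.mk ξ w ≠ x.1 := by
          rw [hw]
          exact fun h => hz2 (Subtype.ext h)
        have hlt := lt_of_mem_cell U hLC Φ hΦ x hx ξ v w hv hwU hne
        have ez : (⟨_, hwU⟩ : U) = z := Subtype.ext hw
        rw [ez] at hlt
        exact absurd hz1 (not_le.2 hlt)
      rw [hempty]
      exact isClosed_empty
    · have heq : Subtype.val '' {z : U | Φ x ≤ Φ z ∧ z ≠ x} ∩ Fan.P.cell ξ
          = Subtype.val '' {z : U | Φ x ≤ Φ z} ∩ Fan.P.cell ξ := by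
        ext p
        constructor
        · rintro ⟨⟨z, ⟨hz1, _⟩, rfl⟩, hp⟩
          exact ⟨⟨z, hz1, rfl⟩, hp⟩
        · rintro ⟨⟨z, hz1, rfl⟩, hp⟩
          refine ⟨⟨z, ⟨hz1, fun h => hxc ?_⟩, rfl⟩, hp⟩
          rw [← h]; exact hp
      rw [heq]
      exact hAim.inter (isClosed_cell hF ξ)
  have hpre : {z : U | Φ x ≤ Φ z ∧ z ≠ x}
      = Subtype.val ⁻¹' (Subtype.val '' {z : U | Φ x ≤ Φ z ∧ z ≠ x}) :=
    (Set.preimage_image_eq _ Subtype.val_injective).symm
  rw [hpre]
  exact hB.preimage continuous_subtype_val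

/-- rational points are dense in a realizable subset. -/
theorem exists_rational_mem (U : Set (Fan.P F)) (hR : Fan.IsRealizable U) (V : Set U)
    (hV : IsOpen V) (z : U) (hz : z ∈ V) : ∃ a : U, a ∈ V ∧ (a : Fan.P F).IsRational := by
  obtain ⟨n, ξ, v, hzv, hcell⟩ := exists_cell hR z.1 z.2
  let g : Fan.Orth n → U := fun w => ⟨Fan.P.mk ξ w, hcell ⟨w, rfl⟩⟩
  have hg : Continuous g := (continuous_mk ξ).subtype_mk _
  have hO : IsOpen (g ⁻¹' V) := hV.preimage hg
  have hgv : g v = z := Subtype.ext hzv.symm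
  have hvO : v ∈ g ⁻¹' V := by
    change g v ∈ V
    rw [hgv]; exact hz
  obtain ⟨z', hz', hz0', w, c, hwO, hc, hzw⟩ := exists_int_approx _ hO v hvO
  have hw'1 : ∀ i, 0 ≤ (fun j => (z' j : ℝ)) i := fun i => by
    change (0 : ℝ) ≤ (z' i : ℝ)
    exact_mod_cast hz' i
  have hw'2 : (fun j => (z' j : ℝ)) ≠ 0 := by
    intro h
    apply hz0'
    funext i
    have h1 : (z' i : ℝ) = 0 := congrFun h i
    change z' i = 0
    exact_mod_cast h1
  let w' : Fan.Orth n := ⟨fun j => (z' j : ℝ), hw'1, hw'2⟩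
  have hww' : Fan.P.mk ξ w = Fan.P.mk ξ w' := FanCone.mk_eq_of_smul ξ w w' c hc hzw
  refine ⟨g w, hwO, ?_⟩
  change (Fan.P.mk ξ w).IsRational
  rw [hww']
  exact isRational_mk_int ξ z' hz' hz0' w' rfl

theorem preconnectedSpace_orth (n : ICone) : PreconnectedSpace (Fan.Orth n) := by
  have hconv : Convex ℝ {v : Fin n.dim → ℝ | (∀ i, 0 ≤ v i) ∧ v ≠ 0} := by
    intro v hv w hw a b ha hb hab
    refine ⟨fun i => ?_, fun h => ?_⟩
    · simp only [Pi.add_apply, Pi.smul_apply, smul_eq_mul]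
      exact add_nonneg (mul_nonneg ha (hv.1 i)) (mul_nonneg hb (hw.1 i))
    · rcases eq_or_lt_of_le ha with ha0 | ha0
      · have hb1 : b = 1 := by linarith
        rw [← ha0, hb1, zero_smul, one_smul, zero_add] at h
        exact hw.2 h
      · obtain ⟨i, hi⟩ := exists_pos (⟨v, hv⟩ : Fan.Orth n)
        have h1 := congrFun h i
        simp only [Pi.add_apply, Pi.smul_apply, smul_eq_mul, Pi.zero_apply] at h1
        have h2 : 0 < a * v i := mul_pos ha0 hi
        have h3 := mul_nonneg hb (hw.1 i)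
        linarith
  exact Subtype.preconnectedSpace hconv.isPreconnected

theorem basis_pos_coord (u : Fan.Orth Fan.two) (h1 : u.1 1 = 0) : 0 < u.1 0 := by
  obtain ⟨i, hi⟩ := exists_pos u
  rcases fin_two_cases i with rfl | rfl
  · exact hi
  · rw [h1] at hi; exact absurd hi (lt_irrefl _)

theorem basis_pos_coord' (u : Fan.Orth Fan.two) (h0 : u.1 0 = 0) : 0 < u.1 1 := by
  obtain ⟨i, hi⟩ := exists_pos u
  rcases fin_two_cases i with rfl | rfl
  · rw [h0] at hi; exact absurd hi (lt_irrefl _)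
  · exact hi

theorem decomp (u : Fan.Orth Fan.two) :
    u.1 = u.1 0 • (Fan.Orth.basis Fan.two 0).1 + u.1 1 • (Fan.Orth.basis Fan.two 1).1 := by
  funext j
  rw [Pi.add_apply, Pi.smul_apply, Pi.smul_apply, basis_apply, basis_apply]
  rcases fin_two_cases j with rfl | rfl
  · rw [if_pos rfl, if_neg one_ne_zero'.symm]
    simp
  · rw [if_neg one_ne_zero', if_pos rfl]
    simp

theorem main (F : Fan.{u}) (hF : F.IsQuasiSeparated) (hT2 : T2Space (Fan.P F))
    (U : Set (Fan.P F)) (hUc : IsCompact U)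
    (hU : Fan.IsConvex U) {Γ : Type v} [LinearOrder Γ] [TopologicalSpace Γ] [OrderTopology Γ]
    (Φ : U → Γ) (hΦc : Continuous Φ) (hΦ : Fan.IsStrictQuasiConcaveOn U Φ) (x y : U)
    (hx : IsLocalMax Φ x) (hy : IsLocalMax Φ y) : x = y := by
  wlog hle : Φ x ≤ Φ y generalizing x y
  · exact (this y x hy hx (le_of_not_ge hle)).symm
  by_contra hxy
  obtain ⟨hLC, hR, hseg⟩ := hU
  have hcs : CompactSpace U := isCompact_iff_compactSpace.mp hUc
  have hcl := isClosed_superlevel_diff hF U hUc hLC Φ hΦc hΦ x hx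
  have hWo : IsOpen ({z : U | Φ x ≤ Φ z ∧ z ≠ x}ᶜ ∩ {y}ᶜ) :=
    hcl.isOpen_compl.inter isClosed_singleton.isOpen_compl
  have hxW : x ∈ {z : U | Φ x ≤ Φ z ∧ z ≠ x}ᶜ ∩ {y}ᶜ := ⟨fun h => h.2 rfl, hxy⟩
  obtain ⟨t, htx, htc, htW⟩ := exists_mem_nhds_isClosed_subset (hWo.mem_nhds hxW)
  have hOo : IsOpen (interior t) := isOpen_interior
  have hxO : x ∈ interior t := mem_interior_iff_mem_nhds.mpr htx
  have hclO : closure (interior t) ⊆ t := closure_minimal interior_subset htc
  have hDc : IsCompact (closure (interior t) \ interior t) :=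
    (isClosed_closure.sdiff hOo).isCompact
  have hDlt : ∀ z ∈ closure (interior t) \ interior t, Φ z < Φ x := by
    intro z hz
    have hzW := htW (hclO hz.1)
    have hzx : z ≠ x := fun h => hz.2 (h ▸ hxO)
    by_contra hnot
    exact hzW.1 ⟨not_lt.mp hnot, hzx⟩
  obtain ⟨G, hGo, hxG, hyG, hG⟩ : ∃ G : Set U, IsOpen G ∧ x ∈ G ∧ y ∈ G ∧
      ∀ z ∈ G, ∀ z' ∈ closure (interior t) \ interior t, Φ z' < Φ z := by
    rcases (closure (interior t) \ interior t).eq_empty_or_nonempty with hD | hD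
    · refine ⟨Set.univ, isOpen_univ, trivial, trivial, fun z _ z' hz' => ?_⟩
      rw [hD] at hz'
      exact absurd hz' (Set.notMem_empty _)
    · obtain ⟨z0, hz0, hmax⟩ := hDc.exists_isMaxOn hD hΦc.continuousOn
      refine ⟨{z | Φ z0 < Φ z}, isOpen_lt continuous_const hΦc, hDlt z0 hz0,
        lt_of_lt_of_le (hDlt z0 hz0) hle, fun z hz z' hz' => lt_of_le_of_lt ?_ hz⟩
      exact isMaxOn_iff.mp hmax z' hz'
  obtain ⟨a, haV, harat⟩ := exists_rational_mem U hR (interior t ∩ G) (hOo.inter hGo) x ⟨hxO, hxG⟩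
  have hyout : y ∈ (closure (interior t))ᶜ ∩ G := ⟨fun h => (htW (hclO h)).2 rfl, hyG⟩
  obtain ⟨b, hbV, hbrat⟩ := exists_rational_mem U hR ((closure (interior t))ᶜ ∩ G)
    (isClosed_closure.isOpen_compl.inter hGo) y hyout
  have hab : (a : Fan.P F) ≠ b := by
    intro h
    have hab' : a = b := Subtype.ext h
    exact hbV.1 (subset_closure (hab' ▸ haV.1))
  obtain ⟨τ, hτU, hτ0, hτ1⟩ := hseg a.1 b.1 a.2 b.2 harat hbrat hab
  let g : Fan.Orth Fan.two → U := fun u => ⟨Fan.P.mk τ u, hτU ⟨u, rfl⟩⟩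
  have hg : Continuous g := (continuous_mk τ).subtype_mk _
  have hga : g (Fan.Orth.basis Fan.two 0) = a := Subtype.ext hτ0
  have hgb : g (Fan.Orth.basis Fan.two 1) = b := Subtype.ext hτ1
  have hseg_gt : ∀ u : Fan.Orth Fan.two, ∀ z' ∈ closure (interior t) \ interior t,
      Φ z' < Φ (g u) := by
    intro u z' hz'
    have ha' := hG a haV.2 z' hz'
    have hb' := hG b hbV.2 z' hz'
    by_cases h1 : u.1 1 = 0
    · have hu0 := basis_pos_coord u h1
      have hgu : g u = a := by
        rw [← hga]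
        apply Subtype.ext
        refine (FanCone.mk_eq_of_smul τ (Fan.Orth.basis Fan.two 0) u (u.1 0) hu0 ?_).symm
        have := decomp u
        rw [h1, zero_smul, add_zero] at this
        exact this
      rw [hgu]; exact ha'
    · by_cases h0 : u.1 0 = 0
      · have hu1 := basis_pos_coord' u h0
        have hgu : g u = b := by
          rw [← hgb]
          apply Subtype.ext
          refine (FanCone.mk_eq_of_smul τ (Fan.Orth.basis Fan.two 1) u (u.1 1) hu1 ?_).symm
          have := decomp u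
          rw [h0, zero_smul, zero_add] at this
          exact this
        rw [hgu]; exact hb'
      · have h₀ : Fan.P.mk τ (Fan.Orth.basis Fan.two 0) ∈ U := hτU ⟨_, rfl⟩
        have h₂ : Fan.P.mk τ (Fan.Orth.basis Fan.two 1) ∈ U := hτU ⟨_, rfl⟩
        have h₁ : Fan.P.mk τ u ∈ U := hτU ⟨_, rfl⟩
        have hq := hΦ Fan.two τ (Fan.Orth.basis Fan.two 0) u (Fan.Orth.basis Fan.two 1)
          h₀ h₁ h₂ not_prop
          ⟨u.1 0, u.1 1, lt_of_le_of_ne (u.2.1 0) (Ne.symm h0),
            lt_of_le_of_ne (u.2.1 1) (Ne.symm h1), decomp u⟩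
        have e0 : (⟨_, h₀⟩ : U) = a := Subtype.ext hτ0
        have e2 : (⟨_, h₂⟩ : U) = b := Subtype.ext hτ1
        have e1 : (⟨_, h₁⟩ : U) = g u := rfl
        rw [e0, e2, e1] at hq
        exact lt_trans (lt_min ha' hb') hq
  have hps : PreconnectedSpace (Fan.Orth Fan.two) := preconnectedSpace_orth Fan.two
  have hpre : IsPreconnected (Set.range g) := isPreconnected_range hg
  have hsub : Set.range g ⊆ interior t ∪ (closure (interior t))ᶜ := by
    rintro _ ⟨u, rfl⟩
    by_contra hnot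
    rw [Set.mem_union, not_or] at hnot
    have hzD : g u ∈ closure (interior t) \ interior t := ⟨not_not.mp hnot.2, hnot.1⟩
    exact lt_irrefl _ (hseg_gt u (g u) hzD)
  obtain ⟨z, _, hzO, hzc⟩ := hpre (interior t) (closure (interior t))ᶜ hOo
    isClosed_closure.isOpen_compl hsub ⟨a, ⟨_, hga⟩, haV.1⟩ ⟨b, ⟨_, hgb⟩, hbV.1⟩
  exact hzc (subset_closure hzO)

end Groth.Agent.Lib.Helper1.FanLocMax
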