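import Mathlib.RingTheory.Flat.FaithfullyFlat.Basic
import Mathlib.RingTheory.Flat.Tensor
import Mathlib.RingTheory.RingHom.Flat

set_option autoImplicit false

namespace Groth.Agent.Lib.Helper1

open TensorProduct

theorem flat_of_faithfullyFlat_of_flat (R S T : Type*) [CommRing R] [CommRing S] [CommRing T]
    [Algebra R S] [Algebra S T] [Algebra R T] [IsScalarTower R S T]
    [Module.FaithfullyFlat S T] [Module.Flat R T] : Module.Flat R S := by
  rw [Module.Flat.iff_lTensor_injective']
  intro I
  let g : S ⊗[R] I →ₗ[S] S ⊗[R] R := TensorProduct.AlgebraTensorModule.lTensor S S I.subtype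
  have hg : (g : S ⊗[R] I → S ⊗[R] R) = I.subtype.lTensor S := rfl
  rw [← hg, ← Module.FaithfullyFlat.lTensor_injective_iff_injective S T]
  let e1 := TensorProduct.AlgebraTensorModule.cancelBaseChange R S S T I
  let e2 := TensorProduct.AlgebraTensorModule.cancelBaseChange R S S T R
  have key : ∀ x, e2 (g.lTensor T x) = I.subtype.lTensor T (e1 x) := by
    intro x
    induction x using TensorProduct.induction_on with
    | zero => simp
    | add x y hx hy => simp [hx, hy]
    | tmul t y =>
      induction y using TensorProduct.induction_on with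
      | zero => simp
      | add x y hx hy => rw [tmul_add, map_add, map_add, hx, hy, map_add, map_add]
      | tmul s i => simp [e1, e2, g]
  have hinj : Function.Injective (I.subtype.lTensor T) :=
    Module.Flat.lTensor_preserves_injective_linearMap _ I.injective_subtype
  intro x y hxy
  apply e1.injective
  apply hinj
  rw [← key, ← key, hxy]

end Groth.Agent.Lib.Helper1

namespace Groth.Agent.Lib.Helper1

open TensorProduct

theorem flat_lmul'_of_faithfullyFlat {A B C : Type*} [CommRing A] [CommRing B] [CommRing C]
    [Algebra A B] [Algebra B C] [Algebra A C] [IsScalarTower A B C] [Module.FaithfullyFlat B C]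
    (h : (Algebra.TensorProduct.lmul' A (S := C)).toRingHom.Flat) :
    (Algebra.TensorProduct.lmul' A (S := B)).toRingHom.Flat := by
  let f : B →ₐ[A] C := IsScalarTower.toAlgHom A B C
  have hf : f.toRingHom.Flat := by
    have : f.toRingHom = algebraMap B C := rfl
    rw [this, RingHom.flat_algebraMap_iff]
    infer_instance
  have h1 : (Algebra.TensorProduct.map f f).toRingHom.Flat := RingHom.Flat.tensorProductMap hf hf
  have h2 := RingHom.Flat.comp h1 h
  let F : B ⊗[A] B →+* B := (Algebra.TensorProduct.lmul' A (S := B)).toRingHom
  have heq : (Algebra.TensorProduct.lmul' A (S := C)).toRingHom.comp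
      (Algebra.TensorProduct.map f f).toRingHom = (algebraMap B C).comp F := by
    have : (Algebra.TensorProduct.lmul' A (S := C)).comp (Algebra.TensorProduct.map f f) =
        f.comp (Algebra.TensorProduct.lmul' A (S := B)) := by
      ext <;> simp
    exact congrArg AlgHom.toRingHom this
  rw [heq] at h2
  let _ : Algebra (B ⊗[A] B) B := F.toAlgebra
  let _ : Algebra (B ⊗[A] B) C := ((algebraMap B C).comp F).toAlgebra
  have : IsScalarTower (B ⊗[A] B) B C := IsScalarTower.of_algebraMap_eq (fun x => rfl)
  have : Module.Flat (B ⊗[A] B) C := h2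
  exact flat_of_faithfullyFlat_of_flat (B ⊗[A] B) B C

end Groth.Agent.Lib.Helper1
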