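import Mathlib.RingTheory.SimpleModule.WedderburnArtin
import Mathlib.RingTheory.SimpleModule.Isotypic
import Mathlib.RingTheory.Jacobson.Semiprimary
import Mathlib.RingTheory.Artinian.Ring
import Mathlib.RingTheory.HopkinsLevitzki
import Mathlib.LinearAlgebra.Dimension.Constructions
import Mathlib.LinearAlgebra.FiniteDimensional.Basic
import Mathlib.LinearAlgebra.FiniteDimensional.Lemmas
import Mathlib.LinearAlgebra.TensorProduct.RightExactness
import Mathlib.RingTheory.TensorProduct.Pi
import Mathlib.RingTheory.TensorProduct.Finite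
import Mathlib.RingTheory.TensorProduct.Free
import Mathlib.RingTheory.Nilpotent.Basic
import Mathlib.Algebra.Group.Pi.Units

/-!
# Forms of the regular module contain a unit

`k` a field, `K/k` a finite field extension, `A` a finite-dimensional `k`-algebra (arbitrary:
not assumed simple or central), `V0` a `k`-subspace of `K ⊗[k] A` stable under left multiplication
by `1 ⊗ A`, spanning `K ⊗ A` over `K`, with `dim_k V0 ≤ dim_k A`.  Then `V0` contains a unit of
`K ⊗ A` (`exists_unit`).  This is the Noether–Deuring type statement "a `K/k`-form of the regular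
module is free of rank one", proved through the Jacobson radical and Wedderburn–Artin.
-/

set_option autoImplicit false

namespace Groth.Agent.Lib.Helper1.FormUnit

open scoped TensorProduct

universe u v w w'

section moduleIso

variable (k : Type*) [Field k] (R : Type*) [Ring R] [Algebra k R] [IsSimpleRing R]
  [FiniteDimensional k R]
variable (M : Type*) (N : Type*) [AddCommGroup M] [AddCommGroup N] [Module k M] [Module k N]
  [Module R M] [Module R N] [IsScalarTower k R M] [IsScalarTower k R N]
  [FiniteDimensional k M] [FiniteDimensional k N]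

/-- Over a finite-dimensional simple algebra, modules of the same finite dimension are isomorphic
(universe-polymorphic version of `CSA.nonempty_linearEquiv_of_finrank_eq`). -/
theorem nonempty_linearEquiv_of_finrank_eq (h : Module.finrank k M = Module.finrank k N) :
    Nonempty (M ≃ₗ[R] N) := by
  have : IsArtinianRing R := IsArtinianRing.of_finite k R
  have : Module.Finite R M := Module.Finite.of_restrictScalars_finite k R M
  have : Module.Finite R N := Module.Finite.of_restrictScalars_finite k R N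
  by_cases hM : Subsingleton M
  · have hN : Subsingleton N := by
      have h0 : Module.finrank k M = 0 := Module.finrank_zero_of_subsingleton
      rw [h0] at h
      exact Module.finrank_zero_iff.mp h.symm
    exact ⟨{ toFun := fun _ => 0, invFun := fun _ => 0, map_add' := by simp, map_smul' := by simp,
             left_inv := fun x => Subsingleton.elim _ _, right_inv := fun x => Subsingleton.elim _ _ }⟩
  have hMn : Nontrivial M := not_subsingleton_iff_nontrivial.mp hM
  have hNn : Nontrivial N := by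
    by_contra hN
    rw [not_nontrivial_iff_subsingleton] at hN
    have h0 : Module.finrank k N = 0 := Module.finrank_zero_of_subsingleton
    rw [h0] at h
    exact hM (Module.finrank_zero_iff.mp h)
  obtain ⟨n, _, S, hS, ⟨e⟩⟩ := (IsSimpleRing.isIsotypic R M).linearEquiv_fun
  obtain ⟨m, _, S', hS', ⟨e'⟩⟩ := (IsSimpleRing.isIsotypic R N).linearEquiv_fun
  let T := S.map (LinearMap.inl R M N)
  let T' := S'.map (LinearMap.inr R M N)
  let eT : S ≃ₗ[R] T := S.equivMapOfInjective _ LinearMap.inl_injective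
  let eT' : S' ≃ₗ[R] T' := S'.equivMapOfInjective _ LinearMap.inr_injective
  have : IsSimpleModule R T := IsSimpleModule.congr eT.symm
  have : IsSimpleModule R T' := IsSimpleModule.congr eT'.symm
  obtain ⟨eTT⟩ := IsSimpleRing.isIsotypic R (M × N) T T'
  let eS : S' ≃ₗ[R] S := eT'.trans (eTT.trans eT.symm)
  have : FiniteDimensional k S :=
    Module.Finite.of_injective (S.subtype.restrictScalars k) S.injective_subtype
  have : FiniteDimensional k S' :=
    Module.Finite.of_injective (S'.subtype.restrictScalars k) S'.injective_subtype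
  have h1 : Module.finrank k M = n * Module.finrank k S := by
    rw [(e.restrictScalars k).finrank_eq, Module.finrank_pi_fintype]
    simp
  have h2 : Module.finrank k N = m * Module.finrank k S := by
    rw [(e'.restrictScalars k).finrank_eq, Module.finrank_pi_fintype,
      (eS.restrictScalars k).finrank_eq]
    simp
  have hpos : 0 < Module.finrank k S := by
    have : Nontrivial S := IsSimpleModule.nontrivial R S
    exact Module.finrank_pos
  have hnm : n = m := by
    rw [h1, h2] at h
    exact Nat.eq_of_mul_eq_mul_right hpos h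
  subst hnm
  exact ⟨e.trans ((LinearEquiv.piCongrRight fun _ => eS.symm).trans e'.symm)⟩

end moduleIso

section span

variable {k : Type u} [Field k] {K : Type v} [Field K] [Algebra k K]

/-- The `K`-span of a `k`-subspace has `K`-dimension at most the `k`-dimension of the subspace. -/
theorem finrank_span_le {T : Type*} [AddCommGroup T] [Module k T] [Module K T] [IsScalarTower k K T]
    (W : Submodule k T) [FiniteDimensional k W] :
    Module.finrank K (Submodule.span K (W : Set T)) ≤ Module.finrank k W := by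
  classical
  let b := Module.finBasis k W
  have h1 : Submodule.span K (W : Set T) = Submodule.span K (Set.range (fun i => (b i : T))) := by
    apply le_antisymm
    · rw [Submodule.span_le]
      intro x hx
      have hs := b.sum_repr ⟨x, hx⟩
      have hx' : x = ∑ i, (b.repr ⟨x, hx⟩ i) • (b i : T) := by
        have := congrArg (fun z : W => (z : T)) hs
        simp only [Submodule.coe_sum, Submodule.coe_smul] at this
        exact this.symm
      rw [hx']
      refine Submodule.sum_mem _ fun i _ => ?_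
      rw [← algebraMap_smul K]
      exact Submodule.smul_mem _ _ (Submodule.subset_span ⟨i, rfl⟩)
    · apply Submodule.span_mono
      rintro _ ⟨i, rfl⟩
      exact (b i).2
  rw [h1]
  calc Module.finrank K (Submodule.span K (Set.range (fun i => (b i : T))))
      ≤ Fintype.card (Fin (Module.finrank k W)) := finrank_range_le_card _
    _ = Module.finrank k W := by simp

end span

section forms

variable {k : Type u} [Field k] {K : Type v} [Field K] [Algebra k K]
variable {A : Type w} [Ring A] [Algebra k A] {B : Type w'} [Ring B] [Algebra k B]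

/-- A `k`-subspace of `K ⊗[k] A` stable under left multiplication by `1 ⊗ A`. -/
def LStable (V0 : Submodule k (K ⊗[k] A)) : Prop :=
  ∀ (y : A) (v : K ⊗[k] A), v ∈ V0 → ((1 : K) ⊗ₜ[k] y) * v ∈ V0

/-- base change of an algebra hom to `K`. -/
noncomputable abbrev bc (q : A →ₐ[k] B) : K ⊗[k] A →ₐ[K] K ⊗[k] B :=
  Algebra.TensorProduct.map (AlgHom.id K K) q

theorem bc_tmul (q : A →ₐ[k] B) (c : K) (y : A) : bc q (c ⊗ₜ[k] y) = c ⊗ₜ[k] q y := by
  simp [bc]

theorem bc_surjective (q : A →ₐ[k] B) (hq : Function.Surjective q) :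
    Function.Surjective (bc (K := K) q) := by
  intro t
  induction t using TensorProduct.induction_on with
  | zero => exact ⟨0, map_zero _⟩
  | tmul c y' =>
    obtain ⟨y, rfl⟩ := hq y'
    exact ⟨c ⊗ₜ[k] y, bc_tmul q c y⟩
  | add a b ha hb =>
    obtain ⟨a', rfl⟩ := ha
    obtain ⟨b', rfl⟩ := hb
    exact ⟨a' + b', map_add _ _ _⟩

/-- The kernel of the base change of a surjection is spanned by `1 ⊗ ker`. -/
theorem mem_span_of_bc_eq_zero (q : A →ₐ[k] B) (hq : Function.Surjective q) (x : K ⊗[k] A)
    (hx : bc q x = 0) :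
    x ∈ Submodule.span K ((fun y : A => (1 : K) ⊗ₜ[k] y) '' {y | q y = 0}) := by
  let I : Submodule k A := LinearMap.ker q.toLinearMap
  have hex : Function.Exact I.subtype q.toLinearMap := by
    intro y
    constructor
    · intro hy
      exact ⟨⟨y, hy⟩, rfl⟩
    · rintro ⟨z, rfl⟩
      exact z.2
  have hex' := lTensor_exact K hex hq
  have hcomp : ∀ x : K ⊗[k] A, (LinearMap.lTensor K q.toLinearMap) x = bc q x := by
    intro x
    induction x using TensorProduct.induction_on with
    | zero => simp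
    | tmul c y => simp [bc]
    | add a b ha hb => simp only [map_add, ha, hb]
  have hmem : ∀ z : K ⊗[k] I, (LinearMap.lTensor K I.subtype) z ∈
      Submodule.span K ((fun y : A => (1 : K) ⊗ₜ[k] y) '' {y | q y = 0}) := by
    intro z
    induction z using TensorProduct.induction_on with
    | zero => simp
    | tmul c y =>
      rw [LinearMap.lTensor_tmul]
      have : c ⊗ₜ[k] (I.subtype y) = c • ((1 : K) ⊗ₜ[k] (y : A)) := by
        rw [TensorProduct.smul_tmul', smul_eq_mul, mul_one]
        rfl
      rw [this]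
      exact Submodule.smul_mem _ _ (Submodule.subset_span ⟨y, y.2, rfl⟩)
    | add a b ha hb =>
      rw [map_add]
      exact Submodule.add_mem _ ha hb
  have hx' : (LinearMap.lTensor K q.toLinearMap) x = 0 := by rw [hcomp, hx]
  obtain ⟨z, rfl⟩ := (hex' x).mp hx'
  exact hmem z

/-- the `k`-linear map underlying `bc q`. -/
noncomputable abbrev bcₗ (q : A →ₐ[k] B) : K ⊗[k] A →ₗ[k] K ⊗[k] B :=
  (bc (K := K) q).toLinearMap.restrictScalars k

theorem map_lstable (q : A →ₐ[k] B) (hq : Function.Surjective q)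
    (V0 : Submodule k (K ⊗[k] A)) (hst : LStable V0) :
    LStable (V0.map (bcₗ q)) := by
  rintro y' v' ⟨v, hv, rfl⟩
  obtain ⟨y, rfl⟩ := hq y'
  refine ⟨((1 : K) ⊗ₜ[k] y) * v, hst y v hv, ?_⟩
  show bc q (((1 : K) ⊗ₜ[k] y) * v) = ((1 : K) ⊗ₜ[k] q y) * bc q v
  rw [map_mul, bc_tmul]

theorem map_span (q : A →ₐ[k] B) (hq : Function.Surjective q)
    (V0 : Submodule k (K ⊗[k] A))
    (hspan : Submodule.span K (V0 : Set (K ⊗[k] A)) = ⊤) :
    Submodule.span K ((V0.map (bcₗ q) : Submodule k (K ⊗[k] B)) : Set (K ⊗[k] B)) = ⊤ := by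
  have h1 : ((V0.map (bcₗ q) : Submodule k (K ⊗[k] B)) : Set (K ⊗[k] B))
      = (bc (K := K) q).toLinearMap '' (V0 : Set (K ⊗[k] A)) := by
    ext t
    simp only [Submodule.map_coe, Set.mem_image, SetLike.mem_coe]
    rfl
  rw [h1, ← Submodule.map_span, hspan, Submodule.map_top, LinearMap.range_eq_top]
  exact bc_surjective q hq

/-- The image of a form under a surjection still satisfies the dimension bound. -/
theorem finrank_map_le [FiniteDimensional k K] [FiniteDimensional k A] [FiniteDimensional k B]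
    (q : A →ₐ[k] B) (hq : Function.Surjective q)
    (V0 : Submodule k (K ⊗[k] A)) (hst : LStable V0)
    (hspan : Submodule.span K (V0 : Set (K ⊗[k] A)) = ⊤)
    (hdim : Module.finrank k V0 ≤ Module.finrank k A) :
    Module.finrank k (V0.map (bcₗ q) : Submodule k (K ⊗[k] B)) ≤ Module.finrank k B := by
  let g : V0 →ₗ[k] K ⊗[k] B := (bcₗ q).domRestrict V0
  have hrn := g.finrank_range_add_finrank_ker
  have hrange : LinearMap.range g = V0.map (bcₗ q) := LinearMap.range_domRestrict V0 (bcₗ q)
  rw [hrange] at hrn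
  let W : Submodule k (K ⊗[k] A) := (LinearMap.ker g).map V0.subtype
  have hW : Module.finrank k W = Module.finrank k (LinearMap.ker g) :=
    Submodule.finrank_map_subtype_eq V0 (LinearMap.ker g)
  -- `1 ⊗ y ∈ span_K W` for `y ∈ ker q`
  have hmemW : ∀ y : A, q y = 0 → ∀ v ∈ V0, ((1 : K) ⊗ₜ[k] y) * v ∈ W := by
    intro y hy v hv
    refine ⟨⟨((1 : K) ⊗ₜ[k] y) * v, hst y v hv⟩, ?_, rfl⟩
    show bc q (((1 : K) ⊗ₜ[k] y) * v) = 0
    rw [map_mul, bc_tmul, hy, TensorProduct.tmul_zero, zero_mul]
  have h1 : ∀ y : A, q y = 0 → (1 : K) ⊗ₜ[k] y ∈ Submodule.span K (W : Set (K ⊗[k] A)) := by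
    intro y hy
    have key : ∀ t ∈ Submodule.span K (V0 : Set (K ⊗[k] A)),
        ((1 : K) ⊗ₜ[k] y) * t ∈ Submodule.span K (W : Set (K ⊗[k] A)) := by
      intro t ht
      induction ht using Submodule.span_induction with
      | mem v hv => exact Submodule.subset_span (hmemW y hy v hv)
      | zero => rw [mul_zero]; exact Submodule.zero_mem _
      | add a b _ _ ha hb => rw [mul_add]; exact Submodule.add_mem _ ha hb
      | smul c a _ ha => rw [mul_smul_comm]; exact Submodule.smul_mem _ c ha
    have := key 1 (by rw [hspan]; trivial)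
    rwa [mul_one] at this
  have hker : LinearMap.ker (bc (K := K) q).toLinearMap ≤ Submodule.span K (W : Set (K ⊗[k] A)) := by
    intro x hx
    have hx' := mem_span_of_bc_eq_zero q hq x hx
    refine (Submodule.span_le.mpr ?_) hx'
    rintro _ ⟨y, hy, rfl⟩
    exact h1 y hy
  have hk1 := (bc (K := K) q).toLinearMap.finrank_range_add_finrank_ker
  have hsurj : LinearMap.range (bc (K := K) q).toLinearMap = ⊤ :=
    LinearMap.range_eq_top.mpr (bc_surjective q hq)
  rw [hsurj, finrank_top, Module.finrank_baseChange, Module.finrank_baseChange] at hk1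
  have hk2 : Module.finrank K (LinearMap.ker (bc (K := K) q).toLinearMap)
      ≤ Module.finrank K (Submodule.span K (W : Set (K ⊗[k] A))) := Submodule.finrank_mono hker
  have hk3 := finrank_span_le (K := K) W
  omega

/-- the `A`-module structure on a left-stable subspace. -/
@[reducible] noncomputable def lmod (V0 : Submodule k (K ⊗[k] A)) (hst : LStable V0) : Module A V0 where
  smul y v := ⟨((1 : K) ⊗ₜ[k] y) * v.1, hst y v.1 v.2⟩
  one_smul v := Subtype.ext (by
    show ((1 : K) ⊗ₜ[k] (1 : A)) * v.1 = v.1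
    rw [← Algebra.TensorProduct.one_def, one_mul])
  mul_smul y y' v := Subtype.ext (by
    show ((1 : K) ⊗ₜ[k] (y * y')) * v.1 = ((1 : K) ⊗ₜ[k] y) * (((1 : K) ⊗ₜ[k] y') * v.1)
    rw [← mul_assoc, Algebra.TensorProduct.tmul_mul_tmul, one_mul])
  smul_zero y := Subtype.ext (by
    show ((1 : K) ⊗ₜ[k] y) * (0 : K ⊗[k] A) = 0
    rw [mul_zero])
  smul_add y v v' := Subtype.ext (by
    show ((1 : K) ⊗ₜ[k] y) * (v.1 + v'.1) = ((1 : K) ⊗ₜ[k] y) * v.1 + ((1 : K) ⊗ₜ[k] y) * v'.1
    rw [mul_add])
  add_smul y y' v := Subtype.ext (by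
    show ((1 : K) ⊗ₜ[k] (y + y')) * v.1 = ((1 : K) ⊗ₜ[k] y) * v.1 + ((1 : K) ⊗ₜ[k] y') * v.1
    rw [TensorProduct.tmul_add, add_mul])
  zero_smul v := Subtype.ext (by
    show ((1 : K) ⊗ₜ[k] (0 : A)) * v.1 = 0
    rw [TensorProduct.tmul_zero, zero_mul])

/-- right multiplication by `b` surjective implies `b` is a unit (finite-dimensional algebra). -/
theorem isUnit_of_mulRight_surjective {T : Type*} [Ring T] [Algebra K T] [FiniteDimensional K T]
    (b : T) (h : ∀ t : T, ∃ t', t = t' * b) : IsUnit b := by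
  have hsurj : Function.Surjective (LinearMap.mulRight K b) := fun t => by
    obtain ⟨t', ht'⟩ := h t
    exact ⟨t', ht'.symm⟩
  have hinj : Function.Injective (LinearMap.mulRight K b) :=
    LinearMap.injective_iff_surjective.mpr hsurj
  obtain ⟨c, hc⟩ := h 1
  have hbc : b * c = 1 := by
    apply hinj
    show b * c * b = 1 * b
    rw [mul_assoc, ← hc, mul_one, one_mul]
  exact ⟨⟨b, c, hbc, hc.symm⟩, rfl⟩

/-- **Simple case**: a form of the regular module of a simple algebra contains a unit. -/
theorem exists_unit_of_simple [FiniteDimensional k K] [IsSimpleRing A] [FiniteDimensional k A]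
    (V0 : Submodule k (K ⊗[k] A)) (hst : LStable V0)
    (hspan : Submodule.span K (V0 : Set (K ⊗[k] A)) = ⊤)
    (hdim : Module.finrank k V0 ≤ Module.finrank k A) :
    ∃ b ∈ V0, IsUnit b := by
  have hge : Module.finrank k A ≤ Module.finrank k V0 := by
    have h1 := finrank_span_le (K := K) V0
    rw [hspan, finrank_top, Module.finrank_baseChange] at h1
    exact h1
  have heq : Module.finrank k A = Module.finrank k V0 := le_antisymm hge hdim
  let inst : Module A V0 := lmod V0 hst
  have hsmul : ∀ (y : A) (v : V0), ((y • v : V0) : K ⊗[k] A) = ((1 : K) ⊗ₜ[k] y) * v.1 :=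
    fun _ _ => rfl
  have tower : IsScalarTower k A V0 := ⟨fun c y v => Subtype.ext (by
    rw [hsmul, Submodule.coe_smul, hsmul, TensorProduct.tmul_smul, smul_mul_assoc])⟩
  obtain ⟨e⟩ := nonempty_linearEquiv_of_finrank_eq k A A V0 heq
  let b : V0 := e 1
  have he : ∀ y : A, (e y : K ⊗[k] A) = ((1 : K) ⊗ₜ[k] y) * b.1 := by
    intro y
    have : e y = y • e 1 := by rw [← map_smul, smul_eq_mul, mul_one]
    rw [this, hsmul]
  refine ⟨b.1, b.2, isUnit_of_mulRight_surjective (K := K) b.1 fun t => ?_⟩
  have ht : t ∈ Submodule.span K (V0 : Set (K ⊗[k] A)) := by rw [hspan]; trivial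
  induction ht using Submodule.span_induction with
  | mem v hv =>
    obtain ⟨y, hy⟩ := e.surjective ⟨v, hv⟩
    refine ⟨(1 : K) ⊗ₜ[k] y, ?_⟩
    rw [← he y, hy]
  | zero => exact ⟨0, by rw [zero_mul]⟩
  | add a a' _ _ ha ha' =>
    obtain ⟨t1, rfl⟩ := ha
    obtain ⟨t2, rfl⟩ := ha'
    exact ⟨t1 + t2, by rw [add_mul]⟩
  | smul c a _ ha =>
    obtain ⟨t1, rfl⟩ := ha
    exact ⟨c • t1, by rw [smul_mul_assoc]⟩

/-- the filtration of `K ⊗ A` by the powers of an ideal of `A`. -/
def Fil (I : Ideal A) (r : ℕ) : Submodule K (K ⊗[k] A) :=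
  Submodule.span K ((fun y : A => (1 : K) ⊗ₜ[k] y) '' ((I ^ r : Ideal A) : Set A))

theorem mul_mem_Fil (I : Ideal A) (r : ℕ) {x' x : K ⊗[k] A} (hx' : x' ∈ Fil (K := K) I r)
    (hx : x ∈ Fil (K := K) I 1) : x' * x ∈ Fil (K := K) I (r + 1) := by
  induction hx' using Submodule.span_induction with
  | mem t ht =>
    obtain ⟨y', hy', rfl⟩ := ht
    induction hx using Submodule.span_induction with
    | mem s hs =>
      obtain ⟨y, hy, rfl⟩ := hs
      show ((1 : K) ⊗ₜ[k] y') * ((1 : K) ⊗ₜ[k] y) ∈ Fil (K := K) I (r + 1)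
      rw [Algebra.TensorProduct.tmul_mul_tmul, one_mul]
      refine Submodule.subset_span ⟨y' * y, ?_, rfl⟩
      rw [SetLike.mem_coe, Submodule.pow_one] at hy
      rw [SetLike.mem_coe, Submodule.pow_succ]
      exact Ideal.mul_mem_mul hy' hy
    | zero => rw [mul_zero]; exact Submodule.zero_mem _
    | add a b _ _ ha hb => rw [mul_add]; exact Submodule.add_mem _ ha hb
    | smul c a _ ha => rw [mul_smul_comm]; exact Submodule.smul_mem _ c ha
  | zero => rw [zero_mul]; exact Submodule.zero_mem _
  | add a b _ _ ha hb => rw [add_mul]; exact Submodule.add_mem _ ha hb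
  | smul c a _ ha => rw [smul_mul_assoc]; exact Submodule.smul_mem _ c ha

theorem pow_mem_Fil (I : Ideal A) {x : K ⊗[k] A} (hx : x ∈ Fil (K := K) I 1) (r : ℕ) :
    x ^ (r + 1) ∈ Fil (K := K) I (r + 1) := by
  induction r with
  | zero => rwa [zero_add, pow_one]
  | succ r ih =>
    rw [pow_succ]
    exact mul_mem_Fil I (r + 1) ih hx

theorem Fil_eq_bot (I : Ideal A) (r : ℕ) (h : I ^ r = ⊥) : Fil (k := k) (K := K) I r = ⊥ := by
  rw [Fil, h, eq_bot_iff, Submodule.span_le]
  rintro _ ⟨y, hy, rfl⟩
  rw [SetLike.mem_coe, Ideal.mem_bot] at hy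
  rw [hy]
  simp

theorem isNilpotent_of_bc_eq_zero (q : A →ₐ[k] B) (hq : Function.Surjective q)
    (hnil : IsNilpotent (RingHom.ker (q : A →+* B))) (x : K ⊗[k] A) (hx : bc q x = 0) :
    IsNilpotent x := by
  obtain ⟨m, hm⟩ := hnil
  rw [Ideal.zero_eq_bot] at hm
  have hm1 : (RingHom.ker (q : A →+* B)) ^ (m + 1) = ⊥ := by
    rw [Submodule.pow_succ, hm, Ideal.bot_mul]
  have hx1 : x ∈ Fil (K := K) (RingHom.ker (q : A →+* B)) 1 := by
    have := mem_span_of_bc_eq_zero q hq x hx
    rw [Fil, Submodule.pow_one]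
    exact this
  refine ⟨m + 1, ?_⟩
  have := pow_mem_Fil _ hx1 m
  rw [Fil_eq_bot _ _ hm1] at this
  exact this

/-- a unit modulo the base change of a nilpotent ideal is a unit. -/
theorem isUnit_of_isUnit_bc (q : A →ₐ[k] B) (hq : Function.Surjective q)
    (hnil : IsNilpotent (RingHom.ker (q : A →+* B))) (b : K ⊗[k] A)
    (hb : IsUnit (bc (K := K) q b)) : IsUnit b := by
  obtain ⟨u, hu⟩ := hb
  obtain ⟨c, hc⟩ := bc_surjective (K := K) q hq (↑u⁻¹ : K ⊗[k] B)
  have h1 : bc q (b * c - 1) = 0 := by
    rw [map_sub, map_mul, ← hu, hc, Units.mul_inv, map_one, sub_self]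
  have h2 : bc q (c * b - 1) = 0 := by
    rw [map_sub, map_mul, ← hu, hc, Units.inv_mul, map_one, sub_self]
  have u1 : IsUnit (b * c) := by
    have := (isNilpotent_of_bc_eq_zero q hq hnil _ h1).isUnit_one_add
    rwa [add_sub_cancel] at this
  have u2 : IsUnit (c * b) := by
    have := (isNilpotent_of_bc_eq_zero q hq hnil _ h2).isUnit_one_add
    rwa [add_sub_cancel] at this
  rw [isUnit_iff_exists_and_exists]
  obtain ⟨v1, hv1⟩ := u1
  obtain ⟨v2, hv2⟩ := u2
  refine ⟨⟨c * ↑v1⁻¹, ?_⟩, ⟨↑v2⁻¹ * c, ?_⟩⟩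
  · rw [← mul_assoc, ← hv1, Units.mul_inv]
  · rw [mul_assoc, ← hv2, Units.inv_mul]

theorem bc_comp {C : Type*} [Ring C] [Algebra k C] (q : A →ₐ[k] B) (p : B →ₐ[k] C)
    (x : K ⊗[k] A) : bc (K := K) p (bc q x) = bc (p.comp q) x := by
  induction x using TensorProduct.induction_on with
  | zero => simp
  | tmul c y => simp [bc]
  | add a b ha hb => simp only [map_add, ha, hb]

/-- **Forms of the regular module contain a unit** (general finite-dimensional algebra). -/
theorem exists_unit [FiniteDimensional k K] [FiniteDimensional k A]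
    (V0 : Submodule k (K ⊗[k] A)) (hst : LStable V0)
    (hspan : Submodule.span K (V0 : Set (K ⊗[k] A)) = ⊤)
    (hdim : Module.finrank k V0 ≤ Module.finrank k A) :
    ∃ b ∈ V0, IsUnit b := by
  classical
  have : IsArtinianRing A := IsArtinianRing.of_finite k A
  obtain ⟨n, D, d, _, _, _, hd, ⟨e⟩⟩ :=
    IsSemisimpleRing.exists_algEquiv_pi_matrix_divisionRing_finite k (A ⧸ Ring.jacobson A)
  let Bf : Fin n → Type w := fun i => Matrix (Fin (d i)) (Fin (d i)) (D i)
  let q : A →ₐ[k] (Π i, Bf i) :=
    (e : (A ⧸ Ring.jacobson A) →ₐ[k] (Π i, Bf i)).comp (Ideal.Quotient.mkₐ k (Ring.jacobson A))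
  have hq : Function.Surjective q :=
    e.surjective.comp (Ideal.Quotient.mkₐ_surjective k (Ring.jacobson A))
  have hker : RingHom.ker (q : A →+* (Π i, Bf i)) = Ring.jacobson A := by
    ext y
    rw [RingHom.mem_ker]
    show e (Ideal.Quotient.mk _ y) = 0 ↔ _
    rw [map_eq_zero_iff e e.injective, Ideal.Quotient.eq_zero_iff_mem]
  have hnil : IsNilpotent (RingHom.ker (q : A →+* (Π i, Bf i))) := by
    rw [hker]
    exact IsSemiprimaryRing.isNilpotent
  let qi : ∀ i, A →ₐ[k] Bf i := fun i => (Pi.evalAlgHom k Bf i).comp q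
  have hqi : ∀ i, Function.Surjective (qi i) := fun i => (Function.surjective_eval i).comp hq
  have hne : ∀ i, NeZero (d i) := hd
  have hbi : ∀ i, ∃ b ∈ V0, IsUnit (bc (K := K) (qi i) b) := by
    intro i
    obtain ⟨u, ⟨b, hb, rfl⟩, hu⟩ := exists_unit_of_simple (V0.map (bcₗ (qi i)))
      (map_lstable (qi i) (hqi i) V0 hst) (map_span (qi i) (hqi i) V0 hspan)
      (finrank_map_le (qi i) (hqi i) V0 hst hspan hdim)
    exact ⟨b, hb, hu⟩
  choose bi hbi hui using hbi
  have hε : ∀ i, ∃ ε : A, q ε = Pi.single i 1 := fun i => hq _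
  choose ε hε using hε
  refine ⟨∑ i, ((1 : K) ⊗ₜ[k] ε i) * bi i, Submodule.sum_mem _ fun i _ => hst _ _ (hbi i), ?_⟩
  apply isUnit_of_isUnit_bc q hq hnil
  have hΦ : ∀ (t : K ⊗[k] (Π i, Bf i)) (j : Fin n),
      Algebra.TensorProduct.piRight k K K Bf t j = bc (K := K) (Pi.evalAlgHom k Bf j) t := by
    intro t j
    induction t using TensorProduct.induction_on with
    | zero => simp
    | tmul c f => rw [Algebra.TensorProduct.piRight_tmul, bc_tmul]; rfl
    | add a b ha hb => rw [map_add, Pi.add_apply, ha, hb, map_add]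
  rw [← MulEquiv.isUnit_map (f := (Algebra.TensorProduct.piRight k K K Bf)), Pi.isUnit_iff]
  intro j
  rw [hΦ, bc_comp, map_sum]
  have hj : ∀ i, bc (K := K) ((Pi.evalAlgHom k Bf j).comp q) (((1 : K) ⊗ₜ[k] ε i) * bi i)
      = if i = j then bc (K := K) (qi j) (bi j) else 0 := by
    intro i
    rw [map_mul, bc_tmul]
    have : ((Pi.evalAlgHom k Bf j).comp q) (ε i) = (Pi.single i (1 : Bf i) : Π i, Bf i) j := by
      show (q (ε i)) j = _
      rw [hε]
    rw [this]
    split_ifs with h
    · subst h
      rw [Pi.single_eq_same, ← Algebra.TensorProduct.one_def, one_mul]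
    · rw [Pi.single_eq_of_ne (Ne.symm h), TensorProduct.tmul_zero, zero_mul]
  rw [Finset.sum_congr rfl fun i _ => hj i, Finset.sum_ite_eq' Finset.univ j]
  simp only [Finset.mem_univ, if_true]
  exact hui j

end forms

end Groth.Agent.Lib.Helper1.FormUnit
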