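import Mathlib
import Groth.Agent.S7725
import Groth.Agent.Lib.Helper84.GrpCohLim

/-!
# Vanishing of group cohomology for uniquely `|G|`-divisible modules, and Hensel roots (helper1)
-/

set_option autoImplicit false
universe u
open CategoryTheory CategoryTheory.Limits

namespace Groth.Agent.Lib.Helper1.GrpCohDiv

section Div
variable {k G : Type u} [CommRing k] [Group G]

open groupCohomology in
/-- If multiplication by `|G|` is bijective on `A` then `H^{n+1}(G, A) = 0`. -/
theorem subsingleton_of_card_bijective [Finite G] (A : Rep.{u} k G)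
    (hbij : Function.Bijective (fun a : A => Nat.card G • a)) (n : ℕ) :
    Subsingleton (groupCohomology A (n + 1)) := by
  have : Fintype G := Fintype.ofFinite G
  rw [Groth.Agent.Lib.Helper84.GrpCohLim.subsingleton_iff]
  intro f hf
  let T : (Fin n → G) → A := fun y => ∑ t : G, A.ρ t⁻¹ (f (Fin.cons t y))
  have hT : inhomogeneousCochains.d A n T = Nat.card G • f := by
    funext g
    have h := Groth.Agent.S7725.key A n f g
    have hz : ∀ t : G, A.ρ t⁻¹ ((inhomogeneousCochains.d A (n + 1)).hom f (Fin.cons t g)) = 0 := by
      intro t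
      have : (inhomogeneousCochains.d A (n + 1)).hom f (Fin.cons t g) = 0 := congrFun hf _
      rw [this, map_zero]
    rw [Finset.sum_congr rfl (fun t _ => hz t), Finset.sum_const_zero, zero_add] at h
    rw [Nat.card_eq_fintype_card]
    exact h.symm
  choose e he using fun y => hbij.2 (T y)
  refine ⟨e, ?_⟩
  have h1 : Nat.card G • e = T := by
    funext y
    exact he y
  have h2 : Nat.card G • (inhomogeneousCochains.d A n e) = Nat.card G • f := by
    rw [← hT, ← h1]
    exact (map_nsmul (inhomogeneousCochains.d A n).hom _ _).symm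
  funext g
  exact hbij.1 (congrFun h2 g)

end Div

section Hensel
open IsLocalRing Polynomial

/-- In a local ring, an `N`-th root of unity congruent to 1 is 1, if `N` is invertible in the
residue field. -/
theorem eq_one_of_pow_eq_one {R : Type*} [CommRing R] [IsLocalRing R] (N : ℕ)
    (hN : (N : ResidueField R) ≠ 0) (x : R) (hx : residue R x = 1) (hxN : x ^ N = 1) : x = 1 := by
  have h1 : (∑ i ∈ Finset.range N, x ^ i) * (x - 1) = 0 := by
    rw [geom_sum_mul, hxN, sub_self]
  have hu : IsUnit (∑ i ∈ Finset.range N, x ^ i) := by
    rw [← IsLocalRing.residue_ne_zero_iff_isUnit, map_sum]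
    simp only [map_pow, hx, one_pow, Finset.sum_const, Finset.card_range, nsmul_eq_mul, mul_one]
    exact hN
  have := hu.mul_right_eq_zero.mp h1
  exact sub_eq_zero.mp this

/-- In a henselian local ring, an element congruent to 1 has an `N`-th root congruent to 1, if
`N` is invertible in the residue field. -/
theorem exists_pow_eq {R : Type*} [CommRing R] [HenselianLocalRing R] (N : ℕ)
    (hN : (N : ResidueField R) ≠ 0) (x : R) (hx : residue R x = 1) :
    ∃ y : R, y ^ N = x ∧ residue R y = 1 := by
  have hN0 : N ≠ 0 := by
    rintro rfl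
    exact hN (by simp)
  have hNu : IsUnit (N : R) := by
    rw [← IsLocalRing.residue_ne_zero_iff_isUnit, map_natCast]
    exact hN
  obtain ⟨y, hy, hy1⟩ := HenselianLocalRing.is_henselian (X ^ N - C x : R[X])
    (monic_X_pow_sub_C x hN0) 1
    (by
      rw [← Ideal.Quotient.eq_zero_iff_mem]
      change residue R _ = 0
      simp [hx])
    (by
      simp only [derivative_sub, derivative_X_pow, derivative_C, sub_zero, eval_mul, eval_pow,
        eval_X, one_pow, mul_one]
      simpa using hNu)
  refine ⟨y, ?_, ?_⟩
  · have := hy
    simp only [IsRoot.def, eval_sub, eval_pow, eval_X, eval_C] at this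
    exact sub_eq_zero.mp this
  · rw [← Ideal.Quotient.eq_zero_iff_mem] at hy1
    have h2 : residue R (y - 1) = 0 := hy1
    rw [map_sub, map_one, sub_eq_zero] at h2
    exact h2

end Hensel

end Groth.Agent.Lib.Helper1.GrpCohDiv
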