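import Mathlib
import Groth.Prelude.Def_GSzCSA
import Groth.Prelude.Def_GalDesc
import Groth.Agent.Lib.Helper65.GalDescent2
import Groth.Agent.Lib.Helper1.FormUnit

/-!
# Generalised Hilbert 90 for the units of a finite-dimensional algebra

For `K/k` finite Galois with group `Γ` and any finite-dimensional `k`-algebra `A`, every 1-cocycle of
`Γ` with values in `(K ⊗[k] A)ˣ` is a coboundary: `a σ = b⁻¹ * σ • b` (`exists_coboundary`,
`h1_trivial`).  Proof: Speiser descent (helper65's `lift_bijective`) applied to the action twisted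
by right multiplication with `(a σ)⁻¹` gives a `k`-form `V0` of the left regular module of `A`;
by `FormUnit.exists_unit` it contains a unit `b`.
-/

set_option autoImplicit false
universe u v w
open scoped TensorProduct
attribute [local instance] CSAGal.tensorAction GpH1.unitsAction

namespace Groth.Agent.Lib.Helper1.H90Alg

open Groth.Agent.Lib.Helper1.FormUnit

variable {k : Type u} [Field k] {K : Type v} [Field K] [Algebra k K]
variable {A : Type w} [Ring A] [Algebra k A]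

/-- right multiplication by the inverse of a unit, a `K`-linear automorphism of `K ⊗ A`. -/
noncomputable def rmulInv (u : (K ⊗[k] A)ˣ) : (K ⊗[k] A) ≃ₗ[K] (K ⊗[k] A) where
  toFun x := x * ↑u⁻¹
  invFun x := x * ↑u
  map_add' x y := add_mul x y _
  map_smul' c x := smul_mul_assoc c x _
  left_inv x := by
    show x * ↑u⁻¹ * ↑u = x
    rw [mul_assoc, Units.inv_mul, mul_one]
  right_inv x := by
    show x * ↑u * ↑u⁻¹ = x
    rw [mul_assoc, Units.mul_inv, mul_one]

theorem rmulInv_apply (u : (K ⊗[k] A)ˣ) (x : K ⊗[k] A) : rmulInv u x = x * ↑u⁻¹ := rfl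

theorem units_smul_val (σ : K ≃ₐ[k] K) (u : (K ⊗[k] A)ˣ) :
    ((σ • u : (K ⊗[k] A)ˣ) : K ⊗[k] A) = σ • (u : K ⊗[k] A) := rfl

theorem units_smul_inv_val (σ : K ≃ₐ[k] K) (u : (K ⊗[k] A)ˣ) :
    ((↑(σ • u)⁻¹ : K ⊗[k] A)) = σ • ((↑u⁻¹ : K ⊗[k] A)) := rfl

theorem smul_rmulInv (σ : K ≃ₐ[k] K) (u : (K ⊗[k] A)ˣ) :
    σ • rmulInv u = rmulInv (σ • u) := by
  apply LinearEquiv.ext
  intro x
  rw [GalDesc.conj_smul_apply, rmulInv_apply, rmulInv_apply, units_smul_inv_val, smul_mul',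
    smul_inv_smul]

theorem rmulInv_mul (u v : (K ⊗[k] A)ˣ) : rmulInv (u * v) = rmulInv u * rmulInv v := by
  apply LinearEquiv.ext
  intro x
  rw [LinearEquiv.mul_apply, rmulInv_apply, rmulInv_apply, rmulInv_apply, mul_inv_rev,
    Units.val_mul, mul_assoc]

/-- the cocycle of right multiplications. -/
noncomputable def cocycleR (a : GpH1.OneCocycle (K ≃ₐ[k] K) (K ⊗[k] A)ˣ) :
    GpH1.OneCocycle (K ≃ₐ[k] K) ((K ⊗[k] A) ≃ₗ[K] (K ⊗[k] A)) :=
  ⟨fun σ => rmulInv (a σ), fun σ τ => by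
    show rmulInv (a (σ * τ)) = rmulInv (a σ) * σ • rmulInv (a τ)
    rw [a.2 σ τ, smul_rmulInv, rmulInv_mul]⟩

theorem mem_fixedSub_iff (a : GpH1.OneCocycle (K ≃ₐ[k] K) (K ⊗[k] A)ˣ) (x : K ⊗[k] A) :
    x ∈ GalDesc.fixedSub (cocycleR a) ↔ ∀ σ : K ≃ₐ[k] K, (σ • x) * ↑(a σ)⁻¹ = x := Iff.rfl

theorem smul_one_tmul (σ : K ≃ₐ[k] K) (y : A) :
    σ • ((1 : K) ⊗ₜ[k] y) = (1 : K) ⊗ₜ[k] y := by
  rw [TensorProduct.smul_tmul', smul_one]

theorem lstable_fixedSub (a : GpH1.OneCocycle (K ≃ₐ[k] K) (K ⊗[k] A)ˣ) :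
    LStable (GalDesc.fixedSub (cocycleR a)) := by
  intro y v hv
  rw [mem_fixedSub_iff] at hv ⊢
  intro σ
  rw [smul_mul', smul_one_tmul, mul_assoc, hv σ]

variable [FiniteDimensional k K] [IsGalois k K]

theorem exists_coboundary [FiniteDimensional k A]
    (a : GpH1.OneCocycle (K ≃ₐ[k] K) (K ⊗[k] A)ˣ) :
    ∃ b : (K ⊗[k] A)ˣ, ∀ σ : K ≃ₐ[k] K, a σ = b⁻¹ * σ • b := by
  let V0 := GalDesc.fixedSub (cocycleR a)
  have hbij := Groth.Agent.Lib.Helper65.GalDescent.lift_bijective (cocycleR a) V0.subtype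
    V0.injective_subtype (Submodule.range_subtype V0)
  have hspan : Submodule.span K (V0 : Set (K ⊗[k] A)) = ⊤ := by
    rw [eq_top_iff]
    rintro t -
    obtain ⟨z, rfl⟩ := hbij.2 t
    induction z using TensorProduct.induction_on with
    | zero => rw [map_zero]; exact Submodule.zero_mem _
    | tmul c v =>
      rw [LinearMap.liftBaseChange_tmul]
      exact Submodule.smul_mem _ c (Submodule.subset_span v.2)
    | add x y hx hy => rw [map_add]; exact Submodule.add_mem _ hx hy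
  have hdim : Module.finrank k V0 ≤ Module.finrank k A := by
    have h := LinearMap.finrank_le_finrank_of_injective hbij.1
    rwa [Module.finrank_baseChange, Module.finrank_baseChange] at h
  obtain ⟨b, hbV, hbu⟩ := exists_unit V0 (lstable_fixedSub a) hspan hdim
  obtain ⟨u, rfl⟩ := hbu
  refine ⟨u, fun σ => ?_⟩
  have h := (mem_fixedSub_iff a _).mp hbV σ
  apply Units.ext
  rw [Units.val_mul, units_smul_val]
  -- (σ • u) * (a σ)⁻¹ = u
  have h2 : σ • (u : K ⊗[k] A) = ↑u * ↑(a σ) := by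
    rw [← h, mul_assoc, Units.inv_mul, mul_one, h]
  rw [h2, ← mul_assoc, Units.inv_mul, one_mul]

theorem h1_trivial [FiniteDimensional k A] :
    GpH1.H1.IsTrivial (K ≃ₐ[k] K) (K ⊗[k] A)ˣ := by
  intro x
  obtain ⟨a, rfl⟩ := GpH1.OneCocycle.cl_surjective x
  obtain ⟨b, hb⟩ := exists_coboundary a
  show a.cl = GpH1.OneCocycle.cl GpH1.OneCocycle.trivial
  rw [GpH1.OneCocycle.cl_eq_cl_iff]
  refine ⟨b, fun σ => ?_⟩
  show a σ = b⁻¹ * 1 * σ • b
  rw [mul_one, hb σ]

end Groth.Agent.Lib.Helper1.H90Alg
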