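import Groth.Agent.Lib.Helper1.CiNorm

/-!
# Norms are surjective for finite extensions of `C_1` fields
-/

namespace Groth.Agent.Lib.Helper1.NormOne

open MvPolynomial Groth.Agent.Lib.Helper1.Ci

universe u v

theorem norm_surjective_of_isCr {F : Type u} [Field F] (hF : Curves.IsCr F 1)
    (L : Type v) [Field L] [Algebra F L] [FiniteDimensional F L] :
    Function.Surjective (Algebra.norm F : L → F) := by
  classical
  intro a
  by_cases ha : a = 0
  · exact ⟨0, by rw [ha, Algebra.norm_zero]⟩
  set n := Module.finrank F L with hn
  have hnpos : 0 < n := Module.finrank_pos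
  let ω : Module.Basis (Fin n) F L := Module.finBasis F L
  let G : MvPolynomial (Option (Fin n)) L := ∑ i : Fin n, C (ω i) * X (some i)
  have hG : G.IsHomogeneous 1 := by
    apply IsHomogeneous.sum
    intro i _
    have h1 := (isHomogeneous_C (Option (Fin n)) (ω i)).mul (isHomogeneous_X L (some i))
    simpa using h1
  have hNF := normForm_isHomogeneous ω G 1 hG
  rw [Fintype.card_fin, mul_one] at hNF
  let f : MvPolynomial (Option (Fin n)) F := normForm ω G - C a * X none ^ n
  have hf : f.IsHomogeneous n := by
    apply IsHomogeneous.sub hNF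
    have h1 := (isHomogeneous_C (Option (Fin n)) a).mul ((isHomogeneous_X F none).pow n)
    simpa using h1
  have hcount : n ^ 1 < Fintype.card (Option (Fin n)) := by
    rw [pow_one, Fintype.card_option, Fintype.card_fin]
    exact Nat.lt_succ_self n
  obtain ⟨c, hc0, hc⟩ := isCr_fintype hF f n hf hnpos hcount
  have heval : eval c f = Algebra.norm F (∑ i : Fin n, c (some i) • ω i) - a * c none ^ n := by
    simp only [f, map_sub, map_mul, map_pow, eval_C, eval_X, eval_normForm]
    congr 2
    simp only [G, map_sum, map_mul, eval_C, eval_X]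
    apply Finset.sum_congr rfl
    intro i _
    rw [Algebra.smul_def, mul_comm]
  rw [heval, sub_eq_zero] at hc
  set x : L := ∑ i : Fin n, c (some i) • ω i with hx
  have hcn : c none ≠ 0 := by
    intro h0
    rw [h0, zero_pow hnpos.ne', mul_zero, Algebra.norm_eq_zero_iff] at hc
    apply hc0
    funext j
    cases j with
    | none => exact h0
    | some i =>
      have h1 := ω.repr.map_zero
      rw [← hc, hx] at h1
      have h2 : ω.repr (∑ i : Fin n, c (some i) • ω i) i = c (some i) := by
        rw [ω.repr_sum_self]
      rw [h1] at h2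
      simpa using h2.symm
  refine ⟨algebraMap F L (c none)⁻¹ * x, ?_⟩
  rw [map_mul, Algebra.norm_algebraMap, hc, ← hn, inv_pow, mul_comm a, ← mul_assoc,
    inv_mul_cancel₀ (pow_ne_zero n hcn), one_mul]

end Groth.Agent.Lib.Helper1.NormOne
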