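import Mathlib
import Groth.Agent.Lib.Helper1.NormSurj
import Groth.Agent.S0213

/-!
# Generalized Hilbert 90 (`Ĥ^{-1}(G, Lˣ) = 0`) over `C_1` fields
-/

namespace Groth.Agent.Lib.Helper1.NormOne

universe u

section Cyclic

variable {F L : Type*} [Field F] [Field L] [Algebra F L] [FiniteDimensional F L] [IsGalois F L]

/-- Classical Hilbert 90 for a cyclic extension (Lagrange resolvent proof). -/
theorem cyclic_h90 (g : L ≃ₐ[F] L) (hg : ∀ x : L ≃ₐ[F] L, x ∈ Subgroup.zpowers g) (u : L)
    (hu : Algebra.norm F u = 1) : ∃ y : L, y ≠ 0 ∧ u * g y = y := by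
  classical
  set n := orderOf g with hn
  have hfo : IsOfFinOrder g := isOfFinOrder_of_finite g
  have hnpos : 0 < n := hfo.orderOf_pos
  -- partial products
  let a : ℕ → L := fun i => ∏ j ∈ Finset.range i, (g ^ j) u
  have ha0 : a 0 = 1 := by simp [a]
  have hasucc : ∀ i, a (i + 1) = u * g (a i) := by
    intro i
    simp only [a]
    rw [Finset.prod_range_succ', map_prod, pow_zero, AlgEquiv.one_apply, mul_comm]
    congr 1
    apply Finset.prod_congr rfl
    intro j _
    rw [pow_succ', AlgEquiv.mul_apply]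
  -- the norm is the full product
  have han : a n = 1 := by
    have h1 := Algebra.norm_eq_prod_automorphisms F u
    rw [hu, map_one] at h1
    let e : Fin n ≃ (L ≃ₐ[F] L) :=
      (finEquivZPowers hfo).trans (Equiv.subtypeUnivEquiv hg)
    have he : ∀ i : Fin n, e i = g ^ (i : ℕ) := fun i => rfl
    rw [← Fintype.prod_equiv e (fun i => (g ^ (i : ℕ)) u) (fun σ => σ u) (fun i => by rw [he]),
      Fin.prod_univ_eq_prod_range (fun j => (g ^ j) u) n] at h1
    exact h1.symm
  -- Dedekind independence
  have hex : ∃ c : L, ∑ i ∈ Finset.range n, a i * (g ^ i) c ≠ 0 := by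
    by_contra hcon
    push Not at hcon
    have hli : LinearIndependent L (fun i : Fin n => ((g ^ (i : ℕ) : L ≃ₐ[F] L) : L → L)) := by
      have h1 := linearIndependent_monoidHom L L
      have hinj : Function.Injective
          (fun i : Fin n => (((g ^ (i : ℕ) : L ≃ₐ[F] L) : L →* L))) := by
        intro i j hij
        have h2 : g ^ (i : ℕ) = g ^ (j : ℕ) := by
          ext x
          exact DFunLike.congr_fun hij x
        exact Fin.ext (pow_injOn_Iio_orderOf (Set.mem_Iio.mpr i.2) (Set.mem_Iio.mpr j.2) h2)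
      exact h1.comp _ hinj
    have h3 := Fintype.linearIndependent_iff.mp hli (fun i => a i) (by
      funext c
      simp only [Finset.sum_apply, Pi.smul_apply, smul_eq_mul, Pi.zero_apply]
      rw [Fin.sum_univ_eq_sum_range (fun i => a i * (g ^ i) c) n]
      exact hcon c)
    have h4 := h3 ⟨0, hnpos⟩
    simp only at h4
    rw [ha0] at h4
    exact one_ne_zero h4
  obtain ⟨c, hc⟩ := hex
  refine ⟨_, hc, ?_⟩
  rw [map_sum, Finset.mul_sum]
  have h1 : ∀ i ∈ Finset.range n, u * g (a i * (g ^ i) c) = a (i + 1) * (g ^ (i + 1)) c := by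
    intro i _
    rw [map_mul, hasucc, pow_succ', AlgEquiv.mul_apply, mul_assoc]
  rw [Finset.sum_congr rfl h1]
  have h2 := Finset.sum_range_succ (fun i => a i * (g ^ i) c) n
  have h3 := Finset.sum_range_succ' (fun i => a i * (g ^ i) c) n
  rw [h2] at h3
  have hgn : g ^ n = 1 := by rw [hn]; exact pow_orderOf_eq_one g
  simp only [han, hgn, AlgEquiv.one_apply, ha0, pow_zero, one_mul] at h3
  exact (add_right_cancel h3).symm

end Cyclic

section General

/-- The subgroup of `Lˣ` generated by the elements `w / g w`. -/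
def D (F L : Type u) [Field F] [Field L] [Algebra F L] : Subgroup Lˣ :=
  Subgroup.closure {v : Lˣ | ∃ (w : Lˣ) (g : L ≃ₐ[F] L), (v : L) = (w : L) / g (w : L)}

variable {F L : Type u} [Field F] [Field L] [Algebra F L]

theorem div_map_mem_D (w : Lˣ) (g : L ≃ₐ[F] L) :
    w / Units.map ((g : L ≃ₐ[F] L) : L →* L) w ∈ D F L :=
  Subgroup.subset_closure ⟨w, g, by
    rw [Units.val_div_eq_div_val, Units.coe_map]; rfl⟩

theorem D_mono (E : IntermediateField F L) : D E L ≤ D F L := by
  unfold D
  rw [Subgroup.closure_le]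
  rintro v ⟨w, g, hv⟩
  exact Subgroup.subset_closure ⟨w, g.restrictScalars F, hv⟩

variable [FiniteDimensional F L] [IsGalois F L]

/-- Lifting elements of `D F E` along the norm `L → E`, for `E/F` Galois. -/
theorem exists_norm_eq_of_mem_D (E : IntermediateField F L) [IsGalois F E]
    (hS : Function.Surjective (Algebra.norm E : L → E)) (v : Eˣ) (hv : v ∈ D F E) :
    ∃ d ∈ D F L, Algebra.norm E (d : L) = (v : E) := by
  unfold D at hv
  refine Subgroup.closure_induction
    (p := fun (v : (↥E)ˣ) _ => ∃ d ∈ D F L, Algebra.norm E (d : L) = (v : E))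
    ?_ ?_ ?_ ?_ hv
  · rintro v ⟨y, gbar, hvy⟩
    obtain ⟨w, hw⟩ := hS (y : E)
    have hw0 : w ≠ 0 := by
      rintro rfl
      rw [Algebra.norm_zero] at hw
      exact y.ne_zero hw.symm
    obtain ⟨g, hg⟩ := AlgEquiv.restrictNormalHom_surjective (F := F) (K₁ := E) L gbar
    refine ⟨_, div_map_mem_D (Units.mk0 w hw0) g, ?_⟩
    rw [Units.val_div_eq_div_val, Units.coe_map, Units.val_mk0, div_eq_mul_inv, map_mul,
      Algebra.norm_inv, ← div_eq_mul_inv, hvy, hw]
    congr 1
    have he : RingHom.comp (algebraMap E L) ((gbar : E ≃+* E) : E →+* E) =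
        RingHom.comp ((g : L ≃+* L) : L →+* L) (algebraMap E L) := by
      ext e
      rw [← hg]
      exact AlgEquiv.restrictNormal_commutes g E e
    have h1 := Algebra.norm_eq_of_equiv_equiv (gbar : E ≃+* E) (g : L ≃+* L) he w
    rw [hw] at h1
    have h2 := congrArg (gbar : E ≃+* E) h1
    rw [RingEquiv.apply_symm_apply] at h2
    exact h2.symm
  · exact ⟨1, Subgroup.one_mem _, by simp⟩
  · rintro x y _ _ ⟨d₁, hd₁, h₁⟩ ⟨d₂, hd₂, h₂⟩
    exact ⟨d₁ * d₂, Subgroup.mul_mem _ hd₁ hd₂, by rw [Units.val_mul, map_mul, h₁, h₂, Units.val_mul]⟩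
  · rintro x _ ⟨d, hd, h⟩
    exact ⟨d⁻¹, Subgroup.inv_mem _ hd, by
      rw [Units.val_inv_eq_inv_val, Algebra.norm_inv, h, Units.val_inv_eq_inv_val]⟩

/-- Restriction step: if the claim holds for `L/E` then `u ^ [G : Gal(L/E)] ∈ D F L`. -/
theorem pow_index_mem_D (E : IntermediateField F L)
    (hE : ∀ r : Lˣ, Algebra.norm E (r : L) = 1 → r ∈ D E L)
    (u : Lˣ) (hu : Algebra.norm F (u : L) = 1) :
    u ^ (E.fixingSubgroup).index ∈ D F L := by
  classical
  obtain ⟨T, hT, -⟩ := Subgroup.exists_isComplement_right E.fixingSubgroup (1 : L ≃ₐ[F] L)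
  set S : Set (L ≃ₐ[F] L) := (E.fixingSubgroup : Set (L ≃ₐ[F] L)) with hS
  have hTfin : Fintype T := Fintype.ofFinite T
  have hSfin : Fintype S := Fintype.ofFinite S
  let r : Lˣ := ∏ t : T, Units.map (((t : L ≃ₐ[F] L)) : L →* L) u
  have hrval : (r : L) = ∏ t : T, (t : L ≃ₐ[F] L) (u : L) := by
    simp only [r, Units.coe_prod, Units.coe_map]
    rfl
  let eS : S ≃ (L ≃ₐ[E] L) :=
    (Equiv.subtypeEquivRight (fun g => Iff.rfl)).trans (IntermediateField.fixingSubgroupEquiv E).toEquiv
  have hr1 : Algebra.norm E (r : L) = 1 := by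
    apply (algebraMap E L).injective
    rw [map_one, Algebra.norm_eq_prod_automorphisms E (r : L),
      ← Fintype.prod_equiv eS (fun s => (s : L ≃ₐ[F] L) (r : L)) (fun σ => σ (r : L))
        (fun s => rfl), hrval]
    simp only [map_prod]
    rw [← Fintype.prod_prod_type' (fun (s : S) (t : T) => (s : L ≃ₐ[F] L) ((t : L ≃ₐ[F] L) (u : L)))]
    have h2 := Algebra.norm_eq_prod_automorphisms F (u : L)
    rw [hu, map_one] at h2
    rw [h2]
    exact Fintype.prod_bijective _ hT _ _ (fun x => rfl)
  have hrD : r ∈ D F L := D_mono E (hE r hr1)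
  have hpow : u ^ Fintype.card T =
      r * ∏ t : T, (u / Units.map (((t : L ≃ₐ[F] L)) : L →* L) u) := by
    simp only [r]
    rw [← Finset.prod_mul_distrib]
    simp only [mul_div_cancel]
    rw [Finset.prod_const, Finset.card_univ]
  have hidx : (E.fixingSubgroup).index = Fintype.card T := by
    rw [← hT.card_right, Nat.card_eq_fintype_card]
  rw [hidx, hpow]
  refine Subgroup.mul_mem _ hrD (Subgroup.prod_mem _ fun t _ => div_map_mem_D u _)

/-- Generalized Hilbert 90: over a `C_1` field, elements of norm one of a finite Galois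
extension lie in the subgroup generated by the `w / g w`. -/
theorem mem_D_of_norm_eq_one : ∀ n : ℕ, ∀ (F L : Type u) [Field F] [Field L] [Algebra F L]
    [FiniteDimensional F L] [IsGalois F L], Curves.IsCr F 1 → Module.finrank F L = n →
    ∀ u : Lˣ, Algebra.norm F (u : L) = 1 → u ∈ D F L := by
  intro n
  induction n using Nat.strong_induction_on with
  | _ n ih =>
  intro F L _ _ _ _ _ hC hn u hu
  classical
  have hcardG : Nat.card (L ≃ₐ[F] L) = n := by rw [IsGalois.card_aut_eq_finrank, hn]
  by_cases hcyc : IsCyclic (L ≃ₐ[F] L)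
  · obtain ⟨g, hg⟩ := hcyc.exists_generator
    obtain ⟨y, hy0, hy⟩ := cyclic_h90 g hg (u : L) hu
    have h1 : u = Units.mk0 y hy0 / Units.map ((g : L ≃ₐ[F] L) : L →* L) (Units.mk0 y hy0) := by
      ext
      rw [Units.val_div_eq_div_val, Units.coe_map, Units.val_mk0]
      have hgy : g y ≠ 0 := by
        intro h0
        rw [h0, mul_zero] at hy
        exact hy0 hy.symm
      rw [eq_div_iff]
      · exact hy
      · exact hgy
    rw [h1]
    exact div_map_mem_D _ g
  by_cases hp : ∃ p : ℕ, p.Prime ∧ IsPGroup p (L ≃ₐ[F] L)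
  · obtain ⟨p, hpp, hpg⟩ := hp
    have hfact : Fact p.Prime := ⟨hpp⟩
    obtain ⟨a, ha⟩ := hpg.exists_card_eq
    have ha2 : 2 ≤ a := by
      by_contra hlt
      push Not at hlt
      apply hcyc
      interval_cases a
      · have h1 : Nat.card (L ≃ₐ[F] L) = 1 := by rw [ha, pow_zero]
        have : Subsingleton (L ≃ₐ[F] L) := (Nat.card_eq_one_iff_unique.mp h1).1
        infer_instance
      · exact isCyclic_of_prime_card (p := p) (by rw [ha, pow_one])
    obtain ⟨N, hN⟩ := Sylow.exists_subgroup_card_pow_prime p (n := a - 1)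
      (show p ^ (a - 1) ∣ Nat.card (L ≃ₐ[F] L) by rw [ha]; exact pow_dvd_pow p (Nat.sub_le a 1))
    have hpa : p ^ a = p ^ (a - 1) * p := by
      rw [← pow_succ, Nat.sub_add_cancel (by omega)]
    have hNidx : N.index = p := by
      have h1 := N.card_mul_index
      rw [hN, ha, hpa] at h1
      exact Nat.eq_of_mul_eq_mul_left (pow_pos hpp.pos _) h1
    have hNn : N.Normal := by
      apply Subgroup.normal_of_index_eq_minFac_card
      rw [hNidx, ha]
      exact (Nat.Prime.pow_minFac hpp (by omega)).symm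
    let E := IntermediateField.fixedField N
    have hEgal : IsGalois F E := inferInstance
    have hEL : Module.finrank E L = p ^ (a - 1) := by
      rw [IntermediateField.finrank_fixedField_eq_card, hN]
    have hFE : Module.finrank F E = p := by
      have h1 := Module.finrank_mul_finrank F E L
      rw [hEL, hn, ← hcardG, ha, hpa, mul_comm] at h1
      exact Nat.eq_of_mul_eq_mul_left (pow_pos hpp.pos _) h1
    have hnpa : n = p ^ a := by rw [← hcardG, ha]
    have hlt1 : p ^ (a - 1) < n := by
      rw [hnpa]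
      exact Nat.pow_lt_pow_right hpp.one_lt (by omega)
    have hlt2 : p < n := by
      rw [hnpa]
      calc p = p ^ 1 := (pow_one p).symm
        _ < p ^ a := Nat.pow_lt_pow_right hpp.one_lt (by omega)
    have hCE : Curves.IsCr E 1 := Groth.Agent.S0213.result F E hC
    have ih1 := ih (p ^ (a - 1)) hlt1 E L hCE hEL
    have ih2 := ih p hlt2 F E hC hFE
    have hS : Function.Surjective (Algebra.norm E : L → E) := norm_surjective_of_isCr hCE L
    -- v = norm_E u
    have hv0 : Algebra.norm E (u : L) ≠ 0 := by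
      rw [Algebra.norm_ne_zero_iff]; exact u.ne_zero
    have hvn : Algebra.norm F ((Units.mk0 _ hv0 : Eˣ) : E) = 1 := by
      rw [Units.val_mk0, Algebra.norm_norm, hu]
    obtain ⟨d, hdD, hd⟩ := exists_norm_eq_of_mem_D E hS _ (ih2 _ hvn)
    rw [Units.val_mk0] at hd
    have h3 : Algebra.norm E ((u / d : Lˣ) : L) = 1 := by
      rw [Units.val_div_eq_div_val, div_eq_mul_inv, map_mul, Algebra.norm_inv, hd,
        mul_inv_cancel₀ hv0]
    have h4 : u / d ∈ D F L := D_mono E (ih1 _ h3)
    have h5 : u = (u / d) * d := by rw [div_mul_cancel]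
    rw [h5]
    exact Subgroup.mul_mem _ h4 hdD
  · push Not at hp
    let q : Lˣ ⧸ D F L := QuotientGroup.mk u
    have hkey : ∀ p : ℕ, p.Prime → ¬ p ∣ orderOf q := by
      intro p hpp hdvd
      have hfact : Fact p.Prime := ⟨hpp⟩
      let P : Sylow p (L ≃ₐ[F] L) := default
      let E := IntermediateField.fixedField (P : Subgroup (L ≃ₐ[F] L))
      have hfix : E.fixingSubgroup = (P : Subgroup (L ≃ₐ[F] L)) :=
        IntermediateField.fixingSubgroup_fixedField _
      have hPne : (P : Subgroup (L ≃ₐ[F] L)) ≠ ⊤ := by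
        intro htop
        apply hp p hpp
        have h1 := P.isPGroup'
        rw [htop] at h1
        exact h1.of_equiv Subgroup.topEquiv
      have hEL : Module.finrank E L = Nat.card (P : Subgroup (L ≃ₐ[F] L)) :=
        IntermediateField.finrank_fixedField_eq_card _
      have hlt : Nat.card (P : Subgroup (L ≃ₐ[F] L)) < n := by
        rw [← hcardG]
        exact lt_of_le_of_ne (Subgroup.card_le_card_group _)
          (fun h => hPne ((Subgroup.card_eq_iff_eq_top _).mp h))
      have hCE : Curves.IsCr E 1 := Groth.Agent.S0213.result F E hC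
      have ih1 := ih _ hlt E L hCE hEL
      have hpow := pow_index_mem_D E ih1 u hu
      rw [hfix] at hpow
      have h1 : q ^ (P : Subgroup (L ≃ₐ[F] L)).index = 1 := by
        rw [← QuotientGroup.mk_pow]
        exact (QuotientGroup.eq_one_iff _).mpr hpow
      exact P.not_dvd_index (hdvd.trans (orderOf_dvd_of_pow_eq_one h1))
    have hq1 : orderOf q = 1 := Nat.eq_one_iff_not_exists_prime_dvd.mpr hkey
    have hq : q = 1 := orderOf_eq_one_iff.mp hq1
    exact (QuotientGroup.eq_one_iff u).mp hq

end General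

end Groth.Agent.Lib.Helper1.NormOne
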