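import Mathlib

/-!
# Hasse–Davenport, part 1: monic polynomials over a finite field and the weight `lam`
(helper1, for S3128)
-/

set_option autoImplicit false
set_option linter.unusedSectionVars false
set_option linter.unusedVariables false

namespace Groth.Agent.Lib.Helper1.HD

open Polynomial

variable {F : Type} [Field F] [Fintype F]
variable {R : Type} [CommRing R] [IsDomain R]

/-- the monic polynomial with prescribed lower coefficients -/
noncomputable def mk (s : ℕ) (c : Fin s → F) : F[X] :=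
  X ^ s + ∑ i : Fin s, C (c i) * X ^ (i : ℕ)

theorem mk_monic (s : ℕ) (c : Fin s → F) : (mk s c).Monic :=
  monic_X_pow_add (degree_sum_fin_lt c)

theorem mk_natDegree (s : ℕ) (c : Fin s → F) : (mk s c).natDegree = s := by
  have h := degree_sum_fin_lt c
  unfold mk
  rw [add_comm]
  have h2 : (∑ i : Fin s, C (c i) * X ^ (i : ℕ)).degree < (X ^ s : F[X]).degree := by
    rw [degree_X_pow]; exact h
  rw [natDegree_add_eq_right_of_degree_lt h2, natDegree_X_pow]

open Classical in
/-- the finite set of monic polynomials of degree `s` -/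
noncomputable def Mon (F : Type) [Field F] [Fintype F] (s : ℕ) : Finset F[X] :=
  (Finset.univ : Finset (Fin s → F)).image (mk s)

theorem mem_Mon {s : ℕ} {f : F[X]} : f ∈ Mon F s ↔ f.Monic ∧ f.natDegree = s := by
  classical
  unfold Mon
  rw [Finset.mem_image]
  constructor
  · rintro ⟨c, _, rfl⟩
    exact ⟨mk_monic s c, mk_natDegree s c⟩
  · rintro ⟨hm, hd⟩
    refine ⟨fun i => f.coeff i, Finset.mem_univ _, ?_⟩
    unfold mk
    conv_rhs => rw [hm.as_sum, hd]
    rw [Finset.sum_range]

variable (χ : MulChar F R) (ψ : AddChar F R)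

/-- the weight of a monic polynomial -/
noncomputable def lam (f : F[X]) : R :=
  χ ((-1) ^ f.natDegree * f.coeff 0) * ψ (-f.nextCoeff)

theorem lam_one : lam χ ψ (1 : F[X]) = 1 := by
  unfold lam
  simp [nextCoeff]

theorem lam_mul {f h : F[X]} (hf : f.Monic) (hh : h.Monic) :
    lam χ ψ (f * h) = lam χ ψ f * lam χ ψ h := by
  unfold lam
  rw [hf.natDegree_mul hh, mul_coeff_zero, hf.nextCoeff_mul hh, neg_add, AddChar.map_add_eq_mul,
    pow_add]
  have : (-1 : F) ^ f.natDegree * (-1) ^ h.natDegree * (f.coeff 0 * h.coeff 0) =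
      ((-1) ^ f.natDegree * f.coeff 0) * ((-1) ^ h.natDegree * h.coeff 0) := by ring
  rw [this, map_mul]
  ring

theorem lam_pow {Q : F[X]} (hQ : Q.Monic) (m : ℕ) : lam χ ψ (Q ^ m) = lam χ ψ Q ^ m := by
  induction m with
  | zero => simp [lam_one]
  | succ m ih => rw [pow_succ, lam_mul χ ψ (hQ.pow m) hQ, ih, pow_succ]

theorem lam_pow_mul {Q h : F[X]} (hQ : Q.Monic) (hh : h.Monic) (m : ℕ) :
    lam χ ψ (Q ^ m * h) = lam χ ψ Q ^ m * lam χ ψ h := by
  rw [lam_mul χ ψ (hQ.pow m) hh, lam_pow χ ψ hQ]

/-- the sum of the weights over the monic polynomials of degree `s` -/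
noncomputable def aS (s : ℕ) : R := ∑ f ∈ Mon F s, lam χ ψ f

theorem aS_zero : aS χ ψ 0 = 1 := by
  have : Mon F 0 = {1} := by
    ext f
    rw [mem_Mon, Finset.mem_singleton]
    constructor
    · rintro ⟨hm, hd⟩
      exact hm.natDegree_eq_zero.mp hd
    · rintro rfl
      exact ⟨monic_one, natDegree_one⟩
  unfold aS
  rw [this, Finset.sum_singleton, lam_one]

theorem aS_one : aS χ ψ 1 = ∑ x : F, χ x * ψ x := by
  classical
  have : Mon F 1 = (Finset.univ : Finset F).image (fun x => X - C x) := by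
    ext f
    rw [mem_Mon, Finset.mem_image]
    constructor
    · rintro ⟨hm, hd⟩
      refine ⟨-f.coeff 0, Finset.mem_univ _, ?_⟩
      have := hm.as_sum
      rw [hd] at this
      simp only [pow_one, Finset.range_one, Finset.sum_singleton, pow_zero, mul_one] at this
      rw [this]
      simp
    · rintro ⟨x, _, rfl⟩
      exact ⟨monic_X_sub_C x, natDegree_X_sub_C x⟩
  unfold aS
  rw [this, Finset.sum_image]
  · apply Finset.sum_congr rfl
    intro x _
    unfold lam
    rw [natDegree_X_sub_C, nextCoeff_X_sub_C]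
    simp
  · intro x _ y _ h
    simpa using h

theorem aS_eq_zero (hψ : ψ ≠ 1) {s : ℕ} (hs : 2 ≤ s) : aS χ ψ s = 0 := by
  classical
  obtain ⟨u, hu⟩ := AddChar.ne_one_iff.mp hψ
  -- translate the next-to-leading coefficient by `-u`
  set T : F[X] → F[X] := fun f => f + C (-u) * X ^ (s - 1) with hT
  have hdeg : ∀ a : F, (C a * X ^ (s - 1) : F[X]).degree < s := by
    intro a
    refine lt_of_le_of_lt (degree_C_mul_X_pow_le _ _) ?_
    exact_mod_cast Nat.sub_lt (by omega) one_pos
  have hmem : ∀ (a : F) (f : F[X]), f ∈ Mon F s → f + C a * X ^ (s - 1) ∈ Mon F s := by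
    intro a f hf
    rw [mem_Mon] at hf ⊢
    obtain ⟨hm, hd⟩ := hf
    have hlt : (C a * X ^ (s - 1) : F[X]).degree < f.degree := by
      rw [degree_eq_natDegree hm.ne_zero, hd]; exact hdeg a
    refine ⟨hm.add_of_left hlt, ?_⟩
    rw [natDegree_add_eq_left_of_degree_lt hlt, hd]
  have hlam : ∀ f ∈ Mon F s, lam χ ψ (T f) = ψ u * lam χ ψ f := by
    intro f hf
    have hf' := hmem (-u) f hf
    rw [mem_Mon] at hf hf'
    unfold lam
    rw [hf'.2, hf.2]
    have h0 : (T f).coeff 0 = f.coeff 0 := by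
      rw [hT]
      simp only [coeff_add, coeff_C_mul, coeff_X_pow]
      rw [if_neg (by omega)]; simp
    have h1 : (T f).nextCoeff = f.nextCoeff + -u := by
      rw [nextCoeff_of_natDegree_pos (by rw [hf'.2]; omega),
        nextCoeff_of_natDegree_pos (by rw [hf.2]; omega), hf'.2, hf.2, hT]
      simp only [coeff_add, coeff_C_mul, coeff_X_pow]
      simp
    rw [h0, h1, neg_add, neg_neg, AddChar.map_add_eq_mul]
    ring
  have hsum : aS χ ψ s = ψ u * aS χ ψ s := by
    unfold aS
    rw [Finset.mul_sum]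
    rw [← Finset.sum_congr rfl hlam]
    refine Finset.sum_bij' (fun f _ => f + C u * X ^ (s - 1)) (fun f _ => T f) ?_ ?_ ?_ ?_ ?_
    · intro f hf; exact hmem u f hf
    · intro f hf; exact hmem (-u) f hf
    · intro f hf
      simp only [hT]
      rw [add_assoc, ← add_mul, ← C_add, add_neg_cancel, C_0, zero_mul, add_zero]
    · intro f hf
      simp only [hT]
      rw [add_assoc, ← add_mul, ← C_add, neg_add_cancel, C_0, zero_mul, add_zero]
    · intro f hf
      simp only [hT]
      rw [add_assoc, ← add_mul, ← C_add, add_neg_cancel, C_0, zero_mul, add_zero]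
  have h2 : (1 - ψ u) * aS χ ψ s = 0 := by
    rw [sub_mul, one_mul, ← hsum, sub_self]
  rcases mul_eq_zero.mp h2 with h | h
  · exact absurd (sub_eq_zero.mp h).symm hu
  · exact h

end Groth.Agent.Lib.Helper1.HD
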