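import Groth.Agent.Lib.Helper1.HD1

/-!
# Hasse–Davenport, part 2: the degree identity and the recurrence (helper1, for S3128)
-/

set_option autoImplicit false
set_option linter.unusedSectionVars false
set_option linter.unusedVariables false

namespace Groth.Agent.Lib.Helper1.HD

open Polynomial UniqueFactorizationMonoid

variable {F : Type} [Field F] [Fintype F]
variable {R : Type} [CommRing R] [IsDomain R]

open Classical in
/-- monic irreducible polynomials of degree `≤ N` -/
noncomputable def Irr (F : Type) [Field F] [Fintype F] (N : ℕ) : Finset F[X] :=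
  ((Finset.range (N + 1)).biUnion (Mon F)).filter Irreducible

theorem mem_Irr {N : ℕ} {Q : F[X]} :
    Q ∈ Irr F N ↔ Q.Monic ∧ Irreducible Q ∧ Q.natDegree ≤ N := by
  classical
  unfold Irr
  rw [Finset.mem_filter, Finset.mem_biUnion]
  constructor
  · rintro ⟨⟨d, hd, hQ⟩, hirr⟩
    rw [mem_Mon] at hQ
    rw [Finset.mem_range] at hd
    exact ⟨hQ.1, hirr, by omega⟩
  · rintro ⟨hm, hirr, hd⟩
    exact ⟨⟨Q.natDegree, Finset.mem_range.2 (by omega), mem_Mon.2 ⟨hm, rfl⟩⟩, hirr⟩

open Classical in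
theorem pow_dvd_iff_le_count {Q f : F[X]} (hQ : Irreducible Q) (hQm : Q.Monic) (hf : f ≠ 0)
    (m : ℕ) : Q ^ m ∣ f ↔ m ≤ (normalizedFactors f).count Q := by
  classical
  rw [pow_dvd_iff_le_emultiplicity, emultiplicity_eq_count_normalizedFactors hQ hf,
    hQm.normalize_eq_self, Nat.cast_le]

open Classical in
theorem monic_of_mem_normalizedFactors {f Q : F[X]} (hQ : Q ∈ normalizedFactors f) : Q.Monic := by
  classical
  have h1 := normalize_normalized_factor Q hQ
  have h2 : Q ≠ 0 := (irreducible_of_normalized_factor Q hQ).ne_zero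
  rw [← h1]
  exact monic_normalize h2

open Classical in
theorem natDegree_eq_sum {N : ℕ} {f : F[X]} (hf : f.Monic) (hN : f.natDegree ≤ N) :
    f.natDegree = ∑ Q ∈ Irr F N, ∑ m ∈ Finset.Icc 1 N,
      if Q ^ m ∣ f then Q.natDegree else 0 := by
  classical
  have hf0 : f ≠ 0 := hf.ne_zero
  have hmon : ∀ Q ∈ normalizedFactors f, Q.Monic := fun Q hQ => monic_of_mem_normalizedFactors hQ
  have hprod : (normalizedFactors f).prod = f := by
    apply eq_of_monic_of_associated _ hf (prod_normalizedFactors hf0)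
    have := monic_multiset_prod_of_monic (normalizedFactors f) id hmon
    rwa [Multiset.map_id] at this
  have h1 : f.natDegree = ((normalizedFactors f).map natDegree).sum := by
    conv_lhs => rw [← hprod]
    exact natDegree_multiset_prod_of_monic _ hmon
  rw [h1, Finset.sum_multiset_map_count]
  have hsub : (normalizedFactors f).toFinset ⊆ Irr F N := by
    intro Q hQ
    rw [Multiset.mem_toFinset] at hQ
    rw [mem_Irr]
    refine ⟨hmon Q hQ, irreducible_of_normalized_factor Q hQ, ?_⟩
    exact le_trans (natDegree_le_of_dvd (dvd_of_mem_normalizedFactors hQ) hf0) hN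
  rw [Finset.sum_subset hsub]
  · apply Finset.sum_congr rfl
    intro Q hQ
    rw [mem_Irr] at hQ
    obtain ⟨hQm, hQi, hQd⟩ := hQ
    set c := (normalizedFactors f).count Q with hc
    have hcN : c ≤ N := by
      have hdvd : Q ^ c ∣ f := (pow_dvd_iff_le_count hQi hQm hf0 c).2 le_rfl
      have h2 := natDegree_le_of_dvd hdvd hf0
      rw [hQm.natDegree_pow] at h2
      have h3 := hQi.natDegree_pos
      calc c = c * 1 := (mul_one c).symm
        _ ≤ c * Q.natDegree := Nat.mul_le_mul_left c h3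
        _ ≤ f.natDegree := h2
        _ ≤ N := hN
    have hiff : ∀ m ∈ Finset.Icc 1 N, (if Q ^ m ∣ f then Q.natDegree else 0) =
        if m ≤ c then Q.natDegree else 0 := by
      intro m _
      have hiff' := pow_dvd_iff_le_count hQi hQm hf0 m
      by_cases hm : m ≤ c
      · rw [if_pos (hiff'.2 hm), if_pos hm]
      · rw [if_neg (fun h => hm (hiff'.1 h)), if_neg hm]
    rw [Finset.sum_congr rfl hiff, ← Finset.sum_filter, Finset.sum_const, smul_eq_mul,
      smul_eq_mul]
    congr 1
    have : (Finset.Icc 1 N).filter (fun m => m ≤ c) = Finset.Icc 1 c := by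
      ext m
      simp only [Finset.mem_filter, Finset.mem_Icc]
      omega
    rw [this, Nat.card_Icc]
    omega
  · intro Q _ hQ
    rw [Multiset.mem_toFinset] at hQ
    rw [Multiset.count_eq_zero_of_notMem hQ, zero_smul]

variable (χ : MulChar F R) (ψ : AddChar F R)

open Classical in
theorem sum_dvd {D : F[X]} (hD : D.Monic) (s : ℕ) :
    ∑ f ∈ (Mon F s).filter (fun f => D ∣ f), lam χ ψ f =
      if D.natDegree ≤ s then lam χ ψ D * aS χ ψ (s - D.natDegree) else 0 := by
  classical
  by_cases hle : D.natDegree ≤ s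
  · rw [if_pos hle]
    have himg : (Mon F s).filter (fun f => D ∣ f) =
        (Mon F (s - D.natDegree)).image (fun h => D * h) := by
      ext f
      rw [Finset.mem_filter, Finset.mem_image, mem_Mon]
      constructor
      · rintro ⟨⟨hm, hd⟩, h, rfl⟩
        have hh : h.Monic := hD.of_mul_monic_left hm
        refine ⟨h, ?_, rfl⟩
        rw [mem_Mon]
        refine ⟨hh, ?_⟩
        rw [hD.natDegree_mul hh] at hd
        omega
      · rintro ⟨h, hh, rfl⟩
        rw [mem_Mon] at hh
        refine ⟨⟨hD.mul hh.1, ?_⟩, dvd_mul_right D h⟩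
        rw [hD.natDegree_mul hh.1, hh.2]
        omega
    rw [himg, Finset.sum_image]
    · unfold aS
      rw [Finset.mul_sum]
      apply Finset.sum_congr rfl
      intro h hh
      rw [mem_Mon] at hh
      exact lam_mul χ ψ hD hh.1
    · intro a _ b _ hab
      exact mul_left_cancel₀ hD.ne_zero hab
  · rw [if_neg hle]
    apply Finset.sum_eq_zero
    intro f hf
    exfalso
    rw [Finset.mem_filter, mem_Mon] at hf
    obtain ⟨⟨hm, hd⟩, hdvd⟩ := hf
    have := natDegree_le_of_dvd hdvd hm.ne_zero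
    omega

open Classical in
theorem rec_aS {N s : ℕ} (hs : s ≤ N) :
    (s : R) * aS χ ψ s = ∑ Q ∈ Irr F N, ∑ m ∈ Finset.Icc 1 N,
      if m * Q.natDegree ≤ s then
        (Q.natDegree : R) * lam χ ψ Q ^ m * aS χ ψ (s - m * Q.natDegree) else 0 := by
  classical
  have h1 : (s : R) * aS χ ψ s = ∑ f ∈ Mon F s, ((∑ Q ∈ Irr F N, ∑ m ∈ Finset.Icc 1 N,
      if Q ^ m ∣ f then Q.natDegree else 0 : ℕ) : R) * lam χ ψ f := by
    unfold aS
    rw [Finset.mul_sum]
    apply Finset.sum_congr rfl
    intro f hf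
    rw [mem_Mon] at hf
    rw [← natDegree_eq_sum hf.1 (by rw [hf.2]; exact hs), hf.2]
  rw [h1]
  simp only [Nat.cast_sum, Finset.sum_mul]
  rw [Finset.sum_comm]
  apply Finset.sum_congr rfl
  intro Q hQ
  rw [Finset.sum_comm]
  apply Finset.sum_congr rfl
  intro m hm
  rw [mem_Irr] at hQ
  have hD : (Q ^ m).Monic := hQ.1.pow m
  have h2 : ∀ f ∈ Mon F s, (((if Q ^ m ∣ f then Q.natDegree else 0 : ℕ) : R)) * lam χ ψ f =
      if Q ^ m ∣ f then (Q.natDegree : R) * lam χ ψ f else 0 := by
    intro f _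
    by_cases hd : Q ^ m ∣ f
    · rw [if_pos hd, if_pos hd]
    · rw [if_neg hd, if_neg hd, Nat.cast_zero, zero_mul]
  rw [Finset.sum_congr rfl h2, ← Finset.sum_filter, ← Finset.mul_sum, sum_dvd χ ψ hD,
    hQ.1.natDegree_pow, lam_pow χ ψ hQ.1]
  split_ifs
  · ring
  · simp

/-- the sums `b_i` -/
noncomputable def bS (N i : ℕ) : R :=
  ∑ Q ∈ Irr F N, ∑ m ∈ Finset.Icc 1 N,
    if m * Q.natDegree = i then (Q.natDegree : R) * lam χ ψ Q ^ m else 0

theorem bS_one {N : ℕ} (hN : 1 ≤ N) : bS χ ψ N 1 = ∑ x : F, χ x * ψ x := by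
  have h := rec_aS χ ψ (N := N) (s := 1) hN
  rw [Nat.cast_one, one_mul, aS_one] at h
  rw [h]
  unfold bS
  apply Finset.sum_congr rfl
  intro Q hQ
  apply Finset.sum_congr rfl
  intro m hm
  rw [mem_Irr] at hQ
  rw [Finset.mem_Icc] at hm
  have hpos := hQ.2.1.natDegree_pos
  have hmd : 1 ≤ m * Q.natDegree := Nat.mul_pos (by omega) hpos
  by_cases h1 : m * Q.natDegree = 1
  · rw [if_pos h1, if_pos (show m * Q.natDegree ≤ 1 by omega), h1, Nat.sub_self, aS_zero, mul_one]
  · rw [if_neg h1, if_neg (show ¬ m * Q.natDegree ≤ 1 by omega)]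

theorem bS_succ (hψ : ψ ≠ 1) {N s : ℕ} (hs2 : 2 ≤ s) (hs : s ≤ N) :
    bS χ ψ N s = -(∑ x : F, χ x * ψ x) * bS χ ψ N (s - 1) := by
  have h := rec_aS χ ψ (N := N) (s := s) hs
  rw [aS_eq_zero χ ψ hψ hs2, mul_zero] at h
  have h2 : (0 : R) = bS χ ψ N s + (∑ x : F, χ x * ψ x) * bS χ ψ N (s - 1) := by
    rw [h]
    unfold bS
    rw [Finset.mul_sum, ← Finset.sum_add_distrib]
    apply Finset.sum_congr rfl
    intro Q hQ
    rw [Finset.mul_sum, ← Finset.sum_add_distrib]
    apply Finset.sum_congr rfl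
    intro m hm
    by_cases h1 : m * Q.natDegree = s
    · rw [if_pos (show m * Q.natDegree ≤ s by omega), if_pos h1,
        if_neg (show ¬ m * Q.natDegree = s - 1 by omega), h1, Nat.sub_self, aS_zero, mul_one,
        mul_zero, add_zero]
    · by_cases h3 : m * Q.natDegree = s - 1
      · rw [if_pos (show m * Q.natDegree ≤ s by omega), if_neg h1, if_pos h3, h3]
        have : s - (s - 1) = 1 := by omega
        rw [this, aS_one]
        ring
      · rw [if_neg h1, if_neg h3, mul_zero, add_zero]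
        by_cases h4 : m * Q.natDegree ≤ s
        · rw [if_pos h4, aS_eq_zero χ ψ hψ (by omega), mul_zero]
        · rw [if_neg h4]
  have h3 := eq_neg_of_add_eq_zero_left h2.symm
  rw [h3]; ring

theorem bS_eq (hψ : ψ ≠ 1) {N s : ℕ} (hs1 : 1 ≤ s) (hs : s ≤ N) :
    -bS χ ψ N s = (-(∑ x : F, χ x * ψ x)) ^ s := by
  induction s with
  | zero => omega
  | succ s ih =>
    by_cases h0 : s = 0
    · subst h0
      rw [bS_one χ ψ (by omega)]
      simp
    · rw [bS_succ χ ψ hψ (by omega) hs, Nat.add_sub_cancel, pow_succ, ← ih (by omega) (by omega)]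
      ring

end Groth.Agent.Lib.Helper1.HD
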