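import Groth.Agent.Lib.Helper1.HD2

/-!
# Hasse–Davenport, part 3: the Gauss sum over the extension as the power sum `bS`
(helper1, for S3128)
-/

set_option autoImplicit false
set_option linter.unusedSectionVars false
set_option linter.unusedVariables false

namespace Groth.Agent.Lib.Helper1.HD

open Polynomial IntermediateField

variable {F : Type} [Field F] [Fintype F]
variable {R : Type} [CommRing R] [IsDomain R]
variable {F' : Type} [Field F'] [Fintype F'] [Algebra F F']
variable (χ : MulChar F R) (ψ : AddChar F R)

theorem finrank_mul_natDegree (α : F') :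
    Module.finrank F⟮α⟯ F' * (minpoly F α).natDegree = Module.finrank F F' := by
  have hint : IsIntegral F α := .of_finite F α
  rw [← IntermediateField.adjoin.finrank hint, mul_comm, Module.finrank_mul_finrank]

theorem norm_eq (α : F') :
    Algebra.norm F α =
      ((-1) ^ (minpoly F α).natDegree * (minpoly F α).coeff 0) ^ Module.finrank F⟮α⟯ F' := by
  have hint : IsIntegral F α := .of_finite F α
  rw [Algebra.norm_eq_norm_adjoin]
  have h := Algebra.PowerBasis.norm_gen_eq_coeff_zero_minpoly
    (IntermediateField.adjoin.powerBasis hint)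
  rw [IntermediateField.adjoin.powerBasis_gen, IntermediateField.adjoin.powerBasis_dim,
    IntermediateField.minpoly_gen] at h
  rw [h]

theorem char_eq_lam_pow (α : F') :
    χ (Algebra.norm F α) * ψ (Algebra.trace F F' α) =
      lam χ ψ (minpoly F α) ^ Module.finrank F⟮α⟯ F' := by
  unfold lam
  rw [norm_eq, trace_eq_finrank_mul_minpoly_nextCoeff, ← nsmul_eq_mul, AddChar.map_nsmul_eq_pow,
    map_pow, mul_pow]

open Classical in
theorem card_roots {Q : F[X]} (hQm : Q.Monic) (hQi : Irreducible Q)
    (hd : Q.natDegree ∣ Module.finrank F F') :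
    (Finset.univ.filter fun α : F' => minpoly F α = Q).card = Q.natDegree := by
  classical
  have h1 : Q ∣ X ^ (Nat.card F) ^ (Module.finrank F F') - X :=
    hQi.natDegree_dvd_iff_dvd_X_pow_card_pow_sub_X.1 hd
  have hcard : Nat.card F ^ Module.finrank F F' = Fintype.card F' := by
    rw [Nat.card_eq_fintype_card, Module.card_eq_pow_finrank (K := F) (V := F')]
  rw [hcard] at h1
  have h2 : Q.map (algebraMap F F') ∣ (X ^ Fintype.card F' - X : F'[X]) := by
    have := Polynomial.map_dvd (algebraMap F F') h1
    simpa using this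
  have hne : (X ^ Fintype.card F' - X : F'[X]) ≠ 0 :=
    FiniteField.X_pow_card_sub_X_ne_zero F' Fintype.one_lt_card
  have hroots : (X ^ Fintype.card F' - X : F'[X]).roots = Finset.univ.val :=
    FiniteField.roots_X_pow_card_sub_X F'
  have hsplit : (X ^ Fintype.card F' - X : F'[X]).Splits := by
    rw [splits_iff_card_roots, hroots,
      FiniteField.X_pow_card_sub_X_natDegree_eq F' Fintype.one_lt_card]
    simp
  have hsQ : (Q.map (algebraMap F F')).Splits := Splits.of_dvd hsplit hne h2
  have hcardQ := hsQ.natDegree_eq_card_roots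
  have hnodup : (Q.map (algebraMap F F')).roots.Nodup := by
    apply Multiset.nodup_of_le (Polynomial.roots.le_of_dvd hne h2)
    rw [hroots]; exact Finset.univ.nodup
  have hset : (Finset.univ.filter fun α : F' => minpoly F α = Q) =
      (Q.map (algebraMap F F')).roots.toFinset := by
    ext α
    simp only [Finset.mem_filter, Finset.mem_univ, true_and, Multiset.mem_toFinset]
    rw [mem_roots (hQm.map _).ne_zero, IsRoot.def, eval_map_algebraMap]
    constructor
    · rintro rfl; exact minpoly.aeval F α
    · intro h; exact (minpoly.eq_of_irreducible_of_monic hQi h hQm).symm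
  rw [hset, Multiset.toFinset_card_of_nodup hnodup, ← hcardQ, natDegree_map]

open Classical in
theorem term_eq {Q : F[X]} (hQ : Q ∈ Irr F (Module.finrank F F')) (m : ℕ) :
    (if m * Q.natDegree = Module.finrank F F' then (Q.natDegree : R) * lam χ ψ Q ^ m else 0) =
      ∑ α : F', if (minpoly F α = Q ∧ m * Q.natDegree = Module.finrank F F')
        then lam χ ψ Q ^ m else 0 := by
  rw [mem_Irr] at hQ
  by_cases h : m * Q.natDegree = Module.finrank F F'
  · rw [if_pos h]
    simp only [h, and_true]
    rw [← Finset.sum_filter, Finset.sum_const,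
      card_roots hQ.1 hQ.2.1 ⟨m, by rw [← h, mul_comm]⟩, nsmul_eq_mul]
  · rw [if_neg h]
    simp [h]

open Classical in
theorem sum_eq_bS :
    ∑ α : F', χ (Algebra.norm F α) * ψ (Algebra.trace F F' α) =
      bS χ ψ (Module.finrank F F') (Module.finrank F F') := by
  unfold bS
  rw [Finset.sum_congr rfl (fun Q hQ => Finset.sum_congr rfl (fun m hm => term_eq χ ψ hQ m))]
  rw [Finset.sum_congr rfl (fun Q hQ => Finset.sum_comm)]
  rw [Finset.sum_comm]
  apply Finset.sum_congr rfl
  intro α _
  rw [char_eq_lam_pow]
  have hint : IsIntegral F α := .of_finite F α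
  have hmul := finrank_mul_natDegree (F := F) α
  have hnpos : 0 < Module.finrank F F' := Module.finrank_pos
  have hdpos : 0 < (minpoly F α).natDegree := minpoly.natDegree_pos hint
  have hα : minpoly F α ∈ Irr F (Module.finrank F F') := by
    rw [mem_Irr]
    refine ⟨minpoly.monic hint, minpoly.irreducible hint, ?_⟩
    rw [← hmul]
    exact Nat.le_mul_of_pos_left _ (Nat.pos_of_ne_zero (by
      intro h0; rw [h0, zero_mul] at hmul; omega))
  have hm0 : Module.finrank F⟮α⟯ F' ∈ Finset.Icc 1 (Module.finrank F F') := by
    rw [Finset.mem_Icc]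
    constructor
    · apply Nat.pos_of_ne_zero
      intro h0; rw [h0, zero_mul] at hmul; omega
    · rw [← hmul]
      exact Nat.le_mul_of_pos_right _ hdpos
  rw [Finset.sum_eq_single_of_mem (minpoly F α) hα]
  · rw [Finset.sum_eq_single_of_mem (Module.finrank F⟮α⟯ F') hm0]
    · rw [if_pos ⟨rfl, hmul⟩]
    · intro m _ hm
      rw [if_neg]
      rintro ⟨_, h⟩
      apply hm
      rw [← hmul] at h
      exact Nat.eq_of_mul_eq_mul_right hdpos h
  · intro Q _ hQ
    apply Finset.sum_eq_zero
    intro m _
    rw [if_neg]
    rintro ⟨h, _⟩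
    exact hQ h.symm

end Groth.Agent.Lib.Helper1.HD
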