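import Mathlib

set_option autoImplicit false
open Matrix

namespace Groth.Agent.Lib.Helper1.HermDiag

universe v w
variable {A : Type v} [CommRing A]

/-- `h` is `(ε, lam)`-hermitian. -/
def Herm (lam : A ≃+* A) (ε : A) {ι : Type w} (h : Matrix ι ι A) : Prop :=
  ε • (h.map lam).transpose = h

/-- `h` is congruent (for the involution `lam`) to a diagonal matrix with unit entries. -/
def Diagble (lam : A ≃+* A) {ι : Type w} [Fintype ι] [DecidableEq ι] (h : Matrix ι ι A) : Prop :=
  ∃ (v : Matrix ι ι A) (d : ι → A), (∀ i, IsUnit (d i)) ∧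
    (v.map lam).transpose * h * v = Matrix.diagonal d

variable {lam : A ≃+* A} {ε : A}

theorem Herm.apply {ι : Type w} {h : Matrix ι ι A} (hh : Herm lam ε h) (i k : ι) :
    ε * lam (h k i) = h i k := by
  have := congrFun (congrFun hh i) k
  simpa using this

theorem Herm.congr {ι : Type w} [Fintype ι] {h : Matrix ι ι A} (hh : Herm lam ε h)
    (hlam : Function.Involutive lam) (w : Matrix ι ι A) :
    Herm lam ε ((w.map lam).transpose * h * w) := by
  unfold Herm at *
  have h1 : ((w.map lam).map lam) = w := by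
    ext i j; simp [hlam (w i j)]
  have h2 : (((w.map lam).transpose * h * w).map lam).transpose
      = (w.map lam).transpose * (h.map lam).transpose * w := by
    rw [Matrix.map_mul, Matrix.map_mul, Matrix.transpose_mul, Matrix.transpose_mul,
      Matrix.transpose_map, Matrix.transpose_transpose, h1, Matrix.mul_assoc]
  rw [h2]
  conv_rhs => rw [← hh]
  rw [Matrix.mul_smul, Matrix.smul_mul]

theorem Herm.submatrix {ι κ : Type w} {h : Matrix ι ι A} (hh : Herm lam ε h) (e : κ → ι) :
    Herm lam ε (h.submatrix e e) := by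
  have := fun i j => hh.apply (e i) (e j)
  unfold Herm at *
  ext i j
  simpa using this i j

theorem Diagble.of_congr {ι : Type w} [Fintype ι] [DecidableEq ι] {h : Matrix ι ι A}
    (w : Matrix ι ι A) (H : Diagble lam ((w.map lam).transpose * h * w)) : Diagble lam h := by
  obtain ⟨v, d, hd, hv⟩ := H
  refine ⟨w * v, d, hd, ?_⟩
  rw [← hv, Matrix.map_mul, Matrix.transpose_mul]
  simp only [Matrix.mul_assoc]

theorem Diagble.of_submatrix {ι κ : Type w} [Fintype ι] [DecidableEq ι] [Fintype κ]
    [DecidableEq κ] {h : Matrix ι ι A} (e : κ ≃ ι) (H : Diagble lam (h.submatrix e e)) :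
    Diagble lam h := by
  obtain ⟨v, d, hd, hv⟩ := H
  refine ⟨v.submatrix e.symm e.symm, d ∘ e.symm, fun i => hd _, ?_⟩
  have h0 : h = (h.submatrix e e).submatrix e.symm e.symm := by
    ext i j; simp
  have h1 : ((v.submatrix e.symm e.symm).map lam).transpose
      = ((v.map lam).transpose).submatrix e.symm e.symm := by
    ext i j; simp
  rw [h1]
  conv_lhs => rw [h0]
  rw [Matrix.submatrix_mul_equiv, Matrix.submatrix_mul_equiv, hv]
  ext i j
  simp [Matrix.diagonal_apply]

theorem Diagble.fromBlocks {m β : Type w} [Fintype m] [DecidableEq m] [Fintype β] [DecidableEq β]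
    {a : Matrix m m A} {S : Matrix β β A} (Ha : Diagble lam a) (HS : Diagble lam S) :
    Diagble lam (Matrix.fromBlocks a 0 0 S) := by
  obtain ⟨v₁, d₁, hd₁, hv₁⟩ := Ha
  obtain ⟨v₂, d₂, hd₂, hv₂⟩ := HS
  refine ⟨Matrix.fromBlocks v₁ 0 0 v₂, Sum.elim d₁ d₂, ?_, ?_⟩
  · rintro (i | i)
    · exact hd₁ i
    · exact hd₂ i
  · rw [Matrix.fromBlocks_map, Matrix.fromBlocks_transpose, Matrix.fromBlocks_multiply,
      Matrix.fromBlocks_multiply, ← Matrix.fromBlocks_diagonal, ← hv₁, ← hv₂]
    simp

theorem Diagble.of_unique {m : Type w} [Unique m] [Fintype m] [DecidableEq m] {a : Matrix m m A}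
    (ha : IsUnit (a default default)) : Diagble lam a := by
  refine ⟨1, fun _ => a default default, fun _ => ha, ?_⟩
  ext i j
  have hi : i = default := Subsingleton.elim _ _
  have hj : j = default := Subsingleton.elim _ _
  subst hi hj
  simp

theorem Diagble.of_isEmpty {β : Type w} [IsEmpty β] [Fintype β] [DecidableEq β] (S : Matrix β β A) :
    Diagble lam S :=
  ⟨1, fun _ => 1, fun i => isEmptyElim i, by ext i; exact isEmptyElim i⟩

end Groth.Agent.Lib.Helper1.HermDiag
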