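import Groth.Agent.Lib.Helper1.HermDiagA

set_option autoImplicit false
open Matrix

namespace Groth.Agent.Lib.Helper1.HermDiag

universe v w
variable {A : Type v} [CommRing A] {lam : A ≃+* A} {ε : A}

theorem unique_mul {m β : Type w} [Unique m] [Fintype m] (a : Matrix m m A) (b : Matrix m β A) :
    a * b = a default default • b := by
  ext i j
  have hi : i = default := Subsingleton.elim _ _
  subst hi
  simp [Matrix.mul_apply, Fintype.sum_unique]

theorem mul_unique {m β : Type w} [Unique m] [Fintype m] (c : Matrix β m A) (a : Matrix m m A) :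
    c * a = a default default • c := by
  ext i j
  have hj : j = default := Subsingleton.elim _ _
  subst hj
  simp [Matrix.mul_apply, Fintype.sum_unique, mul_comm]

theorem pivot_block {m β : Type w} [Unique m] [Fintype m] [DecidableEq m] [Fintype β]
    [DecidableEq β]
    (a : Matrix m m A) (b : Matrix m β A) (c : Matrix β m A) (D : Matrix β β A)
    (hh : Herm lam ε (Matrix.fromBlocks a b c D)) (u : Aˣ) (hu : a default default = ↑u) :
    ∃ w : Matrix (m ⊕ β) (m ⊕ β) A, w.det = 1 ∧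
      (w.map lam).transpose * Matrix.fromBlocks a b c D * w
        = Matrix.fromBlocks a 0 0 (D - (↑u⁻¹ : A) • (c * b)) := by
  have k0 : ε * lam (↑u : A) = ↑u := by
    have := hh.apply (Sum.inl default) (Sum.inl default)
    simpa [hu] using this
  have k1 : lam ((↑u⁻¹ : Aˣ) : A) = ε * ((↑u⁻¹ : Aˣ) : A) := by
    have h1 : lam ((↑u⁻¹ : Aˣ) : A) * lam (↑u : A) = 1 := by
      rw [← map_mul, Units.inv_mul, map_one]
    calc lam ((↑u⁻¹ : Aˣ) : A) = lam ((↑u⁻¹ : Aˣ) : A) * (↑u * ((↑u⁻¹ : Aˣ) : A)) := by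
          rw [Units.mul_inv, mul_one]
      _ = lam ((↑u⁻¹ : Aˣ) : A) * (ε * lam (↑u : A) * ((↑u⁻¹ : Aˣ) : A)) := by rw [k0]
      _ = (lam ((↑u⁻¹ : Aˣ) : A) * lam (↑u : A)) * (ε * ((↑u⁻¹ : Aˣ) : A)) := by ring
      _ = ε * ((↑u⁻¹ : Aˣ) : A) := by rw [h1, one_mul]
  have k2 : ∀ (j : β) (i : m), c j i = ε * lam (b i j) := by
    intro j i
    have := hh.apply (Sum.inr j) (Sum.inl i)
    simpa using this.symm
  refine ⟨Matrix.fromBlocks 1 (-(((↑u⁻¹ : Aˣ) : A) • b)) 0 1, by
    simp [Matrix.det_fromBlocks_zero₂₁], ?_⟩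
  have hw : ((Matrix.fromBlocks 1 (-(((↑u⁻¹ : Aˣ) : A) • b)) 0 1 :
      Matrix (m ⊕ β) (m ⊕ β) A).map lam).transpose
      = Matrix.fromBlocks 1 0 (-(((↑u⁻¹ : Aˣ) : A) • c)) 1 := by
    ext (i | i) (j | j)
    · by_cases hij : j = i
      · subst hij; simp
      · simp [Matrix.one_apply, hij, Ne.symm hij]
    · simp
    · simp [k1, k2]; ring
    · by_cases hij : j = i
      · subst hij; simp
      · simp [Matrix.one_apply, hij, Ne.symm hij]
  rw [hw, Matrix.fromBlocks_multiply, Matrix.fromBlocks_multiply]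
  refine Matrix.fromBlocks_inj.mpr ⟨?_, ?_, ?_, ?_⟩
  · simp
  · simp only [Matrix.one_mul, Matrix.zero_mul, add_zero, Matrix.mul_neg, Matrix.mul_smul,
      Matrix.mul_one]
    rw [unique_mul a b, hu, smul_smul, Units.inv_mul, one_smul, neg_add_cancel]
  · simp only [Matrix.one_mul, Matrix.mul_one, Matrix.mul_zero, add_zero, Matrix.neg_mul,
      Matrix.smul_mul]
    rw [mul_unique c a, hu, smul_smul, Units.inv_mul, one_smul, neg_add_cancel]
  · simp only [Matrix.one_mul, Matrix.mul_one, Matrix.neg_mul, Matrix.smul_mul]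
    rw [mul_unique c a, hu, smul_smul, Units.inv_mul, one_smul, neg_add_cancel, Matrix.zero_mul,
      zero_add]
    abel

end Groth.Agent.Lib.Helper1.HermDiag
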