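import Groth.Agent.Lib.Helper1.HermDiagB

set_option autoImplicit false
open Matrix

namespace Groth.Agent.Lib.Helper1.HermDiag

universe v w
variable {A : Type v} [CommRing A] {lam : A ≃+* A} {ε : A}

/-- Schur complement with respect to the unique `inl` index. -/
def schur {m β : Type w} [Unique m] (h : Matrix (m ⊕ β) (m ⊕ β) A) (u : Aˣ) : Matrix β β A :=
  fun j l => h (Sum.inr j) (Sum.inr l) -
    ((↑u⁻¹ : Aˣ) : A) * (h (Sum.inr j) (Sum.inl default) * h (Sum.inl default) (Sum.inr l))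

theorem pivot_sum {m β : Type w} [Unique m] [Fintype m] [DecidableEq m] [Fintype β]
    [DecidableEq β] (h : Matrix (m ⊕ β) (m ⊕ β) A)
    (hh : Herm lam ε h) (u : Aˣ) (hu : h (Sum.inl default) (Sum.inl default) = ↑u) :
    ∃ w : Matrix (m ⊕ β) (m ⊕ β) A, w.det = 1 ∧
      (w.map lam).transpose * h * w = Matrix.fromBlocks h.toBlocks₁₁ 0 0 (schur h u) := by
  have h0 : h = Matrix.fromBlocks h.toBlocks₁₁ h.toBlocks₁₂ h.toBlocks₂₁ h.toBlocks₂₂ :=
    (Matrix.fromBlocks_toBlocks h).symm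
  have hh' : Herm lam ε (Matrix.fromBlocks h.toBlocks₁₁ h.toBlocks₁₂ h.toBlocks₂₁ h.toBlocks₂₂) := by
    rw [← h0]; exact hh
  obtain ⟨w, hw1, hw2⟩ := pivot_block _ _ _ _ hh' u (by simpa [Matrix.toBlocks₁₁] using hu)
  refine ⟨w, hw1, ?_⟩
  rw [← h0] at hw2
  rw [hw2]
  congr 1
  ext j l
  simp [schur, Matrix.mul_apply, Fintype.sum_unique, Matrix.toBlocks₂₁, Matrix.toBlocks₁₂,
    Matrix.toBlocks₂₂]

theorem herm_schur {m β : Type w} [Unique m] [Fintype m] [DecidableEq m] [Fintype β]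
    [DecidableEq β] (hlam : Function.Involutive lam) (h : Matrix (m ⊕ β) (m ⊕ β) A)
    (hh : Herm lam ε h) (u : Aˣ) (hu : h (Sum.inl default) (Sum.inl default) = ↑u) :
    Herm lam ε (schur h u) := by
  obtain ⟨w, hw1, hw2⟩ := pivot_sum h hh u hu
  have h1 := (hh.congr hlam w)
  rw [hw2] at h1
  have h2 := h1.submatrix (Sum.inr : β → m ⊕ β)
  have h3 : (Matrix.fromBlocks h.toBlocks₁₁ 0 0 (schur h u)).submatrix
      (Sum.inr : β → m ⊕ β) Sum.inr = schur h u := by
    ext j l; simp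
  rwa [h3] at h2

theorem det_schur {m β : Type w} [Unique m] [Fintype m] [DecidableEq m] [Fintype β]
    [DecidableEq β] (h : Matrix (m ⊕ β) (m ⊕ β) A)
    (hh : Herm lam ε h) (u : Aˣ) (hu : h (Sum.inl default) (Sum.inl default) = ↑u) :
    h.det = ↑u * (schur h u).det := by
  obtain ⟨w, hw1, hw2⟩ := pivot_sum h hh u hu
  have h1 := congrArg Matrix.det hw2
  have h2 : (w.map lam).det = 1 := by
    have : (w.map lam) = (lam : A →+* A).mapMatrix w := rfl
    rw [this, ← RingHom.map_det, hw1, map_one]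
  have h3 : h.toBlocks₁₁.det = ↑u := by
    rw [Matrix.det_unique]
    simp [Matrix.toBlocks₁₁, hu]
  rw [Matrix.det_mul, Matrix.det_mul, Matrix.det_transpose, Matrix.det_fromBlocks_zero₂₁,
    h2, hw1, one_mul, mul_one, h3] at h1
  exact h1

theorem diagble_of_schur {m β : Type w} [Unique m] [Fintype m] [DecidableEq m] [Fintype β]
    [DecidableEq β] (h : Matrix (m ⊕ β) (m ⊕ β) A)
    (hh : Herm lam ε h) (u : Aˣ) (hu : h (Sum.inl default) (Sum.inl default) = ↑u)
    (H : Diagble lam (schur h u)) : Diagble lam h := by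
  obtain ⟨w, hw1, hw2⟩ := pivot_sum h hh u hu
  apply Diagble.of_congr w
  rw [hw2]
  refine Diagble.fromBlocks (Diagble.of_unique ?_) H
  simp [Matrix.toBlocks₁₁, hu]

end Groth.Agent.Lib.Helper1.HermDiag
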