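import Groth.Agent.Lib.Helper1.HermDiagC

set_option autoImplicit false
open Matrix

namespace Groth.Agent.Lib.Helper1.HermDiag

universe v w
variable {A : Type v} [CommRing A] {lam : A ≃+* A} {ε : A}

theorem isUnit_sub_of_mem_jacobson {x t : A} (hx : IsUnit x) (ht : t ∈ Ring.jacobson A) :
    IsUnit (x - t) := by
  obtain ⟨u, rfl⟩ := hx
  rw [← Ideal.jacobson_bot, Ideal.mem_jacobson_bot] at ht
  have h1 := ht (-((↑u⁻¹ : Aˣ) : A))
  have h2 : (↑u : A) - t = ↑u * (t * -((↑u⁻¹ : Aˣ) : A) + 1) := by
    have : (↑u : A) * ((↑u⁻¹ : Aˣ) : A) = 1 := Units.mul_inv u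
    linear_combination t * this
  rw [h2]
  exact u.isUnit.mul h1

/-- the reindexing equivalence singling out `i₀` -/
abbrev splitEquiv {ι : Type w} [DecidableEq ι] (i₀ : ι) :
    {x // x = i₀} ⊕ {x // ¬ x = i₀} ≃ ι := Equiv.sumCompl (· = i₀)

theorem card_compl {ι : Type w} [Fintype ι] [DecidableEq ι] (i₀ : ι) {n : ℕ}
    (hn : Fintype.card ι = n + 1) : Fintype.card {x // ¬ x = i₀} = n := by
  have h1 := Fintype.card_congr (splitEquiv i₀)
  rw [Fintype.card_sum, Fintype.card_unique, hn] at h1
  omega

/-- LDL: an `ε`-hermitian matrix with unit diagonal and off-diagonal entries in the Jacobson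
radical is congruent to a diagonal matrix with unit entries. -/
theorem diagble_of_jacobson (hlam : Function.Involutive lam) :
    ∀ (n : ℕ) (ι : Type w) [Fintype ι] [DecidableEq ι], Fintype.card ι = n →
      ∀ h : Matrix ι ι A, Herm lam ε h → (∀ i, IsUnit (h i i)) →
        (∀ i k, i ≠ k → h i k ∈ Ring.jacobson A) → Diagble lam h := by
  intro n
  induction n with
  | zero =>
    intro ι _ _ hn h _ _ _
    have : IsEmpty ι := Fintype.card_eq_zero_iff.mp hn
    exact Diagble.of_isEmpty h
  | succ n ih =>
    intro ι _ _ hn h hh hdiag hoff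
    have hpos : 0 < Fintype.card ι := by omega
    obtain ⟨i₀⟩ := Fintype.card_pos_iff.mp hpos
    apply Diagble.of_submatrix (splitEquiv i₀)
    set H := h.submatrix (splitEquiv i₀) (splitEquiv i₀) with hH
    have hHerm : Herm lam ε H := hh.submatrix _
    obtain ⟨u, hu⟩ := hdiag i₀
    have hu' : H (Sum.inl default) (Sum.inl default) = ↑u := by
      simp only [hH, Matrix.submatrix_apply, Equiv.sumCompl_apply_inl]
      have : ((default : {x // x = i₀}) : ι) = i₀ := (default : {x // x = i₀}).2
      rw [this, hu]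
    apply diagble_of_schur H hHerm u hu'
    apply ih _ (card_compl i₀ hn) _ (herm_schur hlam H hHerm u hu')
    · intro j
      have hj : (j : ι) ≠ i₀ := j.2
      simp only [schur, hH, Matrix.submatrix_apply, Equiv.sumCompl_apply_inl,
        Equiv.sumCompl_apply_inr]
      apply isUnit_sub_of_mem_jacobson (hdiag _)
      apply Ideal.mul_mem_left
      apply Ideal.mul_mem_right
      have : ((default : {x // x = i₀}) : ι) = i₀ := (default : {x // x = i₀}).2
      rw [this]
      exact hoff _ _ hj
    · intro j l hjl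
      have hj : (j : ι) ≠ i₀ := j.2
      have hjl' : (j : ι) ≠ (l : ι) := fun hc => hjl (Subtype.ext hc)
      simp only [schur, hH, Matrix.submatrix_apply, Equiv.sumCompl_apply_inl,
        Equiv.sumCompl_apply_inr]
      apply Ideal.sub_mem _ (hoff _ _ hjl')
      apply Ideal.mul_mem_left
      apply Ideal.mul_mem_right
      have : ((default : {x // x = i₀}) : ι) = i₀ := (default : {x // x = i₀}).2
      rw [this]
      exact hoff _ _ hj

end Groth.Agent.Lib.Helper1.HermDiag
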