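import Groth.Agent.Lib.Helper1.HermDiagD

set_option autoImplicit false
open Matrix

namespace Groth.Agent.Lib.Helper1.HermDiag

universe v w
variable {A : Type v} [CommRing A] {lam : A ≃+* A} {ε : A}

theorem isUnit_add_of_nonunit [IsLocalRing A] {x y : A} (hx : IsUnit x) (hy : ¬ IsUnit y) :
    IsUnit (x + y) := by
  by_contra h
  have h1 : x + y ∈ IsLocalRing.maximalIdeal A := (IsLocalRing.mem_maximalIdeal _).mpr h
  have h2 : y ∈ IsLocalRing.maximalIdeal A := (IsLocalRing.mem_maximalIdeal _).mpr hy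
  have h3 : x ∈ IsLocalRing.maximalIdeal A := by
    have := Ideal.sub_mem _ h1 h2
    simpa using this
  exact (IsLocalRing.mem_maximalIdeal _).mp h3 hx

theorem isUnit_sub_of_nonunit [IsLocalRing A] {x y : A} (hx : ¬ IsUnit x) (hy : IsUnit y) :
    IsUnit (x - y) := by
  by_contra h
  have h1 : x - y ∈ IsLocalRing.maximalIdeal A := (IsLocalRing.mem_maximalIdeal _).mpr h
  have h2 : x ∈ IsLocalRing.maximalIdeal A := (IsLocalRing.mem_maximalIdeal _).mpr hx
  have h3 : y ∈ IsLocalRing.maximalIdeal A := by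
    have := Ideal.sub_mem _ h2 h1
    simpa using this
  exact (IsLocalRing.mem_maximalIdeal _).mp h3 hy

theorem exists_isUnit_row [IsLocalRing A] {β : Type w} [Fintype β] [DecidableEq β]
    (S : Matrix β β A) (hS : IsUnit S.det) (j₀ : β) : ∃ l, IsUnit (S j₀ l) := by
  by_contra hcon
  push Not at hcon
  have h1 : (S * S⁻¹) j₀ j₀ = 1 := by rw [Matrix.mul_nonsing_inv S hS]; simp
  rw [Matrix.mul_apply] at h1
  have h2 : (∑ l, S j₀ l * S⁻¹ l j₀) ∈ IsLocalRing.maximalIdeal A := by
    apply Ideal.sum_mem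
    intro l _
    apply Ideal.mul_mem_right
    exact (IsLocalRing.mem_maximalIdeal _).mpr (hcon l)
  rw [h1] at h2
  exact (IsLocalRing.maximalIdeal.isMaximal A).ne_top ((Ideal.eq_top_iff_one _).mpr h2)

/-- The induction hypothesis of the local diagonalisation theorem. -/
def LocalIH (lam : A ≃+* A) (ε : A) (n : ℕ) : Prop :=
  ∀ (ι : Type w) [Fintype ι] [DecidableEq ι], Fintype.card ι = n →
    ∀ (h : Matrix ι ι A) (i₀ : ι), Herm lam ε h → IsUnit h.det → IsUnit (h i₀ i₀) →
      Diagble lam h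

theorem case1 (hlam : Function.Involutive lam) {n : ℕ} (IH : LocalIH.{v, w} lam ε n)
    {m β : Type w} [Unique m] [Fintype m] [DecidableEq m] [Fintype β] [DecidableEq β]
    (hβ : Fintype.card β = n) (H : Matrix (m ⊕ β) (m ⊕ β) A) (hH : Herm lam ε H) (u : Aˣ)
    (hu : H (Sum.inl default) (Sum.inl default) = ↑u) (hdet : IsUnit H.det) (j : β)
    (hj : IsUnit (schur H u j j)) : Diagble lam H := by
  apply diagble_of_schur H hH u hu
  refine IH β hβ _ j (herm_schur hlam H hH u hu) ?_ hj
  have := det_schur H hH u hu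
  rw [this] at hdet
  exact isUnit_of_mul_isUnit_right hdet

theorem case2 [IsLocalRing A] (hlam : Function.Involutive lam) (hε : IsUnit ε) {n : ℕ}
    (IH : LocalIH.{v, w} lam ε n)
    {m β : Type w} [Unique m] [Fintype m] [DecidableEq m] [Fintype β] [DecidableEq β]
    (hβ : Fintype.card β = n) (H : Matrix (m ⊕ β) (m ⊕ β) A) (hH : Herm lam ε H) (u : Aˣ)
    (hu : H (Sum.inl default) (Sum.inl default) = ↑u) (hdet : IsUnit H.det)
    (hno : ∀ j, ¬ IsUnit (schur H u j j)) : Diagble lam H := by
  have hSherm := herm_schur hlam H hH u hu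
  have hSdet : IsUnit (schur H u).det := by
    have := det_schur H hH u hu
    rw [this] at hdet
    exact isUnit_of_mul_isUnit_right hdet
  by_cases hemp : IsEmpty β
  · exact diagble_of_schur H hH u hu (Diagble.of_isEmpty _)
  rw [not_isEmpty_iff] at hemp
  obtain ⟨j⟩ := hemp
  obtain ⟨l, hl⟩ := exists_isUnit_row (schur H u) hSdet j
  obtain ⟨w₁, hw₁det, hw₁⟩ := pivot_sum H hH u hu
  apply Diagble.of_congr w₁
  have hH₂ := hH.congr hlam w₁
  have hH₂det : IsUnit ((w₁.map lam).transpose * H * w₁).det := by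
    have h2 : (w₁.map lam).det = 1 := by
      have : (w₁.map lam) = (lam : A →+* A).mapMatrix w₁ := rfl
      rw [this, ← RingHom.map_det, hw₁det, map_one]
    rw [Matrix.det_mul, Matrix.det_mul, Matrix.det_transpose, h2, hw₁det, one_mul, mul_one]
    exact hdet
  rw [hw₁] at hH₂ hH₂det ⊢
  set S := schur H u with hS
  set a := H.toBlocks₁₁ with ha
  have haa : a default default = ↑u := by simp [ha, Matrix.toBlocks₁₁, hu]
  set c₀ : Matrix β m A := fun i _ => if i = j then 1 else 0 with hc₀
  set w₂ : Matrix (m ⊕ β) (m ⊕ β) A := Matrix.fromBlocks 1 0 c₀ 1 with hw₂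
  apply Diagble.of_congr w₂
  have hH₃ := hH₂.congr hlam w₂
  have hw₂det : w₂.det = 1 := by simp [hw₂, Matrix.det_fromBlocks_zero₁₂]
  have hH₃det : IsUnit ((w₂.map lam).transpose * Matrix.fromBlocks a 0 0 S * w₂).det := by
    have h2 : (w₂.map lam).det = 1 := by
      have : (w₂.map lam) = (lam : A →+* A).mapMatrix w₂ := rfl
      rw [this, ← RingHom.map_det, hw₂det, map_one]
    rw [Matrix.det_mul, Matrix.det_mul, Matrix.det_transpose, h2, hw₂det, one_mul, mul_one]
    exact hH₂det
  have hc₀lam : (c₀.map lam) = c₀ := by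
    ext i x
    simp only [hc₀, Matrix.map_apply]
    split_ifs <;> simp
  have hform : (w₂.map lam).transpose * Matrix.fromBlocks a 0 0 S * w₂
      = Matrix.fromBlocks (a + c₀.transpose * S * c₀) (c₀.transpose * S) (S * c₀) S := by
    have h1 : (w₂.map lam).transpose = Matrix.fromBlocks 1 c₀.transpose 0 1 := by
      rw [hw₂, Matrix.fromBlocks_map, Matrix.fromBlocks_transpose, hc₀lam]
      refine Matrix.fromBlocks_inj.mpr ⟨?_, rfl, ?_, ?_⟩
      · rw [Matrix.map_one _ (map_zero _) (map_one _), Matrix.transpose_one]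
      · rw [Matrix.map_zero _ (map_zero _), Matrix.transpose_zero]
      · rw [Matrix.map_one _ (map_zero _) (map_one _), Matrix.transpose_one]
    rw [h1, hw₂, Matrix.fromBlocks_multiply, Matrix.fromBlocks_multiply]
    simp
  rw [hform] at hH₃ hH₃det ⊢
  have e1 : (c₀.transpose * S * c₀) default default = S j j := by
    simp [Matrix.mul_apply, hc₀]
  have e2 : ∀ p, (S * c₀) p default = S p j := by
    intro p; simp [Matrix.mul_apply, hc₀]
  have e3 : ∀ q, (c₀.transpose * S) default q = S j q := by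
    intro q; simp [Matrix.mul_apply, hc₀]
  have hu'unit : IsUnit ((↑u : A) + S j j) := isUnit_add_of_nonunit u.isUnit (hno j)
  obtain ⟨u', hu'⟩ := hu'unit
  have hpiv : (Matrix.fromBlocks (a + c₀.transpose * S * c₀) (c₀.transpose * S) (S * c₀) S)
      (Sum.inl default) (Sum.inl default) = ↑u' := by
    simp [e1, haa, hu']
  refine case1 hlam IH hβ _ hH₃ u' hpiv hH₃det l ?_
  simp only [schur, Matrix.fromBlocks_apply₂₂, Matrix.fromBlocks_apply₂₁,
    Matrix.fromBlocks_apply₁₂, e2, e3]
  apply isUnit_sub_of_nonunit (hno l)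
  apply (Units.isUnit _).mul
  refine IsUnit.mul ?_ hl
  have := hSherm.apply l j
  rw [← this]
  exact hε.mul (hl.map lam)

theorem localIH_succ [IsLocalRing A] (hlam : Function.Involutive lam) (hε : IsUnit ε) {n : ℕ}
    (IH : LocalIH.{v, w} lam ε n) : LocalIH.{v, w} lam ε (n + 1) := by
  intro ι _ _ hn h i₀ hh hdet hi₀
  apply Diagble.of_submatrix (splitEquiv i₀)
  set H := h.submatrix (splitEquiv i₀) (splitEquiv i₀) with hH
  have hHerm : Herm lam ε H := hh.submatrix _
  obtain ⟨u, hu⟩ := hi₀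
  have hu' : H (Sum.inl default) (Sum.inl default) = ↑u := by
    simp only [hH, Matrix.submatrix_apply, Equiv.sumCompl_apply_inl]
    have : ((default : {x // x = i₀}) : ι) = i₀ := (default : {x // x = i₀}).2
    rw [this, hu]
  have hHdet : IsUnit H.det := by
    rw [hH, Matrix.det_submatrix_equiv_self]; exact hdet
  by_cases hc : ∃ j, IsUnit (schur H u j j)
  · obtain ⟨j, hj⟩ := hc
    exact case1 hlam IH (card_compl i₀ hn) H hHerm u hu' hHdet j hj
  · push Not at hc
    exact case2 hlam hε IH (card_compl i₀ hn) H hHerm u hu' hHdet hc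

theorem local_main [IsLocalRing A] (hlam : Function.Involutive lam) (hε : IsUnit ε) :
    ∀ n, LocalIH.{v, w} lam ε n
  | 0 => by
    intro ι _ _ hn h i₀
    have : IsEmpty ι := Fintype.card_eq_zero_iff.mp hn
    exact isEmptyElim i₀
  | n + 1 => localIH_succ hlam hε (local_main hlam hε n)

end Groth.Agent.Lib.Helper1.HermDiag
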