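import Groth.Agent.Lib.Helper1.HermDiagE

set_option autoImplicit false
open Matrix

namespace Groth.Agent.Lib.Helper1.HermDiag

universe v w

/-- An alternating matrix of odd size has determinant zero. -/
theorem det_eq_zero_of_alt_odd {R : Type v} [CommRing R] {ι : Type w} [Fintype ι] [DecidableEq ι]
    (M : Matrix ι ι R) (hT : ∀ i k, M k i = - M i k) (h0 : ∀ i, M i i = 0)
    (hodd : Odd (Fintype.card ι)) : M.det = 0 := by
  rw [Matrix.det_apply]
  refine Finset.sum_involution (fun σ _ => σ⁻¹) ?_ ?_ (fun σ _ => Finset.mem_univ _)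
    (fun σ _ => inv_inv σ)
  · intro σ _
    have h1 : ∏ i, M (σ⁻¹ i) i = ∏ i, M i (σ i) :=
      Fintype.prod_equiv σ⁻¹ _ _ (fun x => by simp)
    have h2 : ∏ i, M i (σ i) = - ∏ i, M (σ i) i := by
      have : ∀ i, M i (σ i) = - M (σ i) i := fun i => hT _ _
      simp_rw [this]
      rw [Finset.prod_neg, Finset.card_univ, hodd.neg_one_pow, neg_one_mul]
    rw [Equiv.Perm.sign_inv, h1, h2, smul_neg, add_neg_cancel]
  · intro σ _ hne hσ
    apply hne
    have hsq : σ ^ 2 = 1 := by
      rw [pow_two]
      nth_rewrite 1 [← hσ]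
      exact inv_mul_cancel σ
    have h2 := Equiv.Perm.two_dvd_card_support hsq
    have : ∃ i, σ i = i := by
      by_contra hcon
      push Not at hcon
      have : σ.support = Finset.univ := by
        rw [Finset.eq_univ_iff_forall]
        intro i
        exact Equiv.Perm.mem_support.mpr (hcon i)
      rw [this, Finset.card_univ] at h2
      exact (Nat.not_even_iff_odd.mpr hodd) (even_iff_two_dvd.mpr h2)
    obtain ⟨i, hi⟩ := this
    have : ∏ j, M (σ j) j = 0 := by
      apply Finset.prod_eq_zero (Finset.mem_univ i)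
      rw [hi, h0]
    rw [this, smul_zero]

variable {A : Type v} [CommRing A] {lam : A ≃+* A} {ε : A}

/-- base change making `x` the `i`-th basis vector -/
theorem congr_updateCol {ι : Type w} [Fintype ι] [DecidableEq ι] (h : Matrix ι ι A)
    (x : ι → A) (i : ι) :
    ((1 : Matrix ι ι A).updateCol i x).det = x i ∧
    (((((1 : Matrix ι ι A).updateCol i x).map lam).transpose * h *
      ((1 : Matrix ι ι A).updateCol i x)) i i
      = ∑ r, (∑ p, lam (x p) * h p r) * x r) := by
  constructor
  · rw [← Matrix.cramer_apply, Matrix.cramer_one]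
    rfl
  · simp [Matrix.mul_apply, Matrix.updateCol_self]

end Groth.Agent.Lib.Helper1.HermDiag
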