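import Groth.Agent.Lib.Helper1.HermDiagF

set_option autoImplicit false
open Matrix

namespace Groth.Agent.Lib.Helper1.HermDiag

universe v w
variable {A : Type v} [CommRing A] {lam : A ≃+* A} {ε : A}

theorem exists_congr_isUnit_diag [IsLocalRing A] {ι : Type w} [Fintype ι] [DecidableEq ι]
    [Nonempty ι] (h : Matrix ι ι A) (hh : Herm lam ε h) (hdet : IsUnit h.det)
    (hcase : (∃ a : A, lam a - a ∉ IsLocalRing.maximalIdeal A) ∨
      ε + 1 ∉ IsLocalRing.maximalIdeal A ∨ Odd (Fintype.card ι)) :
    ∃ w : Matrix ι ι A, IsUnit w.det ∧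
      ∃ i, IsUnit (((w.map lam).transpose * h * w) i i) := by
  by_contra Hcon
  push Not at Hcon
  set M := IsLocalRing.maximalIdeal A with hM
  have key0 : ∀ (x : ι → A) (i : ι), IsUnit (x i) →
      (∑ r, (∑ p, lam (x p) * h p r) * x r) ∈ M := by
    intro x i hx
    obtain ⟨h1, h2⟩ := congr_updateCol (lam := lam) h x i
    have := Hcon _ (by rw [h1]; exact hx) i
    rw [h2] at this
    exact (IsLocalRing.mem_maximalIdeal _).mpr this
  have stepa : ∀ i, h i i ∈ M := by
    intro i
    have := key0 (fun p => if p = i then 1 else 0) i (by simp)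
    simpa [apply_ite lam, ite_mul, mul_ite, Finset.sum_ite_eq'] using this
  have stepb : ∀ i k, i ≠ k → ∀ c, h i k * c + lam c * h k i ∈ M := by
    intro i k hik c
    have := key0 (fun p => (if p = i then 1 else 0) + (if p = k then c else 0)) i
      (by simp [hik])
    have e : (∑ r, (∑ p, lam ((if p = i then (1:A) else 0) + (if p = k then c else 0)) * h p r) *
        ((if r = i then (1:A) else 0) + (if r = k then c else 0)))
        = h i i + (h i k * c + lam c * h k i) + lam c * h k k * c := by
      simp [apply_ite lam, add_mul, mul_add, Finset.sum_add_distrib, ite_mul, mul_ite,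
        Finset.sum_ite_eq']
      ring
    rw [e] at this
    have h3 := Ideal.sub_mem _ (Ideal.sub_mem _ this (stepa i))
      (Ideal.mul_mem_right c _ (Ideal.mul_mem_left _ (lam c) (stepa k)))
    convert h3 using 1; ring
  obtain ⟨i⟩ := (inferInstance : Nonempty ι)
  obtain ⟨k, hk⟩ := exists_isUnit_row h hdet i
  have hik : i ≠ k := by
    rintro rfl
    exact (IsLocalRing.mem_maximalIdeal _).mp (stepa i) hk
  have stepd : ∀ c' : A, c' + ε * lam c' ∈ M := by
    intro c'
    obtain ⟨u, hu⟩ := hk
    have h1 := stepb i k hik (((↑u⁻¹ : Aˣ) : A) * c')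
    have h2 : h k i = ε * lam (↑u : A) := by rw [hu]; exact (hh.apply k i).symm
    have h3 : lam ((↑u⁻¹ : Aˣ) : A) * lam (↑u : A) = 1 := by
      rw [← map_mul, Units.inv_mul, map_one]
    have h4 : h i k * (((↑u⁻¹ : Aˣ) : A) * c') + lam (((↑u⁻¹ : Aˣ) : A) * c') * h k i
        = c' + ε * lam c' := by
      rw [h2, ← hu, map_mul]
      have : (↑u : A) * ((↑u⁻¹ : Aˣ) : A) = 1 := Units.mul_inv u
      linear_combination c' * this + (ε * lam c') * h3
    rw [h4] at h1
    exact h1
  have h1ε : ε + 1 ∈ M := by
    have := stepd 1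
    rw [map_one, mul_one, add_comm] at this
    exact this
  have hall : ∀ a : A, lam a - a ∈ M := by
    intro a
    have h1 := stepd a
    have h2 := Ideal.mul_mem_right (lam a) _ h1ε
    have h3 := Ideal.sub_mem _ h2 h1
    convert h3 using 1; ring
  have hodd : Odd (Fintype.card ι) := by
    rcases hcase with ⟨a, ha⟩ | h2 | h3
    · exact absurd (hall a) ha
    · exact absurd h1ε h2
    · exact h3
  -- reduce modulo `M`
  have hdet0 : (h.map (Ideal.Quotient.mk M)).det = 0 := by
    apply det_eq_zero_of_alt_odd _ _ _ hodd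
    · intro p q
      simp only [Matrix.map_apply]
      rw [← map_neg, ← sub_eq_zero, ← map_sub, Ideal.Quotient.eq_zero_iff_mem]
      by_cases hpq : p = q
      · subst hpq
        have := Ideal.add_mem _ (stepa p) (stepa p)
        convert this using 1; ring
      · have := stepb p q hpq 1
        rw [map_one, mul_one, one_mul] at this
        convert this using 1; ring
    · intro p
      simp only [Matrix.map_apply]
      exact Ideal.Quotient.eq_zero_iff_mem.mpr (stepa p)
  have h5 : (h.map (Ideal.Quotient.mk M)) = (Ideal.Quotient.mk M).mapMatrix h := rfl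
  rw [h5, ← RingHom.map_det, Ideal.Quotient.eq_zero_iff_mem] at hdet0
  exact (IsLocalRing.mem_maximalIdeal _).mp hdet0 hdet

end Groth.Agent.Lib.Helper1.HermDiag
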