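import Groth.Agent.Lib.Helper1.HermDiagG

set_option autoImplicit false
open Matrix

namespace Groth.Agent.Lib.Helper1.HermDiag

universe u v w
variable {B : Type u} {A : Type v} [CommRing B] [CommRing A] [Algebra B A] {lam : A ≃+* A}

theorem local_diagble [IsLocalRing A] {ε : A} (hlam : Function.Involutive lam) (hε : IsUnit ε)
    {ι : Type w} [Fintype ι] [DecidableEq ι] (h : Matrix ι ι A) (hh : Herm lam ε h)
    (hdet : IsUnit h.det)
    (hcase : (∃ a : A, lam a - a ∉ IsLocalRing.maximalIdeal A) ∨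
      ε + 1 ∉ IsLocalRing.maximalIdeal A ∨ Odd (Fintype.card ι)) : Diagble lam h := by
  by_cases hemp : IsEmpty ι
  · exact Diagble.of_isEmpty h
  rw [not_isEmpty_iff] at hemp
  obtain ⟨w, hw, i, hi⟩ := exists_congr_isUnit_diag h hh hdet hcase
  apply Diagble.of_congr w
  refine local_main hlam hε _ ι rfl _ i (hh.congr hlam w) ?_ hi
  have h2 : (w.map lam).det = lam w.det := by
    have : (w.map lam) = (lam : A →+* A).mapMatrix w := rfl
    rw [this, ← RingHom.map_det]; rfl
  rw [Matrix.det_mul, Matrix.det_mul, Matrix.det_transpose, h2]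
  exact ((hw.map lam).mul hdet).mul hw

section ring

variable (hlam : Function.Involutive lam)
  (hfix : ∀ r : A, lam r = r ↔ r ∈ Set.range (algebraMap B A))
include hlam hfix

theorem exists_norm (a : A) : ∃ b : B, algebraMap B A b = a * lam a := by
  have : lam (a * lam a) = a * lam a := by rw [map_mul, hlam a, mul_comm]
  obtain ⟨b, hb⟩ := (hfix _).mp this
  exact ⟨b, hb⟩

theorem exists_trace (a : A) : ∃ b : B, algebraMap B A b = a + lam a := by
  have : lam (a + lam a) = a + lam a := by rw [map_add, hlam a, add_comm]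
  obtain ⟨b, hb⟩ := (hfix _).mp this
  exact ⟨b, hb⟩

theorem algebraMap_mem_iff [IsLocalRing B] (N : Ideal A) [hN : N.IsMaximal] (b : B) :
    algebraMap B A b ∈ N ↔ ¬ IsUnit b := by
  constructor
  · intro hb hu
    exact hN.ne_top (Ideal.eq_top_of_isUnit_mem _ hb (hu.map (algebraMap B A)))
  · intro hb
    by_contra hcon
    obtain ⟨a, i, hi, hai⟩ := hN.exists_inv hcon
    obtain ⟨t, ht⟩ := exists_trace hlam hfix a
    obtain ⟨n, hn⟩ := exists_norm hlam hfix a
    have hlb : lam (algebraMap B A b) = algebraMap B A b := (hfix _).mpr ⟨b, rfl⟩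
    have h1 : i * lam i = algebraMap B A (1 - b * (t - n * b)) := by
      have hi' : i = 1 - a * algebraMap B A b := by rw [← hai]; ring
      rw [hi', map_sub, map_one, map_mul, hlb, map_sub, map_one, map_mul, map_sub, map_mul, ht,
        hn]
      ring
    have h2 : IsUnit (1 - b * (t - n * b)) := by
      have h3 : ¬ IsUnit (b * (t - n * b)) := by
        intro hc
        exact hb (isUnit_of_mul_isUnit_left hc)
      have := isUnit_sub_of_nonunit h3 isUnit_one
      have h4 : 1 - b * (t - n * b) = -(b * (t - n * b) - 1) := by ring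
      rw [h4]
      exact this.neg
    have h5 : i * lam i ∈ N := Ideal.mul_mem_right _ _ hi
    rw [h1] at h5
    exact hN.ne_top (Ideal.eq_top_of_isUnit_mem _ h5 (h2.map (algebraMap B A)))

theorem maximal_eq_or [IsLocalRing B] (N N' : Ideal A) [hN : N.IsMaximal] [hN' : N'.IsMaximal] :
    N' = N ∨ N' = Ideal.comap (lam : A →+* A) N := by
  have hNl : (Ideal.comap (lam : A →+* A) N).IsMaximal :=
    Ideal.comap_isMaximal_of_surjective (lam : A →+* A) lam.surjective
  by_contra hcon
  push Not at hcon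
  obtain ⟨h1, h2⟩ := hcon
  have h3 : ¬ N' ≤ N := fun hle => h1 (hN'.eq_of_le hN.ne_top hle)
  have h4 : ¬ N' ≤ Ideal.comap (lam : A →+* A) N := fun hle => h2 (hN'.eq_of_le hNl.ne_top hle)
  have h5 : ¬ ((N' : Set A) ⊆ (N : Set A) ∪ (Ideal.comap (lam : A →+* A) N : Set A)) := by
    rw [Ideal.subset_union]
    push Not
    exact ⟨h3, h4⟩
  rw [Set.not_subset] at h5
  obtain ⟨a, ha, ha'⟩ := h5
  have ha1 : a ∉ N := fun hc => ha' (Or.inl hc)
  have ha2 : lam a ∉ N := fun hc => ha' (Or.inr hc)
  obtain ⟨b, hb⟩ := exists_norm hlam hfix a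
  have h6 : algebraMap B A b ∈ N' := by rw [hb]; exact Ideal.mul_mem_right _ _ ha
  have h7 : algebraMap B A b ∈ N :=
    (algebraMap_mem_iff hlam hfix N b).mpr ((algebraMap_mem_iff hlam hfix N' b).mp h6)
  rw [hb] at h7
  rcases hN.isPrime.mem_or_mem h7 with h8 | h8
  · exact ha1 h8
  · exact ha2 h8

end ring

end Groth.Agent.Lib.Helper1.HermDiag
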