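import Groth.Agent.Lib.Helper1.HermDiagH

set_option autoImplicit false
open Matrix

namespace Groth.Agent.Lib.Helper1.HermDiag

universe u v w
variable {A : Type v} [CommRing A] {lam : A ≃+* A} {ε : A}

/-- `(lam h⁻¹)ᵀ = ε h⁻¹` for an invertible `ε`-hermitian `h` (`ε² = 1`). -/
theorem inv_map_transpose {ι : Type w} [Fintype ι] [DecidableEq ι] (h : Matrix ι ι A)
    (hh : Herm lam ε h) (hdet : IsUnit h.det) (hεε : ε * ε = 1) :
    ((h⁻¹).map lam).transpose = ε • h⁻¹ := by
  have h1 : (h.map lam).transpose = ε • h := by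
    unfold Herm at hh
    conv_rhs => rw [← hh]
    rw [smul_smul, hεε, one_smul]
  have h2 : ((h⁻¹).map lam).transpose * (h.map lam).transpose = 1 := by
    rw [← Matrix.transpose_mul, ← Matrix.map_mul, Matrix.mul_nonsing_inv h hdet,
      Matrix.map_one _ (map_zero _) (map_one _), Matrix.transpose_one]
  rw [h1, Matrix.mul_smul] at h2
  have h3 : ((h⁻¹).map lam).transpose * h = ε • 1 := by
    have := congrArg (fun X => ε • X) h2
    simp only [smul_smul, hεε, one_smul] at this
    exact this
  calc ((h⁻¹).map lam).transpose = ((h⁻¹).map lam).transpose * (h * h⁻¹) := by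
        rw [Matrix.mul_nonsing_inv h hdet, Matrix.mul_one]
    _ = (((h⁻¹).map lam).transpose * h) * h⁻¹ := by rw [Matrix.mul_assoc]
    _ = ε • h⁻¹ := by rw [h3, Matrix.smul_mul, Matrix.one_mul]

/-- The split case. -/
theorem split_diagble (hlam : Function.Involutive lam) (hε : IsUnit ε) (hεε : ε * ε = 1)
    (M : Ideal A) (hMmax : M.IsMaximal)
    (hne : Ideal.comap (lam : A →+* A) M ≠ M)
    (hjac : ∀ x, x ∈ M → lam x ∈ M → x ∈ Ring.jacobson A)
    (hunit : ∀ x, x ∉ M → lam x ∉ M → IsUnit x)
    {ι : Type w} [Fintype ι] [DecidableEq ι] (h : Matrix ι ι A) (hh : Herm lam ε h)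
    (hdet : IsUnit h.det) : Diagble lam h := by
  have hM'max : (Ideal.comap (lam : A →+* A) M).IsMaximal :=
    Ideal.comap_isMaximal_of_surjective (lam : A →+* A) lam.surjective
  have hsup := Ideal.IsMaximal.coprime_of_ne hMmax hM'max (Ne.symm hne)
  have h1 : (1 : A) ∈ M ⊔ Ideal.comap (lam : A →+* A) M := by rw [hsup]; trivial
  obtain ⟨p, hp, c, hc, hpc⟩ := Submodule.mem_sup.mp h1
  have hc1 : lam c ∈ M := hc
  have hc2 : 1 - c ∈ M := by
    have : 1 - c = p := by rw [← hpc]; ring
    rw [this]; exact hp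
  have hc3 : lam (1 - lam c) ∈ M := by
    rw [map_sub, map_one, hlam c]; exact hc2
  set X := h⁻¹ with hX
  have hXh : X * h = 1 := Matrix.nonsing_inv_mul h hdet
  have hhX : h * X = 1 := Matrix.mul_nonsing_inv h hdet
  set v : Matrix ι ι A := c • X + (1 - c) • 1 with hv
  apply Diagble.of_congr v
  have hvt : (v.map lam).transpose = (lam c * ε) • X + (1 - lam c) • 1 := by
    have hXt := inv_map_transpose h hh hdet hεε
    rw [← hX] at hXt
    have : v.map lam = lam c • X.map lam + (1 - lam c) • 1 := by
      ext i k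
      by_cases hik : i = k
      · subst hik; simp [hv]
      · simp [hv, Matrix.one_apply, hik]
    rw [this, Matrix.transpose_add, Matrix.transpose_smul, Matrix.transpose_smul, hXt,
      Matrix.transpose_one, smul_smul]
  have hG : (v.map lam).transpose * h * v
      = (lam c * ε * c) • X + (lam c * ε * (1 - c) + (1 - lam c) * c) • 1
        + ((1 - lam c) * (1 - c)) • h := by
    have e1 : ((lam c * ε) • X + (1 - lam c) • 1) * h = (lam c * ε) • 1 + (1 - lam c) • h := by
      rw [Matrix.add_mul, Matrix.smul_mul, Matrix.smul_mul, hXh, Matrix.one_mul]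
    rw [hvt, e1, hv]
    simp only [Matrix.mul_add, Matrix.add_mul, Matrix.smul_mul, Matrix.mul_smul, Matrix.one_mul,
      Matrix.mul_one, hhX, smul_smul]
    module
  rw [hG]
  apply diagble_of_jacobson hlam _ ι rfl
  · rw [← hG]; exact hh.congr hlam v
  · intro i
    apply hunit
    · intro hcon
      have e : (1 : A) = ((lam c * ε * c) • X + (lam c * ε * (1 - c) + (1 - lam c) * c) • 1
        + ((1 - lam c) * (1 - c)) • h) i i
          - (lam c * (ε * c * X i i + ε * (1 - c) - c) + (1 - c) * ((1 - lam c) * h i i - 1)) := by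
        simp [Matrix.add_apply, Matrix.smul_apply]
        ring
      have : (1 : A) ∈ M := by
        rw [e]
        exact Ideal.sub_mem _ hcon (Ideal.add_mem _ (Ideal.mul_mem_right _ _ hc1)
          (Ideal.mul_mem_right _ _ hc2))
      exact hMmax.ne_top ((Ideal.eq_top_iff_one _).mpr this)
    · intro hcon
      have hcon' : ((lam c * ε * c) • X + (lam c * ε * (1 - c) + (1 - lam c) * c) • 1
        + ((1 - lam c) * (1 - c)) • h) i i ∈ Ideal.comap (lam : A →+* A) M := hcon
      have e : ε = ((lam c * ε * c) • X + (lam c * ε * (1 - c) + (1 - lam c) * c) • 1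
        + ((1 - lam c) * (1 - c)) • h) i i
          - (c * (lam c * ε * X i i - ε * lam c) + (1 - lam c) * ((1 - c) * h i i + c - ε)) := by
        simp [Matrix.add_apply, Matrix.smul_apply]
        ring
      have : ε ∈ Ideal.comap (lam : A →+* A) M := by
        rw [e]
        exact Ideal.sub_mem _ hcon' (Ideal.add_mem _ (Ideal.mul_mem_right _ _ hc)
          (Ideal.mul_mem_right _ _ hc3))
      exact hM'max.ne_top (Ideal.eq_top_of_isUnit_mem _ this hε)
  · intro i k hik
    have e : ((lam c * ε * c) • X + (lam c * ε * (1 - c) + (1 - lam c) * c) • 1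
        + ((1 - lam c) * (1 - c)) • h) i k
        = lam c * (ε * c * X i k) + (1 - c) * ((1 - lam c) * h i k) := by
      simp [Matrix.add_apply, Matrix.smul_apply, Matrix.one_apply, hik]
      ring
    have e' : ((lam c * ε * c) • X + (lam c * ε * (1 - c) + (1 - lam c) * c) • 1
        + ((1 - lam c) * (1 - c)) • h) i k
        = c * (lam c * ε * X i k) + (1 - lam c) * ((1 - c) * h i k) := by
      rw [e]; ring
    apply hjac
    · rw [e]
      exact Ideal.add_mem _ (Ideal.mul_mem_right _ _ hc1) (Ideal.mul_mem_right _ _ hc2)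
    · have : ((lam c * ε * c) • X + (lam c * ε * (1 - c) + (1 - lam c) * c) • 1
        + ((1 - lam c) * (1 - c)) • h) i k ∈ Ideal.comap (lam : A →+* A) M := by
        rw [e']
        exact Ideal.add_mem _ (Ideal.mul_mem_right _ _ hc) (Ideal.mul_mem_right _ _ hc3)
      exact this

end Groth.Agent.Lib.Helper1.HermDiag
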