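import Groth.Agent.Lib.Helper1.HermDiagI

set_option autoImplicit false
open Matrix

namespace Groth.Agent.Lib.Helper1.HermDiag

universe v w
variable {A : Type v} [CommRing A] {lam : A ≃+* A} {ε : A}

/-- General block pivot: an `ε`-hermitian block matrix with invertible upper-left block is
congruent to the block sum of that block and its Schur complement. -/
theorem pivot_block_gen {m β : Type w} [Fintype m] [DecidableEq m] [Fintype β] [DecidableEq β]
    (hεε : ε * ε = 1)
    (a : Matrix m m A) (b : Matrix m β A) (c : Matrix β m A) (D : Matrix β β A)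
    (hh : Herm lam ε (Matrix.fromBlocks a b c D)) (ha : IsUnit a.det) :
    ∃ w : Matrix (m ⊕ β) (m ⊕ β) A, w.det = 1 ∧
      (w.map lam).transpose * Matrix.fromBlocks a b c D * w
        = Matrix.fromBlocks a 0 0 (D - c * a⁻¹ * b) := by
  have hh' := hh
  unfold Herm at hh'
  rw [Matrix.fromBlocks_map, Matrix.fromBlocks_transpose, Matrix.fromBlocks_smul,
    Matrix.fromBlocks_inj] at hh'
  obtain ⟨ha1, -, hb1, -⟩ := hh'
  have haHerm : Herm lam ε a := ha1
  have hainv := inv_map_transpose a haHerm ha hεε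
  have h1 : a * a⁻¹ = 1 := Matrix.mul_nonsing_inv a ha
  have h2 : a⁻¹ * a = 1 := Matrix.nonsing_inv_mul a ha
  refine ⟨Matrix.fromBlocks 1 (-(a⁻¹ * b)) 0 1, by simp [Matrix.det_fromBlocks_zero₂₁], ?_⟩
  have hw : ((Matrix.fromBlocks 1 (-(a⁻¹ * b)) 0 1 :
      Matrix (m ⊕ β) (m ⊕ β) A).map lam).transpose
      = Matrix.fromBlocks 1 0 (-(c * a⁻¹)) 1 := by
    rw [Matrix.fromBlocks_map, Matrix.fromBlocks_transpose]
    refine Matrix.fromBlocks_inj.mpr ⟨?_, ?_, ?_, ?_⟩
    · rw [Matrix.map_one _ (map_zero _) (map_one _), Matrix.transpose_one]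
    · rw [Matrix.map_zero _ (map_zero _), Matrix.transpose_zero]
    · have e1 : ((-(a⁻¹ * b)).map lam) = -((a⁻¹ * b).map lam) := by
        ext i j; simp only [Matrix.map_apply, Matrix.neg_apply, map_neg]
      rw [e1, Matrix.transpose_neg, Matrix.map_mul, Matrix.transpose_mul, hainv, Matrix.mul_smul,
        ← Matrix.smul_mul, hb1]
    · rw [Matrix.map_one _ (map_zero _) (map_one _), Matrix.transpose_one]
  rw [hw, Matrix.fromBlocks_multiply, Matrix.fromBlocks_multiply]
  refine Matrix.fromBlocks_inj.mpr ⟨?_, ?_, ?_, ?_⟩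
  · simp
  · simp only [Matrix.one_mul, Matrix.zero_mul, add_zero, Matrix.mul_neg, Matrix.mul_one]
    rw [← Matrix.mul_assoc, h1, Matrix.one_mul, neg_add_cancel]
  · simp only [Matrix.one_mul, Matrix.mul_one, Matrix.mul_zero, add_zero, Matrix.neg_mul]
    rw [Matrix.mul_assoc, h2, Matrix.mul_one, neg_add_cancel]
  · simp only [Matrix.one_mul, Matrix.mul_one, Matrix.neg_mul]
    rw [Matrix.mul_assoc c, h2, Matrix.mul_one, neg_add_cancel, Matrix.zero_mul, zero_add]
    abel

end Groth.Agent.Lib.Helper1.HermDiag
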