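import Groth.Agent.Lib.Helper1.HermDiagJ

set_option autoImplicit false
open Matrix

namespace Groth.Agent.Lib.Helper1.HermDiag

universe v w
variable {A : Type v} [CommRing A] {lam : A ≃+* A}

section skew

variable [IsLocalRing A]

theorem skew_diag_mem (hid : ∀ a : A, lam a - a ∈ IsLocalRing.maximalIdeal A)
    (h2 : IsUnit (2 : A)) {ι : Type w} {G : Matrix ι ι A} (hG : Herm lam (-1) G) (i : ι) :
    G i i ∈ IsLocalRing.maximalIdeal A := by
  have h1 := hG.apply i i
  have h3 : (2 : A) * G i i = -(lam (G i i) - G i i) := by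
    linear_combination (-1 : A) * h1
  have h4 : (2 : A) * G i i ∈ IsLocalRing.maximalIdeal A := by
    rw [h3]; exact neg_mem (hid _)
  exact (Ideal.unit_mul_mem_iff_mem _ h2).mp h4

theorem lam_mem (hlam : Function.Involutive lam) {x : A}
    (hx : x ∈ IsLocalRing.maximalIdeal A) : lam x ∈ IsLocalRing.maximalIdeal A := by
  rw [IsLocalRing.mem_maximalIdeal, mem_nonunits_iff] at hx ⊢
  intro hu
  apply hx
  have := hu.map lam
  rwa [hlam x] at this

theorem skew_even_card (hid : ∀ a : A, lam a - a ∈ IsLocalRing.maximalIdeal A)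
    (h2 : IsUnit (2 : A)) {ι : Type w} [Fintype ι] [DecidableEq ι] {h : Matrix ι ι A}
    (hh : Herm lam (-1) h) (hdet : IsUnit h.det) : Even (Fintype.card ι) := by
  by_contra hodd
  rw [Nat.not_even_iff_odd] at hodd
  set M := IsLocalRing.maximalIdeal A with hM
  have hdet0 : (h.map (Ideal.Quotient.mk M)).det = 0 := by
    apply det_eq_zero_of_alt_odd _ _ _ hodd
    · intro p q
      simp only [Matrix.map_apply]
      rw [← map_neg, ← sub_eq_zero, ← map_sub, Ideal.Quotient.eq_zero_iff_mem]
      have h1 := hh.apply q p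
      have h3 : h q p - -h p q = -(lam (h p q) - h p q) := by linear_combination -h1
      rw [h3]
      exact neg_mem (hid _)
    · intro p
      simp only [Matrix.map_apply]
      exact Ideal.Quotient.eq_zero_iff_mem.mpr (skew_diag_mem hid h2 hh p)
  have h5 : (h.map (Ideal.Quotient.mk M)) = (Ideal.Quotient.mk M).mapMatrix h := rfl
  rw [h5, ← RingHom.map_det, Ideal.Quotient.eq_zero_iff_mem] at hdet0
  exact (IsLocalRing.mem_maximalIdeal _).mp hdet0 hdet

/-- The block conditions for the position function `pos`. -/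
def CondP {ι : Type w} (pos : ι → ℕ) (G : Matrix ι ι A) : Prop :=
  (∀ i j, pos i / 2 ≠ pos j / 2 → G i j = 0) ∧
  (∀ i j, pos i / 2 = pos j / 2 → Even (pos i) → ¬ Even (pos j) →
    G i j - 1 ∈ IsLocalRing.maximalIdeal A)

/-- `h` is congruent to a matrix in symplectic block form. -/
def QP (lam : A ≃+* A) {ι : Type w} [Fintype ι] [DecidableEq ι] (pos : ι → ℕ)
    (h : Matrix ι ι A) : Prop :=
  ∃ v : Matrix ι ι A, IsUnit v.det ∧ CondP pos ((v.map lam).transpose * h * v)

theorem QP.of_congr {ι : Type w} [Fintype ι] [DecidableEq ι] {pos : ι → ℕ} {h : Matrix ι ι A}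
    (w : Matrix ι ι A) (hw : IsUnit w.det)
    (H : QP lam pos ((w.map lam).transpose * h * w)) : QP lam pos h := by
  obtain ⟨v, hv, hc⟩ := H
  refine ⟨w * v, by rw [Matrix.det_mul]; exact hw.mul hv, ?_⟩
  have : ((w * v).map lam).transpose * h * (w * v)
      = (v.map lam).transpose * ((w.map lam).transpose * h * w) * v := by
    rw [Matrix.map_mul, Matrix.transpose_mul]
    simp only [Matrix.mul_assoc]
  rw [this]
  exact hc

theorem QP.of_submatrix {ι κ : Type w} [Fintype ι] [DecidableEq ι] [Fintype κ] [DecidableEq κ]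
    {pos : ι → ℕ} {h : Matrix ι ι A} (e : κ ≃ ι) (H : QP lam (pos ∘ e) (h.submatrix e e)) :
    QP lam pos h := by
  obtain ⟨v, hv, hc⟩ := H
  refine ⟨v.submatrix e.symm e.symm, by rw [Matrix.det_submatrix_equiv_self]; exact hv, ?_⟩
  have h0 : h = (h.submatrix e e).submatrix e.symm e.symm := by
    ext i j; simp
  have h1 : ((v.submatrix e.symm e.symm).map lam).transpose
      = ((v.map lam).transpose).submatrix e.symm e.symm := by
    ext i j; simp
  have h3 : ((v.submatrix e.symm e.symm).map lam).transpose * h * (v.submatrix e.symm e.symm)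
      = ((v.map lam).transpose * h.submatrix e e * v).submatrix e.symm e.symm := by
    rw [h1]
    conv_lhs => rw [h0]
    rw [Matrix.submatrix_mul_equiv, Matrix.submatrix_mul_equiv]
  rw [h3]
  obtain ⟨hc1, hc2⟩ := hc
  constructor
  · intro i j hij
    have := hc1 (e.symm i) (e.symm j) (by simpa using hij)
    simpa using this
  · intro i j hij hi hj
    have := hc2 (e.symm i) (e.symm j) (by simpa using hij) (by simpa using hi) (by simpa using hj)
    simpa using this

theorem QP.block {β : Type w} [Fintype β] [DecidableEq β] {posβ : β → ℕ}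
    (a : Matrix (Fin 2) (Fin 2) A) (ha : IsUnit (a 0 1)) {S : Matrix β β A}
    (HS : QP lam posβ S) :
    QP lam (Sum.elim (fun i : Fin 2 => (i : ℕ)) (fun j => 2 + posβ j))
      (Matrix.fromBlocks a 0 0 S) := by
  obtain ⟨vS, hvS, hc1, hc2⟩ := HS
  obtain ⟨q, hq⟩ := ha
  set v₂ : Matrix (Fin 2) (Fin 2) A := Matrix.diagonal ![1, ((q⁻¹ : Aˣ) : A)] with hv₂
  refine ⟨Matrix.fromBlocks v₂ 0 0 vS, ?_, ?_⟩
  · rw [Matrix.det_fromBlocks_zero₂₁, hv₂, Matrix.det_diagonal]
    refine IsUnit.mul ?_ hvS
    simp [Fin.prod_univ_two]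
  · have hG : ((Matrix.fromBlocks v₂ 0 0 vS).map lam).transpose * Matrix.fromBlocks a 0 0 S *
        Matrix.fromBlocks v₂ 0 0 vS
        = Matrix.fromBlocks ((v₂.map lam).transpose * a * v₂) 0 0
          ((vS.map lam).transpose * S * vS) := by
      rw [Matrix.fromBlocks_map, Matrix.fromBlocks_transpose, Matrix.fromBlocks_multiply,
        Matrix.fromBlocks_multiply]
      simp
    rw [hG]
    have h01 : ((v₂.map lam).transpose * a * v₂) 0 1 = 1 := by
      simp [hv₂, Matrix.mul_apply, Fin.sum_univ_two, ← hq]
    constructor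
    · rintro (i | i) (j | j) hij
      · exfalso
        apply hij
        simp only [Sum.elim_inl]
        have := i.2; have := j.2
        omega
      · simp
      · simp
      · simp only [Matrix.fromBlocks_apply₂₂]
        apply hc1
        simp only [Sum.elim_inr] at hij
        omega
    · rintro (i | i) (j | j) hij hi hj
      · simp only [Sum.elim_inl] at hi hj
        have hi0 : i = 0 := by
          have := i.2
          ext
          rcases Nat.even_or_odd' (i : ℕ) with ⟨c, hc | hc⟩ <;> simp only [Fin.val_zero] <;> 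
            [omega; (rw [hc] at hi; exact absurd hi (by simp))]
        have hj1 : j = 1 := by
          have := j.2
          ext
          rcases Nat.even_or_odd' (j : ℕ) with ⟨c, hc | hc⟩ <;> simp only [Fin.val_one] <;> 
            [(rw [hc] at hj; exact absurd (even_two_mul c) hj); omega]
        subst hi0 hj1
        simp only [Matrix.fromBlocks_apply₁₁, h01, sub_self]
        exact Ideal.zero_mem _
      · exfalso
        simp only [Sum.elim_inl, Sum.elim_inr] at hij
        have := i.2
        omega
      · exfalso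
        simp only [Sum.elim_inl, Sum.elim_inr] at hij
        have := j.2
        omega
      · simp only [Matrix.fromBlocks_apply₂₂]
        simp only [Sum.elim_inr] at hij hi hj
        apply hc2
        · omega
        · rcases hi with ⟨c, hc⟩; exact ⟨c - 1, by omega⟩
        · intro hcon; apply hj; rcases hcon with ⟨c, hc⟩; exact ⟨c + 1, by omega⟩

end skew

end Groth.Agent.Lib.Helper1.HermDiag
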