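import Groth.Agent.Lib.Helper1.HermDiagK

set_option autoImplicit false
open Matrix

namespace Groth.Agent.Lib.Helper1.HermDiag

universe v w
variable {A : Type v} [CommRing A] {lam : A ≃+* A}

theorem perm_congr {ι : Type w} [Fintype ι] [DecidableEq ι] (h : Matrix ι ι A)
    (σ : Equiv.Perm ι) :
    IsUnit ((1 : Matrix ι ι A).submatrix id σ).det ∧
    ((((1 : Matrix ι ι A).submatrix id σ).map lam).transpose * h *
      ((1 : Matrix ι ι A).submatrix id σ)) = h.submatrix σ σ := by
  constructor
  · rw [Matrix.det_permute', Matrix.det_one, mul_one]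
    rcases Int.units_eq_one_or (Equiv.Perm.sign σ) with h1 | h1 <;> rw [h1] <;> simp
  · ext i j
    simp [Matrix.mul_apply, Matrix.one_apply, apply_ite lam]

theorem skew_main [IsLocalRing A] (hlam : Function.Involutive lam)
    (hid : ∀ a : A, lam a - a ∈ IsLocalRing.maximalIdeal A) (h2 : IsUnit (2 : A)) :
    ∀ (m n : ℕ), n = 2 * m → ∀ h : Matrix (Fin n) (Fin n) A, Herm lam (-1) h → IsUnit h.det →
      QP lam (fun i : Fin n => (i : ℕ)) h := by
  intro m
  induction m with
  | zero =>
    intro n hn h hh hdet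
    subst hn
    refine ⟨1, by simp, ?_, ?_⟩
    · intro i; exact i.elim0
    · intro i; exact i.elim0
  | succ m ih =>
    intro n hn h hh hdet
    obtain ⟨n', rfl⟩ : ∃ n', n = 2 + n' := ⟨2 * m, by omega⟩
    have hn' : n' = 2 * m := by omega
    set i0 : Fin (2 + n') := ⟨0, by omega⟩ with hi0
    set i1 : Fin (2 + n') := ⟨1, by omega⟩ with hi1
    have h01 : i0 ≠ i1 := by
      intro hc; have := congrArg Fin.val hc; simp [hi0, hi1] at this
    obtain ⟨k, hk⟩ := exists_isUnit_row h hdet i0
    have hk0 : i0 ≠ k := by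
      rintro rfl
      exact (IsLocalRing.mem_maximalIdeal _).mp (skew_diag_mem hid h2 hh i0) hk
    set σ : Equiv.Perm (Fin (2 + n')) := Equiv.swap i1 k with hσ
    obtain ⟨hPdet, hPh⟩ := perm_congr (lam := lam) h σ
    apply QP.of_congr _ hPdet
    rw [hPh]
    have hh' : Herm lam (-1) (h.submatrix σ σ) := hh.submatrix σ
    have hdet' : IsUnit (h.submatrix σ σ).det := by
      rw [Matrix.det_submatrix_equiv_self]; exact hdet
    have hunit' : IsUnit ((h.submatrix σ σ) i0 i1) := by
      simp only [Matrix.submatrix_apply, hσ, Equiv.swap_apply_left,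
        Equiv.swap_apply_of_ne_of_ne h01 hk0]
      exact hk
    apply QP.of_submatrix (finSumFinEquiv : Fin 2 ⊕ Fin n' ≃ Fin (2 + n'))
    set H := (h.submatrix σ σ).submatrix (finSumFinEquiv : Fin 2 ⊕ Fin n' ≃ Fin (2 + n'))
      (finSumFinEquiv : Fin 2 ⊕ Fin n' ≃ Fin (2 + n')) with hH
    have hHH : Herm lam (-1) H := hh'.submatrix _
    have hHdet : IsUnit H.det := by
      rw [hH, Matrix.det_submatrix_equiv_self]; exact hdet'
    have hH01 : IsUnit (H (Sum.inl 0) (Sum.inl 1)) := by
      have e0 : (finSumFinEquiv : Fin 2 ⊕ Fin n' ≃ Fin (2 + n')) (Sum.inl 0) = i0 := by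
        rw [finSumFinEquiv_apply_left]; ext; simp [hi0]
      have e1 : (finSumFinEquiv : Fin 2 ⊕ Fin n' ≃ Fin (2 + n')) (Sum.inl 1) = i1 := by
        rw [finSumFinEquiv_apply_left]; ext; simp [hi1]
      simp only [hH, Matrix.submatrix_apply, e0, e1]
      exact hunit'
    have hpos : ((fun i : Fin (2 + n') => (i : ℕ)) ∘
        (finSumFinEquiv : Fin 2 ⊕ Fin n' ≃ Fin (2 + n')))
        = Sum.elim (fun i : Fin 2 => (i : ℕ)) (fun j : Fin n' => 2 + (j : ℕ)) := by
      funext x
      rcases x with x | x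
      · simp [finSumFinEquiv_apply_left]
      · simp [finSumFinEquiv_apply_right]
    rw [hpos]
    have h0 : H = Matrix.fromBlocks H.toBlocks₁₁ H.toBlocks₁₂ H.toBlocks₂₁ H.toBlocks₂₂ :=
      (Matrix.fromBlocks_toBlocks H).symm
    set a := H.toBlocks₁₁ with ha
    set b := H.toBlocks₁₂ with hb
    set c := H.toBlocks₂₁ with hc
    set D := H.toBlocks₂₂ with hD
    have ha01 : IsUnit (a 0 1) := by
      simpa [ha, Matrix.toBlocks₁₁] using hH01
    have haHerm : Herm lam (-1) a := by
      have := hHH.submatrix (Sum.inl : Fin 2 → Fin 2 ⊕ Fin n')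
      have e : H.submatrix (Sum.inl : Fin 2 → Fin 2 ⊕ Fin n') Sum.inl = a := by
        ext i j; simp [ha, Matrix.toBlocks₁₁]
      rwa [e] at this
    have hadet : IsUnit a.det := by
      rw [Matrix.det_fin_two]
      have h1 : ¬ IsUnit (a 0 0 * a 1 1) := by
        intro hc'
        exact (IsLocalRing.mem_maximalIdeal _).mp (skew_diag_mem hid h2 haHerm 0)
          (isUnit_of_mul_isUnit_left hc')
      apply isUnit_sub_of_nonunit h1
      refine ha01.mul ?_
      have := haHerm.apply 1 0
      rw [← this]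
      exact (isUnit_one.neg).mul (ha01.map lam)
    have hHH' : Herm lam (-1) (Matrix.fromBlocks a b c D) := by rw [← h0]; exact hHH
    obtain ⟨w, hw1, hw2⟩ := pivot_block_gen (by ring) a b c D hHH' hadet
    rw [h0]
    apply QP.of_congr w (by rw [hw1]; exact isUnit_one)
    have hcong := hHH'.congr hlam w
    have hdetc : IsUnit ((w.map lam).transpose * Matrix.fromBlocks a b c D * w).det := by
      have h2' : (w.map lam).det = 1 := by
        have : (w.map lam) = (lam : A →+* A).mapMatrix w := rfl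
        rw [this, ← RingHom.map_det, hw1, map_one]
      rw [Matrix.det_mul, Matrix.det_mul, Matrix.det_transpose, h2', hw1, one_mul, mul_one, ← h0]
      exact hHdet
    rw [hw2] at hcong hdetc ⊢
    set S := D - c * a⁻¹ * b with hS
    have hSHerm : Herm lam (-1) S := by
      have := hcong.submatrix (Sum.inr : Fin n' → Fin 2 ⊕ Fin n')
      have e : (Matrix.fromBlocks a 0 0 S).submatrix (Sum.inr : Fin n' → Fin 2 ⊕ Fin n') Sum.inr
          = S := by
        ext i j; simp
      rwa [e] at this
    have hSdet : IsUnit S.det := by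
      rw [Matrix.det_fromBlocks_zero₂₁] at hdetc
      exact isUnit_of_mul_isUnit_right hdetc
    exact QP.block a ha01 (ih n' hn' S hSHerm hSdet)

end Groth.Agent.Lib.Helper1.HermDiag
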