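import Mathlib

/-!
# Index of the twisted diagonal hypersurface: elementary lemmas
-/

set_option autoImplicit false
universe u

namespace Groth.Agent.Lib.Helper1.HypIndex

open Polynomial

/-- The gcd `I(d,N)` of the quotients `d/δ`, `δ ∣ d`, `1 ≤ δ ≤ N`. -/
def gcdI (d N : ℕ) : ℕ := ((Finset.Icc 1 N).filter (fun δ => δ ∣ d)).gcd (fun δ => d / δ)

theorem gcdI_dvd_of_dvd (d N : ℕ) (hd : 1 ≤ d) {e k : ℕ} (hk1 : 1 ≤ k) (hkN : k ≤ N)
    (h : d ∣ e * k) : gcdI d N ∣ e := by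
  have hδd : Nat.gcd d k ∣ d := Nat.gcd_dvd_left d k
  have hδk : Nat.gcd d k ∣ k := Nat.gcd_dvd_right d k
  have hδpos : 0 < Nat.gcd d k := Nat.gcd_pos_of_pos_left k hd
  have hδN : Nat.gcd d k ≤ N := (Nat.le_of_dvd hk1 hδk).trans hkN
  have h1 : gcdI d N ∣ d / Nat.gcd d k := by
    unfold gcdI
    apply Finset.gcd_dvd (f := fun δ => d / δ)
    simp only [Finset.mem_filter, Finset.mem_Icc]
    exact ⟨⟨hδpos, hδN⟩, hδd⟩
  refine h1.trans ?_
  have hcop : Nat.Coprime (d / Nat.gcd d k) (k / Nat.gcd d k) := Nat.coprime_div_gcd_div_gcd hδpos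
  have h2 : d / Nat.gcd d k ∣ e * (k / Nat.gcd d k) := by
    apply Nat.dvd_of_mul_dvd_mul_right hδpos
    rw [Nat.div_mul_cancel hδd, mul_assoc, Nat.div_mul_cancel hδk]
    exact h
  exact hcop.dvd_of_dvd_mul_right h2

/-- In a vanishing finite sum with a non-zero term, two distinct non-zero terms have the same
valuation. -/
theorem exists_eq_of_sum_eq_zero {L Γ : Type*} [Field L] [LinearOrderedCommGroupWithZero Γ]
    (v : Valuation L Γ) {ι : Type*} [DecidableEq ι] (s : Finset ι) (a : ι → L)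
    (hsum : ∑ i ∈ s, a i = 0) (hne : ∃ i ∈ s, a i ≠ 0) :
    ∃ i ∈ s, ∃ j ∈ s, i ≠ j ∧ a i ≠ 0 ∧ a j ≠ 0 ∧ v (a i) = v (a j) := by
  obtain ⟨i₀, hi₀s, hi₀⟩ := hne
  obtain ⟨i, his, hmax⟩ := Finset.exists_max_image s (fun i => v (a i)) ⟨i₀, hi₀s⟩
  have hvi : v (a i) ≠ 0 := by
    have h1 : v (a i₀) ≠ 0 := (Valuation.ne_zero_iff v).mpr hi₀
    have h2 := hmax i₀ hi₀s
    intro h0
    rw [h0] at h2
    exact h1 (le_antisymm h2 zero_le')
  have hai : a i ≠ 0 := (Valuation.ne_zero_iff v).mp hvi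
  have hsplit : a i = - ∑ j ∈ s.erase i, a j := by
    rw [← Finset.add_sum_erase s a his] at hsum
    exact eq_neg_of_add_eq_zero_left hsum
  by_contra hcon
  push Not at hcon
  have hlt : ∀ j ∈ s.erase i, v (a j) < v (a i) := by
    intro j hj
    have hjs : j ∈ s := Finset.mem_of_mem_erase hj
    have hji : j ≠ i := Finset.ne_of_mem_erase hj
    rcases lt_or_eq_of_le (hmax j hjs) with h | h
    · exact h
    · exfalso
      have haj : a j ≠ 0 := by
        rw [← Valuation.ne_zero_iff v, h]; exact hvi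
      exact hcon i his j hjs (Ne.symm hji) hai haj h.symm
  have := Valuation.map_sum_lt v hvi hlt
  rw [hsplit, Valuation.map_neg] at this
  exact lt_irrefl _ this

/-- A subgroup of `ℤ` containing all `f b`, `b ∈ s`, contains their gcd. -/
theorem natCast_finset_gcd_mem (H : AddSubgroup ℤ) {β : Type*} (s : Finset β) (f : β → ℕ)
    (h : ∀ b ∈ s, (f b : ℤ) ∈ H) : ((s.gcd f : ℕ) : ℤ) ∈ H := by
  classical
  induction s using Finset.induction_on with
  | empty => simp
  | insert b s hb ih =>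
    rw [Finset.gcd_insert]
    have h1 : (f b : ℤ) ∈ H := h b (Finset.mem_insert_self b s)
    have h2 : ((s.gcd f : ℕ) : ℤ) ∈ H := ih (fun c hc => h c (Finset.mem_insert_of_mem hc))
    have : ((gcd (f b) (s.gcd f) : ℕ) : ℤ) = (f b : ℤ) * Nat.gcdA (f b) (s.gcd f) +
        ((s.gcd f : ℕ) : ℤ) * Nat.gcdB (f b) (s.gcd f) := Nat.gcd_eq_gcd_ab _ _
    rw [this]
    apply H.add_mem
    · rw [mul_comm]; exact H.zsmul_mem h1 _ |> fun h => by simpa using h
    · rw [mul_comm]; exact H.zsmul_mem h2 _ |> fun h => by simpa using h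

/-- Uniform power for purely inseparable extensions. -/
theorem exists_pow_mem_range {F E : Type*} [Field F] [Field E] [Algebra F E]
    [IsPurelyInseparable F E] [FiniteDimensional F E] (q : ℕ) [ExpChar F q] :
    ∃ n, Module.finrank F E = q ^ n ∧ ∀ x : E, x ^ (q ^ n) ∈ (algebraMap F E).range := by
  obtain ⟨n, hn⟩ := IsPurelyInseparable.finrank_eq_pow (F := F) E q
  refine ⟨n, hn, fun x => ?_⟩
  obtain ⟨m, y, hm⟩ := IsPurelyInseparable.minpoly_eq_X_pow_sub_C F q x
  have hdeg : (minpoly F x).natDegree = q ^ m := by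
    rw [hm, natDegree_sub_C, natDegree_X_pow]
  have hdvd : q ^ m ∣ q ^ n := by
    rw [← hdeg, ← hn]
    exact minpoly.degree_dvd (Algebra.IsIntegral.isIntegral x)
  obtain ⟨c, hc⟩ := hdvd
  have hx : x ^ (q ^ m) = algebraMap F E y := by
    have h := minpoly.aeval F x
    rw [hm, map_sub, map_pow, aeval_X, aeval_C, sub_eq_zero] at h
    exact h
  exact ⟨y ^ c, by rw [map_pow, ← hx, ← pow_mul, ← hc]⟩

end Groth.Agent.Lib.Helper1.HypIndex
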