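import Mathlib
import Groth.Agent.Lib.Helper1.HypIndexA

/-!
# Index of the twisted diagonal hypersurface: the fields `K(π^{1/m})`
-/

set_option autoImplicit false
universe u

namespace Groth.Agent.Lib.Helper1.HypIndex

open Polynomial

theorem irreducible_X_pow_sub_C (R : Type u) [CommRing R] [IsDomain R] [IsDiscreteValuationRing R]
    (K : Type u) [Field K] [Algebra R K] [IsFractionRing R K] (ϖ : R) (hϖ : Irreducible ϖ)
    (m : ℕ) (hm : 1 ≤ m) :
    Irreducible (X ^ m - C (algebraMap R K ϖ) : K[X]) := by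
  have hm0 : m ≠ 0 := by omega
  have hmonic : (X ^ m - C ϖ : R[X]).Monic := monic_X_pow_sub_C ϖ hm0
  have hdeg : (X ^ m - C ϖ : R[X]).natDegree = m := natDegree_X_pow_sub_C
  have hP : IsLocalRing.maximalIdeal R = Ideal.span {ϖ} :=
    (IsDiscreteValuationRing.irreducible_iff_uniformizer ϖ).mp hϖ
  have hprime : (IsLocalRing.maximalIdeal R).IsPrime := inferInstance
  have hcoeff : ∀ n, n < m → (X ^ m - C ϖ : R[X]).coeff n = if n = 0 then -ϖ else 0 := by
    intro n hn
    rw [coeff_sub, coeff_X_pow, coeff_C, if_neg (by omega)]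
    split_ifs <;> simp
  have heis : (X ^ m - C ϖ : R[X]).IsEisensteinAt (IsLocalRing.maximalIdeal R) := by
    refine ⟨?_, ?_, ?_⟩
    · rw [hmonic.leadingCoeff]
      exact fun h => (Ideal.ne_top_iff_one _).mp hprime.ne_top h
    · intro n hn
      rw [hdeg] at hn
      rw [hcoeff n hn]
      split_ifs
      · rw [hP]; exact neg_mem (Ideal.mem_span_singleton_self ϖ)
      · exact zero_mem _
    · rw [hcoeff 0 (by omega), if_pos rfl, hP, Ideal.span_singleton_pow, neg_mem_iff,
        Ideal.mem_span_singleton]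
      intro hdvd
      obtain ⟨c, hc⟩ := hdvd
      have h1 : ϖ * (ϖ * c) = ϖ * 1 := by rw [mul_one, ← mul_assoc, ← sq, ← hc]
      have h2 : ϖ * c = 1 := mul_left_cancel₀ hϖ.ne_zero h1
      exact hϖ.not_isUnit (IsUnit.of_mul_eq_one _ h2)
  have hirr : Irreducible (X ^ m - C ϖ : R[X]) :=
    heis.irreducible hprime hmonic.isPrimitive (by rw [hdeg]; omega)
  have := (Monic.irreducible_iff_irreducible_map_fraction_map (K := K) hmonic).mp hirr
  simpa using this

theorem exists_field_of_dvd (R : Type u) [CommRing R] [IsDomain R] [IsDiscreteValuationRing R]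
    (K : Type u) [Field K] [Algebra R K] [IsFractionRing R K] (ϖ : R) (hϖ : Irreducible ϖ)
    (d N : ℕ) (hd : 1 ≤ d) (δ : ℕ) (hδ1 : 1 ≤ δ) (hδN : δ ≤ N) (hδd : δ ∣ d) :
    ∃ (L : Type u) (_ : Field L) (_ : Algebra K L), FiniteDimensional K L ∧
      ((d / δ : ℕ) : ℤ) = (Module.finrank K L : ℤ) ∧
      ∃ x : Fin (N + 1) → L, x ≠ 0 ∧
        x 0 ^ d = ∑ i : Fin N,
          algebraMap K L (algebraMap R K (ϖ ^ ((i : ℕ) + 1))) * x i.succ ^ d := by
  have hm : 1 ≤ d / δ := by
    rw [Nat.one_le_div_iff (by omega)]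
    exact Nat.le_of_dvd (by omega) hδd
  have hdm : d = d / δ * δ := (Nat.div_mul_cancel hδd).symm
  set m := d / δ with hmdef
  have hirr := irreducible_X_pow_sub_C R K ϖ hϖ m hm
  set f : K[X] := X ^ m - C (algebraMap R K ϖ) with hf
  have hf0 : f ≠ 0 := hirr.ne_zero
  have hfdeg : f.natDegree = m := natDegree_X_pow_sub_C
  have : Fact (Irreducible f) := ⟨hirr⟩
  have hroot : (AdjoinRoot.root f) ^ m = algebraMap K (AdjoinRoot f) (algebraMap R K ϖ) := by
    have h := AdjoinRoot.mk_self (f := f)
    rw [hf, map_sub, map_pow, AdjoinRoot.mk_X, AdjoinRoot.mk_C, sub_eq_zero] at h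
    rw [h, AdjoinRoot.algebraMap_eq]
  refine ⟨AdjoinRoot f, inferInstance, inferInstance, ?_, ?_, ?_⟩
  · exact (AdjoinRoot.powerBasis hf0).finite
  · rw [(AdjoinRoot.powerBasis hf0).finrank, AdjoinRoot.powerBasis_dim, hfdeg]
  · refine ⟨fun i => if i = 0 then AdjoinRoot.root f else if (i : ℕ) = δ then 1 else 0, ?_, ?_⟩
    · intro h0
      have := congrFun h0 ⟨δ, by omega⟩
      have hne : (⟨δ, by omega⟩ : Fin (N + 1)) ≠ 0 := by
        intro h
        have := congrArg Fin.val h
        simp at this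
        omega
      simp [hne] at this
    · have hsucc : ∀ i : Fin N, (if i.succ = 0 then AdjoinRoot.root f
          else if ((i.succ : Fin (N + 1)) : ℕ) = δ then (1 : AdjoinRoot f) else 0) ^ d =
          if (i : ℕ) + 1 = δ then 1 else 0 := by
        intro i
        rw [if_neg (Fin.succ_ne_zero i), Fin.val_succ]
        split_ifs
        · exact one_pow d
        · exact zero_pow (by omega)
      simp only [if_true]
      rw [Finset.sum_congr rfl (fun i _ => by rw [hsucc i])]
      rw [Finset.sum_eq_single (⟨δ - 1, by omega⟩ : Fin N)]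
      · have : δ - 1 + 1 = δ := by omega
        simp only [this, if_true, mul_one]
        rw [hdm, pow_mul, hroot, map_pow, map_pow]
      · intro b _ hb
        have : (b : ℕ) + 1 ≠ δ := by
          intro h
          apply hb
          apply Fin.ext
          simp only
          omega
        rw [if_neg this, mul_zero]
      · intro h; exact absurd (Finset.mem_univ _) h

end Groth.Agent.Lib.Helper1.HypIndex
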