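import Mathlib
import Groth.Agent.Lib.Helper1.HypIndexA

/-!
# Index of the twisted diagonal hypersurface: the separable case
-/

set_option autoImplicit false
universe u

namespace Groth.Agent.Lib.Helper1.HypIndex

open Polynomial IsDedekindDomain

/-- Comparing two terms `ϖ^{iq} y_i^d` of equal valuation. -/
theorem gcdI_dvd_of_val_eq (d N : ℕ) (hd : 1 ≤ d) (q e : ℕ) {i j : ℕ} (hij : i < j) (hjN : j ≤ N)
    (t : (WithZero (Multiplicative ℤ))) (ht : t = WithZero.exp (-(e : ℤ))) (a b : (WithZero (Multiplicative ℤ))) (ha : a ≠ 0) (hb : b ≠ 0)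
    (h : t ^ (i * q) * a ^ d = t ^ (j * q) * b ^ d) : gcdI d N ∣ q * e := by
  have ht0 : t ≠ 0 := by rw [ht]; exact WithZero.exp_ne_zero
  have hlog := congrArg WithZero.log h
  rw [WithZero.log_mul (pow_ne_zero _ ht0) (pow_ne_zero _ ha),
    WithZero.log_mul (pow_ne_zero _ ht0) (pow_ne_zero _ hb), WithZero.log_pow, WithZero.log_pow,
    WithZero.log_pow, WithZero.log_pow, ht, WithZero.log_exp] at hlog
  simp only [nsmul_eq_mul, Nat.cast_mul] at hlog
  have hk : (d : ℤ) * (b.log - a.log) = ((q * e * (j - i) : ℕ) : ℤ) := by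
    have hji : ((j - i : ℕ) : ℤ) = (j : ℤ) - i := by
      rw [Nat.cast_sub hij.le]
    rw [Nat.cast_mul, Nat.cast_mul, hji]
    linear_combination -hlog
  have hdvd : (d : ℤ) ∣ ((q * e * (j - i) : ℕ) : ℤ) := ⟨_, hk.symm⟩
  have hdvd' : d ∣ q * e * (j - i) := Int.natCast_dvd_natCast.mp hdvd
  exact gcdI_dvd_of_dvd d N hd (by omega) (by omega) hdvd'

theorem dvd_of_solution_separable (R : Type u) [CommRing R] [IsDomain R]
    [IsDiscreteValuationRing R] (K : Type u) [Field K] [Algebra R K] [IsFractionRing R K]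
    (ϖ : R) (hϖ : Irreducible ϖ) (d N : ℕ) (hd : 1 ≤ d) (q : ℕ)
    (E : Type u) [Field E] [Algebra K E] [Algebra R E] [IsScalarTower R K E]
    [FiniteDimensional K E] [Algebra.IsSeparable K E]
    (y : Fin (N + 1) → E) (hy : y ≠ 0)
    (h : y 0 ^ d = ∑ i : Fin N, algebraMap R E (ϖ ^ (((i : ℕ) + 1) * q)) * y i.succ ^ d) :
    gcdI d N ∣ q * Module.finrank K E := by
  classical
  have hinj : Function.Injective (algebraMap R E) := by
    rw [IsScalarTower.algebraMap_eq R K E]
    exact (algebraMap K E).injective.comp (IsFractionRing.injective R K)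
  have : Module.IsTorsionFree R E := Module.isTorsionFree_iff_algebraMap_injective.mpr hinj
  have : IsDedekindDomain (integralClosure R E) := integralClosure.isDedekindDomain R K E
  have : IsFractionRing (integralClosure R E) E :=
    integralClosure.isFractionRing_of_finite_extension K E
  have : Module.Finite R (integralClosure R E) :=
    IsIntegralClosure.finite R K E (integralClosure R E)
  have : Module.IsTorsionFree R (integralClosure R E) := inferInstance
  have : Module.Flat R (integralClosure R E) := inferInstance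
  have : Fintype ((IsLocalRing.maximalIdeal R).primesOver (integralClosure R E)) :=
    (Algebra.QuasiFinite.finite_primesOver _).fintype
  have hp0 : IsLocalRing.maximalIdeal R ≠ ⊥ := IsDiscreteValuationRing.not_a_field R
  have hsum := Ideal.sum_ramification_inertia_eq_finrank (IsLocalRing.maximalIdeal R)
    (integralClosure R E)
  have hfr : Module.finrank K E = Module.finrank R (integralClosure R E) :=
    IsFractionRing.finrank_eq R K (integralClosure R E) E
  rw [hfr, ← hsum, Finset.mul_sum]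
  apply Finset.dvd_sum
  intro P _
  rw [← mul_assoc]
  apply Dvd.dvd.mul_right
  -- the prime `P`
  have hPprime : P.1.IsPrime := P.2.1
  have hPlies : P.1.LiesOver (IsLocalRing.maximalIdeal R) := P.2.2
  have hPne : P.1 ≠ ⊥ := Ideal.ne_bot_of_liesOver_of_ne_bot hp0 P.1
  let w : HeightOneSpectrum (integralClosure R E) := ⟨P.1, hPprime, hPne⟩
  let v : HeightOneSpectrum R := IsDiscreteValuationRing.maximalIdeal R
  have hwv : w.asIdeal.LiesOver v.asIdeal := hPlies
  have he : v.asIdeal.ramificationIdx' w.asIdeal = P.1.ramificationIdx R :=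
    Ideal.ramificationIdx'_eq_ramificationIdx (IsLocalRing.maximalIdeal R) P.1 hp0
  have hvϖ : v.valuation K (algebraMap R K ϖ) = WithZero.exp (-1 : ℤ) := by
    rw [HeightOneSpectrum.valuation_of_algebraMap]
    exact HeightOneSpectrum.intValuation_singleton v hϖ.ne_zero
      ((IsDiscreteValuationRing.irreducible_iff_uniformizer ϖ).mp hϖ)
  have hwϖ : w.valuation E (algebraMap R E ϖ) =
      WithZero.exp (-((P.1.ramificationIdx R : ℕ) : ℤ)) := by
    rw [IsScalarTower.algebraMap_apply R K E, ← HeightOneSpectrum.valuation_liesOver E v w, hvϖ,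
      he, ← WithZero.exp_nsmul]
    simp
  -- the terms
  set c : Fin (N + 1) → E := fun i => algebraMap R E (ϖ ^ ((i : ℕ) * q)) * y i ^ d with hc
  have hc0 : c 0 = y 0 ^ d := by simp [hc]
  have hcs : ∀ i : Fin N, c i.succ = algebraMap R E (ϖ ^ (((i : ℕ) + 1) * q)) * y i.succ ^ d := by
    intro i
    simp [hc]
  have hwc : ∀ i : Fin (N + 1), w.valuation E (c i) =
      (w.valuation E (algebraMap R E ϖ)) ^ ((i : ℕ) * q) * (w.valuation E (y i)) ^ d := by
    intro i
    simp only [hc, map_mul, map_pow]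
  have hcne : ∀ i : Fin (N + 1), c i ≠ 0 ↔ y i ≠ 0 := by
    intro i
    simp only [hc]
    have h1 : algebraMap R E (ϖ ^ ((i : ℕ) * q)) ≠ 0 := by
      rw [Ne, map_eq_zero_iff _ hinj]
      exact pow_ne_zero _ hϖ.ne_zero
    constructor
    · intro h2 h3
      apply h2
      rw [h3, zero_pow (by omega), mul_zero]
    · intro h2
      exact mul_ne_zero h1 (pow_ne_zero _ h2)
  let a : Fin (N + 1) → E := Fin.cons (c 0) (fun i => - c i.succ)
  have hasum : ∑ i, a i = 0 := by
    rw [Fin.sum_univ_succ]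
    simp only [a, Fin.cons_zero, Fin.cons_succ, Finset.sum_neg_distrib]
    rw [hc0, h, Finset.sum_congr rfl (fun i _ => hcs i)]
    ring
  have hva : ∀ i, w.valuation E (a i) = w.valuation E (c i) := by
    intro i
    refine Fin.cases ?_ (fun i => ?_) i
    · simp [a]
    · simp [a, Valuation.map_neg]
  have hane : ∀ i, a i ≠ 0 ↔ c i ≠ 0 := by
    intro i
    rw [← Valuation.ne_zero_iff (w.valuation E), ← Valuation.ne_zero_iff (w.valuation E), hva]
  obtain ⟨i₀, hi₀⟩ := Function.ne_iff.mp hy
  have hne : ∃ i ∈ (Finset.univ : Finset (Fin (N + 1))), a i ≠ 0 :=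
    ⟨i₀, Finset.mem_univ _, (hane i₀).mpr ((hcne i₀).mpr hi₀)⟩
  obtain ⟨i, -, j, -, hij, hai, haj, hvij⟩ :=
    exists_eq_of_sum_eq_zero (w.valuation E) Finset.univ a hasum hne
  rw [hva, hva, hwc, hwc] at hvij
  have hyi : w.valuation E (y i) ≠ 0 :=
    (Valuation.ne_zero_iff _).mpr ((hcne i).mp ((hane i).mp hai))
  have hyj : w.valuation E (y j) ≠ 0 :=
    (Valuation.ne_zero_iff _).mpr ((hcne j).mp ((hane j).mp haj))
  rcases lt_or_gt_of_ne hij with hlt | hlt
  · exact gcdI_dvd_of_val_eq d N hd q _ (i := (i : ℕ)) (j := (j : ℕ)) hlt (by omega) _ hwϖ _ _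
      hyi hyj hvij
  · exact gcdI_dvd_of_val_eq d N hd q _ (i := (j : ℕ)) (j := (i : ℕ)) hlt (by omega) _ hwϖ _ _
      hyj hyi hvij.symm

end Groth.Agent.Lib.Helper1.HypIndex
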