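import Mathlib
import Groth.Agent.Lib.Helper1.HypIndexA
import Groth.Agent.Lib.Helper1.HypIndexB
import Groth.Agent.Lib.Helper1.HypIndexC

/-!
# Index of the twisted diagonal hypersurface: general finite extensions
-/

set_option autoImplicit false
universe u

namespace Groth.Agent.Lib.Helper1.HypIndex

open Polynomial IsDedekindDomain

theorem dvd_of_solution (R : Type u) [CommRing R] [IsDomain R] [IsDiscreteValuationRing R]
    (K : Type u) [Field K] [Algebra R K] [IsFractionRing R K]
    (ϖ : R) (hϖ : Irreducible ϖ) (d N : ℕ) (hd : 1 ≤ d)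
    (L : Type u) [Field L] [Algebra K L] [FiniteDimensional K L]
    (x : Fin (N + 1) → L) (hx : x ≠ 0)
    (h : x 0 ^ d = ∑ i : Fin N,
      algebraMap K L (algebraMap R K (ϖ ^ ((i : ℕ) + 1))) * x i.succ ^ d) :
    gcdI d N ∣ Module.finrank K L := by
  classical
  have hq : ExpChar K (ringExpChar K) := inferInstance
  have hqs : ExpChar (separableClosure K L) (ringExpChar K) :=
    expChar_of_injective_algebraMap (algebraMap K (separableClosure K L)).injective _
  have hqL : ExpChar L (ringExpChar K) :=
    expChar_of_injective_algebraMap (algebraMap K L).injective _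
  have : IsPurelyInseparable (separableClosure K L) L := separableClosure.isPurelyInseparable K L
  obtain ⟨n, hn, hpow⟩ := exists_pow_mem_range (F := separableClosure K L) (E := L) (ringExpChar K)
  choose y hy using hpow
  have hyinj : Function.Injective (algebraMap (separableClosure K L) L) :=
    (algebraMap (separableClosure K L) L).injective
  have hY : (fun i => y (x i)) ≠ (0 : Fin (N + 1) → separableClosure K L) := by
    obtain ⟨i₀, hi₀⟩ := Function.ne_iff.mp hx
    apply Function.ne_iff.mpr
    refine ⟨i₀, ?_⟩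
    intro h0
    have h1 : algebraMap (separableClosure K L) L (y (x i₀)) = 0 := by
      rw [h0]; simp
    rw [hy] at h1
    exact hi₀ (pow_eq_zero_iff (pow_ne_zero _ (expChar_pos K _).ne') |>.mp h1)
  let _ : Algebra R (separableClosure K L) :=
    ((algebraMap K (separableClosure K L)).comp (algebraMap R K)).toAlgebra
  have : IsScalarTower R K (separableClosure K L) := IsScalarTower.of_algebraMap_eq (fun _ => rfl)
  have heq : (y (x 0)) ^ d = ∑ i : Fin N,
      algebraMap R (separableClosure K L) (ϖ ^ (((i : ℕ) + 1) * ringExpChar K ^ n)) *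
        (y (x i.succ)) ^ d := by
    apply hyinj
    rw [map_pow, hy, map_sum, ← pow_mul, mul_comm, pow_mul, h, sum_pow_char_pow]
    apply Finset.sum_congr rfl
    intro i _
    have e1 : algebraMap (separableClosure K L) L (y (x i.succ) ^ d) =
        (x i.succ ^ d) ^ (ringExpChar K ^ n) := by
      rw [map_pow, hy, ← pow_mul, ← pow_mul, mul_comm]
    have e2 : algebraMap (separableClosure K L) L (algebraMap R (separableClosure K L)
        (ϖ ^ (((i : ℕ) + 1) * ringExpChar K ^ n))) =
        (algebraMap K L (algebraMap R K (ϖ ^ ((i : ℕ) + 1)))) ^ (ringExpChar K ^ n) := by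
      rw [IsScalarTower.algebraMap_apply R K (separableClosure K L),
        ← IsScalarTower.algebraMap_apply K (separableClosure K L) L, pow_mul, map_pow, map_pow]
    rw [map_mul, e1, e2, mul_pow]
  have key := dvd_of_solution_separable R K ϖ hϖ d N hd (ringExpChar K ^ n)
    (separableClosure K L) (fun i => y (x i)) hY heq
  rw [← Module.finrank_mul_finrank K (separableClosure K L) L, hn, mul_comm]
  exact key

theorem main (R : Type u) [CommRing R] [IsDomain R]
    [IsDiscreteValuationRing R] (K : Type u) [Field K] [Algebra R K] [IsFractionRing R K]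
    (ϖ : R) (hϖ : Irreducible ϖ) (d N : ℕ) (hd : 1 ≤ d) (hN : 1 ≤ N) :
    AddSubgroup.closure {m : ℤ | ∃ (L : Type u) (_ : Field L) (_ : Algebra K L),
        FiniteDimensional K L ∧ m = (Module.finrank K L : ℤ) ∧
        ∃ x : Fin (N + 1) → L, x ≠ 0 ∧
          x 0 ^ d = ∑ i : Fin N,
            algebraMap K L (algebraMap R K (ϖ ^ ((i : ℕ) + 1))) * x i.succ ^ d} =
      AddSubgroup.zmultiples
        ((((Finset.Icc 1 N).filter (fun δ => δ ∣ d)).gcd (fun δ => d / δ) : ℕ) : ℤ) := by
  apply le_antisymm
  · rw [AddSubgroup.closure_le]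
    rintro m ⟨L, hF, hA, hfin, rfl, x, hx, hxeq⟩
    rw [SetLike.mem_coe, Int.mem_zmultiples_iff, Int.natCast_dvd_natCast]
    exact dvd_of_solution R K ϖ hϖ d N hd L x hx hxeq
  · rw [AddSubgroup.zmultiples_le]  
    apply natCast_finset_gcd_mem
    intro δ hδ
    simp only [Finset.mem_filter, Finset.mem_Icc] at hδ
    apply AddSubgroup.subset_closure
    obtain ⟨L, hF, hA, hfin, hm, x, hx, hxeq⟩ :=
      exists_field_of_dvd R K ϖ hϖ d N hd δ hδ.1.1 hδ.1.2 hδ.2
    exact ⟨L, hF, hA, hfin, hm, x, hx, hxeq⟩

end Groth.Agent.Lib.Helper1.HypIndex
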