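import Groth.Agent.Lib.Helper1.InvFldDiag

/-!
# Invariants of the symmetric group acting on a rational function field; stable purity
-/

namespace Groth.Agent.Lib.Helper1.InvFldSym

open scoped BigOperators
open Groth.Agent.Lib.Helper1.NoName Groth.Agent.Lib.Helper1.InvFldDiag

universe u
variable {k : Type u} [Field k] (n : ℕ)

/-- The permutation of the variables as an automorphism of the rational function field. -/
noncomputable def P0 (π : Equiv.Perm (Fin n)) : InvFld.Fld (Fin n) k ≃ₐ[k] InvFld.Fld (Fin n) k :=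
  IsFractionRing.algEquivOfAlgEquiv (MvPolynomial.renameEquiv k π)

theorem P0_algebraMap (π : Equiv.Perm (Fin n)) (p : MvPolynomial (Fin n) k) :
    P0 n π (algebraMap (MvPolynomial (Fin n) k) (InvFld.Fld (Fin n) k) p) =
      algebraMap (MvPolynomial (Fin n) k) (InvFld.Fld (Fin n) k) (MvPolynomial.rename π p) := by
  simp [P0]

theorem P0_X (π : Equiv.Perm (Fin n)) (i : Fin n) :
    P0 (k := k) n π (InvFld.X i) = InvFld.X (π i) := by
  rw [InvFld.X, P0_algebraMap, MvPolynomial.rename_X]

/-- The permutation action as a group homomorphism. -/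
noncomputable def P : Equiv.Perm (Fin n) →* (InvFld.Fld (Fin n) k ≃ₐ[k] InvFld.Fld (Fin n) k) where
  toFun := P0 n
  map_one' := by
    apply algEquiv_ext
    intro i
    rw [P0_X]; rfl
  map_mul' π ρ := by
    apply algEquiv_ext
    intro i
    rw [AlgEquiv.mul_apply, P0_X, P0_X, P0_X]; rfl

theorem P_apply (π : Equiv.Perm (Fin n)) (z : InvFld.Fld (Fin n) k) : P n π z = P0 n π z := rfl

theorem P_injective : Function.Injective (P (k := k) n) := by
  intro π ρ h
  ext i
  have h1 : (InvFld.X (π i) : InvFld.Fld (Fin n) k) = InvFld.X (ρ i) := by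
    rw [← P0_X, ← P0_X, ← P_apply, ← P_apply, h]
  exact congrArg Fin.val ((algebraicIndependent_X k (Fin n)).injective h1)

/-- The elementary symmetric functions. -/
noncomputable def esym (i : Fin n) : InvFld.Fld (Fin n) k :=
  algebraMap _ _ (MvPolynomial.esymm (Fin n) k (i + 1))

theorem esym_ai : AlgebraicIndependent k (esym (k := k) n) := by
  have h0 : AlgebraicIndependent k (fun i : Fin n => MvPolynomial.esymm (Fin n) k (i + 1)) := by
    intro p q hpq
    apply (MvPolynomial.esymmAlgHom_fin_bijective k n).1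
    apply Subtype.ext
    rw [MvPolynomial.esymmAlgHom_apply, MvPolynomial.esymmAlgHom_apply]
    exact hpq
  exact h0.map' (f := IsScalarTower.toAlgHom k (MvPolynomial (Fin n) k) (InvFld.Fld (Fin n) k))
    (IsFractionRing.injective (MvPolynomial (Fin n) k) (InvFld.Fld (Fin n) k))

theorem algebraMap_mem_adjoin_esym (p : MvPolynomial (Fin n) k) (hp : p.IsSymmetric) :
    algebraMap (MvPolynomial (Fin n) k) (InvFld.Fld (Fin n) k) p ∈
      IntermediateField.adjoin k (Set.range (esym (k := k) n)) := by
  obtain ⟨q, hq⟩ := (MvPolynomial.esymmAlgHom_fin_bijective k n).2 ⟨p, hp⟩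
  have h1 : p = MvPolynomial.aeval (fun i : Fin n => MvPolynomial.esymm (Fin n) k (i + 1)) q := by
    rw [← MvPolynomial.esymmAlgHom_apply, hq]
  have h2 : algebraMap (MvPolynomial (Fin n) k) (InvFld.Fld (Fin n) k) p =
      MvPolynomial.aeval (esym (k := k) n) q := by
    rw [h1]
    have := MvPolynomial.comp_aeval (R := k)
      (fun i : Fin n => MvPolynomial.esymm (Fin n) k (i + 1))
      (IsScalarTower.toAlgHom k (MvPolynomial (Fin n) k) (InvFld.Fld (Fin n) k))
    exact congrArg (fun φ : MvPolynomial (Fin n) k →ₐ[k] InvFld.Fld (Fin n) k => φ q) this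
  rw [h2]
  apply IntermediateField.algebra_adjoin_le_adjoin
  rw [Algebra.adjoin_range_eq_range_aeval]
  exact ⟨q, rfl⟩

theorem prod_rename_isSymmetric (b : MvPolynomial (Fin n) k) :
    (∏ π : Equiv.Perm (Fin n), MvPolynomial.rename π b).IsSymmetric := by
  intro ρ
  rw [map_prod]
  exact Fintype.prod_equiv (Equiv.mulLeft ρ) _ _ (by
    intro π
    rw [MvPolynomial.rename_rename]
    rfl)

theorem fixedField_eq :
    IntermediateField.adjoin k (Set.range (esym (k := k) n)) =
      IntermediateField.fixedField (P (k := k) n).range := by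
  classical
  apply le_antisymm
  · rw [IntermediateField.adjoin_le_iff]
    rintro _ ⟨i, rfl⟩
    rw [SetLike.mem_coe, IntermediateField.mem_fixedField_iff]
    rintro _ ⟨π, rfl⟩
    rw [P_apply, esym, P0_algebraMap, MvPolynomial.rename_esymm]
  · intro z hz
    rw [IntermediateField.mem_fixedField_iff] at hz
    obtain ⟨a, b, hb, rfl⟩ := IsFractionRing.div_surjective (MvPolynomial (Fin n) k) z
    have hb0 : b ≠ 0 := nonZeroDivisors.ne_zero hb
    set c : MvPolynomial (Fin n) k :=
      ∏ π ∈ (Finset.univ : Finset (Equiv.Perm (Fin n))).erase 1, MvPolynomial.rename π b with hc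
    set Q : MvPolynomial (Fin n) k := ∏ π : Equiv.Perm (Fin n), MvPolynomial.rename π b with hQ
    have hbc : b * c = Q := by
      rw [hc, hQ, ← Finset.mul_prod_erase Finset.univ _ (Finset.mem_univ (1 : Equiv.Perm (Fin n)))]
      congr 1
      exact (MvPolynomial.rename_id_apply b).symm
    have hc0 : c ≠ 0 := by
      rw [hc, Finset.prod_ne_zero_iff]
      intro π _
      exact (map_ne_zero_iff _ (MvPolynomial.rename_injective _ π.injective)).mpr hb0
    have hinj := IsFractionRing.injective (MvPolynomial (Fin n) k) (InvFld.Fld (Fin n) k)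
    have hQ0 : algebraMap (MvPolynomial (Fin n) k) (InvFld.Fld (Fin n) k) Q ≠ 0 := by
      rw [← hbc]
      exact (map_ne_zero_iff _ hinj).mpr (mul_ne_zero hb0 hc0)
    have hzeq : algebraMap (MvPolynomial (Fin n) k) (InvFld.Fld (Fin n) k) a /
        algebraMap (MvPolynomial (Fin n) k) (InvFld.Fld (Fin n) k) b =
          algebraMap (MvPolynomial (Fin n) k) (InvFld.Fld (Fin n) k) (a * c) /
            algebraMap (MvPolynomial (Fin n) k) (InvFld.Fld (Fin n) k) Q := by
      rw [← hbc, map_mul, map_mul, mul_div_mul_right]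
      exact (map_ne_zero_iff _ hinj).mpr hc0
    have hQsym : Q.IsSymmetric := prod_rename_isSymmetric n b
    have hNsym : (a * c).IsSymmetric := by
      intro ρ
      apply hinj
      have h1 : algebraMap (MvPolynomial (Fin n) k) (InvFld.Fld (Fin n) k) (a * c) =
          (algebraMap (MvPolynomial (Fin n) k) (InvFld.Fld (Fin n) k) a /
            algebraMap (MvPolynomial (Fin n) k) (InvFld.Fld (Fin n) k) b) *
              algebraMap (MvPolynomial (Fin n) k) (InvFld.Fld (Fin n) k) Q := by
        rw [hzeq, div_mul_cancel₀ _ hQ0]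
      rw [← P0_algebraMap, h1, map_mul, P0_algebraMap, hQsym ρ]
      congr 1
      exact hz (P n ρ) ⟨ρ, rfl⟩
    rw [hzeq]
    exact div_mem (algebraMap_mem_adjoin_esym n _ hNsym) (algebraMap_mem_adjoin_esym n _ hQsym)


/-- A rational function field over a finitely generated field is finitely generated by the
variables and the generators of the base. -/
theorem gen_tower {A : Type*} [Field A] [Algebra k A] {ι ι' : Type*} (u' : ι' → A)
    (hu : IntermediateField.adjoin k (Set.range u') = ⊤) :
    IntermediateField.adjoin k (Set.range (Sum.elim (fun i : ι => (InvFld.X i : InvFld.Fld ι A))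
      (fun j => algebraMap A (InvFld.Fld ι A) (u' j)))) = ⊤ := by
  rw [eq_top_iff]
  intro z _
  set T := IntermediateField.adjoin k (Set.range (Sum.elim
    (fun i : ι => (InvFld.X i : InvFld.Fld ι A))
    (fun j => algebraMap A (InvFld.Fld ι A) (u' j)))) with hT
  have hA : ∀ a : A, algebraMap A (InvFld.Fld ι A) a ∈ T := by
    have h1 : IntermediateField.adjoin k (Set.range u') ≤
        T.comap (IsScalarTower.toAlgHom k A (InvFld.Fld ι A)) := by
      rw [IntermediateField.adjoin_le_iff]
      rintro _ ⟨j, rfl⟩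
      exact IntermediateField.subset_adjoin _ _ ⟨Sum.inr j, rfl⟩
    intro a
    have : a ∈ IntermediateField.adjoin k (Set.range u') := by rw [hu]; exact IntermediateField.mem_top
    exact h1 this
  have hpoly : ∀ p : MvPolynomial ι A, algebraMap (MvPolynomial ι A) (InvFld.Fld ι A) p ∈ T := by
    intro p
    induction p using MvPolynomial.induction_on with
    | C a =>
      have : algebraMap (MvPolynomial ι A) (InvFld.Fld ι A) (MvPolynomial.C a) =
          algebraMap A (InvFld.Fld ι A) a := by
        rw [← MvPolynomial.algebraMap_eq, ← IsScalarTower.algebraMap_apply]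
      rw [this]
      exact hA a
    | add p q hp hq => rw [map_add]; exact add_mem hp hq
    | mul_X p i hp =>
      rw [map_mul]
      exact mul_mem hp (IntermediateField.subset_adjoin _ _ ⟨Sum.inl i, rfl⟩)
  obtain ⟨a, b, -, rfl⟩ := IsFractionRing.div_surjective (MvPolynomial ι A) z
  exact div_mem (hpoly a) (hpoly b)

/-- The field of invariants of a faithful linear representation of `S_n` is stably pure. -/
theorem stablyPure {n m : ℕ}
    (G : Subgroup (InvFld.Fld (Fin m) k ≃ₐ[k] InvFld.Fld (Fin m) k)) [Finite G]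
    (e : G ≃* Equiv.Perm (Fin n))
    (hG : ∀ σ ∈ G, ∀ i : Fin m, σ (InvFld.X i) ∈
      Submodule.span k (Set.range fun j : Fin m => (InvFld.X j : InvFld.Fld (Fin m) k))) :
    ∃ (r N : ℕ) (t : Fin N → InvFld.Fld (Fin r) (IntermediateField.fixedField G)),
      AlgebraicIndependent k t ∧ IntermediateField.adjoin k (Set.range t) = ⊤ := by
  set H : Subgroup (InvFld.Fld (Fin n) k ≃ₐ[k] InvFld.Fld (Fin n) k) := (P (k := k) n).range with hH
  have e' : Equiv.Perm (Fin n) ≃* H := MonoidHom.ofInjective (P_injective n)
  have hHlin : ∀ τ ∈ H, ∀ i : Fin n, τ (InvFld.X i) ∈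
      Submodule.span k (Set.range fun j : Fin n => (InvFld.X j : InvFld.Fld (Fin n) k)) := by
    rintro _ ⟨π, rfl⟩ i
    rw [P_apply, P0_X]
    exact Submodule.subset_span ⟨π i, rfl⟩
  obtain ⟨r, s, ⟨Φ⟩⟩ := stable_equiv G H (e.trans e') hG hHlin
  have hK : IntermediateField.fixedField H = IntermediateField.adjoin k (Set.range (esym (k := k) n)) :=
    (fixedField_eq n).symm
  have hmem : ∀ i : Fin n, esym (k := k) n i ∈ IntermediateField.fixedField H := by
    intro i
    rw [hK]
    exact IntermediateField.subset_adjoin _ _ ⟨i, rfl⟩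
  set u' : Fin n → ↥(IntermediateField.fixedField H) := fun i => ⟨esym n i, hmem i⟩ with hu'
  have hu'ai : AlgebraicIndependent k u' :=
    AlgebraicIndependent.of_comp (IntermediateField.fixedField H).val (esym_ai n)
  have hu'gen : IntermediateField.adjoin k (Set.range u') = ⊤ := by
    apply IntermediateField.map_injective (IntermediateField.fixedField H).val
    rw [IntermediateField.adjoin_map, ← AlgHom.fieldRange_eq_map, IntermediateField.fieldRange_val,
      ← Set.range_comp]
    exact hK.symm
  set t0 : Fin s ⊕ Fin n → InvFld.Fld (Fin s) ↥(IntermediateField.fixedField H) :=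
    Sum.elim (fun i : Fin s => (InvFld.X i : InvFld.Fld (Fin s) ↥(IntermediateField.fixedField H)))
      (fun j => algebraMap ↥(IntermediateField.fixedField H)
        (InvFld.Fld (Fin s) ↥(IntermediateField.fixedField H)) (u' j)) with ht0
  have ht0ai : AlgebraicIndependent k t0 :=
    AlgebraicIndependent.sumElim_comp hu'ai
      (algebraicIndependent_X ↥(IntermediateField.fixedField H) (Fin s))
  have ht0gen : IntermediateField.adjoin k (Set.range t0) = ⊤ := gen_tower u' hu'gen
  refine ⟨r, s + n, fun i => Φ.symm (t0 (finSumFinEquiv.symm i)), ?_, ?_⟩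
  · have h1 := ht0ai.comp (fun i : Fin (s + n) => finSumFinEquiv.symm i) finSumFinEquiv.symm.injective
    exact h1.map' (f := (Φ.symm : InvFld.Fld (Fin s) ↥(IntermediateField.fixedField H) →ₐ[k]
      InvFld.Fld (Fin r) ↥(IntermediateField.fixedField G))) Φ.symm.injective
  · have h1 : Set.range (fun i : Fin (s + n) => Φ.symm (t0 (finSumFinEquiv.symm i))) =
        (Φ.symm : InvFld.Fld (Fin s) ↥(IntermediateField.fixedField H) →ₐ[k]
          InvFld.Fld (Fin r) ↥(IntermediateField.fixedField G)) '' Set.range t0 := by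
      ext w
      constructor
      · rintro ⟨i, rfl⟩
        exact ⟨_, ⟨_, rfl⟩, rfl⟩
      · rintro ⟨_, ⟨j, rfl⟩, rfl⟩
        exact ⟨finSumFinEquiv j, by simp⟩
    rw [h1, ← IntermediateField.adjoin_map, ht0gen, ← AlgHom.fieldRange_eq_map,
      AlgHom.fieldRange_eq_top]
    exact Φ.symm.surjective

end Groth.Agent.Lib.Helper1.InvFldSym
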