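import Mathlib
import Groth.Prelude.Def_KZero
import Groth.Agent.Lib.Helper62.K0Derived

/-!
# helper1 for helper53 (S1029): K0tr transports along a fully faithful triangulated functor
-/

set_option autoImplicit false
universe u v₁ v₂ u₁ u₂
open CategoryTheory CategoryTheory.Limits Pretriangulated
open Groth.Agent.Lib.Helper62.K0D

namespace Groth.Agent.Lib.Helper1.K0TrK1

open ZeroObject in
theorem exists_k0tr_equiv {D : Type u₁} [Category.{v₁} D] [Preadditive D] [HasZeroObject D]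
    [HasShift D ℤ] [∀ n : ℤ, (shiftFunctor D n).Additive] [Pretriangulated D]
    {D' : Type u₂} [Category.{v₂} D'] [Preadditive D'] [HasZeroObject D'] [HasShift D' ℤ]
    [∀ n : ℤ, (shiftFunctor D' n).Additive] [Pretriangulated D']
    (Φ : D ⥤ D') [Φ.CommShift ℤ] [Φ.IsTriangulated] [Φ.Full] [Φ.Faithful]
    (P : ObjectProperty D) (P' : ObjectProperty D')
    (hP : ∀ K : D, P K ↔ P' (Φ.obj K))
    (hiso : ∀ {K' L' : D'}, (K' ≅ L') → P' K' → P' L')
    (hess : ∀ K' : D', P' K' → ∃ K : D, Nonempty (Φ.obj K ≅ K'))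
    (h0 : P' (0 : D')) :
    ∃ ψ : KZero.K0tr P ≃+ KZero.K0tr P',
      ∀ K : D, P K → ψ (KZero.clTr P K) = KZero.clTr P' (Φ.obj K) := by
  classical
  have hP0 : P (0 : D) := (hP _).mpr (hiso Φ.mapZeroObject.symm h0)
  -- forward
  let fwd₀ : FreeAbelianGroup (Subtype P) →+ KZero.K0tr P' :=
    FreeAbelianGroup.lift (fun K => KZero.clTr P' (Φ.obj K.1))
  have hfwd : KZero.relTr P ≤ fwd₀.ker := by
    refine (AddSubgroup.closure_le _).mpr ?_
    rintro x ⟨T, h₁, h₂, h₃, hT, rfl⟩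
    change fwd₀ _ = 0
    rw [map_sub, map_sub]
    simp only [fwd₀, FreeAbelianGroup.lift_apply_of]
    have := clTr_triangle P' _ (Φ.map_distinguished T hT) ((hP _).mp h₁) ((hP _).mp h₂)
      ((hP _).mp h₃)
    change KZero.clTr P' (Φ.obj T.obj₂) = KZero.clTr P' (Φ.obj T.obj₁) +
      KZero.clTr P' (Φ.obj T.obj₃) at this
    rw [this]
    abel
  let fwd : KZero.K0tr P →+ KZero.K0tr P' := QuotientAddGroup.lift (KZero.relTr P) fwd₀ hfwd
  -- backward
  let G : Subtype P' → D := fun K' => (hess K'.1 K'.2).choose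
  have eG : ∀ K' : Subtype P', Φ.obj (G K') ≅ K'.1 := fun K' =>
    (hess K'.1 K'.2).choose_spec.some
  have hG : ∀ K' : Subtype P', P (G K') := fun K' => (hP _).mpr (hiso (eG K').symm K'.2)
  let bwd₀ : FreeAbelianGroup (Subtype P') →+ KZero.K0tr P :=
    FreeAbelianGroup.lift (fun K' => KZero.clTr P (G K'))
  have hbwd : KZero.relTr P' ≤ bwd₀.ker := by
    refine (AddSubgroup.closure_le _).mpr ?_
    rintro x ⟨T', h₁, h₂, h₃, hT', rfl⟩
    change bwd₀ _ = 0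
    rw [map_sub, map_sub]
    simp only [bwd₀, FreeAbelianGroup.lift_apply_of]
    let f : G ⟨T'.obj₁, h₁⟩ ⟶ G ⟨T'.obj₂, h₂⟩ :=
      Φ.preimage ((eG ⟨T'.obj₁, h₁⟩).hom ≫ T'.mor₁ ≫ (eG ⟨T'.obj₂, h₂⟩).inv)
    obtain ⟨C, g, h, hT⟩ := distinguished_cocone_triangle f
    have hΦT := Φ.map_distinguished _ hT
    let iso := isoTriangleOfIso₁₂ _ _ hΦT hT' (eG ⟨T'.obj₁, h₁⟩) (eG ⟨T'.obj₂, h₂⟩) (by
      change Φ.map f ≫ (eG ⟨T'.obj₂, h₂⟩).hom = (eG ⟨T'.obj₁, h₁⟩).hom ≫ T'.mor₁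
      rw [Functor.map_preimage, Category.assoc, Category.assoc, Iso.inv_hom_id, Category.comp_id])
    let e₃' : Φ.obj C ≅ T'.obj₃ := Triangle.π₃.mapIso iso
    have hC : P C := (hP _).mpr (hiso e₃'.symm h₃)
    have eC : C ≅ G ⟨T'.obj₃, h₃⟩ := Φ.preimageIso (e₃' ≪≫ (eG ⟨T'.obj₃, h₃⟩).symm)
    have h1 := clTr_triangle P _ hT (hG _) (hG _) hC
    change KZero.clTr P (G ⟨T'.obj₂, h₂⟩) = KZero.clTr P (G ⟨T'.obj₁, h₁⟩) + KZero.clTr P C at h1
    rw [h1, clTr_iso P hP0 eC hC (hG _)]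
    abel
  let bwd : KZero.K0tr P' →+ KZero.K0tr P := QuotientAddGroup.lift (KZero.relTr P') bwd₀ hbwd
  -- values on generators
  have hfwd_mk : ∀ K : Subtype P, fwd (QuotientAddGroup.mk (FreeAbelianGroup.of K)) =
      KZero.clTr P' (Φ.obj K.1) := by
    intro K
    simp [fwd, fwd₀, FreeAbelianGroup.lift_apply_of]
  have hbwd_mk : ∀ K' : Subtype P', bwd (QuotientAddGroup.mk (FreeAbelianGroup.of K')) =
      KZero.clTr P (G K') := by
    intro K'
    simp [bwd, bwd₀, FreeAbelianGroup.lift_apply_of]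
  have h₁ : bwd.comp fwd = AddMonoidHom.id _ := by
    refine QuotientAddGroup.addMonoidHom_ext _ (FreeAbelianGroup.lift_ext _ _ (fun K => ?_))
    change bwd (fwd (QuotientAddGroup.mk (FreeAbelianGroup.of K))) =
      QuotientAddGroup.mk (FreeAbelianGroup.of K)
    rw [hfwd_mk, clTr_eq P' ((hP _).mp K.2), hbwd_mk, ← clTr_eq P K.2]
    exact clTr_iso P hP0 (Φ.preimageIso (eG ⟨Φ.obj K.1, (hP _).mp K.2⟩)) (hG _) K.2
  have h₂ : fwd.comp bwd = AddMonoidHom.id _ := by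
    refine QuotientAddGroup.addMonoidHom_ext _ (FreeAbelianGroup.lift_ext _ _ (fun K' => ?_))
    change fwd (bwd (QuotientAddGroup.mk (FreeAbelianGroup.of K'))) =
      QuotientAddGroup.mk (FreeAbelianGroup.of K')
    rw [hbwd_mk, clTr_eq P (hG K'), hfwd_mk, ← clTr_eq P' K'.2]
    exact clTr_iso P' h0 (eG K') ((hP _).mp (hG K')) K'.2
  refine ⟨AddMonoidHom.toAddEquiv fwd bwd h₁ h₂, fun K hK => ?_⟩
  change fwd (KZero.clTr P K) = _
  rw [clTr_eq P hK, hfwd_mk]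

end Groth.Agent.Lib.Helper1.K0TrK1
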