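import Groth.Agent.Lib.Helper1.CSAWedderburn
import Groth.Agent.Lib.Helper1.CSABrauer
import Groth.Agent.Lib.Helper1.CSASplitBasic
import Mathlib.RingTheory.LaurentSeries
import Mathlib.RingTheory.SimpleRing.Matrix

/-!
# A central simple algebra split by `k((t))` is split
-/

set_option autoImplicit false
universe u v
open scoped TensorProduct

namespace Groth.Agent.Lib.Helper1.Factor

section hahn

variable {Γ : Type*} [AddCommMonoid Γ] [PartialOrder Γ] [IsOrderedCancelAddMonoid Γ]
  {R S : Type*} [Semiring R] [Semiring S]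

/-- coefficientwise ring homomorphism of Hahn series -/
noncomputable def hahnMap (f : R →+* S) : HahnSeries Γ R →+* HahnSeries Γ S where
  toFun x := x.map f
  map_one' := HahnSeries.map_one f.toMonoidWithZeroHom
  map_mul' x y := HahnSeries.map_mul f.toNonUnitalRingHom
  map_zero' := HahnSeries.map_zero f.toAddMonoidHom.toZeroHom
  map_add' x y := HahnSeries.map_add f.toAddMonoidHom

theorem hahnMap_coeff (f : R →+* S) (x : HahnSeries Γ R) (a : Γ) :
    (hahnMap f x).coeff a = f (x.coeff a) := rfl

end hahn

section zeroDiv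

variable {k : Type u} [Field k] (D : Type v) [DivisionRing D] [Algebra k D]
  [Algebra.IsCentral k D] [FiniteDimensional k D]

/-- if `L` splits the central division algebra `D` and `L ⊗ D` maps to a nontrivial ring
without zero divisors, then `D = k` -/
theorem finrank_eq_one_of_splits_of_ringHom (L : Type*) [Field L] [Algebra k L]
    (hs : Curves.Splits k D L) (T : Type*) [Ring T] [Nontrivial T] [NoZeroDivisors T]
    (Ψ : L ⊗[k] D →+* T) : Module.finrank k D = 1 := by
  classical
  obtain ⟨n, hn, ⟨φ⟩⟩ := hs
  have hn1 : n = 1 := by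
    by_contra hne
    have hn2 : 2 ≤ n := by omega
    let Ψ' : Matrix (Fin n) (Fin n) L →+* T := Ψ.comp φ.symm.toRingEquiv.toRingHom
    have : Nonempty (Fin n) := ⟨⟨0, by omega⟩⟩
    have hinj : Function.Injective Ψ' := RingHom.injective Ψ'
    let i0 : Fin n := ⟨0, by omega⟩
    let i1 : Fin n := ⟨1, by omega⟩
    have hne01 : i0 ≠ i1 := by
      intro h
      have := congrArg Fin.val h
      simp [i0, i1] at this
    have hmul : Matrix.single i0 i0 (1 : L) * Matrix.single i1 i1 (1 : L) = 0 :=
      Matrix.single_mul_single_of_ne (1 : L) i0 i0 i1 hne01 (1 : L)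
    have h0 : Ψ' (Matrix.single i0 i0 (1 : L)) * Ψ' (Matrix.single i1 i1 (1 : L)) = 0 := by
      rw [← map_mul, hmul, map_zero]
    have hnz : ∀ i : Fin n, Matrix.single i i (1 : L) ≠ 0 := by
      intro i h
      have := congrFun (congrFun h i) i
      simp at this
    rcases mul_eq_zero.mp h0 with h | h
    · exact hnz i0 (hinj (h.trans (map_zero Ψ').symm))
    · exact hnz i1 (hinj (h.trans (map_zero Ψ').symm))
  subst hn1
  have h1 := φ.toLinearEquiv.finrank_eq
  rw [Module.finrank_baseChange, Module.finrank_matrix] at h1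
  simpa using h1

end zeroDiv

section laurent

variable (k : Type u) [Field k] (A : Type v) [Ring A] [Algebra k A] [Algebra.IsCentral k A]
  [IsSimpleRing A] [FiniteDimensional k A]

/-- the ring homomorphism `L ⊗ D → D((t))` for a `k`-algebra `L` inside `k((t))` -/
noncomputable def laurentTensorHom (L : Type*) [Field L] [Algebra k L]
    (j : L →+* HahnSeries ℤ k) (hj : ∀ c : k, j (algebraMap k L c) = HahnSeries.C c)
    (D : Type v) [Ring D] [Algebra k D] :
    L ⊗[k] D →ₐ[k] HahnSeries ℤ D :=
  Algebra.TensorProduct.lift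
    ({ (hahnMap (Γ := ℤ) (algebraMap k D)).comp j with
        commutes' := fun c => by
          change (hahnMap (Γ := ℤ) (algebraMap k D)) (j (algebraMap k L c)) =
            HahnSeries.C (algebraMap k D c)
          rw [hj]
          exact HahnSeries.map_C c (algebraMap k D) } : L →ₐ[k] HahnSeries ℤ D)
    ({ (HahnSeries.C : D →+* HahnSeries ℤ D) with
        commutes' := fun c => rfl } : D →ₐ[k] HahnSeries ℤ D)
    (fun x d => by
      change hahnMap (Γ := ℤ) (algebraMap k D) (j x) * HahnSeries.single 0 d =
        HahnSeries.single 0 d * hahnMap (Γ := ℤ) (algebraMap k D) (j x)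
      ext a
      rw [HahnSeries.coeff_mul_single_zero, HahnSeries.coeff_single_zero_mul, hahnMap_coeff]
      exact Algebra.commutes _ _)

/-- a central simple algebra split by a subfield of `k((t))` (e.g. `k((t))` itself) is split -/
theorem splits_of_splits_laurent (L : Type*) [Field L] [Algebra k L]
    (j : L →+* HahnSeries ℤ k) (hj : ∀ c : k, j (algebraMap k L c) = HahnSeries.C c)
    (h : Curves.Splits k A L) :
    Curves.Splits k A k := by
  obtain ⟨r, hr, D, hD, hDA, hDfin, hDc, ⟨e⟩⟩ :=
    CSA.exists_algEquiv_matrix_central_division k A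
  have hsD : Curves.Splits k D L :=
    CSA.Splits.of_matrix r (NeZero.ne r) (CSA.Splits.of_algEquiv e h)
  have h1 : Module.finrank k D = 1 :=
    finrank_eq_one_of_splits_of_ringHom D L hsD (HahnSeries ℤ D)
      (laurentTensorHom k L j hj D).toRingHom
  have hbij : Function.Bijective (Algebra.ofId k D) := by
    have hinj : Function.Injective (Algebra.ofId k D) := (algebraMap k D).injective
    refine ⟨hinj, ?_⟩
    have h4 : Module.finrank k k = Module.finrank k D := by rw [h1, Module.finrank_self]
    exact (LinearMap.injective_iff_surjective_of_finrank_eq_finrank h4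
      (f := (Algebra.ofId k D).toLinearMap)).mp hinj
  let θ : k ≃ₐ[k] D := AlgEquiv.ofBijective (Algebra.ofId k D) hbij
  exact ⟨r, NeZero.ne r, ⟨(Algebra.TensorProduct.lid k A).trans
    (e.trans (θ.symm.mapMatrix (m := Fin r)))⟩⟩

end laurent

end Groth.Agent.Lib.Helper1.Factor
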