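import Mathlib

/-!
# helper1 for helper78 (S5340): local descent of "locally of finite type" along a field extension
-/

set_option autoImplicit false
universe u
open CategoryTheory CategoryTheory.Limits AlgebraicGeometry

namespace Groth.Agent.Lib.Helper1.LftK1

open TensorProduct in
/-- The pure commutative-algebra core (sub-call RC). -/
def RingCore : Prop :=
  ∀ (k K B : Type u) [Field k] [Field K] [CommRing B] [Algebra k K] [Algebra k B]
    (f' : K ⊗[k] B) (_ : Algebra.FiniteType K (Localization.Away f'))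
    (q' : Ideal (K ⊗[k] B)) [q'.IsPrime] (_ : f' ∉ q'),
    ∃ g : B, (1 : K) ⊗ₜ[k] g ∉ q' ∧ Algebra.FiniteType k (Localization.Away g)

open TensorProduct in
theorem exists_lft_nbhd_of_baseChange_of_ringCore (ring_core : RingCore.{u})
    (k K : Type u) [Field k] [Field K]
    (j : Spec (CommRingCat.of K) ⟶ Spec (CommRingCat.of k)) {X : Scheme.{u}}
    (f : X ⟶ Spec (CommRingCat.of k)) (V : (pullback f j).Opens)
    [LocallyOfFiniteType (V.ι ≫ pullback.snd f j)] (x' : ↥(pullback f j)) (hx' : x' ∈ V) :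
    ∃ U : X.Opens, pullback.fst f j x' ∈ U ∧ LocallyOfFiniteType (U.ι ≫ f) := by
  obtain ⟨U₀, hU₀, hxU₀, -⟩ :=
    exists_isAffineOpen_mem_and_subset (x := pullback.fst f j x') (U := (⊤ : X.Opens)) trivial
  -- algebra structures
  let φ : k →+* K := (Spec.preimage j).hom
  let ψ : k →+* Γ(X, U₀) := (Spec.preimage (hU₀.fromSpec ≫ f)).hom
  let _ : Algebra k K := φ.toAlgebra
  let _ : Algebra k Γ(X, U₀) := ψ.toAlgebra
  have hφ : Spec.map (CommRingCat.ofHom (algebraMap k K)) = j := Spec.map_preimage j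
  have hψ : Spec.map (CommRingCat.ofHom (algebraMap k Γ(X, U₀))) = hU₀.fromSpec ≫ f :=
    Spec.map_preimage (hU₀.fromSpec ≫ f)
  -- the open immersion `Spec (K ⊗ B) ⟶ pullback f j`
  let ι' : Spec (CommRingCat.of (K ⊗[k] Γ(X, U₀))) ⟶ pullback f j :=
    (pullbackSpecIso k K Γ(X, U₀)).inv ≫
      pullback.map _ _ j f (𝟙 _) hU₀.fromSpec (𝟙 _)
        (by rw [Category.comp_id, Category.id_comp, hφ])
        (by rw [Category.comp_id, hψ]) ≫
      (pullbackSymmetry j f).hom
  have hι'fst : ι' ≫ pullback.fst f j =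
      Spec.map (CommRingCat.ofHom
        (Algebra.TensorProduct.includeRight (R := k) (A := K) (B := Γ(X, U₀))).toRingHom) ≫
        hU₀.fromSpec := by
    simp only [ι', Category.assoc, pullbackSymmetry_hom_comp_fst, pullback.lift_snd,
      pullback.map]
    rw [pullbackSpecIso_inv_snd_assoc]
    rfl
  have hι'snd : ι' ≫ pullback.snd f j =
      Spec.map (CommRingCat.ofHom (algebraMap K (K ⊗[k] Γ(X, U₀)))) := by
    simp only [ι', Category.assoc, pullbackSymmetry_hom_comp_snd, pullback.lift_fst,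
      pullback.map, Category.comp_id]
    exact pullbackSpecIso_inv_fst' ..
  have hopen : IsOpenImmersion ι' := by
    simp only [ι']
    infer_instance
  -- `x'` is in the range of `ι'`
  obtain ⟨y', hy'⟩ : ∃ y', ι' y' = x' := by
    have h1 : (pullbackSymmetry j f).inv x' ∈ Set.range (pullback.map
        (Spec.map (CommRingCat.ofHom (algebraMap k K)))
        (Spec.map (CommRingCat.ofHom (algebraMap k Γ(X, U₀)))) j f (𝟙 _) hU₀.fromSpec (𝟙 _)
        (by rw [Category.comp_id, Category.id_comp, hφ])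
        (by rw [Category.comp_id, hψ])) := by
      rw [Scheme.Pullback.range_map]
      refine ⟨⟨_, rfl⟩, ?_⟩
      rw [Set.mem_preimage, hU₀.range_fromSpec, ← Scheme.Hom.comp_apply,
        pullbackSymmetry_inv_comp_snd]
      exact hxU₀
    obtain ⟨t, ht⟩ := h1
    refine ⟨(pullbackSpecIso k K Γ(X, U₀)).hom t, ?_⟩
    simp only [ι']
    rw [← Scheme.Hom.comp_apply, Iso.hom_inv_id_assoc, Scheme.Hom.comp_apply, ht,
      ← Scheme.Hom.comp_apply, Iso.inv_hom_id]
    rfl
  -- the open `V' = ι'⁻¹ V`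
  have hy'V : y' ∈ ι' ⁻¹ᵁ V := by
    change ι' y' ∈ V
    rw [hy']; exact hx'
  have hV'lft : LocallyOfFiniteType ((ι' ⁻¹ᵁ V).ι ≫
      Spec.map (CommRingCat.ofHom (algebraMap K (K ⊗[k] Γ(X, U₀))))) := by
    rw [← hι'snd, ← Category.assoc, ← morphismRestrict_ι, Category.assoc]
    infer_instance
  -- a basic open
  obtain ⟨_, ⟨f', rfl⟩, hy'f', hf'V⟩ :=
    PrimeSpectrum.isTopologicalBasis_basic_opens.isOpen_iff.mp (ι' ⁻¹ᵁ V).2 y' hy'V
  have hft : Algebra.FiniteType K (Localization.Away f') := by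
    rw [← RingHom.finiteType_algebraMap]
    have hr : Set.range (Spec.map (CommRingCat.ofHom
        (algebraMap (K ⊗[k] Γ(X, U₀)) (Localization.Away f')))) ⊆
        Set.range (ι' ⁻¹ᵁ V).ι := by
      rw [Scheme.Opens.range_ι]
      refine subset_trans (le_of_eq ?_) hf'V
      exact PrimeSpectrum.localization_away_comap_range (Localization.Away f') f'
    let l := IsOpenImmersion.lift (ι' ⁻¹ᵁ V).ι (Spec.map (CommRingCat.ofHom
        (algebraMap (K ⊗[k] Γ(X, U₀)) (Localization.Away f')))) hr
    have hl : l ≫ (ι' ⁻¹ᵁ V).ι = Spec.map (CommRingCat.ofHom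
        (algebraMap (K ⊗[k] Γ(X, U₀)) (Localization.Away f'))) := IsOpenImmersion.lift_fac _ _ _
    have hlo : IsOpenImmersion l := by
      have : IsOpenImmersion (l ≫ (ι' ⁻¹ᵁ V).ι) := by rw [hl]; infer_instance
      exact IsOpenImmersion.of_comp l (ι' ⁻¹ᵁ V).ι
    have h2 : LocallyOfFiniteType (Spec.map (CommRingCat.ofHom
        (algebraMap K (Localization.Away f')))) := by
      have e : Spec.map (CommRingCat.ofHom (algebraMap K (Localization.Away f'))) =
          l ≫ ((ι' ⁻¹ᵁ V).ι ≫
            Spec.map (CommRingCat.ofHom (algebraMap K (K ⊗[k] Γ(X, U₀))))) := by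
        rw [← Category.assoc, hl, ← Spec.map_comp, ← CommRingCat.ofHom_comp,
          ← IsScalarTower.algebraMap_eq]
      rw [e]
      infer_instance
    exact (HasRingHomProperty.Spec_iff (P := @LocallyOfFiniteType)).mp h2
  -- apply the ring core
  have hprime : y'.asIdeal.IsPrime := y'.isPrime
  obtain ⟨g, hg1, hg2⟩ := ring_core k K Γ(X, U₀) f' hft y'.asIdeal hy'f'
  let ω : Spec (CommRingCat.of (Localization.Away g)) ⟶ X :=
    Spec.map (CommRingCat.ofHom (algebraMap Γ(X, U₀) (Localization.Away g))) ≫ hU₀.fromSpec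
  refine ⟨ω.opensRange, ?_, ?_⟩
  · -- membership
    have hy1 : (Spec.map (CommRingCat.ofHom
        (Algebra.TensorProduct.includeRight (R := k) (A := K) (B := Γ(X, U₀))).toRingHom)) y' ∈
        Set.range (Spec.map (CommRingCat.ofHom
          (algebraMap Γ(X, U₀) (Localization.Away g)))) := by
      have := PrimeSpectrum.localization_away_comap_range (Localization.Away g) g
      change _ ∈ Set.range (PrimeSpectrum.comap (algebraMap Γ(X, U₀) (Localization.Away g)))
      rw [this]
      exact hg1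
    obtain ⟨z, hz⟩ := hy1
    refine ⟨z, ?_⟩
    change (Spec.map _ ≫ hU₀.fromSpec) z = _
    rw [Scheme.Hom.comp_apply, hz, ← Scheme.Hom.comp_apply, ← hι'fst, Scheme.Hom.comp_apply, hy']
  · -- finite type
    have h3 : LocallyOfFiniteType (ω ≫ f) := by
      have e : ω ≫ f = Spec.map (CommRingCat.ofHom (algebraMap k (Localization.Away g))) := by
        simp only [ω, Category.assoc]
        rw [← hψ, ← Spec.map_comp, ← CommRingCat.ofHom_comp, ← IsScalarTower.algebraMap_eq]
      rw [e, HasRingHomProperty.Spec_iff (P := @LocallyOfFiniteType)]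
      exact RingHom.finiteType_algebraMap.mpr hg2
    have e2 : ω.opensRange.ι ≫ f = ω.isoOpensRange.inv ≫ ω ≫ f := by
      rw [← Category.assoc, Scheme.Hom.isoOpensRange_inv_comp]
    rw [e2]
    infer_instance

end Groth.Agent.Lib.Helper1.LftK1
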