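import Mathlib

/-!
# helper1: ring core (RC) for K1 of S5340
-/

set_option autoImplicit false
universe u
open TensorProduct

namespace Groth.Agent.Lib.Helper1.LftRC

section coord
variable {k K : Type u} [Field k] [Field K] [Algebra k K]
variable {I : Type u} [DecidableEq I] (e : Module.Basis I k K)

lemma co_map {M M' : Type u} [AddCommGroup M] [Module k M] [AddCommGroup M'] [Module k M']
    (φ : M →ₗ[k] M') (t : K ⊗[k] M) (i : I) :
    TensorProduct.equivFinsuppOfBasisLeft e (LinearMap.lTensor K φ t) i =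
      φ (TensorProduct.equivFinsuppOfBasisLeft e t i) := by
  induction t using TensorProduct.induction_on with
  | zero => simp
  | tmul x m => simp [TensorProduct.equivFinsuppOfBasisLeft_apply_tmul_apply]
  | add a b ha hb => simp [ha, hb]

lemma co_mul {B : Type u} [CommRing B] [Algebra k B] (t : K ⊗[k] B) (b : B) (i : I) :
    TensorProduct.equivFinsuppOfBasisLeft e (t * ((1 : K) ⊗ₜ[k] b)) i =
      TensorProduct.equivFinsuppOfBasisLeft e t i * b := by
  induction t using TensorProduct.induction_on with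
  | zero => simp
  | tmul x m =>
    simp [Algebra.TensorProduct.tmul_mul_tmul,
      TensorProduct.equivFinsuppOfBasisLeft_apply_tmul_apply, smul_mul_assoc]
  | add a c ha hc => simp [add_mul, ha, hc]

lemma map_eq_lTensor {B : Type u} [CommRing B] [Algebra k B] (B₀ : Subalgebra k B)
    (s : K ⊗[k] B₀) :
    (Algebra.TensorProduct.map (AlgHom.id K K) B₀.val) s =
      LinearMap.lTensor K B₀.val.toLinearMap s := by
  induction s using TensorProduct.induction_on with
  | zero => simp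
  | tmul x m => simp
  | add a c ha hc => simp [ha, hc]

lemma mem_baseChange_iff {B : Type u} [CommRing B] [Algebra k B] (B₀ : Subalgebra k B)
    (t : K ⊗[k] B) :
    t ∈ B₀.baseChange K ↔ ∀ i, TensorProduct.equivFinsuppOfBasisLeft e t i ∈ B₀ := by
  constructor
  · rintro ⟨s, rfl⟩ i
    change TensorProduct.equivFinsuppOfBasisLeft e
      ((Algebra.TensorProduct.map (AlgHom.id K K) B₀.val) s) i ∈ B₀
    rw [map_eq_lTensor, co_map]
    exact (TensorProduct.equivFinsuppOfBasisLeft e s i).2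
  · intro h
    rw [← (TensorProduct.equivFinsuppOfBasisLeft e).symm_apply_apply t,
      TensorProduct.equivFinsuppOfBasisLeft_symm_apply]
    exact Subalgebra.sum_mem _ (fun i _ => Subalgebra.tmul_mem_baseChange (h i) (e i))

end coord

section stepA
variable {k K B : Type u} [Field k] [Field K] [Algebra k K] [CommRing B] [Algebra k B]

lemma baseChange_mono {C D : Subalgebra k B} (h : C ≤ D) :
    C.baseChange K ≤ D.baseChange K := by
  classical
  intro t ht
  rw [mem_baseChange_iff (Module.Basis.ofVectorSpace k K)] at ht ⊢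
  exact fun i => h (ht i)

lemma exists_fg_finset (s : Finset (K ⊗[k] B)) :
    ∃ C : Subalgebra k B, C.FG ∧ ∀ x ∈ s, x ∈ C.baseChange K := by
  classical
  induction s using Finset.induction_on with
  | empty => exact ⟨⊥, Subalgebra.fg_bot, by simp⟩
  | insert a s _ ih =>
    obtain ⟨C, hC, h⟩ := ih
    obtain ⟨D, hD, hx⟩ := exists_fg_and_mem_baseChange a
    refine ⟨C ⊔ D, hC.sup hD, ?_⟩
    intro x hx'
    rcases Finset.mem_insert.mp hx' with rfl | hx'
    · exact baseChange_mono le_sup_right hx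
    · exact baseChange_mono le_sup_left (h x hx')

lemma stepA (f' : K ⊗[k] B) (hft : Algebra.FiniteType K (Localization.Away f')) :
    ∃ B₀ : Subalgebra k B, B₀.FG ∧ f' ∈ B₀.baseChange K ∧
      ∀ t : K ⊗[k] B, ∃ N : ℕ, f' ^ N * t ∈ B₀.baseChange K := by
  classical
  obtain ⟨s, hs⟩ := hft.out
  have hnum : ∀ x : Localization.Away f', ∃ (a : K ⊗[k] B) (n : ℕ),
      x * algebraMap (K ⊗[k] B) (Localization.Away f') (f' ^ n) =
        algebraMap (K ⊗[k] B) (Localization.Away f') a := by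
    intro x
    obtain ⟨⟨a, ⟨_, n, rfl⟩⟩, h⟩ := IsLocalization.surj (Submonoid.powers f') x
    exact ⟨a, n, h⟩
  choose num ex hnum using hnum
  obtain ⟨B₀, hB₀, hmem⟩ := exists_fg_finset (insert f' (s.image num))
  have hf : f' ∈ B₀.baseChange K := hmem _ (Finset.mem_insert_self _ _)
  refine ⟨B₀, hB₀, hf, ?_⟩
  let 𝒜 : Subalgebra K (Localization.Away f') :=
    { carrier := {x | ∃ (N : ℕ) (t₀ : K ⊗[k] B), t₀ ∈ B₀.baseChange K ∧
        algebraMap (K ⊗[k] B) (Localization.Away f') (f' ^ N) * x =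
          algebraMap (K ⊗[k] B) (Localization.Away f') t₀}
      mul_mem' := by
        rintro x y ⟨N, t₀, ht₀, h⟩ ⟨M, s₀, hs₀, h'⟩
        refine ⟨N + M, t₀ * s₀, mul_mem ht₀ hs₀, ?_⟩
        rw [pow_add, map_mul, map_mul, ← h, ← h']
        ring
      add_mem' := by
        rintro x y ⟨N, t₀, ht₀, h⟩ ⟨M, s₀, hs₀, h'⟩
        refine ⟨N + M, f' ^ M * t₀ + f' ^ N * s₀,
          add_mem (mul_mem (pow_mem hf M) ht₀) (mul_mem (pow_mem hf N) hs₀), ?_⟩
        rw [pow_add, map_mul, map_add, map_mul, map_mul, ← h, ← h']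
        ring
      algebraMap_mem' := by
        intro c
        refine ⟨0, algebraMap K (K ⊗[k] B) c, Subalgebra.algebraMap_mem _ c, ?_⟩
        rw [pow_zero, map_one, one_mul, ← IsScalarTower.algebraMap_apply] }
  have h𝒜 : (⊤ : Subalgebra K (Localization.Away f')) ≤ 𝒜 := by
    rw [← hs]
    apply Algebra.adjoin_le
    intro x hx
    exact ⟨ex x, num x,
      hmem _ (Finset.mem_insert_of_mem (Finset.mem_image_of_mem _ hx)),
      by rw [mul_comm]; exact hnum x⟩
  intro t
  obtain ⟨N, t₀, ht₀, h⟩ := h𝒜 (Algebra.mem_top :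
    algebraMap (K ⊗[k] B) (Localization.Away f') t ∈ (⊤ : Subalgebra K (Localization.Away f')))
  rw [← map_mul] at h
  obtain ⟨⟨_, M, rfl⟩, hM⟩ := (IsLocalization.eq_iff_exists (Submonoid.powers f') _).mp h
  refine ⟨M + N, ?_⟩
  rw [pow_add, mul_assoc]
  simp only at hM
  rw [hM]
  exact mul_mem (pow_mem hf M) ht₀

end stepA

section main
variable {k K : Type u} [Field k] [Field K] [Algebra k K]

lemma isOpenMap_includeRight (B₀ : Type u) [CommRing B₀] [Algebra k B₀] :
    IsOpenMap (PrimeSpectrum.comap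
      (Algebra.TensorProduct.includeRight : B₀ →ₐ[k] K ⊗[k] B₀).toRingHom) := by
  have h1 := PrimeSpectrum.isOpenMap_comap_algebraMap_tensorProduct_of_field
    (K := k) (A := B₀) (B := K)
  have h2 : (Algebra.TensorProduct.includeRight : B₀ →ₐ[k] K ⊗[k] B₀).toRingHom =
      ((Algebra.TensorProduct.comm k B₀ K).toRingEquiv.toRingHom).comp
        (algebraMap B₀ (B₀ ⊗[k] K)) := by
    ext b; simp
  rw [h2, PrimeSpectrum.comap_comp]
  exact h1.comp (PrimeSpectrum.isHomeomorph_comap_of_bijective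
    (Algebra.TensorProduct.comm k B₀ K).toRingEquiv.bijective).isOpenMap

theorem ring_core (k K B : Type u) [Field k] [Field K] [CommRing B] [Algebra k K] [Algebra k B]
    (f' : K ⊗[k] B) (hft : Algebra.FiniteType K (Localization.Away f'))
    (q' : Ideal (K ⊗[k] B)) [q'.IsPrime] (hf' : f' ∉ q') :
    ∃ g : B, (1 : K) ⊗ₜ[k] g ∉ q' ∧ Algebra.FiniteType k (Localization.Away g) := by
  classical
  obtain ⟨B₀, hB₀, hf, hA⟩ := stepA f' hft
  let e := Module.Basis.ofVectorSpace k K
  let ι₀ : K ⊗[k] B₀ →ₐ[K] K ⊗[k] B := Algebra.TensorProduct.map (AlgHom.id K K) B₀.val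
  obtain ⟨f₀, hf₀⟩ : ∃ f₀, ι₀ f₀ = f' := hf
  let inc : B₀ →+* K ⊗[k] B₀ :=
    (Algebra.TensorProduct.includeRight : B₀ →ₐ[k] K ⊗[k] B₀).toRingHom
  -- Step C
  have hC : ∀ (b : B) (P : PrimeSpectrum (K ⊗[k] B₀)), f₀ ∉ P.asIdeal →
      ∃ c₀ : B₀, inc c₀ ∉ P.asIdeal ∧ (c₀ : B) * b ∈ B₀ := by
    intro b P hP
    obtain ⟨N, hN⟩ := hA ((1 : K) ⊗ₜ[k] b)
    have h1 : ∀ i, TensorProduct.equivFinsuppOfBasisLeft e (f' ^ N) i * b ∈ B₀ := by
      intro i
      rw [← co_mul]
      exact (mem_baseChange_iff e B₀ _).mp hN i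
    have h2 : ∀ i, TensorProduct.equivFinsuppOfBasisLeft e (f' ^ N) i =
        ((TensorProduct.equivFinsuppOfBasisLeft e (f₀ ^ N) i : B₀) : B) := by
      intro i
      rw [← hf₀, ← map_pow]
      change TensorProduct.equivFinsuppOfBasisLeft e
        ((Algebra.TensorProduct.map (AlgHom.id K K) B₀.val) (f₀ ^ N)) i = _
      rw [map_eq_lTensor, co_map]
      rfl
    by_contra hcon
    push Not at hcon
    have h3 : ∀ i, inc (TensorProduct.equivFinsuppOfBasisLeft e (f₀ ^ N) i) ∈ P.asIdeal := by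
      intro i
      by_contra h
      exact hcon _ h (by rw [← h2]; exact h1 i)
    have h4 : f₀ ^ N ∈ P.asIdeal := by
      rw [← (TensorProduct.equivFinsuppOfBasisLeft e).symm_apply_apply (f₀ ^ N),
        TensorProduct.equivFinsuppOfBasisLeft_symm_apply]
      refine Ideal.sum_mem _ (fun i _ => ?_)
      change e i ⊗ₜ[k] (TensorProduct.equivFinsuppOfBasisLeft e (f₀ ^ N) i) ∈ P.asIdeal
      have : e i ⊗ₜ[k] (TensorProduct.equivFinsuppOfBasisLeft e (f₀ ^ N) i) =
          (e i ⊗ₜ[k] (1 : B₀)) * inc (TensorProduct.equivFinsuppOfBasisLeft e (f₀ ^ N) i) := by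
        simp [inc, Algebra.TensorProduct.tmul_mul_tmul]
      rw [this]
      exact Ideal.mul_mem_left _ _ (h3 i)
    exact hP (P.isPrime.mem_of_pow_mem N h4)
  -- Step D
  let Q₀ : PrimeSpectrum (K ⊗[k] B₀) := ⟨q'.comap ι₀.toRingHom, inferInstance⟩
  have hQ₀ : f₀ ∉ Q₀.asIdeal := by
    change ι₀ f₀ ∉ q'
    rw [hf₀]; exact hf'
  have hopen : IsOpen (PrimeSpectrum.comap inc '' (PrimeSpectrum.basicOpen f₀ : Set _)) :=
    isOpenMap_includeRight (K := K) B₀ _ (PrimeSpectrum.basicOpen f₀).isOpen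
  obtain ⟨_, ⟨g₀, rfl⟩, hg₀, hsub⟩ :=
    PrimeSpectrum.isTopologicalBasis_basic_opens.isOpen_iff.mp hopen
      (PrimeSpectrum.comap inc Q₀) ⟨Q₀, hQ₀, rfl⟩
  have hD : ∀ b : B, ∃ n : ℕ, (g₀ : B) ^ n * b ∈ B₀ := by
    intro b
    let Ib : Ideal B₀ :=
      { carrier := {c | (c : B) * b ∈ B₀}
        add_mem' := by
          intro x y hx hy
          simp only [Set.mem_setOf_eq] at *
          rw [Subalgebra.coe_add, add_mul]; exact add_mem hx hy
        zero_mem' := by simp
        smul_mem' := by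
          intro c x hx
          simp only [Set.mem_setOf_eq, smul_eq_mul, Subalgebra.coe_mul] at *
          rw [mul_assoc]; exact mul_mem c.2 hx }
    have hrad : g₀ ∈ Ib.radical := by
      rw [Ideal.radical_eq_sInf, Ideal.mem_sInf]
      rintro p ⟨hIp, hp⟩
      by_contra hg
      obtain ⟨P, hP, hPp⟩ := hsub
        (show (⟨p, hp⟩ : PrimeSpectrum B₀) ∈ (PrimeSpectrum.basicOpen g₀ : Set _) from hg)
      obtain ⟨c₀, hc₀, hc₀b⟩ := hC b P hP
      apply hc₀
      have hcp : c₀ ∈ p := hIp hc₀b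
      have hp' : (PrimeSpectrum.comap inc P).asIdeal = p := congrArg PrimeSpectrum.asIdeal hPp
      rw [← hp'] at hcp
      exact hcp
    obtain ⟨n, hn⟩ := hrad
    have hn' : ((g₀ ^ n : B₀) : B) * b ∈ B₀ := hn
    exact ⟨n, by simpa using hn'⟩
  -- Step E
  refine ⟨(g₀ : B), ?_, ?_⟩
  · intro h
    apply hg₀
    change ι₀ (inc g₀) ∈ q'
    simpa [inc, ι₀] using h
  · let L := Localization.Away (g₀ : B)
    have h1 : Algebra.FiniteType k B₀ := (Subalgebra.fg_iff_finiteType B₀).mp hB₀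
    have h2 : Algebra.FiniteType B₀ L := by
      refine ⟨⟨{IsLocalization.Away.invSelf (g₀ : B)}, ?_⟩⟩
      rw [eq_top_iff]
      intro x _
      obtain ⟨⟨b, ⟨_, m, rfl⟩⟩, hx⟩ := IsLocalization.surj (Submonoid.powers (g₀ : B)) x
      obtain ⟨n, hn⟩ := hD b
      have hinv : algebraMap B L (g₀ : B) * IsLocalization.Away.invSelf (g₀ : B) = 1 :=
        IsLocalization.Away.mul_invSelf _
      have hx' : x = algebraMap B₀ L ⟨_, hn⟩ *
          IsLocalization.Away.invSelf (S := L) (g₀ : B) ^ (n + m) := by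
        have e1 : algebraMap B₀ L ⟨_, hn⟩ =
            algebraMap B L (g₀ : B) ^ n * (x * algebraMap B L (g₀ : B) ^ m) := by
          change algebraMap B L ((g₀ : B) ^ n * b) = _
          rw [map_mul, map_pow, ← hx, map_pow]
        rw [e1]
        calc x = x * (algebraMap B L (g₀ : B) * IsLocalization.Away.invSelf (g₀ : B)) ^ (n + m) := by
              rw [hinv, one_pow, mul_one]
          _ = _ := by ring
      rw [hx']
      exact mul_mem (Subalgebra.algebraMap_mem _ _)
        (pow_mem (Algebra.subset_adjoin (by simp)) _)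
    exact Algebra.FiniteType.trans h1 h2

end main

end Groth.Agent.Lib.Helper1.LftRC
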