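import Groth.Agent.Lib.Helper1.LftK1
import Groth.Agent.Lib.Helper1.LftRC

/-!
# helper1 for helper78 (S5340): K1, unconditional
-/

set_option autoImplicit false
universe u
open CategoryTheory CategoryTheory.Limits AlgebraicGeometry

namespace Groth.Agent.Lib.Helper1.LftK1

theorem ringCore : RingCore.{u} :=
  fun k K B _ _ _ _ _ f' h q' _ hq => Groth.Agent.Lib.Helper1.LftRC.ring_core k K B f' h q' hq

theorem exists_lft_nbhd_of_baseChange (k K : Type u) [Field k] [Field K]
    (j : Spec (CommRingCat.of K) ⟶ Spec (CommRingCat.of k)) {X : Scheme.{u}}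
    (f : X ⟶ Spec (CommRingCat.of k)) (V : (pullback f j).Opens)
    [LocallyOfFiniteType (V.ι ≫ pullback.snd f j)] (x' : ↥(pullback f j)) (hx' : x' ∈ V) :
    ∃ U : X.Opens, pullback.fst f j x' ∈ U ∧ LocallyOfFiniteType (U.ι ≫ f) :=
  exists_lft_nbhd_of_baseChange_of_ringCore ringCore k K j f V x' hx'

end Groth.Agent.Lib.Helper1.LftK1
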