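import Mathlib

/-!
# helper1 for helper65 (S11898): K7, the shear pullback square of a kernel
-/

set_option autoImplicit false
universe u
open CategoryTheory CategoryTheory.Limits MonoidalCategory CartesianMonoidalCategory MonObj GrpObj

namespace Groth.Agent.Lib.Helper1.LieKerK7

theorem K7 {𝒞 : Type*} [Category 𝒞] [CartesianMonoidalCategory 𝒞] {A B C : 𝒞} [GrpObj A]
    [GrpObj B] [GrpObj C] (i : B ⟶ C) [IsMonHom i] (α : C ⟶ A) [IsMonHom α]
    (hK : IsPullback i (toUnit B) α η[A]) :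
    IsPullback (fst C B * (snd C B ≫ i)) (fst C B) α α := by
  have hiα : i ≫ α = 1 := by
    rw [hK.w, Hom.one_def]
  have hw : (fst C B * (snd C B ≫ i)) ≫ α = fst C B ≫ α := by
    rw [MonObj.mul_comp, Category.assoc, hiα, MonObj.comp_one, _root_.mul_one]
  refine ⟨⟨hw⟩, ⟨PullbackCone.IsLimit.mk _ (fun s => lift s.snd
      (hK.lift (s.snd⁻¹ * s.fst) (toUnit _) ?_)) ?_ ?_ ?_⟩⟩
  · rw [MonObj.mul_comp, GrpObj.inv_comp, s.condition, inv_mul_cancel, Hom.one_def]
  · intro s
    rw [MonObj.comp_mul, lift_fst, lift_snd_assoc, hK.lift_fst, mul_inv_cancel_left]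
  · intro s
    rw [lift_fst]
  · intro s m h1 h2
    have hm : (m ≫ snd C B) ≫ i = s.snd⁻¹ * s.fst := by
      rw [← h1, ← h2, MonObj.comp_mul, inv_mul_cancel_left, Category.assoc]
    apply CartesianMonoidalCategory.hom_ext
    · rw [lift_fst, h2]
    · rw [lift_snd]
      apply hK.hom_ext
      · rw [hK.lift_fst, hm]
      · exact toUnit_unique _ _

end Groth.Agent.Lib.Helper1.LieKerK7
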