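import Mathlib.FieldTheory.RatFunc.Luroth
import Mathlib.RingTheory.Localization.AsSubring
import Mathlib.RingTheory.MvPolynomial.Basic
import Mathlib.FieldTheory.IntermediateField.Adjoin.Algebra
import Mathlib.RingTheory.Algebraic.Basic
import Mathlib.Algebra.MvPolynomial.Funext

/-!
# Lüroth for subfields of transcendence degree one of `k(t_1, ..., t_n)` (`k` infinite)

Specialise to a general line to embed the field into `k(s)` and apply Mathlib's Lüroth theorem.
-/

set_option autoImplicit false
universe u

namespace Groth.Agent.Lib.Helper1.LurothMv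

open Polynomial

section lemmaA

variable {k : Type*} [Field k] {K : Type*} [Field K] [Algebra k K] {L : Type*} [Field L] [Algebra k L]

/-- a nonzero algebraic element satisfies a polynomial with nonzero constant coefficient. -/
theorem exists_poly_coeff_zero_ne_zero {R : Type*} [CommRing R] [Algebra R K]
    (f : K) (hf : f ≠ 0) :
    ∀ (m : ℕ) (p : R[X]), p.natDegree ≤ m → p ≠ 0 → aeval f p = 0 →
      ∃ q : R[X], q.coeff 0 ≠ 0 ∧ aeval f q = 0 := by
  intro m
  induction m with
  | zero =>
    intro p hp hp0 hpf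
    refine ⟨p, ?_, hpf⟩
    intro h0
    apply hp0
    rw [Polynomial.eq_C_of_natDegree_le_zero hp, h0, map_zero]
  | succ m ih =>
    intro p hp hp0 hpf
    by_cases h0 : p.coeff 0 = 0
    · have hdiv : p = p.divX * X := by
        have := Polynomial.divX_mul_X_add p
        rw [h0, map_zero, add_zero] at this
        exact this.symm
      have hd0 : p.divX ≠ 0 := by
        intro h
        rw [h, zero_mul] at hdiv
        exact hp0 hdiv
      have hdf : aeval f p.divX = 0 := by
        rw [hdiv, map_mul, aeval_X] at hpf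
        exact (mul_eq_zero.mp hpf).resolve_right hf
      have hdeg : p.divX.natDegree ≤ m := by
        rw [Polynomial.natDegree_divX_eq_natDegree_tsub_one]
        omega
      exact ih p.divX hdeg hd0 hdf
    · exact ⟨p, h0, hpf⟩

/-- **Lemma A**: a `k`-algebra map out of a subalgebra of a field algebraic over `k(x)` which sends
`x` to a transcendental element is injective. -/
theorem injective_of_transcendental (x : K)
    (halg : Algebra.IsAlgebraic (IntermediateField.adjoin k {x}) K)
    (A0 : Subalgebra k K) (hx : x ∈ A0) (e : A0 →ₐ[k] L)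
    (hex : Transcendental k (e ⟨x, hx⟩)) : Function.Injective e := by
  rw [injective_iff_map_eq_zero]
  intro f hf
  by_contra hf0
  have hfK : (f : K) ≠ 0 := fun h => hf0 (Subtype.ext h)
  -- `f` is algebraic over `k[x]`
  let R := Algebra.adjoin k {x}
  have hRA : R ≤ A0 := Algebra.adjoin_le (by
    intro y hy
    rw [Set.mem_singleton_iff] at hy
    rw [hy]
    exact hx)
  have halgR : IsAlgebraic R (f : K) := by
    open IntermediateField.algebraAdjoinAdjoin in
    exact (IsFractionRing.isAlgebraic_iff R (IntermediateField.adjoin k {x}) K).mpr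
      (halg.isAlgebraic (f : K))
  obtain ⟨p, hp0, hpf⟩ := halgR
  obtain ⟨q, hq0, hqf⟩ := exists_poly_coeff_zero_ne_zero (R := R) (f : K) hfK p.natDegree p le_rfl
    hp0 hpf
  -- transport to `A0` and apply `e`
  let incl : R →+* A0 := (Subalgebra.inclusion hRA).toRingHom
  have h1 : ((Polynomial.eval₂ incl f q : A0) : K) = aeval (f : K) q := by
    have := Polynomial.hom_eval₂ q incl (A0.val.toRingHom) f
    rw [aeval_def]
    exact this
  have h2 : Polynomial.eval₂ incl f q = 0 := Subtype.ext (by rw [h1, hqf]; rfl)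
  have h3 := congrArg e h2
  rw [map_zero] at h3
  have h4 := Polynomial.hom_eval₂ q incl (e : A0 →+* L) f
  rw [show ((e : A0 →+* L) (Polynomial.eval₂ incl f q)) = e (Polynomial.eval₂ incl f q) from rfl,
    h3] at h4
  rw [show ((e : A0 →+* L) f) = e f from rfl, hf, Polynomial.eval₂_at_zero] at h4
  -- `q.coeff 0 ∈ k[x]` is `aeval x g`
  have hc : (q.coeff 0 : K) ∈ Algebra.adjoin k {x} := (q.coeff 0).2
  rw [Algebra.adjoin_singleton_eq_range_aeval] at hc
  obtain ⟨g, hg⟩ := hc
  have hg0 : g ≠ 0 := by
    rintro rfl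
    rw [map_zero] at hg
    exact hq0 (Subtype.ext hg.symm)
  apply hex
  refine ⟨g, hg0, ?_⟩
  -- aeval (e x) g = e (aeval x g) = e (incl (q.coeff 0)) = 0
  have h5 : (aeval (⟨x, hx⟩ : A0) g : A0) = incl (q.coeff 0) := by
    apply Subtype.ext
    have := Polynomial.aeval_algHom_apply A0.val (⟨x, hx⟩ : A0) g
    rw [show A0.val (aeval (⟨x, hx⟩ : A0) g) = ((aeval (⟨x, hx⟩ : A0) g : A0) : K) from rfl] at this
    rw [← this]
    exact hg
  rw [Polynomial.aeval_algHom_apply e (⟨x, hx⟩ : A0) g, h5]
  exact h4.symm

end lemmaA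

section place

variable {k : Type u} [Field k] {n : ℕ}

/-- restriction of a polynomial to the line `a + s b`. -/
noncomputable def ev (a b : Fin n → k) : MvPolynomial (Fin n) k →ₐ[k] k[X] :=
  MvPolynomial.aeval (fun i => C (a i) + C (b i) * X)

theorem eval_ev (a b : Fin n → k) (c : k) (f : MvPolynomial (Fin n) k) :
    (ev a b f).eval c = MvPolynomial.eval (fun i => a i + b i * c) f := by
  have : (Polynomial.evalRingHom c).comp (ev a b).toRingHom
      = MvPolynomial.eval (fun i => a i + b i * c) := by
    apply MvPolynomial.ringHom_ext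
    · intro r
      simp [ev]
    · intro i
      simp [ev]
  exact DFunLike.congr_fun this f

/-- the composite `k[t] → k[s] → k(s)`. -/
noncomputable def evK (a b : Fin n → k) : MvPolynomial (Fin n) k →ₐ[k] RatFunc k :=
  (IsScalarTower.toAlgHom k k[X] (RatFunc k)).comp (ev a b)

theorem evK_apply (a b : Fin n → k) (f : MvPolynomial (Fin n) k) :
    evK a b f = algebraMap k[X] (RatFunc k) (ev a b f) := rfl

theorem evK_ne_zero_iff (a b : Fin n → k) (f : MvPolynomial (Fin n) k) :
    evK a b f ≠ 0 ↔ ev a b f ≠ 0 := by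
  rw [evK_apply, Ne, Ne, map_eq_zero_iff _ (RatFunc.algebraMap_injective k)]

/-- polynomials not vanishing identically on the line. -/
noncomputable def M (a b : Fin n → k) : Submonoid (MvPolynomial (Fin n) k) :=
  (nonZeroDivisors k[X]).comap (ev a b)

theorem mem_M (a b : Fin n → k) (f : MvPolynomial (Fin n) k) : f ∈ M a b ↔ ev a b f ≠ 0 := by
  rw [M, Submonoid.mem_comap, mem_nonZeroDivisors_iff_ne_zero]

theorem M_le (a b : Fin n → k) : M a b ≤ nonZeroDivisors (MvPolynomial (Fin n) k) := by
  intro f hf
  rw [mem_M] at hf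
  apply mem_nonZeroDivisors_of_ne_zero
  rintro rfl
  exact hf (map_zero _)

/-- the local ring of the line inside `k(t_1..t_n)`. -/
noncomputable def O (a b : Fin n → k) :
    Subalgebra (MvPolynomial (Fin n) k) (FractionRing (MvPolynomial (Fin n) k)) :=
  Localization.subalgebra.ofField (FractionRing (MvPolynomial (Fin n) k)) (M a b) (M_le a b)

theorem mem_O (a b : Fin n → k) (w : FractionRing (MvPolynomial (Fin n) k)) :
    w ∈ O a b ↔ ∃ (p s : MvPolynomial (Fin n) k) (_ : s ∈ M a b),
      w = algebraMap _ (FractionRing (MvPolynomial (Fin n) k)) p *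
        (algebraMap _ (FractionRing (MvPolynomial (Fin n) k)) s)⁻¹ := Iff.rfl

instance (a b : Fin n → k) : IsLocalization (M a b) (O a b) :=
  Localization.subalgebra.isLocalization_ofField _ _ _

/-- the place: restriction of rational functions to the line. -/
noncomputable def placeR (a b : Fin n → k) : O a b →+* RatFunc k :=
  IsLocalization.lift (M := M a b) (g := (evK a b : MvPolynomial (Fin n) k →+* RatFunc k))
    (fun y => by
      have := (mem_M a b y.1).mp y.2
      exact ((evK_ne_zero_iff a b y.1).mpr this).isUnit)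

theorem placeR_algebraMap (a b : Fin n → k) (f : MvPolynomial (Fin n) k) :
    placeR a b (algebraMap _ (O a b) f) = evK a b f :=
  IsLocalization.lift_eq _ f

theorem placeR_eq (a b : Fin n → k) (w : O a b) (p s : MvPolynomial (Fin n) k) (hs : s ∈ M a b)
    (hw : (w : FractionRing (MvPolynomial (Fin n) k)) = algebraMap _ _ p * (algebraMap _ _ s)⁻¹) :
    placeR a b w = evK a b p / evK a b s := by
  have hs0 : algebraMap _ (FractionRing (MvPolynomial (Fin n) k)) s ≠ 0 := by
    intro h
    have := (IsFractionRing.injective (MvPolynomial (Fin n) k)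
      (FractionRing (MvPolynomial (Fin n) k))) (h.trans (map_zero _).symm)
    rw [this] at hs
    exact (mem_M a b 0).mp hs (map_zero _)
  have h1 : w * algebraMap _ (O a b) s = algebraMap _ (O a b) p := by
    apply Subtype.ext
    show (w : FractionRing (MvPolynomial (Fin n) k)) * algebraMap _ _ s = algebraMap _ _ p
    rw [hw, inv_mul_cancel_right₀ hs0]
  have h2 := congrArg (placeR a b) h1
  rw [map_mul, placeR_algebraMap, placeR_algebraMap] at h2
  have hs1 : evK a b s ≠ 0 := (evK_ne_zero_iff a b s).mpr ((mem_M a b s).mp hs)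
  rw [eq_div_iff hs1, h2]

theorem inv_mem_O (a b : Fin n → k) (w : O a b) (hw : placeR a b w ≠ 0) :
    (w : FractionRing (MvPolynomial (Fin n) k))⁻¹ ∈ O a b := by
  obtain ⟨p, s, hs, hps⟩ := (mem_O a b w.1).mp w.2
  have h := placeR_eq a b w p s hs hps
  have hp : p ∈ M a b := by
    rw [mem_M, ← evK_ne_zero_iff]
    intro h0
    rw [h0, zero_div] at h
    exact hw h
  refine (mem_O a b _).mpr ⟨s, p, hp, ?_⟩
  rw [hps, mul_inv, inv_inv, mul_comm]

/-- an element of the `k`-subalgebra as an element of the local ring. -/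
def toO (a b : Fin n → k) (w : (O a b).restrictScalars k) : O a b := ⟨w.1, w.2⟩

theorem toO_val (a b : Fin n → k) (w : (O a b).restrictScalars k) :
    ((toO a b w : O a b) : FractionRing (MvPolynomial (Fin n) k)) = w.1 := rfl

theorem toO_mul (a b : Fin n → k) (w w' : (O a b).restrictScalars k) :
    toO a b (w * w') = toO a b w * toO a b w' := by
  apply Subtype.ext
  rw [toO_val, Subalgebra.coe_mul, Subalgebra.coe_mul, toO_val, toO_val]

theorem toO_add (a b : Fin n → k) (w w' : (O a b).restrictScalars k) :
    toO a b (w + w') = toO a b w + toO a b w' := by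
  apply Subtype.ext
  rw [toO_val, Subalgebra.coe_add, Subalgebra.coe_add, toO_val, toO_val]

theorem toO_one (a b : Fin n → k) : toO a b 1 = 1 := by
  apply Subtype.ext
  rw [toO_val, Subalgebra.coe_one, Subalgebra.coe_one]

theorem toO_zero (a b : Fin n → k) : toO a b 0 = 0 := by
  apply Subtype.ext
  rw [toO_val, Subalgebra.coe_zero, Subalgebra.coe_zero]

/-- the place as a `k`-algebra map. -/
noncomputable def place (a b : Fin n → k) : ((O a b).restrictScalars k) →ₐ[k] RatFunc k where
  toFun w := placeR a b (toO a b w)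
  map_one' := by rw [toO_one, map_one]
  map_mul' w w' := by rw [toO_mul, map_mul]
  map_zero' := by rw [toO_zero, map_zero]
  map_add' w w' := by rw [toO_add, map_add]
  commutes' c := by
    have hw : ((toO a b (algebraMap k ((O a b).restrictScalars k) c) : O a b) :
        FractionRing (MvPolynomial (Fin n) k))
        = algebraMap (MvPolynomial (Fin n) k) (FractionRing (MvPolynomial (Fin n) k))
            (MvPolynomial.C c) * (algebraMap (MvPolynomial (Fin n) k)
          (FractionRing (MvPolynomial (Fin n) k)) 1)⁻¹ := by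
      rw [map_one, inv_one, mul_one, toO_val, Subalgebra.coe_algebraMap,
        IsScalarTower.algebraMap_apply k (MvPolynomial (Fin n) k)
          (FractionRing (MvPolynomial (Fin n) k)), MvPolynomial.algebraMap_eq]
    have h := placeR_eq a b _ (MvPolynomial.C c) 1 (one_mem _) hw
    show placeR a b _ = _
    rw [h, map_one, div_one, ← MvPolynomial.algebraMap_eq, AlgHom.commutes]

theorem place_apply (a b : Fin n → k) (w : (O a b).restrictScalars k) :
    place a b w = placeR a b (toO a b w) := rfl

end place

section main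

variable (k : Type u) [Field k] [Infinite k]

theorem exists_eval_ne_zero {n : ℕ} (f : MvPolynomial (Fin n) k) (hf : f ≠ 0) :
    ∃ a : Fin n → k, MvPolynomial.eval a f ≠ 0 := by
  by_contra h
  push Not at h
  exact hf (MvPolynomial.funext (fun a => by rw [h a, map_zero]))

/-- **Lüroth for function fields of unirational curves** (`k` infinite). -/
theorem exists_generator (K : Type u) [Field K] [Algebra k K]
    (hfg : (⊤ : IntermediateField k K).FG)
    (x : K) (hx : Transcendental k x)
    (halg : Algebra.IsAlgebraic ↥(IntermediateField.adjoin k {x}) K)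
    (n : ℕ) (φ : K →ₐ[k] FractionRing (MvPolynomial (Fin n) k)) :
    ∃ t : K, Transcendental k t ∧ IntermediateField.adjoin k {t} = ⊤ := by
  classical
  obtain ⟨S, hS⟩ := hfg
  have hfrac : ∀ y : K, ∃ p q : MvPolynomial (Fin n) k, q ≠ 0 ∧
      φ y = algebraMap _ (FractionRing (MvPolynomial (Fin n) k)) p *
        (algebraMap _ (FractionRing (MvPolynomial (Fin n) k)) q)⁻¹ := by
    intro y
    obtain ⟨p, q, hq, h⟩ := IsFractionRing.div_surjective (A := MvPolynomial (Fin n) k) (φ y)
    exact ⟨p, q, nonZeroDivisors.ne_zero hq, by rw [← h, div_eq_mul_inv]⟩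
  choose P Q hQ hPQ using hfrac
  let S' : Finset K := insert x S
  have hQp : (∏ y ∈ S', Q y) ≠ 0 := Finset.prod_ne_zero_iff.mpr (fun y _ => hQ y)
  obtain ⟨a, ha⟩ := exists_eval_ne_zero k _ hQp
  have hQa : ∀ y ∈ S', MvPolynomial.eval a (Q y) ≠ 0 := by
    intro y hy h0
    apply ha
    rw [map_prod]
    exact Finset.prod_eq_zero hy h0
  have hxS' : x ∈ S' := Finset.mem_insert_self x S
  let G : MvPolynomial (Fin n) k := P x * MvPolynomial.C (MvPolynomial.eval a (Q x))
    - Q x * MvPolynomial.C (MvPolynomial.eval a (P x))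
  have hG : G ≠ 0 := by
    intro hG0
    apply hx
    have hqa := hQa x hxS'
    have h1 : P x * MvPolynomial.C (MvPolynomial.eval a (Q x))
        = Q x * MvPolynomial.C (MvPolynomial.eval a (P x)) := sub_eq_zero.mp hG0
    have hQx0 : algebraMap _ (FractionRing (MvPolynomial (Fin n) k)) (Q x) ≠ 0 := by
      intro h
      exact hQ x ((IsFractionRing.injective (MvPolynomial (Fin n) k)
        (FractionRing (MvPolynomial (Fin n) k))) (h.trans (map_zero _).symm))
    have hc : φ x = algebraMap k (FractionRing (MvPolynomial (Fin n) k))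
        (MvPolynomial.eval a (P x) / MvPolynomial.eval a (Q x)) := by
      have hpa : MvPolynomial.eval a (P x)
          = (MvPolynomial.eval a (P x) / MvPolynomial.eval a (Q x)) * MvPolynomial.eval a (Q x) := by
        rw [div_mul_cancel₀ _ hqa]
      have hCq : (MvPolynomial.C (MvPolynomial.eval a (Q x)) : MvPolynomial (Fin n) k) ≠ 0 := by
        rw [Ne, MvPolynomial.C_eq_zero]
        exact hqa
      have h2 : P x = Q x * MvPolynomial.C (MvPolynomial.eval a (P x) / MvPolynomial.eval a (Q x)) := by
        apply mul_right_cancel₀ hCq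
        rw [h1, mul_assoc, ← map_mul, ← hpa]
      rw [hPQ x]
      conv_lhs => rw [h2]
      rw [map_mul, mul_comm (algebraMap _ _ (Q x)), mul_assoc, mul_inv_cancel₀ hQx0, mul_one,
        IsScalarTower.algebraMap_apply k (MvPolynomial (Fin n) k)
          (FractionRing (MvPolynomial (Fin n) k)), MvPolynomial.algebraMap_eq]
    have hxc : x = algebraMap k K (MvPolynomial.eval a (P x) / MvPolynomial.eval a (Q x)) := by
      apply φ.toRingHom.injective
      change φ x = φ _
      rw [hc, φ.commutes]
    rw [hxc]
    exact isAlgebraic_algebraMap _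
  obtain ⟨c, hc⟩ := exists_eval_ne_zero k G hG
  let b : Fin n → k := fun i => c i - a i
  have hev0 : ∀ f : MvPolynomial (Fin n) k, (ev a b f).eval 0 = MvPolynomial.eval a f := by
    intro f
    rw [eval_ev]
    have : (fun i => a i + b i * 0) = a := by
      funext i
      rw [mul_zero, add_zero]
    rw [this]
  have hev1 : ∀ f : MvPolynomial (Fin n) k, (ev a b f).eval 1 = MvPolynomial.eval c f := by
    intro f
    rw [eval_ev]
    have : (fun i => a i + b i * 1) = c := by
      funext i
      simp only [b, mul_one, add_sub_cancel]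
    rw [this]
  have hQM : ∀ y ∈ S', Q y ∈ M a b := by
    intro y hy
    rw [mem_M]
    intro h0
    apply hQa y hy
    rw [← hev0, h0, Polynomial.eval_zero]
  have hφO : ∀ y ∈ S', φ y ∈ O a b := fun y hy => (mem_O a b _).mpr ⟨P y, Q y, hQM y hy, hPQ y⟩
  let Ok : Subalgebra k (FractionRing (MvPolynomial (Fin n) k)) := (O a b).restrictScalars k
  let R0 : Subalgebra k K := Ok.comap φ
  let A0 : Subalgebra k K := Algebra.adjoin k (S' : Set K)
  have hA0R0 : A0 ≤ R0 := Algebra.adjoin_le (fun y hy => hφO y hy)
  let e : A0 →ₐ[k] RatFunc k := (place a b).comp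
    (((φ.comp R0.val).codRestrict Ok (fun z => z.2)).comp (Subalgebra.inclusion hA0R0))
  have he : ∀ z : A0, e z = placeR a b ⟨φ z.1, hA0R0 z.2⟩ := fun z => rfl
  have hxA0 : x ∈ A0 := Algebra.subset_adjoin hxS'
  have hex : e ⟨x, hxA0⟩ = evK a b (P x) / evK a b (Q x) := by
    rw [he]
    exact placeR_eq a b _ (P x) (Q x) (hQM x hxS') (hPQ x)
  have htr : Transcendental k (e ⟨x, hxA0⟩) := by
    rw [hex]
    apply RatFunc.transcendental_of_ne_C
    rintro ⟨c', hc'⟩
    have hq1 : evK a b (Q x) ≠ 0 := (evK_ne_zero_iff a b _).mpr ((mem_M a b _).mp (hQM x hxS'))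
    rw [div_eq_iff hq1, evK_apply, evK_apply, ← RatFunc.algebraMap_C, ← map_mul] at hc'
    have h3 := RatFunc.algebraMap_injective k hc'
    have e0 := congrArg (Polynomial.eval 0) h3
    have e1 := congrArg (Polynomial.eval 1) h3
    rw [Polynomial.eval_mul, Polynomial.eval_C, hev0, hev0] at e0
    rw [Polynomial.eval_mul, Polynomial.eval_C, hev1, hev1] at e1
    apply hc
    show MvPolynomial.eval c (P x * MvPolynomial.C (MvPolynomial.eval a (Q x))
      - Q x * MvPolynomial.C (MvPolynomial.eval a (P x))) = 0
    rw [map_sub, map_mul, map_mul, MvPolynomial.eval_C, MvPolynomial.eval_C, e0, e1]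
    ring
  have hinj : Function.Injective e := injective_of_transcendental x halg A0 hxA0 e htr
  have hall : ∀ z : K, φ z ∈ Ok := by
    intro z
    have hz : z ∈ IntermediateField.adjoin k (S' : Set K) := by
      have h1 : IntermediateField.adjoin k (S : Set K) ≤ IntermediateField.adjoin k (S' : Set K) :=
        IntermediateField.adjoin.mono _ _ _ (Finset.coe_subset.mpr (Finset.subset_insert x S))
      rw [hS] at h1
      exact h1 trivial
    obtain ⟨u, hu, v, hv, rfl⟩ := IntermediateField.mem_adjoin_iff_div.mp hz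
    by_cases hv0 : v = 0
    · rw [hv0, div_zero, map_zero]
      exact zero_mem _
    · have hev : placeR a b ⟨φ v, hA0R0 hv⟩ ≠ 0 := by
        intro h
        have h2 : e ⟨v, hv⟩ = 0 := h
        exact hv0 (congrArg Subtype.val (hinj (h2.trans (map_zero e).symm)))
      have hinv := inv_mem_O a b ⟨φ v, hA0R0 hv⟩ hev
      rw [map_div₀, div_eq_mul_inv]
      exact mul_mem (hA0R0 hu) hinv
  let ψ : K →ₐ[k] RatFunc k := (place a b).comp (φ.codRestrict Ok hall)
  have hψx : ψ x = e ⟨x, hxA0⟩ := rfl
  have hE : ψ.fieldRange ≠ ⊥ := by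
    intro h
    have hmem : ψ x ∈ ψ.fieldRange := ⟨x, rfl⟩
    rw [h, IntermediateField.mem_bot] at hmem
    obtain ⟨c', hc'⟩ := hmem
    apply htr
    rw [← hψx, ← hc']
    exact isAlgebraic_algebraMap c'
  have hgen := RatFunc.Luroth.eq_adjoin_generator (E := ψ.fieldRange)
  obtain ⟨t, ht⟩ : ∃ t, ψ t = RatFunc.Luroth.generator ψ.fieldRange :=
    RatFunc.Luroth.generator_mem (E := ψ.fieldRange)
  refine ⟨t, ?_, ?_⟩
  · intro halg_t
    exact RatFunc.Luroth.transcendental_generator hE (ht ▸ halg_t.algHom ψ)
  · rw [eq_top_iff]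
    intro z _
    have hz : ψ z ∈ ψ.fieldRange := ⟨z, rfl⟩
    rw [hgen, ← ht] at hz
    have hmap : (IntermediateField.adjoin k {t}).map ψ = IntermediateField.adjoin k {ψ t} := by
      rw [IntermediateField.adjoin_map, Set.image_singleton]
    rw [← hmap] at hz
    obtain ⟨z', hz', hzz'⟩ := hz
    have := ψ.injective hzz'
    rw [← this]
    exact hz'

end main

end Groth.Agent.Lib.Helper1.LurothMv
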