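import Mathlib
import Groth.Agent.Lib.Helper78.GrpTransl
import Groth.Agent.Lib.Helper46.FppfSourceSch
import Groth.Agent.Lib.Helper19.FlatStalkDescent
import Groth.Agent.Lib.Helper19.Sm.EtaleLocus
import Groth.Agent.Lib.Helper19.Grp.Homogeneity

/-!
# The maximal open on which a homomorphism of group schemes is fppf / smooth / étale is an open
subgroup scheme (helper1; SGA3 VI_B 2.x)

Translation argument of helper78 (`GrpTransl`) for "flat and locally of finite presentation"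
(source descent along fppf covers), and the pointwise flat descent of smoothness / étaleness
(helper19) for the smooth and étale loci.
-/

set_option autoImplicit false
open CategoryTheory CategoryTheory.Limits AlgebraicGeometry MonoidalCategory
open MonObj GrpObj CartesianMonoidalCategory
universe u

namespace Groth.Agent.Lib.Helper1.MaxOpenSubgrp

open Groth.Agent.Lib.Helper78.GrpTransl

/-- flat and locally of finite presentation -/
abbrev Pfl : MorphismProperty Scheme.{u} := @Flat ⊓ @LocallyOfFinitePresentation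

section Cartesian

variable {C : Type*} [Category C] [CartesianMonoidalCategory C]

/-- `(T ◁ φ, snd, snd, φ)` is a pullback square. -/
theorem isPullback_whiskerLeft_snd (T : C) {Y X : C} (φ : Y ⟶ X) :
    IsPullback (T ◁ φ) (snd T Y) (snd T X) φ := by
  refine ⟨⟨by simp⟩, ⟨PullbackCone.IsLimit.mk _ (fun s => lift (s.fst ≫ fst T X) s.snd) ?_ ?_ ?_⟩⟩
  · intro s
    apply CartesianMonoidalCategory.hom_ext
    · simp
    · simp [s.condition]
  · intro s
    simp
  · intro s m h1 h2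
    apply CartesianMonoidalCategory.hom_ext
    · simp [← h1]
    · simp [← h2]

end Cartesian

variable {S : Scheme.{u}}

theorem shear_naturality {T G H : Over S} [GrpObj G] [GrpObj H] (a : T ⟶ G) (u : G ⟶ H)
    [IsMonHom u] : (shear a).hom ≫ (T ◁ u) = (T ◁ u) ≫ (shear (a ≫ u)).hom := by
  apply CartesianMonoidalCategory.hom_ext
  · simp [shear]
  · simp only [shear, Category.assoc, whiskerLeft_snd, lift_snd, lift_snd_assoc, MonObj.comp_mul,
      MonObj.mul_comp, whiskerLeft_fst_assoc]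

theorem prop_whiskerLeft (P : MorphismProperty Scheme.{u}) [P.IsStableUnderBaseChange]
    (T : Over S) {X Y : Over S} (φ : X ⟶ Y) (h : P φ.left) : P (T ◁ φ).left := by
  have sq := (isPullback_whiskerLeft_snd T φ).map (Over.forget S)
  exact P.of_isPullback sq.flip h

theorem prop_snd (P : MorphismProperty Scheme.{u}) [P.IsStableUnderBaseChange]
    (T K : Over S) (hT : P T.hom) : P (snd T K).left := by
  rw [Over.snd_left]
  exact P.pullback_snd _ _ hT

theorem prop_tensorHom_mul (P : MorphismProperty Scheme.{u}) [P.IsStableUnderBaseChange]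
    [P.IsStableUnderComposition] [P.RespectsIso]
    {T T' K : Over S} [GrpObj K] (a : T ⟶ K) (c : T' ⟶ K) (hT : P T.hom) (hc : P c.left) :
    P ((a ⊗ₘ c) ≫ μ[K]).left := by
  rw [tensorHom_mul_eq]
  simp only [Over.comp_left]
  have h3 : IsIso (shear a).hom.left :=
    (inferInstance : IsIso ((Over.forget S).map (shear a).hom))
  exact P.comp_mem _ _ (prop_whiskerLeft P T c hc)
    ((P.cancel_left_of_respectsIso (shear a).hom.left (snd T K).left).mpr (prop_snd P T K hT))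

/-- flatness descends along a flat surjective morphism on the source (copied from helper61) -/
theorem flat_of_comp_surjective {X Y Z : Scheme.{u}} (v : X ⟶ Y) (p : Y ⟶ Z) [Flat v]
    (hv : Function.Surjective v) [Flat (v ≫ p)] : Flat p := by
  refine Flat.of_stalkMap _ (fun y => ?_)
  obtain ⟨x, rfl⟩ := hv y
  have h1 : ((v ≫ p).stalkMap x).hom.Flat := Flat.stalkMap (v ≫ p) x
  have h2 : (v.stalkMap x).hom.Flat := Flat.stalkMap v x
  have h1' : ((v.stalkMap x).hom.comp (p.stalkMap (v x)).hom).Flat := by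
    have h := h1
    rw [Scheme.Hom.stalkMap_comp] at h
    exact h
  have hff : (v.stalkMap x).hom.FaithfullyFlat := by
    let _ : Algebra (Y.presheaf.stalk (v x)) (X.presheaf.stalk x) := (v.stalkMap x).hom.toAlgebra
    have : IsLocalHom (algebraMap (Y.presheaf.stalk (v x)) (X.presheaf.stalk x)) :=
      inferInstanceAs (IsLocalHom (v.stalkMap x).hom)
    have : Module.Flat (Y.presheaf.stalk (v x)) (X.presheaf.stalk x) := h2
    exact Module.FaithfullyFlat.of_flat_of_isLocalHom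
  exact Groth.Agent.Lib.Helper19.RingHom.Flat.of_comp_of_faithfullyFlat _ _ hff h1'

/-- "flat and locally of finite presentation" descends along fppf covers of the source. -/
theorem pfl_of_comp_surjective {X Y Z : Scheme.{u}} (e : X ⟶ Y) (f : Y ⟶ Z) [Flat e]
    [LocallyOfFinitePresentation e] [Surjective e] (h : Pfl (e ≫ f)) : Pfl f := by
  have h1 : Flat (e ≫ f) := h.1
  have h2 : LocallyOfFinitePresentation (e ≫ f) := h.2
  exact ⟨flat_of_comp_surjective e f (Surjective.surj (f := e)),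
    Groth.Agent.Lib.Helper46.FppfSourceSch.locallyOfFinitePresentation_of_fppf_surjective_comp e f⟩

/-- The image of an fppf morphism `ψ` is an open on which `u` is fppf, if `ψ ≫ u` is. -/
theorem exists_opens_eq_range {G H X : Scheme.{u}} (u : G ⟶ H) (ψ : X ⟶ G) [Flat ψ]
    [LocallyOfFinitePresentation ψ] (hψu : Pfl (ψ ≫ u)) :
    ∃ W : G.Opens, (W : Set G) = Set.range ψ ∧ Pfl (W.ι ≫ u) := by
  let W : G.Opens := ⟨Set.range ψ, (Scheme.Hom.isOpenMap ψ).isOpen_range⟩
  have hr : Set.range ψ ⊆ Set.range W.ι := by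
    rw [Scheme.Opens.range_ι]
    exact subset_rfl
  let ψ' : X ⟶ W.toScheme := IsOpenImmersion.lift W.ι ψ hr
  have hψ' : ψ' ≫ W.ι = ψ := IsOpenImmersion.lift_fac _ _ _
  have : Surjective ψ' := by
    constructor
    intro w
    obtain ⟨x, hx⟩ : W.ι w ∈ Set.range ψ := by
      have h : W.ι w ∈ Set.range W.ι := Set.mem_range_self w
      rw [Scheme.Opens.range_ι] at h
      exact h
    refine ⟨x, ?_⟩
    apply W.ι.isOpenEmbedding.injective
    rw [← Scheme.Hom.comp_apply, hψ', hx]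
  have hf : Flat ψ' := by
    apply MorphismProperty.of_postcomp (W := @Flat) (W' := @IsOpenImmersion) ψ' W.ι inferInstance
    rw [hψ']
    infer_instance
  have hl : LocallyOfFinitePresentation ψ' := by
    apply MorphismProperty.of_postcomp (W := @LocallyOfFinitePresentation)
      (W' := @IsOpenImmersion) ψ' W.ι inferInstance
    rw [hψ']
    infer_instance
  refine ⟨W, rfl, pfl_of_comp_surjective ψ' _ ?_⟩
  rw [← Category.assoc, hψ']
  exact hψu

/-- Maximality in open-immersion form. -/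
theorem mem_of_max_of_isOpenImmersion (P : MorphismProperty Scheme.{u}) [P.RespectsIso]
    {G H : Scheme.{u}} (u : G ⟶ H) (V : G.Opens) (hmax : ∀ W : G.Opens, P (W.ι ≫ u) → W ≤ V)
    {Y : Scheme.{u}} (i : Y ⟶ G) [IsOpenImmersion i] (h : P (i ≫ u)) (y : Y) : i y ∈ V := by
  have h1 : P (i.opensRange.ι ≫ u) := by
    rw [← Scheme.Hom.isoOpensRange_inv_comp i, Category.assoc]
    exact (P.cancel_left_of_respectsIso _ _).mpr h
  exact hmax _ h1 ⟨y, rfl⟩


section Group

variable (G H : Over S) [GrpObj G] [GrpObj H] (u : G ⟶ H) [IsMonHom u]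

theorem tensorHom_mul_comp_hom {T T' : Over S} (a : T ⟶ G) (c : T' ⟶ G) :
    ((a ⊗ₘ c) ≫ μ[G]).left ≫ u.left = (((a ≫ u) ⊗ₘ (c ≫ u)) ≫ μ[H]).left := by
  rw [← Over.comp_left, Category.assoc, IsMonHom.mul_hom, ← Category.assoc,
    tensorHom_comp_tensorHom]

/-- the key inclusion for the fppf locus -/
theorem key_fppf (V₀ : G.left.Opens)
    (hmax : ∀ W : G.left.Opens, Pfl (W.ι ≫ u.left) → W ≤ V₀)
    {T T' : Over S} (hT : Pfl T.hom) (a : T ⟶ G) (c : T' ⟶ G) (hc : Pfl c.left)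
    (hcu : Pfl (c ≫ u).left) (x : ↥(T ⊗ T').left) : ((a ⊗ₘ c) ≫ μ[G]).left x ∈ V₀ := by
  have h1 : Pfl ((a ⊗ₘ c) ≫ μ[G]).left := prop_tensorHom_mul Pfl a c hT hc
  have h2 : Pfl (((a ⊗ₘ c) ≫ μ[G]).left ≫ u.left) := by
    rw [tensorHom_mul_comp_hom]
    exact prop_tensorHom_mul Pfl (a ≫ u) (c ≫ u) hT hcu
  have : Flat ((a ⊗ₘ c) ≫ μ[G]).left := h1.1
  have : LocallyOfFinitePresentation ((a ⊗ₘ c) ≫ μ[G]).left := h1.2
  obtain ⟨W, hW, hWu⟩ := exists_opens_eq_range u.left ((a ⊗ₘ c) ≫ μ[G]).left h2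
  apply hmax W hWu
  change _ ∈ (W : Set G.left)
  rw [hW]
  exact ⟨x, rfl⟩

/-- `T = V → S` is fppf as soon as `u|_V` is and `G` or `H` is flat / lfp. -/
theorem pfl_of_restrict (hfl : Flat G.hom ∨ Flat H.hom)
    (hfp : LocallyOfFinitePresentation G.hom ∨ LocallyOfFinitePresentation H.hom)
    (V : G.left.Opens) (hV : Pfl (V.ι ≫ u.left)) : Pfl (V.ι ≫ G.hom) := by
  have hV1 : Flat (V.ι ≫ u.left) := hV.1
  have hV2 : LocallyOfFinitePresentation (V.ι ≫ u.left) := hV.2
  refine ⟨?_, ?_⟩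
  · rcases hfl with h | h
    · change Flat (V.ι ≫ G.hom)
      infer_instance
    · change Flat (V.ι ≫ G.hom)
      rw [← Over.w u, ← Category.assoc]
      infer_instance
  · rcases hfp with h | h
    · change LocallyOfFinitePresentation (V.ι ≫ G.hom)
      infer_instance
    · change LocallyOfFinitePresentation (V.ι ≫ G.hom)
      rw [← Over.w u, ← Category.assoc]
      infer_instance

/-- The key inclusion for a property `P` (implying fppf) satisfying pointwise flat descent. -/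
theorem key_of_descent (P : MorphismProperty Scheme.{u}) [P.IsStableUnderBaseChange]
    [P.RespectsIso]
    (hPfl : ∀ {X Y : Scheme.{u}} (f : X ⟶ Y), P f → Pfl f)
    (hD : ∀ {X B X' B' : Scheme.{u}} (f : X ⟶ B) (g : B' ⟶ B) (f' : X' ⟶ B') (g' : X' ⟶ X),
      IsPullback g' f' f g → LocallyOfFinitePresentation f → Flat g →
      ∀ {Y : Scheme.{u}} (i : Y ⟶ X') [IsOpenImmersion i], P (i ≫ f') → ∀ y : Y,
        ∃ W : X.Opens, g' (i y) ∈ W ∧ P (W.ι ≫ f))
    (V : G.left.Opens)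
    (hmax : ∀ W : G.left.Opens, P (W.ι ≫ u.left) → W ≤ V)
    {T : Over S} (hT : Pfl T.hom) (τ : T ⟶ G) [hτo : IsOpenImmersion τ.left]
    (hτuP : P (τ ≫ u).left) (a : T ⟶ G) (z : ↥(T ⊗ T).left) :
    ((a ⊗ₘ τ) ≫ μ[G]).left z ∈ V := by
  have hτ : Pfl τ.left := ⟨inferInstance, inferInstance⟩
  have hτu : Pfl (τ ≫ u).left := hPfl _ hτuP
  set ψ := ((a ⊗ₘ τ) ≫ μ[G]).left with hψdef
  have hψ : Pfl ψ := prop_tensorHom_mul Pfl a τ hT hτ
  have hψu : Pfl (ψ ≫ u.left) := by
    rw [hψdef, tensorHom_mul_comp_hom]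
    exact prop_tensorHom_mul Pfl (a ≫ u) (τ ≫ u) hT hτu
  have : Flat ψ := hψ.1
  have : LocallyOfFinitePresentation ψ := hψ.2
  obtain ⟨V₀, hV₀r, hV₀⟩ := exists_opens_eq_range u.left ψ hψu
  have hV₀lfp : LocallyOfFinitePresentation (V₀.ι ≫ u.left) := hV₀.2
  -- the open immersion `j : T × T → T × G`, `(t, t') ↦ (t, a(t) t')`
  let j : T ⊗ T ⟶ T ⊗ G := (T ◁ τ) ≫ (shear a).hom
  have hiso : IsIso (shear a).hom.left :=
    (inferInstance : IsIso ((Over.forget S).map (shear a).hom))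
  have hiso' : IsIso (shear (a ≫ u)).hom.left :=
    (inferInstance : IsIso ((Over.forget S).map (shear (a ≫ u)).hom))
  have hj : IsOpenImmersion j.left := by
    have h1 : IsOpenImmersion (T ◁ τ).left :=
      prop_whiskerLeft @IsOpenImmersion T τ hτo
    change IsOpenImmersion ((T ◁ τ).left ≫ (shear a).hom.left)
    infer_instance
  have hjp : j ≫ snd T G = (a ⊗ₘ τ) ≫ μ[G] := by
    rw [tensorHom_mul_eq, Category.assoc]
  have hju : j ≫ (T ◁ u) = (T ◁ (τ ≫ u)) ≫ (shear (a ≫ u)).hom := by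
    rw [Category.assoc, shear_naturality, ← Category.assoc, ← MonoidalCategory.whiskerLeft_comp]
  have hPj : P (j.left ≫ (T ◁ u).left) := by
    rw [← Over.comp_left, hju, Over.comp_left]
    exact (P.cancel_right_of_respectsIso _ _).mpr (prop_whiskerLeft P T (τ ≫ u) hτuP)
  set p := (snd T G).left with hpdef
  have hjψ : j.left ≫ p = ψ := by
    rw [hpdef, ← Over.comp_left, hjp]
  let V₀' : (T ⊗ G).left.Opens := p ⁻¹ᵁ V₀
  have hr : Set.range j.left ⊆ Set.range V₀'.ι := by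
    rw [Scheme.Opens.range_ι]
    rintro _ ⟨w, rfl⟩
    change p (j.left w) ∈ (V₀ : Set G.left)
    rw [hV₀r, ← Scheme.Hom.comp_apply, hjψ]
    exact ⟨w, rfl⟩
  let j₀ : (T ⊗ T).left ⟶ V₀'.toScheme := IsOpenImmersion.lift V₀'.ι j.left hr
  have hj₀ : j₀ ≫ V₀'.ι = j.left := IsOpenImmersion.lift_fac _ _ _
  have hj₀o : IsOpenImmersion j₀ := by
    have : IsOpenImmersion (j₀ ≫ V₀'.ι) := by rw [hj₀]; exact hj
    exact IsOpenImmersion.of_comp j₀ V₀'.ι
  have hPj₀ : P (j₀ ≫ (V₀'.ι ≫ (T ◁ u).left)) := by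
    rw [← Category.assoc, hj₀]
    exact hPj
  have Hbig : IsPullback p (T ◁ u).left u.left (snd T H).left :=
    ((isPullback_whiskerLeft_snd T u).map (Over.forget S)).flip
  have sq : IsPullback (p ∣_ V₀) (V₀'.ι ≫ (T ◁ u).left) (V₀.ι ≫ u.left) (snd T H).left :=
    (isPullback_morphismRestrict p V₀).paste_vert Hbig
  have hflat : Flat (snd T H).left := prop_snd @Flat T H hT.1
  obtain ⟨W₀, hxW₀, hW₀⟩ := hD (V₀.ι ≫ u.left) (snd T H).left (V₀'.ι ≫ (T ◁ u).left) (p ∣_ V₀)
    sq hV₀lfp hflat j₀ hPj₀ z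
  have hW₀' : P ((W₀.ι ≫ V₀.ι) ≫ u.left) := by
    rw [Category.assoc]
    exact hW₀
  have hmem := mem_of_max_of_isOpenImmersion P u.left V hmax (W₀.ι ≫ V₀.ι) hW₀' ⟨_, hxW₀⟩
  have e : (W₀.ι ≫ V₀.ι) ⟨_, hxW₀⟩ = ψ z := by
    rw [Scheme.Hom.comp_apply]
    change V₀.ι ((p ∣_ V₀) (j₀ z)) = ψ z
    rw [← Scheme.Hom.comp_apply, morphismRestrict_ι, Scheme.Hom.comp_apply,
      ← Scheme.Hom.comp_apply j₀, hj₀, ← Scheme.Hom.comp_apply, hjψ]
  rw [e] at hmem
  exact hmem

end Group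


section Descent

open Groth.Agent.Lib.Helper19

/-- pointwise flat descent of smoothness, in neighbourhood form -/
theorem descent_smooth {X B X' B' : Scheme.{u}} (f : X ⟶ B) (g : B' ⟶ B) (f' : X' ⟶ B')
    (g' : X' ⟶ X) (sq : IsPullback g' f' f g) (hf : LocallyOfFinitePresentation f) (hg : Flat g)
    {Y : Scheme.{u}} (i : Y ⟶ X') [IsOpenImmersion i] (h : Smooth (i ≫ f')) (y : Y) :
    ∃ W : X.Opens, g' (i y) ∈ W ∧ Smooth (W.ι ≫ f) := by
  have hf' : LocallyOfFinitePresentation f' :=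
    MorphismProperty.of_isPullback (P := @LocallyOfFinitePresentation) sq hf
  have h1 : i y ∈ f'.smoothLocus := by
    have h2 : y ∈ i ⁻¹ᵁ f'.smoothLocus := by
      rw [Scheme.Hom.preimage_smoothLocus_eq, Scheme.Hom.smoothLocus_eq_top]
      trivial
    exact h2
  have h3 := mem_smoothLocus_of_isPullback_of_flat f g f' g' sq (i y) h1
  exact ⟨f.smoothLocus, h3, smooth_ι_smoothLocus f⟩

/-- pointwise flat descent of étaleness, in neighbourhood form -/
theorem descent_etale {X B X' B' : Scheme.{u}} (f : X ⟶ B) (g : B' ⟶ B) (f' : X' ⟶ B')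
    (g' : X' ⟶ X) (sq : IsPullback g' f' f g) (hf : LocallyOfFinitePresentation f) (hg : Flat g)
    {Y : Scheme.{u}} (i : Y ⟶ X') [IsOpenImmersion i] (h : Etale (i ≫ f')) (y : Y) :
    ∃ W : X.Opens, g' (i y) ∈ W ∧ Etale (W.ι ≫ f) := by
  have hsm : Smooth (i ≫ f') := inferInstance
  obtain ⟨W, hW, hWs⟩ := descent_smooth f g f' g' sq hf hg i hsm y
  have h1 : (f.stalkMap (g' (i y))).hom.FormallySmooth :=
    (mem_smoothLocus_iff_exists_nhd f _).mpr ⟨W, hW, hWs⟩
  have h2 : ∃ U' : X'.Opens, i y ∈ U' ∧ FormallyUnramified (U'.ι ≫ f') := by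
    refine ⟨i.opensRange, ⟨y, rfl⟩, ?_⟩
    rw [← Scheme.Hom.isoOpensRange_inv_comp i, Category.assoc]
    have : FormallyUnramified (i ≫ f') := inferInstance
    infer_instance
  have h3 := (exists_nhd_formallyUnramified_iff_of_isPullback sq (i y)).mp h2
  exact (exists_nhd_etale_iff f (g' (i y))).mpr ⟨h1, h3⟩

end Descent

section Assembly

variable (G : Over S) [GrpObj G]

/-- the four conclusions follow from the key inclusion -/
theorem isSubgroup_of_key (V : G.left.Opens) (hopen : IsOpenMap (V.ι ≫ G.hom))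
    (key : ∀ (a : Over.mk (V.ι ≫ G.hom) ⟶ G)
      (x : ↥(Over.mk (V.ι ≫ G.hom) ⊗ Over.mk (V.ι ≫ G.hom)).left),
      ((a ⊗ₘ (Over.homMk V.ι rfl : Over.mk (V.ι ≫ G.hom) ⟶ G)) ≫ μ[G]).left x ∈ V) :
    IsOpen (G.hom.base '' (V : Set G.left)) ∧
    (∀ g ∈ V, ∀ p : ↥(𝟙_ (Over S)).left, (𝟙_ (Over S)).hom.base p = G.hom.base g →
      η[G].left.base p ∈ V) ∧
    (∀ g ∈ V, ι[G].left.base g ∈ V) ∧
    (∀ z : ↥(G ⊗ G).left, (fst G G).left.base z ∈ V → (snd G G).left.base z ∈ V →
      μ[G].left.base z ∈ V) := by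
  let T : Over S := Over.mk (V.ι ≫ G.hom)
  let τ : T ⟶ G := Over.homMk V.ι rfl
  refine ⟨?_, ?_, ?_, ?_⟩
  · have : G.hom.base '' (V : Set G.left) = Set.range (V.ι ≫ G.hom).base := by
      rw [Scheme.Hom.comp_base, TopCat.coe_comp, Set.range_comp, Scheme.Opens.range_ι]
    rw [this]
    exact hopen.isOpen_range
  · intro g hg p hp
    let g' : ↥T.left := ⟨g, hg⟩
    have h := key τ⁻¹ ((lift (𝟙 T) (𝟙 T)).left.base g')
    rw [← Scheme.Hom.comp_apply, ← Over.comp_left] at h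
    have e : lift (𝟙 T) (𝟙 T) ≫ (τ⁻¹ ⊗ₘ τ) ≫ μ[G] = toUnit T ≫ η[G] := by
      rw [lift_map_assoc, Category.id_comp, Category.id_comp, ← Hom.mul_def, inv_mul_cancel,
        Hom.one_def]
    rw [e, Over.comp_left, Scheme.Hom.comp_apply] at h
    have hp' : (toUnit T).left.base g' = p := by
      change G.hom.base (V.ι.base g') = p
      exact hp.symm
    rw [hp'] at h
    exact h
  · intro g hg
    let g' : ↥T.left := ⟨g, hg⟩
    have h := key (τ⁻¹ * τ⁻¹) ((lift (𝟙 T) (𝟙 T)).left.base g')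
    rw [← Scheme.Hom.comp_apply, ← Over.comp_left] at h
    have e : lift (𝟙 T) (𝟙 T) ≫ ((τ⁻¹ * τ⁻¹) ⊗ₘ τ) ≫ μ[G] = τ ≫ ι[G] := by
      rw [lift_map_assoc, Category.id_comp, Category.id_comp, ← Hom.mul_def, _root_.mul_assoc,
        inv_mul_cancel, _root_.mul_one, Hom.inv_def]
    rw [e, Over.comp_left, Scheme.Hom.comp_apply] at h
    exact h
  · intro z hz1 hz2
    have hr : z ∈ Set.range (τ ⊗ₘ τ).left.base := by
      rw [Over.tensorHom_left, Scheme.Pullback.range_map]
      refine ⟨?_, ?_⟩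
      · rw [Set.mem_preimage, show τ.left = V.ι from rfl, Scheme.Opens.range_ι]
        exact hz1
      · rw [Set.mem_preimage, show τ.left = V.ι from rfl, Scheme.Opens.range_ι]
        exact hz2
    obtain ⟨z', rfl⟩ := hr
    have h := key τ z'
    rw [Over.comp_left, Scheme.Hom.comp_apply] at h
    exact h

end Assembly

section Main

variable (G H : Over S) [GrpObj G] [GrpObj H] (u : G ⟶ H) [IsMonHom u]

theorem isOpenMap_of_pfl {X Y : Scheme.{u}} (f : X ⟶ Y) (h : Pfl f) : IsOpenMap f := by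
  have : Flat f := h.1
  have : LocallyOfFinitePresentation f := h.2
  exact Scheme.Hom.isOpenMap f

theorem maxOpen_fppf_isSubgroup (hfl : Flat G.hom ∨ Flat H.hom)
    (hfp : LocallyOfFinitePresentation G.hom ∨ LocallyOfFinitePresentation H.hom)
    (V : G.left.Opens) (hV : Pfl (V.ι ≫ u.left))
    (hmax : ∀ W : G.left.Opens, Pfl (W.ι ≫ u.left) → W ≤ V) :
    IsOpen (G.hom.base '' (V : Set G.left)) ∧
    (∀ g ∈ V, ∀ p : ↥(𝟙_ (Over S)).left, (𝟙_ (Over S)).hom.base p = G.hom.base g →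
      η[G].left.base p ∈ V) ∧
    (∀ g ∈ V, ι[G].left.base g ∈ V) ∧
    (∀ z : ↥(G ⊗ G).left, (fst G G).left.base z ∈ V → (snd G G).left.base z ∈ V →
      μ[G].left.base z ∈ V) := by
  have hT : Pfl (V.ι ≫ G.hom) := pfl_of_restrict G H u hfl hfp V hV
  refine isSubgroup_of_key G V (isOpenMap_of_pfl _ hT) ?_
  intro a x
  exact key_fppf G H u V hmax (T := Over.mk (V.ι ≫ G.hom)) (T' := Over.mk (V.ι ≫ G.hom)) hT a
    (Over.homMk V.ι rfl) ⟨inferInstanceAs (Flat V.ι),
      inferInstanceAs (LocallyOfFinitePresentation V.ι)⟩ hV x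

theorem maxOpen_isSubgroup_of_descent (P : MorphismProperty Scheme.{u})
    [P.IsStableUnderBaseChange] [P.RespectsIso]
    (hPfl : ∀ {X Y : Scheme.{u}} (f : X ⟶ Y), P f → Pfl f)
    (hD : ∀ {X B X' B' : Scheme.{u}} (f : X ⟶ B) (g : B' ⟶ B) (f' : X' ⟶ B') (g' : X' ⟶ X),
      IsPullback g' f' f g → LocallyOfFinitePresentation f → Flat g →
      ∀ {Y : Scheme.{u}} (i : Y ⟶ X') [IsOpenImmersion i], P (i ≫ f') → ∀ y : Y,
        ∃ W : X.Opens, g' (i y) ∈ W ∧ P (W.ι ≫ f))
    (hfl : Flat G.hom ∨ Flat H.hom)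
    (hfp : LocallyOfFinitePresentation G.hom ∨ LocallyOfFinitePresentation H.hom)
    (V : G.left.Opens) (hV : P (V.ι ≫ u.left))
    (hmax : ∀ W : G.left.Opens, P (W.ι ≫ u.left) → W ≤ V) :
    IsOpen (G.hom.base '' (V : Set G.left)) ∧
    (∀ g ∈ V, ∀ p : ↥(𝟙_ (Over S)).left, (𝟙_ (Over S)).hom.base p = G.hom.base g →
      η[G].left.base p ∈ V) ∧
    (∀ g ∈ V, ι[G].left.base g ∈ V) ∧
    (∀ z : ↥(G ⊗ G).left, (fst G G).left.base z ∈ V → (snd G G).left.base z ∈ V →
      μ[G].left.base z ∈ V) := by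
  have hT : Pfl (V.ι ≫ G.hom) := pfl_of_restrict G H u hfl hfp V (hPfl _ hV)
  refine isSubgroup_of_key G V (isOpenMap_of_pfl _ hT) ?_
  intro a x
  have hτo : IsOpenImmersion (Over.homMk V.ι rfl : Over.mk (V.ι ≫ G.hom) ⟶ G).left :=
    inferInstanceAs (IsOpenImmersion V.ι)
  exact key_of_descent G H u P hPfl hD V hmax (T := Over.mk (V.ι ≫ G.hom)) hT
    (Over.homMk V.ι rfl) hV a x

/-- **SGA3 VI_B**: the maximal open on which `u` is fppf / smooth / étale is an open subgroup. -/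
theorem maxOpen_isSubgroup (hfl : Flat G.hom ∨ Flat H.hom)
    (hfp : LocallyOfFinitePresentation G.hom ∨ LocallyOfFinitePresentation H.hom)
    (P : MorphismProperty Scheme.{u})
    (hP : (∀ (X Y : Scheme.{u}) (f : X ⟶ Y), P f ↔ (Flat f ∧ LocallyOfFinitePresentation f)) ∨
      (∀ (X Y : Scheme.{u}) (f : X ⟶ Y), P f ↔ Smooth f) ∨
      (∀ (X Y : Scheme.{u}) (f : X ⟶ Y), P f ↔ Etale f))
    (V : G.left.Opens) (hV : P (V.ι ≫ u.left))
    (hmax : ∀ W : G.left.Opens, P (W.ι ≫ u.left) → W ≤ V) :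
    IsOpen (G.hom.base '' (V : Set G.left)) ∧
    (∀ g ∈ V, ∀ p : ↥(𝟙_ (Over S)).left, (𝟙_ (Over S)).hom.base p = G.hom.base g →
      η[G].left.base p ∈ V) ∧
    (∀ g ∈ V, ι[G].left.base g ∈ V) ∧
    (∀ z : ↥(G ⊗ G).left, (fst G G).left.base z ∈ V → (snd G G).left.base z ∈ V →
      μ[G].left.base z ∈ V) := by
  rcases hP with hP | hP | hP
  · have e : P = Pfl := by
      ext X Y f
      exact hP X Y f
    subst e
    exact maxOpen_fppf_isSubgroup G H u hfl hfp V hV hmax
  · have e : P = @Smooth := by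
      ext X Y f
      exact hP X Y f
    subst e
    refine maxOpen_isSubgroup_of_descent G H u @Smooth ?_ ?_ hfl hfp V hV hmax
    · intro X Y f hf
      have : Smooth f := hf
      exact ⟨inferInstance, inferInstance⟩
    · intro X B X' B' f g f' g' sq hf hg Y i _ h y
      exact descent_smooth f g f' g' sq hf hg i h y
  · have e : P = @Etale := by
      ext X Y f
      exact hP X Y f
    subst e
    refine maxOpen_isSubgroup_of_descent G H u @Etale ?_ ?_ hfl hfp V hV hmax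
    · intro X Y f hf
      have : Etale f := hf
      exact ⟨inferInstance, inferInstance⟩
    · intro X B X' B' f g f' g' sq hf hg Y i _ h y
      exact descent_etale f g f' g' sq hf hg i h y

end Main

end Groth.Agent.Lib.Helper1.MaxOpenSubgrp
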