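import Mathlib

/-!
# Triangularization of nilpotent endomorphisms / matrices (helper1)
-/

set_option autoImplicit false

namespace Groth.Agent.Lib.Helper1.NilTri

universe u

open Module

variable {k : Type*} [Field k]

/-- A nilpotent endomorphism of a `d`-dimensional space admits a basis in which it is strictly
lower triangular: `T (b i)` only involves `b j` with `i < j`. -/
theorem exists_basis_tri : ∀ (d : ℕ) (V : Type u) [AddCommGroup V] [Module k V]
    [FiniteDimensional k V] (_ : Module.finrank k V = d) (T : V →ₗ[k] V) (_ : IsNilpotent T),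
    ∃ b : Basis (Fin d) k V, ∀ i j : Fin d, j ≤ i → b.repr (T (b i)) j = 0 := by
  intro d
  induction d with
  | zero =>
    intro V _ _ _ hd T _
    have : Module.finrank k V = 0 := hd
    exact ⟨Module.finBasisOfFinrankEq k V hd, fun i => i.elim0⟩
  | succ d ih =>
    intro V _ _ _ hd T hT
    have hnt : Nontrivial V := Module.nontrivial_of_finrank_pos (R := k) (by omega)
    -- range T is proper
    have hlt : LinearMap.range T < ⊤ := by
      rw [lt_top_iff_ne_top]
      intro htop
      have hsurj : Function.Surjective T := LinearMap.range_eq_top.mp htop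
      obtain ⟨m, hm⟩ := hT
      have hs : Function.Surjective ⇑(T ^ m) := by
        rw [Module.End.coe_pow]
        exact Function.Surjective.iterate hsurj m
      rw [hm] at hs
      obtain ⟨x, y, hxy⟩ := hnt
      obtain ⟨a, ha⟩ := hs x
      obtain ⟨b, hb⟩ := hs y
      simp at ha hb
      exact hxy (ha.symm.trans hb)
    obtain ⟨f, hf0, hfle⟩ := Submodule.exists_le_ker_of_lt_top _ hlt
    obtain ⟨w, hw⟩ : ∃ w, f w ≠ 0 := by
      by_contra h
      push Not at h
      exact hf0 (LinearMap.ext h)
    set H : Submodule k V := LinearMap.ker f with hH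
    have hTH : ∀ x ∈ H, T x ∈ H := fun x _ => hfle (LinearMap.mem_range_self T x)
    have hfs : Function.Surjective f := by
      intro c
      refine ⟨(c / f w) • w, ?_⟩
      simp [div_mul_cancel₀ _ hw]
    have hdH : Module.finrank k H = d := by
      have h1 := LinearMap.finrank_range_add_finrank_ker f
      rw [LinearMap.range_eq_top.mpr hfs, finrank_top, Module.finrank_self, hd, ← hH] at h1
      omega
    have hnil : IsNilpotent (T.restrict hTH) := by
      obtain ⟨m, hm⟩ := hT
      refine ⟨m, ?_⟩
      rw [Module.End.pow_restrict]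
      ext ⟨x, hx⟩
      simp [hm]
    obtain ⟨b', hb'⟩ := ih H hdH (T.restrict hTH) hnil
    have hli : ∀ (c : k), ∀ x ∈ H, c • w + x = 0 → c = 0 := by
      intro c x hx hc
      have := congrArg f hc
      rw [map_add, map_smul, LinearMap.mem_ker.mp hx, map_zero, add_zero, smul_eq_mul] at this
      exact (mul_eq_zero.mp this).resolve_right hw
    have hsp : ∀ z : V, ∃ c : k, z + c • w ∈ H := by
      intro z
      refine ⟨-(f z / f w), ?_⟩
      rw [hH, LinearMap.mem_ker, map_add, map_smul, smul_eq_mul, neg_mul, div_mul_cancel₀ _ hw]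
      ring
    let b : Basis (Fin (d + 1)) k V := Basis.mkFinCons w b' hli hsp
    have hbcoe : (b : Fin (d + 1) → V) = Fin.cons w ((↑) ∘ b') := Basis.coe_mkFinCons w b' hli hsp
    have hb0 : b 0 = w := by rw [hbcoe]; rfl
    have hbs : ∀ l : Fin d, b l.succ = (b' l : V) := by
      intro l; rw [hbcoe]; simp
    -- representation of elements of H
    have hrepr : ∀ (h : H), b.repr (h : V) = ∑ l, (b'.repr h l) • Finsupp.single l.succ (1 : k) := by
      intro h
      have h1 : (h : V) = ∑ l, (b'.repr h l) • b l.succ := by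
        conv_lhs => rw [← b'.sum_repr h]
        rw [Submodule.coe_sum]
        refine Finset.sum_congr rfl fun l _ => ?_
        rw [Submodule.coe_smul, hbs]
      conv_lhs => rw [h1]
      rw [map_sum]
      refine Finset.sum_congr rfl fun l _ => ?_
      rw [map_smul, Basis.repr_self]
    have hr0 : ∀ (h : H), b.repr (h : V) 0 = 0 := by
      intro h
      rw [hrepr, Finsupp.coe_finsetSum, Finset.sum_apply]
      refine Finset.sum_eq_zero fun l _ => ?_
      rw [Finsupp.smul_apply, Finsupp.single_apply, if_neg (Fin.succ_ne_zero l), smul_zero]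
    have hrs : ∀ (h : H) (j : Fin d), b.repr (h : V) j.succ = b'.repr h j := by
      intro h j
      rw [hrepr, Finsupp.coe_finsetSum, Finset.sum_apply, Finset.sum_eq_single j]
      · simp
      · intro l _ hl
        rw [Finsupp.smul_apply, Finsupp.single_apply, if_neg, smul_zero]
        intro h'
        exact hl (Fin.succ_injective _ h')
      · intro h'; exact absurd (Finset.mem_univ j) h'
    refine ⟨b, ?_⟩
    intro i j hji
    have hTi : T (b i) ∈ H := hfle (LinearMap.mem_range_self T _)
    rcases Fin.eq_zero_or_eq_succ j with rfl | ⟨j', rfl⟩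
    · exact hr0 ⟨T (b i), hTi⟩
    · rcases Fin.eq_zero_or_eq_succ i with rfl | ⟨i', rfl⟩
      · exact absurd hji (by simp [Fin.le_def])
      · have hji' : j' ≤ i' := by simpa using hji
        have h2 := hrs ⟨T (b i'.succ), hfle (LinearMap.mem_range_self T _)⟩ j'
        rw [h2]
        have h3 : (⟨T (b i'.succ), hfle (LinearMap.mem_range_self T _)⟩ : H)
            = (T.restrict hTH) (b' i') := by
          apply Subtype.ext
          rw [LinearMap.restrict_coe_apply, hbs]
        rw [h3]
        exact hb' i' j' hji'

end Groth.Agent.Lib.Helper1.NilTri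

namespace Groth.Agent.Lib.Helper1.NilTri

open Module Matrix

variable {k : Type*} [Field k]

/-- A nilpotent matrix is conjugate to a strictly lower triangular one. -/
theorem exists_conj_low {n : ℕ} (M : Matrix (Fin n) (Fin n) k) (hM : IsNilpotent M) :
    ∃ (g L : Matrix (Fin n) (Fin n) k), g.det ≠ 0 ∧ (∀ i j, i ≤ j → L i j = 0) ∧
      M * g = g * L := by
  set T : (Fin n → k) →ₗ[k] (Fin n → k) := Matrix.toLinAlgEquiv' M with hTdef
  have hT : IsNilpotent T := hM.map (Matrix.toLinAlgEquiv' (R := k) (n := Fin n))
  obtain ⟨b, hb⟩ := exists_basis_tri n (Fin n → k) (Module.finrank_fin_fun k) T hT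
  have hTapp : ∀ v, T v = M *ᵥ v := fun v => by rw [hTdef, Matrix.toLinAlgEquiv'_apply]
  set g : Matrix (Fin n) (Fin n) k := Matrix.of fun i j => b j i with hg
  set L : Matrix (Fin n) (Fin n) k := Matrix.of fun i j => b.repr (T (b j)) i with hL
  set g' : Matrix (Fin n) (Fin n) k := Matrix.of fun i j => b.repr (Pi.single j 1) i with hg'
  have h1 : g * g' = 1 := by
    ext i j
    rw [Matrix.mul_apply]
    have := congrFun (b.sum_repr (Pi.single j (1 : k))) i
    rw [Finset.sum_apply] at this
    simp only [hg, hg', Matrix.of_apply, Pi.smul_apply, smul_eq_mul] at this ⊢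
    rw [Matrix.one_apply, ← Pi.single_apply]
    rw [← this]
    refine Finset.sum_congr rfl fun l _ => ?_
    ring
  have hdet : g.det ≠ 0 := by
    intro h0
    have := congrArg Matrix.det h1
    rw [Matrix.det_mul, h0, zero_mul, Matrix.det_one] at this
    exact zero_ne_one this
  refine ⟨g, L, hdet, ?_, ?_⟩
  · intro i j hij
    exact hb j i hij
  · ext i j
    rw [Matrix.mul_apply, Matrix.mul_apply]
    have h2 := congrFun (b.sum_repr (T (b j))) i
    rw [Finset.sum_apply] at h2
    have h3 : (T (b j)) i = ∑ l, M i l * b j l := by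
      rw [hTapp]; rfl
    simp only [hg, hL, Matrix.of_apply, Pi.smul_apply, smul_eq_mul] at h2 ⊢
    rw [← h3, ← h2]
    refine Finset.sum_congr rfl fun l _ => ?_
    ring

/-- Every nilpotent matrix has the form `g * u * adj g` with `u` strictly lower triangular. -/
theorem exists_param {n : ℕ} (M : Matrix (Fin n) (Fin n) k) (hM : IsNilpotent M) :
    ∃ (g u : Matrix (Fin n) (Fin n) k), (∀ i j, i ≤ j → u i j = 0) ∧
      M = g * u * g.adjugate := by
  obtain ⟨g, L, hdet, hL, hML⟩ := exists_conj_low M hM
  refine ⟨g, (g.det)⁻¹ • L, ?_, ?_⟩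
  · intro i j hij
    rw [Matrix.smul_apply, hL i j hij, smul_zero]
  · rw [Matrix.mul_smul, Matrix.smul_mul, ← hML, Matrix.mul_assoc, Matrix.mul_adjugate,
      Matrix.mul_smul, Matrix.mul_one, smul_smul, inv_mul_cancel₀ hdet, one_smul]

end Groth.Agent.Lib.Helper1.NilTri
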