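import Mathlib
import Groth.Agent.Lib.Helper1.NilTri

/-!
# The nilpotent cone: parametrization and primality of the radical (helper1)
-/

set_option autoImplicit false

namespace Groth.Agent.Lib.Helper1.NilCone

universe u

open MvPolynomial Matrix

section General

variable {A : Type*} [CommRing A] {n : ℕ}

/-- A strictly lower triangular `n × n` matrix has `n`-th power zero. -/
theorem low_pow_eq_zero (L : Matrix (Fin n) (Fin n) A) (hL : ∀ i j, i ≤ j → L i j = 0) :
    L ^ n = 0 := by
  have hup : (Lᵀ).IsUpperTriangular := by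
    intro i j hij
    rw [Matrix.transpose_apply]
    exact hL j i (le_of_lt hij)
  have hcp : (Lᵀ).charpoly = Polynomial.X ^ n := by
    rw [Matrix.charpoly_of_isUpperTriangular _ hup]
    have : ∀ i : Fin n, (Polynomial.X - Polynomial.C ((Lᵀ) i i) : Polynomial A) = Polynomial.X := by
      intro i
      rw [Matrix.transpose_apply, hL i i le_rfl, map_zero, sub_zero]
    rw [Finset.prod_congr rfl fun i _ => this i]
    simp
  have h1 := Matrix.aeval_self_charpoly (Lᵀ)
  rw [hcp, map_pow, Polynomial.aeval_X] at h1
  have h2 : (L ^ n)ᵀ = 0 := by rw [Matrix.transpose_pow, h1]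
  simpa using congrArg Matrix.transpose h2

theorem conj_adj_pow (g L : Matrix (Fin n) (Fin n) A) (m : ℕ) :
    (g * L * g.adjugate) ^ (m + 1) = g.det ^ m • (g * L ^ (m + 1) * g.adjugate) := by
  induction m with
  | zero => simp
  | succ m ih =>
    rw [pow_succ, ih, Matrix.smul_mul]
    have : g * L ^ (m + 1) * g.adjugate * (g * L * g.adjugate)
        = g.det • (g * L ^ (m + 1 + 1) * g.adjugate) := by
      calc g * L ^ (m + 1) * g.adjugate * (g * L * g.adjugate)
          = g * L ^ (m + 1) * (g.adjugate * g) * L * g.adjugate := by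
            simp only [Matrix.mul_assoc]
        _ = g.det • (g * L ^ (m + 1 + 1) * g.adjugate) := by
            rw [Matrix.adjugate_mul, Matrix.mul_smul, Matrix.mul_one, Matrix.smul_mul,
              Matrix.smul_mul, pow_succ L (m + 1)]
            simp only [Matrix.mul_assoc]
    rw [this, smul_smul, ← pow_succ g.det]

theorem conj_adj_isNilpotent (g L : Matrix (Fin n) (Fin n) A) (hL : ∀ i j, i ≤ j → L i j = 0) :
    IsNilpotent (g * L * g.adjugate) := by
  refine ⟨n + 1, ?_⟩
  rw [conj_adj_pow, pow_succ, low_pow_eq_zero L hL]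
  simp

/-- Over a reduced ring, a nilpotent matrix has characteristic polynomial `X ^ n`. -/
theorem charpoly_of_isNilpotent [IsDomain A] (M : Matrix (Fin n) (Fin n) A) (hM : IsNilpotent M) :
    M.charpoly = Polynomial.X ^ n := by
  have h := Matrix.isNilpotent_charpoly_sub_pow_of_isNilpotent hM
  rw [Fintype.card_fin] at h
  exact sub_eq_zero.mp (IsReduced.eq_zero _ h)

/-- If the characteristic polynomial of `M` is `X ^ n`, then `M` is nilpotent. -/
theorem isNilpotent_of_charpoly (M : Matrix (Fin n) (Fin n) A) (hM : M.charpoly = Polynomial.X ^ n) :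
    IsNilpotent M := by
  refine ⟨n, ?_⟩
  have h1 := Matrix.aeval_self_charpoly M
  rwa [hM, map_pow, Polynomial.aeval_X] at h1

end General

section Param

variable (k : Type u) [Field k] (n : ℕ)

/-- generic matrix `g` -/
noncomputable def Gm : Matrix (Fin n) (Fin n) (MvPolynomial ((Fin n × Fin n) ⊕ (Fin n × Fin n)) k) :=
  Matrix.of fun i j => X (Sum.inl (i, j))

/-- generic strictly lower triangular matrix `u` -/
noncomputable def Um : Matrix (Fin n) (Fin n) (MvPolynomial ((Fin n × Fin n) ⊕ (Fin n × Fin n)) k) :=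
  Matrix.of fun i j => if j < i then X (Sum.inr (i, j)) else 0

theorem Um_low : ∀ i j, i ≤ j → Um k n i j = 0 := by
  intro i j hij
  simp [Um, not_lt.mpr hij]

/-- the generic nilpotent matrix `g u adj(g)` -/
noncomputable def Phi : Matrix (Fin n) (Fin n) (MvPolynomial ((Fin n × Fin n) ⊕ (Fin n × Fin n)) k) :=
  Gm k n * Um k n * (Gm k n).adjugate

/-- the comorphism of the parametrization -/
noncomputable def phi : MvPolynomial (Fin n × Fin n) k →ₐ[k]
    MvPolynomial ((Fin n × Fin n) ⊕ (Fin n × Fin n)) k :=
  aeval fun p => Phi k n p.1 p.2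

theorem Phi_isNilpotent : IsNilpotent (Phi k n) :=
  conj_adj_isNilpotent _ _ (Um_low k n)

theorem Phi_charpoly : (Phi k n).charpoly = Polynomial.X ^ n :=
  charpoly_of_isNilpotent _ (Phi_isNilpotent k n)

theorem map_phi : (Matrix.mvPolynomialX (Fin n) (Fin n) k).map (phi k n) = Phi k n := by
  ext i j
  simp [phi, Matrix.mvPolynomialX_apply]

theorem phi_coeff (i : ℕ) (hi : i < n) :
    phi k n ((Matrix.charpoly (Matrix.mvPolynomialX (Fin n) (Fin n) k)).coeff i) = 0 := by
  have h1 := Matrix.charpoly_map (Matrix.mvPolynomialX (Fin n) (Fin n) k) (phi k n).toRingHom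
  have h2 : (Matrix.mvPolynomialX (Fin n) (Fin n) k).map (phi k n).toRingHom = Phi k n :=
    map_phi k n
  rw [h2, Phi_charpoly] at h1
  have h3 := congrArg (fun p => Polynomial.coeff p i) h1
  simp only [Polynomial.coeff_map, Polynomial.coeff_X_pow] at h3
  rw [if_neg (by omega)] at h3
  exact h3.symm

/-- the ideal of the statement -/
noncomputable def Inil : Ideal (MvPolynomial (Fin n × Fin n) k) :=
  Ideal.span (Set.range (fun i : Fin n =>
      (Matrix.charpoly (Matrix.mvPolynomialX (Fin n) (Fin n) k)).coeff (i : ℕ)))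

theorem Inil_le_ker : Inil k n ≤ RingHom.ker (phi k n) := by
  rw [Inil, Ideal.span_le]
  rintro _ ⟨i, rfl⟩
  exact phi_coeff k n i i.2

instance ker_phi_isPrime : (RingHom.ker (phi k n)).IsPrime := RingHom.ker_isPrime _

theorem radical_le_ker : (Inil k n).radical ≤ RingHom.ker (phi k n) :=
  (Ideal.IsPrime.radical_le_iff (ker_phi_isPrime k n)).mpr (Inil_le_ker k n)

/-- evaluating `phi f` at a point `(g, u)` is evaluating `f` at `g * low(u) * adj g`. -/
theorem eval_phi (pt : (Fin n × Fin n) ⊕ (Fin n × Fin n) → k) (f : MvPolynomial (Fin n × Fin n) k) :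
    eval pt (phi k n f) = eval (fun p => ((Phi k n).map (eval pt)) p.1 p.2) f := by
  have : (eval pt).comp (phi k n).toRingHom =
      (eval (fun p => ((Phi k n).map (eval pt)) p.1 p.2) : MvPolynomial (Fin n × Fin n) k →+* k) := by
    apply MvPolynomial.ringHom_ext
    · intro c
      simp [phi]
    · intro p
      simp [phi]
  exact congrArg (fun h => h f) this

theorem Phi_map_eval (pt : (Fin n × Fin n) ⊕ (Fin n × Fin n) → k) :
    (Phi k n).map (eval pt) = (Gm k n).map (eval pt) * (Um k n).map (eval pt) *
      ((Gm k n).map (eval pt)).adjugate := by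
  have h := (eval pt).map_adjugate (Gm k n)
  simp only [RingHom.mapMatrix_apply] at h
  rw [Phi, Matrix.map_mul, Matrix.map_mul, h]

end Param

section Closed

variable (k : Type u) [Field k] [IsAlgClosed k] (n : ℕ)

theorem eval_coeff (x : Fin n × Fin n → k) (i : ℕ) :
    eval x ((Matrix.charpoly (Matrix.mvPolynomialX (Fin n) (Fin n) k)).coeff i) =
      (Matrix.charpoly (Matrix.of fun a b => x (a, b))).coeff i := by
  have h1 := Matrix.charpoly_map (Matrix.mvPolynomialX (Fin n) (Fin n) k) (eval x)
  have h2 : (Matrix.mvPolynomialX (Fin n) (Fin n) k).map (eval x) = Matrix.of fun a b => x (a, b) := by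
    ext a b
    simp [Matrix.mvPolynomialX_apply]
  rw [h2] at h1
  rw [h1, Polynomial.coeff_map]

theorem ker_le_radical : RingHom.ker (phi k n) ≤ (Inil k n).radical := by
  rw [← MvPolynomial.vanishingIdeal_zeroLocus_eq_radical (K := k)]
  intro f hf x hx
  rw [RingHom.mem_ker] at hf
  -- the matrix of x is nilpotent
  set M : Matrix (Fin n) (Fin n) k := Matrix.of fun a b => x (a, b) with hM
  have hcp : M.charpoly = Polynomial.X ^ n := by
    ext i
    rw [Polynomial.coeff_X_pow]
    rcases lt_trichotomy i n with hi | hi | hi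
    · rw [if_neg (by omega)]
      have h1 := hx _ (Ideal.subset_span ⟨⟨i, hi⟩, rfl⟩)
      rw [MvPolynomial.aeval_eq_eval, eval_coeff] at h1
      exact h1
    · rw [if_pos hi, hi]
      have h := (Matrix.charpoly_monic M).coeff_natDegree
      have hd := Matrix.charpoly_natDegree_eq_dim M
      rw [Fintype.card_fin] at hd
      rw [hd] at h
      exact h
    · rw [if_neg (by omega)]
      apply Polynomial.coeff_eq_zero_of_natDegree_lt
      rw [Matrix.charpoly_natDegree_eq_dim, Fintype.card_fin]
      exact hi
  have hnil : IsNilpotent M := isNilpotent_of_charpoly M hcp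
  obtain ⟨g, u, hu, hMgu⟩ := Groth.Agent.Lib.Helper1.NilTri.exists_param M hnil
  -- the point
  set pt : (Fin n × Fin n) ⊕ (Fin n × Fin n) → k := Sum.elim (fun p => g p.1 p.2) (fun p => u p.1 p.2)
    with hpt
  have hG : (Gm k n).map (eval pt) = g := by
    ext a b
    simp [Gm, hpt]
  have hU : (Um k n).map (eval pt) = u := by
    ext a b
    by_cases hab : b < a
    · simp [Um, hpt, hab]
    · simp [Um, hab, hu a b (not_lt.mp hab)]
  have h1 := eval_phi k n pt f
  rw [hf, map_zero, Phi_map_eval, hG, hU, ← hMgu] at h1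
  rw [MvPolynomial.aeval_eq_eval]
  exact h1.symm

theorem radical_eq_ker : (Inil k n).radical = RingHom.ker (phi k n) :=
  le_antisymm (radical_le_ker k n) (ker_le_radical k n)

theorem radical_isPrime : (Inil k n).radical.IsPrime := by
  rw [radical_eq_ker]; infer_instance

end Closed

end Groth.Agent.Lib.Helper1.NilCone
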