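import Mathlib
import Groth.Agent.Lib.Helper1.NilCone
import Groth.Agent.Lib.Helper73.DimFT.Catenary

/-!
# The nilpotent cone: dimension (helper1)
-/

set_option autoImplicit false

namespace Groth.Agent.Lib.Helper1.NilCone

universe u

open MvPolynomial Matrix

section Gen

theorem irreducible_of_radical_isPrime {R : Type*} [CommRing R] (I : Ideal R)
    (h : I.radical.IsPrime) : IrreducibleSpace (PrimeSpectrum (R ⧸ I)) := by
  rw [PrimeSpectrum.irreducibleSpace_iff_isPrime_nilradical]
  have hnil : nilradical (R ⧸ I) =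
      RingHom.ker (Ideal.Quotient.factor (Ideal.le_radical : I ≤ I.radical)) := by
    ext x
    obtain ⟨f, rfl⟩ := Ideal.Quotient.mk_surjective x
    rw [mem_nilradical, RingHom.mem_ker, Ideal.Quotient.factor_mk, Ideal.Quotient.eq_zero_iff_mem]
    constructor
    · rintro ⟨m, hm⟩
      rw [← map_pow, Ideal.Quotient.eq_zero_iff_mem] at hm
      exact ⟨m, hm⟩
    · rintro ⟨m, hm⟩
      exact ⟨m, by rw [← map_pow, Ideal.Quotient.eq_zero_iff_mem]; exact hm⟩
  rw [hnil]
  have : IsDomain (R ⧸ I.radical) := Ideal.Quotient.isDomain _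
  exact RingHom.ker_isPrime _

theorem ringKrullDim_quotient_radical {R : Type*} [CommRing R] (I : Ideal R) :
    ringKrullDim (R ⧸ I.radical) = ringKrullDim (R ⧸ I) := by
  rw [ringKrullDim_quotient, ringKrullDim_quotient, PrimeSpectrum.zeroLocus_radical]

end Gen

section Diag

variable (k : Type u) [Field k] (n : ℕ)

/-- the ideal of off-diagonal variables -/
noncomputable def Ooff : Ideal (MvPolynomial (Fin n × Fin n) k) :=
  Ideal.span ((fun p : Fin n × Fin n => (X p : MvPolynomial (Fin n × Fin n) k)) ''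
    {p | p.1 ≠ p.2})

/-- kill the off-diagonal variables -/
noncomputable def piD : MvPolynomial (Fin n × Fin n) k →ₐ[k] MvPolynomial (Fin n × Fin n) k :=
  aeval fun p => if p.1 = p.2 then X p else 0

theorem sub_piD_mem (f : MvPolynomial (Fin n × Fin n) k) : f - piD k n f ∈ Ooff k n := by
  have h : (Ideal.Quotient.mk (Ooff k n)).comp (piD k n).toRingHom = Ideal.Quotient.mk (Ooff k n) := by
    apply MvPolynomial.ringHom_ext
    · intro c
      simp [piD]
    · intro p
      by_cases hp : p.1 = p.2
      · simp [piD, hp]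
      · simp only [piD, RingHom.coe_comp, Function.comp_apply, AlgHom.toRingHom_eq_coe,
          RingHom.coe_coe, aeval_X, if_neg hp, map_zero]
        symm
        rw [Ideal.Quotient.eq_zero_iff_mem]
        exact Ideal.subset_span ⟨p, hp, rfl⟩
  have h2 := congrArg (fun g => g f) h
  simp only [RingHom.coe_comp, Function.comp_apply] at h2
  rw [← Ideal.Quotient.eq_zero_iff_mem, map_sub, sub_eq_zero]
  exact h2.symm

theorem map_piD : (Matrix.mvPolynomialX (Fin n) (Fin n) k).map (piD k n) =
    Matrix.diagonal fun i => (X (i, i) : MvPolynomial (Fin n × Fin n) k) := by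
  ext a b
  by_cases hab : a = b
  · subst hab
    simp [piD, Matrix.mvPolynomialX_apply]
  · simp [piD, Matrix.mvPolynomialX_apply, hab]

theorem diag_pow_mem (i : Fin n) :
    (X (i, i) : MvPolynomial (Fin n × Fin n) k) ^ n ∈ Inil k n ⊔ Ooff k n := by
  set q := Matrix.charpoly (Matrix.mvPolynomialX (Fin n) (Fin n) k) with hq
  set t : MvPolynomial (Fin n × Fin n) k := X (i, i) with ht
  have h1 := Matrix.charpoly_map (Matrix.mvPolynomialX (Fin n) (Fin n) k) (piD k n).toRingHom
  have h2 : (Matrix.mvPolynomialX (Fin n) (Fin n) k).map (piD k n).toRingHom =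
      Matrix.diagonal fun i => (X (i, i) : MvPolynomial (Fin n × Fin n) k) := map_piD k n
  rw [h2, Matrix.charpoly_diagonal] at h1
  have h3 : Polynomial.eval t (q.map (piD k n).toRingHom) = 0 := by
    rw [← hq] at h1
    rw [← h1, Polynomial.eval_prod]
    apply Finset.prod_eq_zero (Finset.mem_univ i)
    simp [ht]
  have hdeg : q.natDegree = n := by
    rw [hq, Matrix.charpoly_natDegree_eq_dim, Fintype.card_fin]
  have hmonic : q.Monic := Matrix.charpoly_monic _
  have hdeg' : (q.map (piD k n).toRingHom).natDegree = n := by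
    rw [hmonic.natDegree_map, hdeg]
  rw [Polynomial.eval_eq_sum_range, hdeg', Finset.sum_range_succ, Polynomial.coeff_map] at h3
  have hlead : q.coeff n = 1 := by
    have := hmonic.coeff_natDegree
    rwa [hdeg] at this
  rw [hlead, map_one, one_mul] at h3
  have h4 : t ^ n = - ∑ l ∈ Finset.range n, (q.map (piD k n).toRingHom).coeff l * t ^ l := by
    rw [eq_neg_iff_add_eq_zero, add_comm]
    exact h3
  rw [h4]
  rw [neg_mem_iff]
  apply Ideal.sum_mem
  intro l hl
  apply Ideal.mul_mem_right
  rw [Polynomial.coeff_map]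
  have hl' : l < n := Finset.mem_range.mp hl
  have hc : q.coeff l ∈ Inil k n := Ideal.subset_span ⟨⟨l, hl'⟩, rfl⟩
  have hd := sub_piD_mem k n (q.coeff l)
  have : (piD k n).toRingHom (q.coeff l) = q.coeff l - (q.coeff l - piD k n (q.coeff l)) := by
    simp
  rw [this]
  exact Ideal.sub_mem _ (Ideal.mem_sup_left hc) (Ideal.mem_sup_right hd)

end Diag

section Dim

variable (k : Type u) [Field k] (n : ℕ)

/-- polynomials vanishing at the origin lie in the ideal of variables -/
theorem mem_vars_of_eval_zero (f : MvPolynomial (Fin n × Fin n) k) (hf : eval 0 f = 0) :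
    f ∈ Ideal.span (Set.range (X : Fin n × Fin n → MvPolynomial (Fin n × Fin n) k)) := by
  have h := (MvPolynomial.mem_pow_idealOfVars_iff' (σ := Fin n × Fin n) (R := k) 1 f).mpr ?_
  · rwa [pow_one] at h
  · intro x hx
    have hx0 : x = 0 := by
      ext p
      have h1 : x.degree = 0 := by omega
      have := Finsupp.degree_eq_zero_iff x |>.mp h1
      rw [this]
    rw [hx0]
    have : coeff 0 f = eval 0 f := by
      rw [MvPolynomial.eval_zero, MvPolynomial.constantCoeff_eq]
    rw [this, hf]

theorem ker_le_eval_zero (f : MvPolynomial (Fin n × Fin n) k) (hf : f ∈ RingHom.ker (phi k n)) :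
    eval 0 f = 0 := by
  rw [RingHom.mem_ker] at hf
  have h1 := eval_phi k n 0 f
  rw [hf, map_zero, Phi_map_eval] at h1
  have hU : (Um k n).map (eval (0 : (Fin n × Fin n) ⊕ (Fin n × Fin n) → k)) = 0 := by
    ext a b
    by_cases hab : b < a
    · simp [Um, hab]
    · simp [Um, hab]
  rw [hU, Matrix.mul_zero, Matrix.zero_mul] at h1
  rw [h1]
  rfl

theorem Inil_le_eval_zero (f : MvPolynomial (Fin n × Fin n) k) (hf : f ∈ Inil k n) :
    eval 0 f = 0 :=
  ker_le_eval_zero k n f (Inil_le_ker k n hf)

theorem finset_offDiag_card : ((Finset.univ : Finset (Fin n)).offDiag).card = n ^ 2 - n := by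
  rw [Finset.offDiag_card, Finset.card_univ, Fintype.card_fin, sq]

end Dim

section Main

variable (k : Type u) [Field k] (n : ℕ)

theorem dim_upper : ringKrullDim (MvPolynomial (Fin n × Fin n) k ⧸ RingHom.ker (phi k n)) ≤
    ((n ^ 2 - n : ℕ) : WithBot ℕ∞) := by
  classical
  set P := RingHom.ker (phi k n) with hP
  have hdom : IsDomain (MvPolynomial (Fin n × Fin n) k ⧸ P) := Ideal.Quotient.isDomain P
  have hft : Algebra.FiniteType k (MvPolynomial (Fin n × Fin n) k ⧸ P) :=
    Algebra.FiniteType.of_surjective (Ideal.Quotient.mkₐ k P) (Ideal.Quotient.mkₐ_surjective k P)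
  let εb : (MvPolynomial (Fin n × Fin n) k ⧸ P) →+* k :=
    Ideal.Quotient.lift P (eval 0) (fun f hf => ker_le_eval_zero k n f hf)
  have hεb : ∀ f, εb (Ideal.Quotient.mk P f) = eval 0 f := fun f => Ideal.Quotient.lift_mk _ _ _
  have hsurj : Function.Surjective εb := fun a => ⟨Ideal.Quotient.mk P (C a), by rw [hεb]; simp⟩
  set mbar : Ideal (MvPolynomial (Fin n × Fin n) k ⧸ P) := RingHom.ker εb with hmbar
  have hmax : mbar.IsMaximal := RingHom.ker_isMaximal_of_surjective εb hsurj
  set s : Finset (MvPolynomial (Fin n × Fin n) k ⧸ P) :=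
    (Finset.univ : Finset (Fin n)).offDiag.image (fun p => Ideal.Quotient.mk P (X p)) with hs
  have hsmem : ∀ p : Fin n × Fin n, p.1 ≠ p.2 → Ideal.Quotient.mk P (X p) ∈ (s : Set _) := by
    intro p hp
    rw [hs, Finset.coe_image]
    exact ⟨p, by simp [hp], rfl⟩
  have hmin : mbar ∈ (Ideal.span (s : Set (MvPolynomial (Fin n × Fin n) k ⧸ P))).minimalPrimes := by
    refine ⟨⟨hmax.isPrime, ?_⟩, ?_⟩
    · rw [Ideal.span_le]
      intro b hb
      rw [hs, Finset.coe_image] at hb
      obtain ⟨p, _, rfl⟩ := hb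
      rw [SetLike.mem_coe, hmbar, RingHom.mem_ker, hεb]
      simp
    · rintro Q ⟨hQp, hQs⟩ hQm
      have hvar : ∀ p, Ideal.Quotient.mk P (X p) ∈ Q := by
        intro p
        by_cases hp : p.1 = p.2
        · have h1 := diag_pow_mem k n p.1
          have hle : Ideal.map (Ideal.Quotient.mk P) (Inil k n ⊔ Ooff k n) ≤ Q := by
            rw [Ideal.map_sup, sup_le_iff]
            constructor
            · rw [Ideal.map_le_iff_le_comap]
              intro f hf
              rw [Ideal.mem_comap, Ideal.Quotient.eq_zero_iff_mem.mpr (Inil_le_ker k n hf)]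
              exact zero_mem _
            · rw [Ooff, Ideal.map_span, Ideal.span_le]
              rintro _ ⟨_, ⟨p', hp', rfl⟩, rfl⟩
              exact hQs (Ideal.subset_span (hsmem p' hp'))
          have h2 : (Ideal.Quotient.mk P (X (p.1, p.1))) ^ n ∈ Q := by
            rw [← map_pow]
            exact hle (Ideal.mem_map_of_mem _ h1)
          have h3 := hQp.mem_of_pow_mem _ h2
          have hpp : p = (p.1, p.1) := by ext <;> simp [hp]
          rw [hpp]
          exact h3
        · exact hQs (Ideal.subset_span (hsmem p hp))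
      intro b hb
      obtain ⟨f, rfl⟩ := Ideal.Quotient.mk_surjective b
      have hf0 : eval 0 f = 0 := by
        rw [hmbar, RingHom.mem_ker, hεb] at hb
        exact hb
      have hfv := mem_vars_of_eval_zero k n f hf0
      have hle : Ideal.map (Ideal.Quotient.mk P)
          (Ideal.span (Set.range (X : Fin n × Fin n → MvPolynomial (Fin n × Fin n) k))) ≤ Q := by
        rw [Ideal.map_span, Ideal.span_le]
        rintro _ ⟨_, ⟨p, rfl⟩, rfl⟩
        exact hvar p
      exact hle (Ideal.mem_map_of_mem _ hfv)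
  have hht := Ideal.height_le_card_of_mem_minimalPrimes_span_finset hmin
  have hcard : s.card ≤ n ^ 2 - n := (Finset.card_image_le).trans (finset_offDiag_card n).le
  have hdim := Groth.Agent.Lib.Helper73.height_eq_ringKrullDim_of_isMaximal k mbar
  rw [← hdim]
  have : mbar.height ≤ ((n ^ 2 - n : ℕ) : ℕ∞) := hht.trans (by exact_mod_cast hcard)
  exact WithBot.coe_le_coe.mpr this

theorem dim_lower : ((n ^ 2 - n : ℕ) : WithBot ℕ∞) ≤
    ringKrullDim (MvPolynomial (Fin n × Fin n) k ⧸ Inil k n) := by
  classical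
  let ε : MvPolynomial (Fin n × Fin n) k →+* k := eval 0
  set m0 : Ideal (MvPolynomial (Fin n × Fin n) k) := RingHom.ker ε with hm0
  have hmax : m0.IsMaximal :=
    RingHom.ker_isMaximal_of_surjective ε (fun a => ⟨C a, by simp [ε]⟩)
  have hle : Inil k n ≤ m0 := fun f hf => Inil_le_eval_zero k n f hf
  have h1 := height_le_ringKrullDim_quotient_add_spanFinrank hle
  have h2 := Groth.Agent.Lib.Helper73.height_eq_ringKrullDim_of_isMaximal k m0
  have h3 : ringKrullDim (MvPolynomial (Fin n × Fin n) k) = ((n ^ 2 : ℕ) : WithBot ℕ∞) := by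
    rw [MvPolynomial.ringKrullDim_of_isNoetherianRing, ringKrullDim_eq_zero_of_field]
    simp [sq]
  have h4 : (Inil k n).spanFinrank ≤ n := by
    rw [Inil]
    refine (Submodule.spanFinrank_span_le_ncard_of_finite (Set.finite_range _)).trans ?_
    have : Set.range (fun i : Fin n =>
        (Matrix.charpoly (Matrix.mvPolynomialX (Fin n) (Fin n) k)).coeff (i : ℕ)) =
        ↑((Finset.univ : Finset (Fin n)).image (fun i : Fin n =>
        (Matrix.charpoly (Matrix.mvPolynomialX (Fin n) (Fin n) k)).coeff (i : ℕ))) := by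
      simp
    rw [this, Set.ncard_coe_finset]
    exact Finset.card_image_le.trans (by simp)
  have hnt : Nontrivial (MvPolynomial (Fin n × Fin n) k ⧸ Inil k n) :=
    Ideal.Quotient.nontrivial_iff.mpr (ne_top_of_le_ne_top hmax.ne_top hle)
  obtain ⟨e, he⟩ := Groth.Agent.Lib.Helper73.exists_nat_ringKrullDim_eq k
    (MvPolynomial (Fin n × Fin n) k ⧸ Inil k n)
  rw [he] at h1 ⊢
  rw [h2, h3] at h1
  have h5 : (n ^ 2 : ℕ) ≤ e + (Inil k n).spanFinrank := by exact_mod_cast h1
  have : n ^ 2 - n ≤ e := by omega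
  exact_mod_cast this

end Main

end Groth.Agent.Lib.Helper1.NilCone
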