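import Mathlib
import Groth.Agent.Lib.Helper72.NormHomog
import Groth.Agent.Lib.Helper19.Grp.ActionPts
import Groth.Agent.Lib.Helper18.SchDom

/-!
# Equivariant birational covers: cartesian action square and equality of kernels (helper1)

Let `n : Y ⟶ X` be an equivariant morphism of `S`-schemes with actions `a`, `b` of a group scheme
`G`.  Then the square `(b.act, G ◁ n, n, a.act)` is cartesian.  If moreover `n` is an isomorphism
over an open `V`, and `T ◁ n`, `T ◁ (n⁻¹V ↪ Y)` are scheme theoretically dominant for all `T`, then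
a `T`-point of `G` acts trivially on `X` iff it acts trivially on `Y`.
-/

set_option autoImplicit false
universe u

open CategoryTheory MonoidalCategory CartesianMonoidalCategory AlgebraicGeometry Limits MonObj

namespace Groth.Agent.Lib.Helper1.NormKer

open Groth.Agent.Lib.Helper19.ActionPts Groth.Agent.Lib.Helper72.NormHomog

variable {S : Scheme.{u}} {G X Y : Over S} [GrpObj G]

section Pts

variable (a : AlgGrp.Action G X)

theorem inv_act_act {T : Over S} (g : T ⟶ G) (x : T ⟶ X) :
    lift g⁻¹ (lift g x ≫ a.act) ≫ a.act = x := by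
  rw [← mul_act', inv_mul_cancel, Hom.one_def, one_act']

theorem act_inv_act {T : Over S} (g : T ⟶ G) (x : T ⟶ X) :
    lift g (lift g⁻¹ x ≫ a.act) ≫ a.act = x := by
  rw [← mul_act', mul_inv_cancel, Hom.one_def, one_act']

end Pts

variable (a : AlgGrp.Action G X) (b : AlgGrp.Action G Y) (n : Y ⟶ X)

theorem equivariant_pts (hb : (G ◁ n) ≫ a.act = b.act ≫ n) {T : Over S} (g : T ⟶ G)
    (y : T ⟶ Y) : (lift g y ≫ b.act) ≫ n = lift g (y ≫ n) ≫ a.act := by
  rw [Category.assoc, ← hb, ← Category.assoc, lift_whiskerLeft]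

/-- The action square of an equivariant morphism is cartesian. -/
theorem isPullback_act (hb : (G ◁ n) ≫ a.act = b.act ≫ n) :
    IsPullback b.act (G ◁ n) n a.act := by
  refine ⟨⟨hb.symm⟩, ⟨PullbackCone.IsLimit.mk _
    (fun s => lift (s.snd ≫ fst G X) (lift (s.snd ≫ fst G X)⁻¹ s.fst ≫ b.act)) ?_ ?_ ?_⟩⟩
  · intro s
    exact act_inv_act b _ _
  · intro s
    rw [lift_whiskerLeft, equivariant_pts a b n hb, s.condition]
    have e : s.snd = lift (s.snd ≫ fst G X) (s.snd ≫ snd G X) := by
      apply CartesianMonoidalCategory.hom_ext <;> simp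
    conv_lhs => rw [e]
    rw [lift_fst, inv_act_act a]
    exact e.symm
  · intro s m h1 h2
    have hg : m ≫ fst G Y = s.snd ≫ fst G X := by
      rw [← h2, Category.assoc, whiskerLeft_fst]
    have e : m = lift (m ≫ fst G Y) (m ≫ snd G Y) := by
      apply CartesianMonoidalCategory.hom_ext <;> simp
    obtain ⟨g', y', rfl⟩ : ∃ g' y', m = lift g' y' := ⟨_, _, e⟩
    rw [lift_fst] at hg
    rw [← h1, ← hg, inv_act_act b]

/-- Two morphisms to `Y` which agree after `n` and land in `n⁻¹ V` are equal. -/
theorem eq_of_comp_eq (V : X.left.Opens) [IsIso (n.left ∣_ V)] {W : Over S} (u v : W ⟶ Y)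
    (h : u ≫ n = v ≫ n) (hv : ∀ w, n.left (v.left w) ∈ V) : u = v := by
  have hl : u.left ≫ n.left = v.left ≫ n.left := congrArg Over.Hom.left h
  have hu : ∀ w, n.left (u.left w) ∈ V := by
    intro w
    have e : n.left (u.left w) = n.left (v.left w) := by
      rw [← Scheme.Hom.comp_apply, ← Scheme.Hom.comp_apply, hl]
    rw [e]; exact hv w
  have hru : Set.range u.left ⊆ Set.range (sec n V).left := by
    rw [range_sec]; rintro _ ⟨w, rfl⟩; exact hu w
  have hrv : Set.range v.left ⊆ Set.range (sec n V).left := by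
    rw [range_sec]; rintro _ ⟨w, rfl⟩; exact hv w
  have hu' : IsOpenImmersion.lift (sec n V).left u.left hru ≫ (sec n V).left = u.left :=
    IsOpenImmersion.lift_fac _ _ _
  have hv' : IsOpenImmersion.lift (sec n V).left v.left hrv ≫ (sec n V).left = v.left :=
    IsOpenImmersion.lift_fac _ _ _
  have e : (sec n V).left ≫ n.left = V.ι := congrArg Over.Hom.left (sec_comp n V)
  have key : IsOpenImmersion.lift (sec n V).left u.left hru =
      IsOpenImmersion.lift (sec n V).left v.left hrv := by
    rw [← cancel_mono V.ι, ← e, ← Category.assoc, ← Category.assoc, hu', hv']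
    exact hl
  ext1
  rw [← hu', ← hv', key]

/-- A point of `G` acts trivially on `X` iff it acts trivially on `Y`. -/
theorem ker_iff [IsSeparated X.hom] [IsSeparated Y.hom]
    (hb : (G ◁ n) ≫ a.act = b.act ≫ n)
    (hn : ∀ T : Over S, IsSchemeTheoreticallyDominant (T ◁ n).left)
    (V : X.left.Opens) [IsIso (n.left ∣_ V)]
    (hV : ∀ T : Over S, IsSchemeTheoreticallyDominant
      (T ◁ incl (X := Y) (n.left ⁻¹ᵁ V)).left)
    {T : Over S} (g : T ⟶ G) :
    (∀ (T' : Over S) (s : T' ⟶ T) (x : T' ⟶ X), lift (s ≫ g) x ≫ a.act = x) ↔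
      (∀ (T' : Over S) (s : T' ⟶ T) (y : T' ⟶ Y), lift (s ≫ g) y ≫ b.act = y) := by
  constructor
  · intro hA
    have key : lift (fst T Y ≫ g) (snd T Y) ≫ b.act = snd T Y := by
      have := hV T
      apply Groth.Agent.Lib.Helper18.SchDom.ext_of_schDominant
        (T ◁ incl (X := Y) (n.left ⁻¹ᵁ V))
      apply eq_of_comp_eq n V
      · have ψn : (lift (fst T Y ≫ g) (snd T Y) ≫ b.act) ≫ n = snd T Y ≫ n := by
          rw [equivariant_pts a b n hb, hA]
        rw [Category.assoc, ψn, Category.assoc]
      · intro w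
        have e : (T ◁ incl (X := Y) (n.left ⁻¹ᵁ V)) ≫ snd T Y =
            snd T _ ≫ incl (X := Y) (n.left ⁻¹ᵁ V) := whiskerLeft_snd _ _
        rw [e, Over.comp_left, Scheme.Hom.comp_apply]
        exact ((snd T (sub (X := Y) (n.left ⁻¹ᵁ V))).left w).2
    intro T' s y
    have e : lift (s ≫ g) y = lift s y ≫ lift (fst T Y ≫ g) (snd T Y) := by
      apply CartesianMonoidalCategory.hom_ext <;> simp
    rw [e, Category.assoc, key, lift_snd]
  · intro hB
    have key : lift (fst T X ≫ g) (snd T X) ≫ a.act = snd T X := by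
      have := hn T
      apply Groth.Agent.Lib.Helper18.SchDom.ext_of_schDominant (T ◁ n)
      have e : (T ◁ n) ≫ lift (fst T X ≫ g) (snd T X) =
          lift (fst T Y ≫ g) (snd T Y ≫ n) := by
        apply CartesianMonoidalCategory.hom_ext <;> simp
      rw [← Category.assoc, e, ← equivariant_pts a b n hb, hB, whiskerLeft_snd]
    intro T' s x
    have e : lift (s ≫ g) x = lift s x ≫ lift (fst T X ≫ g) (snd T X) := by
      apply CartesianMonoidalCategory.hom_ext <;> simp
    rw [e, Category.assoc, key, lift_snd]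

end Groth.Agent.Lib.Helper1.NormKer
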