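import Mathlib

/-!
# One-parameter normal forms of elliptic curves (helper1)

* `normalForm_two`: over a field with `2 ≠ 0`, from a root `x₀` of the 2-division cubic and a
  fourth root `u`, a change of variables to `y² = x³ + βx² + x`.
* `normalForm_three`: from a root `x₀` of the 3-division quartic, a point `(x₀, y₀)` and a cube
  root, a change of variables to the Deuring form `y² + αxy + y = x³`.
-/

namespace Groth.Agent.Lib.Helper1.PGR

open WeierstrassCurve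

variable {L : Type*} [Field L]

/-- discriminant / c₄ of `y² = x³ + βx² + x`. -/
lemma nf2_Δ (β : L) : (⟨0, β, 0, 1, 0⟩ : WeierstrassCurve L).Δ = 16 * (β ^ 2 - 4) := by
  simp only [WeierstrassCurve.Δ, WeierstrassCurve.b₂, WeierstrassCurve.b₄, WeierstrassCurve.b₆,
    WeierstrassCurve.b₈]
  ring

lemma nf2_c₄ (β : L) : (⟨0, β, 0, 1, 0⟩ : WeierstrassCurve L).c₄ = 16 * (β ^ 2 - 3) := by
  simp only [WeierstrassCurve.c₄, WeierstrassCurve.b₂, WeierstrassCurve.b₄]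
  ring

lemma nf3_Δ (α : L) : (⟨α, 0, 1, 0, 0⟩ : WeierstrassCurve L).Δ = α ^ 3 - 27 := by
  simp only [WeierstrassCurve.Δ, WeierstrassCurve.b₂, WeierstrassCurve.b₄, WeierstrassCurve.b₆,
    WeierstrassCurve.b₈]
  ring

lemma nf3_c₄ (α : L) : (⟨α, 0, 1, 0, 0⟩ : WeierstrassCurve L).c₄ = α * (α ^ 3 - 24) := by
  simp only [WeierstrassCurve.c₄, WeierstrassCurve.b₂, WeierstrassCurve.b₄]
  ring

/-- `j Δ = c₄³`. -/
lemma j_mul_Δ (W : WeierstrassCurve L) [W.IsElliptic] : W.j * W.Δ = W.c₄ ^ 3 := by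
  have h : (W.Δ' : L) = W.Δ := W.coe_Δ'
  rw [WeierstrassCurve.j, ← h]
  have : ((W.Δ'⁻¹ : Lˣ) : L) * (W.Δ' : L) = 1 := by
    rw [← Units.val_mul, inv_mul_cancel, Units.val_one]
  calc (↑W.Δ'⁻¹ * W.c₄ ^ 3) * (W.Δ' : L) = (↑W.Δ'⁻¹ * (W.Δ' : L)) * W.c₄ ^ 3 := by ring
    _ = W.c₄ ^ 3 := by rw [this, one_mul]

theorem normalForm_two (W : WeierstrassCurve L) [W.IsElliptic] (h2 : (2 : L) ≠ 0)
    (x₀ u : L) (hx : 4 * x₀ ^ 3 + W.b₂ * x₀ ^ 2 + 2 * W.b₄ * x₀ + W.b₆ = 0)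
    (hu : u ^ 4 = ((⟨1, x₀, -W.a₁ / 2, -(W.a₃ + x₀ * W.a₁) / 2⟩ : VariableChange L) • W).a₄) :
    ∃ (C : VariableChange L) (β : L), C • W = ⟨0, β, 0, 1, 0⟩ := by
  set C₁ : VariableChange L := ⟨1, x₀, -W.a₁ / 2, -(W.a₃ + x₀ * W.a₁) / 2⟩ with hC₁
  set W₁ := C₁ • W with hW₁
  have h1 : W₁.a₁ = 0 := by
    rw [hW₁, variableChange_a₁]; simp only [hC₁, Units.val_one, inv_one, one_mul]; field_simp; ring
  have h3 : W₁.a₃ = 0 := by
    rw [hW₁, variableChange_a₃]; simp only [hC₁, Units.val_one, inv_one, one_pow, one_mul]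
    field_simp; ring
  have h6 : W₁.a₆ = 0 := by
    rw [hW₁, variableChange_a₆]; simp only [hC₁, Units.val_one, inv_one, one_pow, one_mul]
    have h4 : (4 : L) ≠ 0 := by
      have : (4 : L) = 2 * 2 := by norm_num
      rw [this]; exact mul_ne_zero h2 h2
    have key : 4 * (W.a₆ + x₀ * W.a₄ + x₀ ^ 2 * W.a₂ + x₀ ^ 3 - (-(W.a₃ + x₀ * W.a₁) / 2) * W.a₃
        - (-(W.a₃ + x₀ * W.a₁) / 2) ^ 2 - x₀ * (-(W.a₃ + x₀ * W.a₁) / 2) * W.a₁) = 0 := by
      rw [← hx]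
      simp only [WeierstrassCurve.b₂, WeierstrassCurve.b₄, WeierstrassCurve.b₆]
      field_simp
      ring
    exact (mul_eq_zero.1 key).resolve_left h4
  have hell : W₁.Δ ≠ 0 := W₁.isUnit_Δ.ne_zero
  have h4ne : W₁.a₄ ≠ 0 := by
    intro h4
    apply hell
    simp only [WeierstrassCurve.Δ, WeierstrassCurve.b₂, WeierstrassCurve.b₄, WeierstrassCurve.b₆,
      WeierstrassCurve.b₈, h1, h3, h6, h4]
    ring
  have hu0 : u ≠ 0 := by
    intro h0
    rw [h0] at hu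
    exact h4ne (by rw [← hu]; ring)
  refine ⟨⟨Units.mk0 u hu0, 0, 0, 0⟩ * C₁, (u⁻¹) ^ 2 * W₁.a₂, ?_⟩
  rw [mul_smul, ← hW₁]
  ext
  · rw [variableChange_a₁]; simp [h1]
  · rw [variableChange_a₂]; simp
  · rw [variableChange_a₃]; simp [h3]
  · rw [variableChange_a₄]; simp only [Units.val_inv_eq_inv_val, Units.val_mk0, mul_zero,
      sub_zero, zero_mul, add_zero, ne_eq, OfNat.ofNat_ne_zero, not_false_eq_true, zero_pow]
    rw [← hu]; field_simp
  · rw [variableChange_a₆]; simp [h6]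

theorem normalForm_three (W : WeierstrassCurve L) [W.IsElliptic]
    (x₀ y₀ u : L)
    (hx : 3 * x₀ ^ 4 + W.b₂ * x₀ ^ 3 + 3 * W.b₄ * x₀ ^ 2 + 3 * W.b₆ * x₀ + W.b₈ = 0)
    (hy : y₀ ^ 2 + (W.a₁ * x₀ + W.a₃) * y₀ - (x₀ ^ 3 + W.a₂ * x₀ ^ 2 + W.a₄ * x₀ + W.a₆) = 0)
    (hu : u ^ 3 = W.a₃ + x₀ * W.a₁ + 2 * y₀) :
    ∃ (C : VariableChange L) (α : L), C • W = ⟨α, 0, 1, 0, 0⟩ := by
  set C₁ : VariableChange L := ⟨1, x₀, 0, y₀⟩ with hC₁
  set W₁ := C₁ • W with hW₁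
  have h3 : W₁.a₃ = u ^ 3 := by
    rw [hW₁, variableChange_a₃]; simp only [hC₁, Units.val_one, inv_one, one_pow, one_mul]
    rw [hu]
  have h6 : W₁.a₆ = 0 := by
    rw [hW₁, variableChange_a₆]; simp only [hC₁, Units.val_one, inv_one, one_pow, one_mul]
    linear_combination (-1 : L) * hy
  have h8 : W₁.b₈ = 0 := by
    rw [hW₁, variableChange_b₈]; simp only [hC₁, Units.val_one, inv_one, one_pow, one_mul]
    linear_combination hx
  have hell : W₁.Δ ≠ 0 := W₁.isUnit_Δ.ne_zero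
  have hu0 : u ≠ 0 := by
    intro h0
    have h3' : W₁.a₃ = 0 := by rw [h3, h0]; ring
    have h4 : W₁.a₄ = 0 := by
      have : W₁.b₈ = -(W₁.a₄ ^ 2) := by
        simp only [WeierstrassCurve.b₈, h3', h6]; ring
      rw [h8] at this
      have h' : W₁.a₄ ^ 2 = 0 := by linear_combination this
      exact pow_eq_zero_iff (by norm_num) |>.1 h'
    apply hell
    simp only [WeierstrassCurve.Δ, WeierstrassCurve.b₂, WeierstrassCurve.b₄, WeierstrassCurve.b₆,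
      WeierstrassCurve.b₈, h3', h6, h4]
    ring
  have h3ne : W₁.a₃ ≠ 0 := by rw [h3]; exact pow_ne_zero _ hu0
  set C₂ : VariableChange L := ⟨1, 0, W₁.a₄ / W₁.a₃, 0⟩ with hC₂
  set W₂ := C₂ • W₁ with hW₂
  have k3 : W₂.a₃ = u ^ 3 := by
    rw [hW₂, variableChange_a₃]; simp only [hC₂, Units.val_one, inv_one, one_pow, one_mul]
    rw [h3]; ring
  have k4 : W₂.a₄ = 0 := by
    rw [hW₂, variableChange_a₄]; simp only [hC₂, Units.val_one, inv_one, one_pow, one_mul]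
    field_simp; ring
  have k6 : W₂.a₆ = 0 := by
    rw [hW₂, variableChange_a₆]; simp only [hC₂, Units.val_one, inv_one, one_pow, one_mul]
    rw [h6]; ring
  have k8 : W₂.b₈ = 0 := by
    rw [hW₂, variableChange_b₈]; simp only [hC₂, Units.val_one, inv_one, one_pow, one_mul]
    rw [h8]; ring
  have k2 : W₂.a₂ = 0 := by
    have : W₂.b₈ = W₂.a₂ * W₂.a₃ ^ 2 := by
      simp only [WeierstrassCurve.b₈, k4, k6]; ring
    rw [k8, k3] at this
    have hne : (u ^ 3) ^ 2 ≠ 0 := pow_ne_zero _ (pow_ne_zero _ hu0)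
    exact (mul_eq_zero.1 this.symm).resolve_right hne
  refine ⟨⟨Units.mk0 u hu0, 0, 0, 0⟩ * C₂ * C₁, u⁻¹ * W₂.a₁, ?_⟩
  rw [mul_smul, mul_smul, ← hW₁, ← hW₂]
  ext
  · rw [variableChange_a₁]; simp
  · rw [variableChange_a₂]; simp [k2]
  · rw [variableChange_a₃]; simp only [Units.val_inv_eq_inv_val, Units.val_mk0, mul_zero,
      add_zero, zero_mul]
    rw [k3]; field_simp
  · rw [variableChange_a₄]; simp [k4]
  · rw [variableChange_a₆]; simp [k6]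

end Groth.Agent.Lib.Helper1.PGR
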