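import Mathlib
import Groth.Agent.Lib.Helper1.PGRNormal

/-!
# Normal forms over an algebraically closed field and descent to a finite subextension (helper1)
-/

namespace Groth.Agent.Lib.Helper1.PGR

open WeierstrassCurve Polynomial

theorem exists_nf_two_closed {Ω : Type*} [Field Ω] [IsAlgClosed Ω] (W : WeierstrassCurve Ω)
    [W.IsElliptic] (h2 : (2 : Ω) ≠ 0) :
    ∃ (C : VariableChange Ω) (β : Ω), C • W = ⟨0, β, 0, 1, 0⟩ := by
  have h4 : (4 : Ω) ≠ 0 := by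
    have : (4 : Ω) = 2 * 2 := by norm_num
    rw [this]; exact mul_ne_zero h2 h2
  obtain ⟨x₀, hx₀⟩ := IsAlgClosed.exists_root
    (C (4 : Ω) * X ^ 3 + C W.b₂ * X ^ 2 + C (2 * W.b₄) * X + C W.b₆)
    (by rw [degree_cubic h4]; norm_num)
  have hx : 4 * x₀ ^ 3 + W.b₂ * x₀ ^ 2 + 2 * W.b₄ * x₀ + W.b₆ = 0 := by
    have := hx₀
    simp only [IsRoot.def, eval_add, eval_mul, eval_C, eval_pow, eval_X] at this
    exact this
  obtain ⟨u, hu₀⟩ := IsAlgClosed.exists_root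
    (X ^ 4 - C (((⟨1, x₀, -W.a₁ / 2, -(W.a₃ + x₀ * W.a₁) / 2⟩ : VariableChange Ω) • W).a₄))
    (by rw [degree_X_pow_sub_C (by norm_num)]; norm_num)
  have hu : u ^ 4 = ((⟨1, x₀, -W.a₁ / 2, -(W.a₃ + x₀ * W.a₁) / 2⟩ : VariableChange Ω) • W).a₄ := by
    have := hu₀
    simp only [IsRoot.def, eval_sub, eval_pow, eval_X, eval_C] at this
    exact sub_eq_zero.1 this
  exact normalForm_two W h2 x₀ u hx hu

theorem exists_nf_three_closed {Ω : Type*} [Field Ω] [IsAlgClosed Ω] (W : WeierstrassCurve Ω)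
    [W.IsElliptic] (h3 : (3 : Ω) ≠ 0) :
    ∃ (C : VariableChange Ω) (α : Ω), C • W = ⟨α, 0, 1, 0, 0⟩ := by
  have hdeg : (C (3 : Ω) * X ^ 4 + C W.b₂ * X ^ 3 + C (3 * W.b₄) * X ^ 2 + C (3 * W.b₆) * X
      + C W.b₈).degree = 4 := by
    compute_degree!
  obtain ⟨x₀, hx₀⟩ := IsAlgClosed.exists_root
    (C (3 : Ω) * X ^ 4 + C W.b₂ * X ^ 3 + C (3 * W.b₄) * X ^ 2 + C (3 * W.b₆) * X + C W.b₈)
    (by rw [hdeg]; norm_num)
  have hx : 3 * x₀ ^ 4 + W.b₂ * x₀ ^ 3 + 3 * W.b₄ * x₀ ^ 2 + 3 * W.b₆ * x₀ + W.b₈ = 0 := by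
    have := hx₀
    simp only [IsRoot.def, eval_add, eval_mul, eval_C, eval_pow, eval_X] at this
    exact this
  obtain ⟨y₀, hy₀⟩ := IsAlgClosed.exists_root
    (C (1 : Ω) * X ^ 2 + C (W.a₁ * x₀ + W.a₃) * X
      + C (-(x₀ ^ 3 + W.a₂ * x₀ ^ 2 + W.a₄ * x₀ + W.a₆)))
    (by rw [degree_quadratic one_ne_zero]; norm_num)
  have hy : y₀ ^ 2 + (W.a₁ * x₀ + W.a₃) * y₀ - (x₀ ^ 3 + W.a₂ * x₀ ^ 2 + W.a₄ * x₀ + W.a₆) = 0 := by
    have := hy₀
    simp only [IsRoot.def, eval_add, eval_mul, eval_C, eval_pow, eval_X, one_mul] at this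
    linear_combination this
  obtain ⟨u, hu₀⟩ := IsAlgClosed.exists_root
    (X ^ 3 - C (W.a₃ + x₀ * W.a₁ + 2 * y₀))
    (by rw [degree_X_pow_sub_C (by norm_num)]; norm_num)
  have hu : u ^ 3 = W.a₃ + x₀ * W.a₁ + 2 * y₀ := by
    have := hu₀
    simp only [IsRoot.def, eval_sub, eval_pow, eval_X, eval_C] at this
    exact sub_eq_zero.1 this
  exact normalForm_three W x₀ y₀ u hx hy hu

/-- Descent of a change of variables over an algebraic extension to a finite subextension. -/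
theorem descend_finite {K : Type*} [Field K] (W : WeierstrassCurve K) {Ω : Type*} [Field Ω]
    [Algebra K Ω] [Algebra.IsAlgebraic K Ω] (CΩ : VariableChange Ω) :
    ∃ (L : IntermediateField K Ω) (_ : FiniteDimensional K L) (C : VariableChange L),
      (C • (W.baseChange L)).map (algebraMap L Ω) = CΩ • (W.baseChange Ω) := by
  classical
  let S : Set Ω := {(CΩ.u : Ω), CΩ.r, CΩ.s, CΩ.t}
  have hSfin : S.Finite := by
    simp only [S]; exact Set.toFinite _
  let L : IntermediateField K Ω := IntermediateField.adjoin K S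
  have hfd : FiniteDimensional K L := by
    have : Finite S := hSfin.to_subtype
    exact IntermediateField.finiteDimensional_adjoin (fun x _ => Algebra.IsIntegral.isIntegral x)
  have hu : (CΩ.u : Ω) ∈ L := IntermediateField.subset_adjoin K S (by simp [S])
  have hr : CΩ.r ∈ L := IntermediateField.subset_adjoin K S (by simp [S])
  have hs : CΩ.s ∈ L := IntermediateField.subset_adjoin K S (by simp [S])
  have ht : CΩ.t ∈ L := IntermediateField.subset_adjoin K S (by simp [S])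
  have hu0 : (⟨(CΩ.u : Ω), hu⟩ : L) ≠ 0 := by
    intro h
    have : (CΩ.u : Ω) = 0 := congrArg Subtype.val h
    exact CΩ.u.ne_zero this
  let C : VariableChange L := ⟨Units.mk0 ⟨(CΩ.u : Ω), hu⟩ hu0, ⟨CΩ.r, hr⟩, ⟨CΩ.s, hs⟩, ⟨CΩ.t, ht⟩⟩
  refine ⟨L, hfd, C, ?_⟩
  rw [← map_variableChange]
  have h1 : C.map (algebraMap L Ω) = CΩ := by
    ext <;> simp [C, VariableChange.map]
  have h2 : (W.baseChange L).map (algebraMap L Ω) = W.baseChange Ω := by
    rw [WeierstrassCurve.baseChange, WeierstrassCurve.baseChange, WeierstrassCurve.map_map,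
      ← IsScalarTower.algebraMap_eq]
  rw [h1, h2]

end Groth.Agent.Lib.Helper1.PGR
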