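import Mathlib
import Groth.Agent.Lib.Helper1.PGRNormal

/-!
# Good reduction from an integral model with unit discriminant (helper1)
-/

namespace Groth.Agent.Lib.Helper1.PGR

open WeierstrassCurve IsDedekindDomain.HeightOneSpectrum

variable {RL L : Type*} [CommRing RL] [IsDomain RL] [IsDiscreteValuationRing RL] [Field L]
  [Algebra RL L] [IsFractionRing RL L]

theorem hasGoodReduction_minimal_of_model (W : WeierstrassCurve L)
    (C : VariableChange L) (W₀ : WeierstrassCurve RL) (hW₀ : C • W = W₀.baseChange L)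
    (hΔ : IsUnit W₀.Δ) : (W.minimal RL).HasGoodReduction RL := by
  have hmin : IsMinimal RL (W.minimal RL) := inferInstance
  rw [hasGoodReduction_iff]
  refine ⟨hmin, ?_⟩
  obtain ⟨C₀, hC₀⟩ : ∃ C₀ : VariableChange L, W.minimal RL = C₀ • W := ⟨_, rfl⟩
  have hmax := hmin.val_Δ_maximal
  have hC' : (C * C₀⁻¹) • W.minimal RL = W₀.baseChange L := by
    rw [hC₀, ← mul_smul, inv_mul_cancel_right, hW₀]
  have hint : IsIntegral RL ((C * C₀⁻¹) • W.minimal RL) := ⟨⟨W₀, hC'⟩⟩
  have hint1 : IsIntegral RL ((1 : VariableChange L) • W.minimal RL) := by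
    rw [one_smul]; infer_instance
  have hv1 : ((valuation_Δ_aux RL ((C * C₀⁻¹) • W.minimal RL) : { v : WithZero (Multiplicative ℤ) // v ≤ 1 }) :
      WithZero (Multiplicative ℤ)) = 1 := by
    rw [valuation_Δ_aux_eq_of_isIntegral, hC']
    have : (W₀.baseChange L).Δ = algebraMap RL L W₀.Δ := by
      rw [WeierstrassCurve.baseChange, map_Δ]
    rw [this, valuation_eq_one_iff_notMem]
    intro hmem
    exact (IsLocalRing.mem_maximalIdeal _).1 hmem hΔ
  have hv0 : ((valuation_Δ_aux RL ((1 : VariableChange L) • W.minimal RL) :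
      { v : WithZero (Multiplicative ℤ) // v ≤ 1 }) : WithZero (Multiplicative ℤ)) =
      valuation L (IsDiscreteValuationRing.maximalIdeal RL) (W.minimal RL).Δ := by
    rw [valuation_Δ_aux_eq_of_isIntegral, one_smul]
  have hle : valuation_Δ_aux RL ((C * C₀⁻¹) • W.minimal RL) ≤
      valuation_Δ_aux RL ((1 : VariableChange L) • W.minimal RL) := by
    rcases le_total (valuation_Δ_aux RL ((1 : VariableChange L) • W.minimal RL))
      (valuation_Δ_aux RL ((C * C₀⁻¹) • W.minimal RL)) with h | h
    · exact hmax.2 hint h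
    · exact h
  have hle' : (1 : WithZero (Multiplicative ℤ)) ≤
      valuation L (IsDiscreteValuationRing.maximalIdeal RL) (W.minimal RL).Δ := by
    have := (Subtype.coe_le_coe).2 hle
    rw [hv0, hv1] at this; exact this
  have hge : valuation L (IsDiscreteValuationRing.maximalIdeal RL) (W.minimal RL).Δ ≤ 1 := by
    rw [← hv0]
    exact (valuation_Δ_aux RL ((1 : VariableChange L) • W.minimal RL)).2
  exact le_antisymm hge hle'

end Groth.Agent.Lib.Helper1.PGR
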