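import Mathlib
import Groth.Agent.Lib.Helper1.PGRGood

/-!
# Good reduction of the one-parameter normal forms with integral `j` (helper1)
-/

namespace Groth.Agent.Lib.Helper1.PGR

open WeierstrassCurve IsDedekindDomain.HeightOneSpectrum

section formulas
variable {A : Type*} [CommRing A] (W : WeierstrassCurve A)

lemma Δ_of_nf2 (h1 : W.a₁ = 0) (h3 : W.a₃ = 0) (h4 : W.a₄ = 1) (h6 : W.a₆ = 0) :
    W.Δ = 16 * (W.a₂ ^ 2 - 4) := by
  simp only [WeierstrassCurve.Δ, WeierstrassCurve.b₂, WeierstrassCurve.b₄, WeierstrassCurve.b₆,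
    WeierstrassCurve.b₈, h1, h3, h4, h6]
  ring

lemma c₄_of_nf2 (h1 : W.a₁ = 0) (h3 : W.a₃ = 0) (h4 : W.a₄ = 1) :
    W.c₄ = 16 * (W.a₂ ^ 2 - 3) := by
  simp only [WeierstrassCurve.c₄, WeierstrassCurve.b₂, WeierstrassCurve.b₄, h1, h3, h4]
  ring

lemma Δ_of_nf3 (h2 : W.a₂ = 0) (h3 : W.a₃ = 1) (h4 : W.a₄ = 0) (h6 : W.a₆ = 0) :
    W.Δ = W.a₁ ^ 3 - 27 := by
  simp only [WeierstrassCurve.Δ, WeierstrassCurve.b₂, WeierstrassCurve.b₄, WeierstrassCurve.b₆,
    WeierstrassCurve.b₈, h2, h3, h4, h6]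
  ring

lemma c₄_of_nf3 (h2 : W.a₂ = 0) (h3 : W.a₃ = 1) (h4 : W.a₄ = 0) :
    W.c₄ = W.a₁ * (W.a₁ ^ 3 - 24) := by
  simp only [WeierstrassCurve.c₄, WeierstrassCurve.b₂, WeierstrassCurve.b₄, h2, h3, h4]
  ring

end formulas

variable {RL L : Type*} [CommRing RL] [IsDomain RL] [IsDiscreteValuationRing RL] [Field L]
  [Algebra RL L] [IsFractionRing RL L]

/-- an element of `L` is integral or its inverse is the image of a non-unit. -/
lemma integer_or_inv_mem (β : L) :
    (∃ b : RL, algebraMap RL L b = β) ∨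
      (β ≠ 0 ∧ ∃ g ∈ IsLocalRing.maximalIdeal RL, algebraMap RL L g = β⁻¹) := by
  by_cases hcon : ∃ b : RL, algebraMap RL L b = β
  · exact Or.inl hcon
  right
  have hβ0 : β ≠ 0 := by
    rintro rfl; exact hcon ⟨0, map_zero _⟩
  refine ⟨hβ0, ?_⟩
  rcases ValuationRing.isInteger_or_isInteger RL β with ⟨b, hb⟩ | ⟨g, hg⟩
  · exact absurd ⟨b, hb⟩ hcon
  · refine ⟨g, ?_, hg⟩
    rw [IsLocalRing.mem_maximalIdeal, mem_nonunits_iff]
    intro hu
    obtain ⟨g', hg'⟩ := hu.exists_right_inv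
    apply hcon
    refine ⟨g', ?_⟩
    have h1 : algebraMap RL L g * algebraMap RL L g' = 1 := by rw [← map_mul, hg', map_one]
    have h1' : β⁻¹ * algebraMap RL L g' = 1 := by
      have : algebraMap RL L g = β⁻¹ := hg
      rw [← this]; exact h1
    calc algebraMap RL L g' = β * (β⁻¹ * algebraMap RL L g') := by
          rw [← mul_assoc, mul_inv_cancel₀ hβ0, one_mul]
      _ = β := by rw [h1', mul_one]

theorem good_two (W : WeierstrassCurve L) [W.IsElliptic] (h2 : IsUnit (2 : RL)) (j₀ : RL)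
    (hj : algebraMap RL L j₀ = W.j) (C : VariableChange L) (β : L)
    (hC : C • W = ⟨0, β, 0, 1, 0⟩) :
    (W.minimal RL).HasGoodReduction RL := by
  have hinj := IsFractionRing.injective RL L
  have ha1 : (C • W).a₁ = 0 := by rw [hC]
  have ha2 : (C • W).a₂ = β := by rw [hC]
  have ha3 : (C • W).a₃ = 0 := by rw [hC]
  have ha4 : (C • W).a₄ = 1 := by rw [hC]
  have ha6 : (C • W).a₆ = 0 := by rw [hC]
  have hjj : (C • W).j = W.j := variableChange_j W C
  have E : algebraMap RL L j₀ * (16 * (β ^ 2 - 4)) = (16 * (β ^ 2 - 3)) ^ 3 := by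
    have := j_mul_Δ (C • W)
    rw [hjj, Δ_of_nf2 _ ha1 ha3 ha4 ha6, c₄_of_nf2 _ ha1 ha3 ha4, ha2, ← hj] at this
    exact this
  have h16 : IsUnit (16 : RL) := by
    have : (16 : RL) = 2 ^ 4 := by norm_num
    rw [this]; exact h2.pow 4
  obtain ⟨b, hb⟩ : ∃ b : RL, algebraMap RL L b = β := by
    rcases integer_or_inv_mem (RL := RL) β with h | ⟨hβ0, g, hgm, hg⟩
    · exact h
    · exfalso
      have Eg : j₀ * 16 * (g ^ 4 - 4 * g ^ 6) = 16 ^ 3 * (1 - 3 * g ^ 2) ^ 3 := by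
        apply hinj
        simp only [map_mul, map_sub, map_pow, map_one, map_ofNat, hg]
        linear_combination (norm := skip) (β⁻¹) ^ 6 * E
        field_simp
        ring
      have hL : j₀ * 16 * (g ^ 4 - 4 * g ^ 6) ∈ IsLocalRing.maximalIdeal RL := by
        have : j₀ * 16 * (g ^ 4 - 4 * g ^ 6) = (j₀ * 16 * (g ^ 3 - 4 * g ^ 5)) * g := by ring
        rw [this]; exact Ideal.mul_mem_left _ _ hgm
      have hR : IsUnit ((16 : RL) ^ 3 * (1 - 3 * g ^ 2) ^ 3) := by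
        refine (h16.pow 3).mul (IsUnit.pow 3 ?_)
        apply IsLocalRing.isUnit_one_sub_self_of_mem_nonunits
        have : 3 * g ^ 2 ∈ IsLocalRing.maximalIdeal RL := by
          have : 3 * g ^ 2 = (3 * g) * g := by ring
          rw [this]; exact Ideal.mul_mem_left _ _ hgm
        exact this
      rw [Eg] at hL
      exact (IsLocalRing.mem_maximalIdeal _).1 hL hR
  have Eb : j₀ * (16 * (b ^ 2 - 4)) = (16 * (b ^ 2 - 3)) ^ 3 := by
    apply hinj
    simp only [map_mul, map_sub, map_pow, map_ofNat, hb]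
    exact E
  have hΔu : IsUnit (16 * (b ^ 2 - 4)) := by
    by_contra hnu
    have hm : 16 * (b ^ 2 - 4) ∈ IsLocalRing.maximalIdeal RL := hnu
    have hm4 : b ^ 2 - 4 ∈ IsLocalRing.maximalIdeal RL := by
      rcases (IsLocalRing.maximalIdeal.isMaximal RL).isPrime.mem_or_mem hm with h | h
      · exact absurd h16 ((IsLocalRing.mem_maximalIdeal _).1 h)
      · exact h
    have hm3' : (16 * (b ^ 2 - 3)) ^ 3 ∈ IsLocalRing.maximalIdeal RL := by
      rw [← Eb]; exact Ideal.mul_mem_left _ _ hm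
    have hm3'' : 16 * (b ^ 2 - 3) ∈ IsLocalRing.maximalIdeal RL :=
      (IsLocalRing.maximalIdeal.isMaximal RL).isPrime.mem_of_pow_mem _ hm3'
    have hm3 : b ^ 2 - 3 ∈ IsLocalRing.maximalIdeal RL := by
      rcases (IsLocalRing.maximalIdeal.isMaximal RL).isPrime.mem_or_mem hm3'' with h | h
      · exact absurd h16 ((IsLocalRing.mem_maximalIdeal _).1 h)
      · exact h
    have h1 : (1 : RL) ∈ IsLocalRing.maximalIdeal RL := by
      have : (1 : RL) = (b ^ 2 - 3) - (b ^ 2 - 4) := by ring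
      rw [this]; exact Ideal.sub_mem _ hm3 hm4
    exact (IsLocalRing.mem_maximalIdeal _).1 h1 isUnit_one
  refine hasGoodReduction_minimal_of_model W C ⟨0, b, 0, 1, 0⟩ ?_ ?_
  · rw [hC]
    ext <;> simp [WeierstrassCurve.baseChange, WeierstrassCurve.map, hb]
  · rw [Δ_of_nf2 _ rfl rfl rfl rfl]
    exact hΔu

theorem good_three (W : WeierstrassCurve L) [W.IsElliptic] (h3 : IsUnit (3 : RL)) (j₀ : RL)
    (hj : algebraMap RL L j₀ = W.j) (C : VariableChange L) (α : L)
    (hC : C • W = ⟨α, 0, 1, 0, 0⟩) :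
    (W.minimal RL).HasGoodReduction RL := by
  have hinj := IsFractionRing.injective RL L
  have ha1 : (C • W).a₁ = α := by rw [hC]
  have ha2 : (C • W).a₂ = 0 := by rw [hC]
  have ha3 : (C • W).a₃ = 1 := by rw [hC]
  have ha4 : (C • W).a₄ = 0 := by rw [hC]
  have ha6 : (C • W).a₆ = 0 := by rw [hC]
  have hjj : (C • W).j = W.j := variableChange_j W C
  have E : algebraMap RL L j₀ * (α ^ 3 - 27) = (α * (α ^ 3 - 24)) ^ 3 := by
    have := j_mul_Δ (C • W)
    rw [hjj, Δ_of_nf3 _ ha2 ha3 ha4 ha6, c₄_of_nf3 _ ha2 ha3 ha4, ha1, ← hj] at this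
    exact this
  have hprime := (IsLocalRing.maximalIdeal.isMaximal RL).isPrime
  have h3m : (3 : RL) ∉ IsLocalRing.maximalIdeal RL := fun h =>
    (IsLocalRing.mem_maximalIdeal _).1 h h3
  obtain ⟨a, hb⟩ : ∃ a : RL, algebraMap RL L a = α := by
    rcases integer_or_inv_mem (RL := RL) α with h | ⟨hβ0, g, hgm, hg⟩
    · exact h
    · exfalso
      have Eg : j₀ * (g ^ 9 - 27 * g ^ 12) = (1 - 24 * g ^ 3) ^ 3 := by
        apply hinj
        simp only [map_mul, map_sub, map_pow, map_one, map_ofNat, hg]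
        linear_combination (norm := skip) (α⁻¹) ^ 12 * E
        field_simp
        ring
      have hL : j₀ * (g ^ 9 - 27 * g ^ 12) ∈ IsLocalRing.maximalIdeal RL := by
        have : j₀ * (g ^ 9 - 27 * g ^ 12) = (j₀ * (g ^ 8 - 27 * g ^ 11)) * g := by ring
        rw [this]; exact Ideal.mul_mem_left _ _ hgm
      have hR : IsUnit ((1 - 24 * g ^ 3) ^ 3) := by
        refine IsUnit.pow 3 ?_
        apply IsLocalRing.isUnit_one_sub_self_of_mem_nonunits
        have : 24 * g ^ 3 ∈ IsLocalRing.maximalIdeal RL := by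
          have : 24 * g ^ 3 = (24 * g ^ 2) * g := by ring
          rw [this]; exact Ideal.mul_mem_left _ _ hgm
        exact this
      rw [Eg] at hL
      exact (IsLocalRing.mem_maximalIdeal _).1 hL hR
  have Eb : j₀ * (a ^ 3 - 27) = (a * (a ^ 3 - 24)) ^ 3 := by
    apply hinj
    simp only [map_mul, map_sub, map_pow, map_ofNat, hb]
    exact E
  have hΔu : IsUnit (a ^ 3 - 27) := by
    by_contra hnu
    have hm : a ^ 3 - 27 ∈ IsLocalRing.maximalIdeal RL := hnu
    have hm3' : (a * (a ^ 3 - 24)) ^ 3 ∈ IsLocalRing.maximalIdeal RL := by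
      rw [← Eb]; exact Ideal.mul_mem_left _ _ hm
    have hm3'' : a * (a ^ 3 - 24) ∈ IsLocalRing.maximalIdeal RL :=
      hprime.mem_of_pow_mem _ hm3'
    rcases hprime.mem_or_mem hm3'' with h | h
    · -- a ∈ m ⇒ 27 ∈ m
      have h27 : (3 : RL) ^ 3 ∈ IsLocalRing.maximalIdeal RL := by
        have : (3 : RL) ^ 3 = a ^ 2 * a - (a ^ 3 - 27) := by ring
        rw [this]; exact Ideal.sub_mem _ (Ideal.mul_mem_left _ _ h) hm
      exact h3m (hprime.mem_of_pow_mem _ h27)
    · have : (3 : RL) = (a ^ 3 - 24) - (a ^ 3 - 27) := by ring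
      apply h3m
      rw [this]; exact Ideal.sub_mem _ h hm
  refine hasGoodReduction_minimal_of_model W C ⟨a, 0, 1, 0, 0⟩ ?_ ?_
  · rw [hC]
    ext <;> simp [WeierstrassCurve.baseChange, WeierstrassCurve.map, hb]
  · rw [Δ_of_nf3 _ rfl rfl rfl rfl]
    exact hΔu

end Groth.Agent.Lib.Helper1.PGR
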