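import Mathlib
import Groth.Agent.Lib.Helper1.PGRGood2
import Groth.Agent.Lib.Helper1.PGRClosed
import Groth.Agent.Lib.Helper50.DvrSpec

/-!
# Potential good reduction iff integral `j` (helper1)
-/

namespace Groth.Agent.Lib.Helper1.PGR

open WeierstrassCurve IsDedekindDomain.HeightOneSpectrum

universe u

instance instIsEllipticBaseChange {R₀ A : Type*} [CommRing R₀] [CommRing A] [Algebra R₀ A]
    (W : WeierstrassCurve R₀) [W.IsElliptic] : (W.baseChange A).IsElliptic := by
  unfold WeierstrassCurve.baseChange; infer_instance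

lemma baseChange_j {R₀ A : Type*} [CommRing R₀] [CommRing A] [Algebra R₀ A]
    (W : WeierstrassCurve R₀) [W.IsElliptic] : (W.baseChange A).j = algebraMap R₀ A W.j :=
  map_j W (algebraMap R₀ A)

variable {R : Type u} [CommRing R] [IsDomain R] [IsDiscreteValuationRing R]
  {K : Type u} [Field K] [Algebra R K] [IsFractionRing R K]

/-- A DVR of a finite extension `L` of `K = Frac R` dominating `R`. -/
theorem exists_dvr_ext (L : Type u) [Field L] [Algebra K L] [FiniteDimensional K L] :
    ∃ (Rv : ValuationSubring L), IsDiscreteValuationRing Rv ∧ ∃ ψ : R →+* Rv, IsLocalHom ψ ∧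
      ∀ r : R, algebraMap K L (algebraMap R K r) = algebraMap Rv L (ψ r) := by
  classical
  let φ : R →+* L := (algebraMap K L).comp (algebraMap R K)
  have hφinj : Function.Injective φ :=
    (algebraMap K L).injective.comp (IsFractionRing.injective R K)
  have hker : RingHom.ker φ ≠ IsLocalRing.maximalIdeal R := by
    rw [(RingHom.injective_iff_ker_eq_bot φ).1 hφinj]
    exact (IsDiscreteValuationRing.not_a_field R).symm
  have hfg : ∃ F : Finset L, Subfield.closure (Set.range φ ∪ ↑F) = ⊤ := by
    let b := Module.finBasis K L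
    refine ⟨Finset.univ.image b, ?_⟩
    rw [eq_top_iff]
    intro x _
    set S := Subfield.closure (Set.range φ ∪ ↑(Finset.univ.image b)) with hS
    have hK : ∀ k : K, algebraMap K L k ∈ S := by
      intro k
      obtain ⟨a, c, hc, rfl⟩ := IsFractionRing.div_surjective (A := R) k
      rw [map_div₀]
      refine S.div_mem ?_ ?_
      · exact Subfield.subset_closure (Or.inl ⟨a, rfl⟩)
      · exact Subfield.subset_closure (Or.inl ⟨c, rfl⟩)
    have hb : ∀ i, b i ∈ S := fun i =>
      Subfield.subset_closure (Or.inr (by simp))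
    rw [← b.sum_repr x]
    refine S.sum_mem (fun i _ => ?_)
    rw [Algebra.smul_def]
    exact S.mul_mem (hK _) (hb i)
  obtain ⟨Rv, hdvr, ψ, hloc, hcomp⟩ := Groth.Agent.Lib.Helper50.exists_dvr_factor φ hker hfg
  refine ⟨Rv, hdvr, ψ, hloc, fun r => ?_⟩
  have := congrArg (fun f => f r) hcomp
  simp only [RingHom.comp_apply] at this
  exact this.symm

/-- an element of `K` whose image in `L` is integral over a dominating local ring is in `R`. -/
theorem exists_of_algebraMap_eq {RL L : Type*} [CommRing RL] [Field L] [Algebra K L]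
    [Algebra RL L] (hinj : Function.Injective (algebraMap RL L))
    (φ : R →+* RL) [IsLocalHom φ]
    (hφ : ∀ r : R, algebraMap K L (algebraMap R K r) = algebraMap RL L (φ r))
    (x : K) (y : RL) (hxy : algebraMap K L x = algebraMap RL L y) :
    ∃ r : R, algebraMap R K r = x := by
  rcases ValuationRing.isInteger_or_isInteger R x with ⟨r, hr⟩ | ⟨r', hr'⟩
  · exact ⟨r, hr⟩
  · by_cases hx0 : x = 0
    · exact ⟨0, by rw [map_zero, hx0]⟩
    have hr'' : algebraMap R K r' = x⁻¹ := hr'
    have h1 : algebraMap RL L (y * φ r') = 1 := by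
      rw [map_mul, ← hφ, ← hxy, hr'', ← map_mul, mul_inv_cancel₀ hx0, map_one]
    have h2 : y * φ r' = 1 := hinj (by rw [h1, map_one])
    have hu : IsUnit (φ r') := IsUnit.of_mul_eq_one _ (by rw [mul_comm]; exact h2)
    have hu' : IsUnit r' := (isUnit_map_iff φ r').1 hu
    obtain ⟨v, hv⟩ := hu'.exists_right_inv
    refine ⟨v, ?_⟩
    have : algebraMap R K r' * algebraMap R K v = 1 := by rw [← map_mul, hv, map_one]
    rw [hr''] at this
    calc algebraMap R K v = x * (x⁻¹ * algebraMap R K v) := by
          rw [← mul_assoc, mul_inv_cancel₀ hx0, one_mul]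
      _ = x := by rw [this, mul_one]

/-- (⇐): potential good reduction implies integral `j`. -/
theorem j_integral_of_good (W : WeierstrassCurve K) [W.IsElliptic]
    {L : Type*} [Field L] [Algebra K L] {RL : Type*} [CommRing RL] [IsDomain RL]
    [IsDiscreteValuationRing RL] [Algebra RL L] [IsFractionRing RL L]
    (φ : R →+* RL) (hloc : IsLocalHom φ)
    (hφ : ∀ r : R, algebraMap K L (algebraMap R K r) = algebraMap RL L (φ r))
    (hgood : ((W.baseChange L).minimal RL).HasGoodReduction RL) :
    ∃ r : R, algebraMap R K r = W.j := by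
  have hinj := IsFractionRing.injective RL L
  obtain ⟨C₀, hC₀⟩ : ∃ C₀ : VariableChange L, (W.baseChange L).minimal RL = C₀ • (W.baseChange L) :=
    ⟨_, rfl⟩
  rw [hasGoodReduction_iff] at hgood
  obtain ⟨hmin, hval⟩ := hgood
  have hint : IsIntegral RL ((W.baseChange L).minimal RL) := inferInstance
  obtain ⟨W₀, hW₀⟩ := hint.integral
  rw [hC₀] at hW₀ hval
  have hΔ : (C₀ • (W.baseChange L)).Δ = algebraMap RL L W₀.Δ := by
    rw [hW₀, WeierstrassCurve.baseChange, map_Δ]
  have hc₄ : (C₀ • (W.baseChange L)).c₄ = algebraMap RL L W₀.c₄ := by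
    rw [hW₀, WeierstrassCurve.baseChange, map_c₄]
  have hunit : IsUnit W₀.Δ := by
    rw [hΔ, valuation_eq_one_iff_notMem] at hval
    by_contra hnu
    exact hval hnu
  have hj : (C₀ • (W.baseChange L)).j = algebraMap K L W.j := by
    rw [variableChange_j, baseChange_j]
  have E := j_mul_Δ (C₀ • (W.baseChange L))
  rw [hj, hΔ, hc₄] at E
  obtain ⟨v, hv⟩ := hunit.exists_right_inv
  refine exists_of_algebraMap_eq hinj φ hφ W.j (W₀.c₄ ^ 3 * v) ?_
  rw [map_mul, map_pow, ← E, mul_assoc, ← map_mul, hv, map_one, mul_one]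

/-- (⇒) given the normal form over a finite extension. -/
theorem good_of_ext (W : WeierstrassCurve K) [W.IsElliptic] (r : R) (hr : algebraMap R K r = W.j)
    (L : Type u) [Field L] [Algebra K L] [FiniteDimensional K L]
    (h : ((2 : IsLocalRing.ResidueField R) ≠ 0 ∧
          ∃ (C : VariableChange L) (β : L), C • (W.baseChange L) = ⟨0, β, 0, 1, 0⟩) ∨
        ((3 : IsLocalRing.ResidueField R) ≠ 0 ∧
          ∃ (C : VariableChange L) (α : L), C • (W.baseChange L) = ⟨α, 0, 1, 0, 0⟩)) :
    ∃ (RL : Type u) (_ : CommRing RL) (_ : IsDomain RL) (_ : IsDiscreteValuationRing RL)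
      (_ : Algebra RL L) (_ : IsFractionRing RL L) (φ : R →+* RL), IsLocalHom φ ∧
      (∀ r : R, algebraMap K L (algebraMap R K r) = algebraMap RL L (φ r)) ∧
      ((W.baseChange L).minimal RL).HasGoodReduction RL := by
  obtain ⟨Rv, hdvr, ψ, hloc, hψ⟩ := exists_dvr_ext (R := R) (K := K) L
  refine ⟨Rv, inferInstance, inferInstance, hdvr, inferInstance, inferInstance, ψ, hloc, hψ, ?_⟩
  have hj : algebraMap Rv L (ψ r) = (W.baseChange L).j := by
    rw [← hψ, hr, baseChange_j]
  have hunit : ∀ n : ℕ, (n : IsLocalRing.ResidueField R) ≠ 0 → IsUnit (n : Rv) := by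
    intro n hn
    have h1 : IsUnit (n : R) := by
      by_contra hnu
      apply hn
      have : (n : R) ∈ IsLocalRing.maximalIdeal R := hnu
      have h0 := (IsLocalRing.residue_eq_zero_iff (n : R)).2 this
      rw [map_natCast] at h0
      exact h0
    have := h1.map ψ
    rwa [map_natCast] at this
  rcases h with ⟨h2, C, β, hC⟩ | ⟨h3, C, α, hC⟩
  · have h2' : IsUnit (2 : Rv) := by
      have := hunit 2 (by exact_mod_cast h2)
      exact_mod_cast this
    exact good_two (W.baseChange L) h2' (ψ r) hj C β hC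
  · have h3' : IsUnit (3 : Rv) := by
      have := hunit 3 (by exact_mod_cast h3)
      exact_mod_cast this
    exact good_three (W.baseChange L) h3' (ψ r) hj C α hC

/-- the normal form exists over a finite extension -/
theorem exists_ext (W : WeierstrassCurve K) [W.IsElliptic] :
    ∃ (L : Type u) (_ : Field L) (_ : Algebra K L) (_ : FiniteDimensional K L),
      ((2 : IsLocalRing.ResidueField R) ≠ 0 ∧
          ∃ (C : VariableChange L) (β : L), C • (W.baseChange L) = ⟨0, β, 0, 1, 0⟩) ∨
        ((3 : IsLocalRing.ResidueField R) ≠ 0 ∧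
          ∃ (C : VariableChange L) (α : L), C • (W.baseChange L) = ⟨α, 0, 1, 0, 0⟩) := by
  classical
  let Ω := AlgebraicClosure K
  have hne : ∀ n : ℕ, (n : IsLocalRing.ResidueField R) ≠ 0 → (n : Ω) ≠ 0 := by
    intro n hn h0
    apply hn
    have h1 : (n : K) = 0 := by
      have : algebraMap K Ω (n : K) = 0 := by rw [map_natCast]; exact h0
      exact (map_eq_zero _).1 this
    have h2 : (n : R) = 0 := by
      have : algebraMap R K (n : R) = 0 := by rw [map_natCast]; exact h1
      exact (IsFractionRing.injective R K) (by rw [this, map_zero])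
    have := congrArg (IsLocalRing.residue R) h2
    rwa [map_natCast, map_zero] at this
  by_cases h2 : (2 : IsLocalRing.ResidueField R) ≠ 0
  · have h2Ω : (2 : Ω) ≠ 0 := by
      have := hne 2 (by exact_mod_cast h2)
      exact_mod_cast this
    obtain ⟨CΩ, β, hCΩ⟩ := exists_nf_two_closed (W.baseChange Ω) h2Ω
    obtain ⟨L, hfd, C, hC⟩ := descend_finite W CΩ
    refine ⟨L, inferInstance, inferInstance, hfd, Or.inl ⟨h2, C, (C • (W.baseChange L)).a₂, ?_⟩⟩
    rw [hCΩ] at hC
    have hi := (algebraMap L Ω).injective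
    have e1 : (C • (W.baseChange L)).a₁ = 0 := hi (by rw [← map_a₁, hC, map_zero])
    have e3 : (C • (W.baseChange L)).a₃ = 0 := hi (by rw [← map_a₃, hC, map_zero])
    have e4 : (C • (W.baseChange L)).a₄ = 1 := hi (by rw [← map_a₄, hC, map_one])
    have e6 : (C • (W.baseChange L)).a₆ = 0 := hi (by rw [← map_a₆, hC, map_zero])
    exact WeierstrassCurve.ext e1 rfl e3 e4 e6
  · have h3 : (3 : IsLocalRing.ResidueField R) ≠ 0 := by
      intro h3
      have h2' : (2 : IsLocalRing.ResidueField R) = 0 := not_not.1 h2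
      have : (1 : IsLocalRing.ResidueField R) = 3 - 2 := by norm_num
      rw [h3, h2', sub_zero] at this
      exact one_ne_zero this
    have h3Ω : (3 : Ω) ≠ 0 := by
      have := hne 3 (by exact_mod_cast h3)
      exact_mod_cast this
    obtain ⟨CΩ, α, hCΩ⟩ := exists_nf_three_closed (W.baseChange Ω) h3Ω
    obtain ⟨L, hfd, C, hC⟩ := descend_finite W CΩ
    refine ⟨L, inferInstance, inferInstance, hfd, Or.inr ⟨h3, C, (C • (W.baseChange L)).a₁, ?_⟩⟩
    rw [hCΩ] at hC
    have hi := (algebraMap L Ω).injective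
    have e2 : (C • (W.baseChange L)).a₂ = 0 := hi (by rw [← map_a₂, hC, map_zero])
    have e3 : (C • (W.baseChange L)).a₃ = 1 := hi (by rw [← map_a₃, hC, map_one])
    have e4 : (C • (W.baseChange L)).a₄ = 0 := hi (by rw [← map_a₄, hC, map_zero])
    have e6 : (C • (W.baseChange L)).a₆ = 0 := hi (by rw [← map_a₆, hC, map_zero])
    exact WeierstrassCurve.ext rfl e2 e3 e4 e6

end Groth.Agent.Lib.Helper1.PGR
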