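import Mathlib
import Groth.Agent.Lib.Helper91.UnramDVR

/-!
# Purely inseparable residue step for a DVR: `T[X]/(X^p - y)` (helper1)
-/

set_option autoImplicit false

namespace Groth.Agent.Lib.Helper1.PerfDVR

open Polynomial IsLocalRing Groth.Agent.Lib.Helper91

section StepAbstract

variable {T : Type*} [CommRing T] [IsDomain T] [IsDiscreteValuationRing T]
variable (p : ℕ) (y : T)

/-- the polynomial `X^p - y`. -/
noncomputable def fpoly : T[X] := X ^ p - C y

lemma fpoly_monic (hp : p.Prime) : (fpoly p y).Monic := monic_X_pow_sub_C y hp.ne_zero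

lemma fpoly_natDegree (hp : p.Prime) : (fpoly p y).natDegree = p :=
  natDegree_X_pow_sub_C

lemma fpoly_map_irreducible (hp : p.Prime) (hy : ∀ z : T, z ^ p - y ∉ maximalIdeal T) :
    Irreducible ((fpoly p y).map (residue T)) := by
  have : (fpoly p y).map (residue T) = X ^ p - C (residue T y) := by simp [fpoly]
  rw [this]
  apply X_pow_sub_C_irreducible_of_prime hp
  intro b hb
  obtain ⟨z, rfl⟩ := residue_surjective b
  apply hy z
  rw [← residue_eq_zero_iff, map_sub, map_pow, hb, sub_self]

theorem step_props (hp : p.Prime) (hpT : (p : T) ∈ maximalIdeal T)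
    (hy : ∀ z : T, z ^ p - y ∉ maximalIdeal T) (π : T) (hπ : Irreducible π) :
    ∃ (_ : IsDomain (AdjoinRoot (fpoly p y))) (_ : IsDiscreteValuationRing (AdjoinRoot (fpoly p y))),
      Irreducible (AdjoinRoot.of (fpoly p y) π) ∧
      ∀ t : AdjoinRoot (fpoly p y), ∃ z : T,
        AdjoinRoot.of _ z - t ^ p ∈ Ideal.span {AdjoinRoot.of (fpoly p y) π} := by
  have hf := fpoly_monic p y hp
  have hirr := fpoly_map_irreducible p y hp hy
  have hdom := UnramDVR.isDomain hf hirr
  have hdvr := UnramDVR.isDVR hf hirr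
  have hloc := UnramDVR.isLocalRing hf hirr
  have hmax : @maximalIdeal (AdjoinRoot (fpoly p y)) _ hloc = Ideal.span {AdjoinRoot.of (fpoly p y) π} :=
    UnramDVR.maximalIdeal_eq_span hf hirr hπ
  refine ⟨hdom, hdvr, ?_, ?_⟩
  · rw [IsDiscreteValuationRing.irreducible_iff_uniformizer]
    convert hmax
  · set I : Ideal (AdjoinRoot (fpoly p y)) := Ideal.span {AdjoinRoot.of (fpoly p y) π} with hI
    have hIne : I ≠ ⊤ := by
      rw [← hmax]; exact (@maximalIdeal.isMaximal _ _ hloc).ne_top
    have hπT : maximalIdeal T = Ideal.span {π} := hπ.maximalIdeal_eq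
    have hpI : ((p : ℕ) : AdjoinRoot (fpoly p y)) ∈ I := by
      rw [hπT, Ideal.mem_span_singleton] at hpT
      obtain ⟨c, hc⟩ := hpT
      have : ((p : ℕ) : AdjoinRoot (fpoly p y)) = AdjoinRoot.of (fpoly p y) π * AdjoinRoot.of _ c := by
        rw [← map_mul, ← hc, map_natCast]
      rw [this]
      exact Ideal.mul_mem_right _ _ (Ideal.subset_span rfl)
    have hnt : Nontrivial (AdjoinRoot (fpoly p y) ⧸ I) := Ideal.Quotient.nontrivial_iff.mpr hIne
    have hchar : CharP (AdjoinRoot (fpoly p y) ⧸ I) p := by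
      rw [CharP.charP_iff_prime_eq_zero hp]
      rw [← map_natCast (Ideal.Quotient.mk I), Ideal.Quotient.eq_zero_iff_mem]
      exact hpI
    have hfact : Fact p.Prime := ⟨hp⟩
    have key : ∀ t : AdjoinRoot (fpoly p y), ∃ z : T,
        Ideal.Quotient.mk I (AdjoinRoot.of _ z) = (Ideal.Quotient.mk I t) ^ p := by
      intro t
      induction t using AdjoinRoot.induction_on with
      | ih g =>
        induction g using Polynomial.induction_on with
        | C a =>
          refine ⟨a ^ p, ?_⟩
          rw [map_pow, map_pow]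
          rfl
        | add g h hg hh =>
          obtain ⟨z1, h1⟩ := hg
          obtain ⟨z2, h2⟩ := hh
          refine ⟨z1 + z2, ?_⟩
          rw [map_add, map_add, map_add, map_add, add_pow_char, h1, h2]
        | monomial n a ih =>
          obtain ⟨z, hz⟩ := ih
          refine ⟨z * y, ?_⟩
          rw [pow_succ, ← mul_assoc, map_mul (AdjoinRoot.mk _), map_mul (Ideal.Quotient.mk I), mul_pow,
            ← hz, map_mul, map_mul]
          congr 1
          rw [← map_pow]
          congr 1
          have h0 : AdjoinRoot.mk (fpoly p y) (X ^ p - C y) = 0 := AdjoinRoot.mk_self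
          rw [map_sub, map_pow, sub_eq_zero] at h0
          rw [h0]
          rfl
    intro t
    obtain ⟨z, hz⟩ := key t
    refine ⟨z, ?_⟩
    rw [← Ideal.Quotient.eq_zero_iff_mem, map_sub, map_pow, hz, sub_self]

end StepAbstract

end Groth.Agent.Lib.Helper1.PerfDVR
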