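import Mathlib
import Groth.Agent.Lib.Helper1.PerfDVRA

/-!
# Good finite subalgebras and the extension step inside a big field (helper1)
-/

set_option autoImplicit false

namespace Groth.Agent.Lib.Helper1.PerfDVR

open Polynomial IsLocalRing

universe u v

variable {R : Type u} [CommRing R] [IsDomain R] [IsDiscreteValuationRing R]
variable {Ω : Type v} [Field Ω] [Algebra R Ω]

/-- A finite subalgebra of `Ω` which is a DVR with uniformizer `π`, of `p`-power rank, with purely
inseparable residue field extension. -/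
structure GoodFin (p : ℕ) (π : R) (T : Subalgebra R Ω) : Prop where
  fin : Module.Finite R T
  rank : ∃ m : ℕ, Module.finrank R T = p ^ m
  dvr : IsDiscreteValuationRing T
  irr : Irreducible (algebraMap R T π)
  insep : ∀ t : T, ∃ (m : ℕ) (z : R),
    algebraMap R T z - t ^ (p ^ m) ∈ Ideal.span {algebraMap R T π}

variable {p : ℕ} {π : R}

theorem GoodFin.step [FaithfulSMul R Ω] {T : Subalgebra R Ω} (hT : GoodFin p π T) (hp : p.Prime)
    (hpR : (p : R) ∈ maximalIdeal R) (hπ : Irreducible π)
    {y : Ω} (hyT : y ∈ T)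
    (hy : ∀ z ∈ T, ∀ w ∈ T, z ^ p - y ≠ algebraMap R Ω π * w) (α : Ω) (hα : α ^ p = y) :
    ∃ T' : Subalgebra R Ω, GoodFin p π T' ∧ T ≤ T' ∧ α ∈ T' ∧
      T' ≤ Algebra.adjoin R ((T : Set Ω) ∪ {α}) := by
  have hdvrT := hT.dvr
  have hfinT := hT.fin
  set πT : T := algebraMap R T π with hπT
  set y' : T := ⟨y, hyT⟩ with hy'def
  have hmaxT : maximalIdeal T = Ideal.span {πT} := hT.irr.maximalIdeal_eq
  have hy' : ∀ z : T, z ^ p - y' ∉ maximalIdeal T := by
    intro z hz
    rw [hmaxT, Ideal.mem_span_singleton] at hz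
    obtain ⟨w, hw⟩ := hz
    apply hy z z.2 w w.2
    have := congrArg (fun t : T => (t : Ω)) hw
    simpa [hy'def, hπT] using this
  have hpT : ((p : ℕ) : T) ∈ maximalIdeal T := by
    rw [hπ.maximalIdeal_eq, Ideal.mem_span_singleton] at hpR
    obtain ⟨c, hc⟩ := hpR
    rw [hmaxT, Ideal.mem_span_singleton]
    refine ⟨algebraMap R T c, ?_⟩
    rw [hπT, ← map_mul, ← hc, map_natCast]
  obtain ⟨hdom, hdvr, hirr', hins'⟩ := step_props p y' hp hpT hy' πT hT.irr
  set f : T[X] := fpoly p y' with hf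
  have hfm : f.Monic := fpoly_monic p y' hp
  have hev : f.eval₂ (T.val : T →+* Ω) α = 0 := by
    rw [hf, fpoly, eval₂_sub, eval₂_pow, eval₂_X, eval₂_C, hα]
    simp [hy'def]
  let φ : AdjoinRoot f →ₐ[R] Ω := AdjoinRoot.liftAlgHom f T.val α hev
  have hφof : ∀ t : T, φ (AdjoinRoot.of f t) = (t : Ω) := fun t => by
    simp [φ]
  have hφroot : φ (AdjoinRoot.root f) = α := by simp [φ]
  have hπΩ : algebraMap R Ω π ≠ 0 := by
    rw [Ne, map_eq_zero_iff _ (FaithfulSMul.algebraMap_injective R Ω)]
    exact hπ.ne_zero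
  have hφinj : Function.Injective φ := by
    rw [injective_iff_map_eq_zero]
    intro x hx
    by_contra hne
    obtain ⟨n, u, rfl⟩ := IsDiscreteValuationRing.eq_unit_mul_pow_irreducible hne hirr'
    rw [map_mul, map_pow, hφof] at hx
    rcases mul_eq_zero.mp hx with h | h
    · exact (u.isUnit.map φ).ne_zero h
    · exact hπΩ (by simpa [hπT] using eq_zero_of_pow_eq_zero h)
  refine ⟨φ.range, ?_, ?_, ?_, ?_⟩
  · let e : AdjoinRoot f ≃ₐ[R] φ.range := AlgEquiv.ofInjective φ hφinj
    have heof : ∀ r : R, e (AdjoinRoot.of f (algebraMap R T r)) = algebraMap R φ.range r := by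
      intro r
      have : AdjoinRoot.of f (algebraMap R T r) = algebraMap R (AdjoinRoot f) r := by
        rw [IsScalarTower.algebraMap_apply R T (AdjoinRoot f), AdjoinRoot.algebraMap_eq]
      rw [this, e.commutes]
    have hfinA : Module.Finite T (AdjoinRoot f) := hfm.finite_adjoinRoot
    have hfinRA : Module.Finite R (AdjoinRoot f) := Module.Finite.trans T (AdjoinRoot f)
    have hfreeT : Module.Free R T := Module.free_of_finite_type_torsion_free'
    have hfreeA : Module.Free T (AdjoinRoot f) := Module.Free.of_basis (AdjoinRoot.powerBasis' hfm).basis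
    refine ⟨Module.Finite.equiv e.toLinearEquiv, ?_, ?_, ?_, ?_⟩
    · obtain ⟨m, hm⟩ := hT.rank
      refine ⟨m + 1, ?_⟩
      rw [← LinearEquiv.finrank_eq e.toLinearEquiv, ← Module.finrank_mul_finrank R T (AdjoinRoot f), hm,
        PowerBasis.finrank (AdjoinRoot.powerBasis' hfm), AdjoinRoot.powerBasis'_dim,
        fpoly_natDegree p y' hp, pow_succ]
    · exact IsDiscreteValuationRing.RingEquivClass.isDiscreteValuationRing e
    · rw [← heof, MulEquiv.irreducible_iff]
      exact hirr'
    · intro t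
      obtain ⟨a, rfl⟩ := e.surjective t
      obtain ⟨z, hz⟩ := hins' a
      obtain ⟨m, z0, hz0⟩ := hT.insep z
      refine ⟨m + 1, z0, ?_⟩
      have h1 : AdjoinRoot.of f (algebraMap R T z0) - a ^ (p ^ (m + 1)) ∈
          Ideal.span {AdjoinRoot.of f πT} := by
        have e1 : AdjoinRoot.of f (algebraMap R T z0) - a ^ (p ^ (m + 1)) =
            AdjoinRoot.of f (algebraMap R T z0 - z ^ (p ^ m)) +
              ((AdjoinRoot.of f z) ^ (p ^ m) - (a ^ p) ^ (p ^ m)) := by
          rw [pow_succ, pow_mul', map_sub, map_pow]; ring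
        rw [e1]
        refine Ideal.add_mem _ ?_ ?_
        · rw [Ideal.mem_span_singleton] at hz0 ⊢
          exact map_dvd (AdjoinRoot.of f) hz0
        · rw [Ideal.mem_span_singleton] at hz ⊢
          exact hz.trans (sub_dvd_pow_sub_pow _ _ _)
      rw [Ideal.mem_span_singleton] at h1 ⊢
      have := map_dvd e h1
      rwa [map_sub, map_pow, heof, heof] at this
  · intro t ht
    exact ⟨AdjoinRoot.of f ⟨t, ht⟩, hφof _⟩
  · exact ⟨AdjoinRoot.root f, hφroot⟩
  · rintro _ ⟨a, rfl⟩
    induction a using AdjoinRoot.induction_on with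
    | ih g =>
      change eval₂ (T.val : T →+* Ω) α g ∈ _
      rw [eval₂_eq_sum, Polynomial.sum]
      refine Subalgebra.sum_mem _ fun i _ => ?_
      refine Subalgebra.mul_mem _ ?_ (Subalgebra.pow_mem _ ?_ _)
      · exact Algebra.subset_adjoin (Or.inl (g.coeff i).2)
      · exact Algebra.subset_adjoin (Or.inr rfl)

end Groth.Agent.Lib.Helper1.PerfDVR
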