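import Mathlib
import Groth.Agent.Lib.Helper1.PerfDVRB

/-!
# Zorn's lemma over good subalgebras (helper1)
-/

set_option autoImplicit false

namespace Groth.Agent.Lib.Helper1.PerfDVR

open Polynomial IsLocalRing

universe u v

variable {R : Type u} [CommRing R] [IsDomain R] [IsDiscreteValuationRing R]
variable {Ω : Type v} [Field Ω] [Algebra R Ω]

/-- A subalgebra all of whose finite subsets lie in a good finite subalgebra. -/
def Good (p : ℕ) (π : R) (S : Subalgebra R Ω) : Prop :=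
  ∀ s : Finset Ω, (↑s : Set Ω) ⊆ S →
    ∃ T : Subalgebra R Ω, T ≤ S ∧ (↑s : Set Ω) ⊆ T ∧ GoodFin p π T

variable {p : ℕ} {π : R}

theorem goodFin_bot [FaithfulSMul R Ω] (hπ : Irreducible π) :
    GoodFin p π (⊥ : Subalgebra R Ω) := by
  let e : (⊥ : Subalgebra R Ω) ≃ₐ[R] R :=
    Algebra.botEquivOfInjective (FaithfulSMul.algebraMap_injective R Ω)
  refine ⟨Module.Finite.equiv e.symm.toLinearEquiv, ⟨0, ?_⟩, ?_, ?_, ?_⟩
  · rw [LinearEquiv.finrank_eq e.toLinearEquiv, Module.finrank_self, pow_zero]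
  · exact IsDiscreteValuationRing.RingEquivClass.isDiscreteValuationRing e.symm
  · rw [← e.symm.commutes, MulEquiv.irreducible_iff]
    exact hπ
  · intro t
    obtain ⟨z, hz⟩ := Algebra.mem_bot.mp t.2
    refine ⟨0, z, ?_⟩
    have : algebraMap R (⊥ : Subalgebra R Ω) z = t := Subtype.ext hz
    rw [this, pow_zero, pow_one, sub_self]
    exact zero_mem _

theorem good_bot [FaithfulSMul R Ω] (hπ : Irreducible π) : Good p π (⊥ : Subalgebra R Ω) :=
  fun _ hs => ⟨⊥, le_rfl, hs, goodFin_bot hπ⟩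

lemma mem_sSup_of_chain {c : Set (Subalgebra R Ω)} (hc : IsChain (· ≤ ·) c) (hne : c.Nonempty)
    {x : Ω} : x ∈ sSup c ↔ ∃ S ∈ c, x ∈ S := by
  have : Nonempty c := hne.to_subtype
  rw [sSup_eq_iSup', ← SetLike.mem_coe, Subalgebra.coe_iSup_of_directed hc.directed]
  simp

lemma finset_subset_of_chain {c : Set (Subalgebra R Ω)} (hc : IsChain (· ≤ ·) c) (hne : c.Nonempty)
    (s : Finset Ω) (hs : (↑s : Set Ω) ⊆ (sSup c : Subalgebra R Ω)) :
    ∃ S ∈ c, (↑s : Set Ω) ⊆ S := by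
  classical
  induction s using Finset.induction_on with
  | empty =>
    obtain ⟨S, hS⟩ := hne
    exact ⟨S, hS, by simp⟩
  | insert a s _ ih =>
    rw [Finset.coe_insert, Set.insert_subset_iff] at hs
    obtain ⟨S₁, hS₁, h₁⟩ := ih hs.2
    obtain ⟨S₂, hS₂, h₂⟩ := (mem_sSup_of_chain hc hne).mp hs.1
    rcases hc.total hS₁ hS₂ with h | h
    · refine ⟨S₂, hS₂, ?_⟩
      rw [Finset.coe_insert, Set.insert_subset_iff]
      exact ⟨h₂, fun x hx => h (h₁ hx)⟩
    · refine ⟨S₁, hS₁, ?_⟩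
      rw [Finset.coe_insert, Set.insert_subset_iff]
      exact ⟨h h₂, h₁⟩

theorem good_sSup {c : Set (Subalgebra R Ω)} (hc : IsChain (· ≤ ·) c) (hne : c.Nonempty)
    (hgood : ∀ S ∈ c, Good p π S) : Good p π (sSup c) := by
  intro s hs
  obtain ⟨S, hS, hsS⟩ := finset_subset_of_chain hc hne s hs
  obtain ⟨T, hTS, hsT, hT⟩ := hgood S hS s hsS
  exact ⟨T, hTS.trans (le_sSup hS), hsT, hT⟩

theorem exists_maximal_good [FaithfulSMul R Ω] (hπ : Irreducible π) :
    ∃ S : Subalgebra R Ω, Maximal (Good p π) S := by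
  apply zorn_le₀ {S : Subalgebra R Ω | Good p π S}
  intro c hcs hc
  rcases c.eq_empty_or_nonempty with rfl | hne
  · exact ⟨⊥, good_bot hπ, by simp⟩
  · exact ⟨sSup c, good_sSup hc hne (fun S hS => hcs hS), fun S hS => le_sSup hS⟩

/-- Elements of `adjoin R (S ∪ {α})` only involve finitely many elements of `S`. -/
lemma adjoin_finset_support (S : Subalgebra R Ω) (α : Ω) (s : Finset Ω)
    (hs : (↑s : Set Ω) ⊆ Algebra.adjoin R ((S : Set Ω) ∪ {α})) :
    ∃ U : Finset Ω, (↑U : Set Ω) ⊆ S ∧ (↑s : Set Ω) ⊆ Algebra.adjoin R ((↑U : Set Ω) ∪ {α}) := by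
  classical
  have key : ∀ x ∈ Algebra.adjoin R ((S : Set Ω) ∪ {α}),
      ∃ U : Finset Ω, (↑U : Set Ω) ⊆ S ∧ x ∈ Algebra.adjoin R ((↑U : Set Ω) ∪ {α}) := by
    intro x hx
    induction hx using Algebra.adjoin_induction with
    | mem x hx =>
      rcases hx with hx | hx
      · exact ⟨{x}, by simpa using hx, Algebra.subset_adjoin (by simp)⟩
      · exact ⟨∅, by simp, Algebra.subset_adjoin (by simpa using hx)⟩
    | algebraMap r => exact ⟨∅, by simp, Subalgebra.algebraMap_mem _ r⟩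
    | add x y _ _ hx hy =>
      obtain ⟨U₁, h₁, hx⟩ := hx
      obtain ⟨U₂, h₂, hy⟩ := hy
      refine ⟨U₁ ∪ U₂, by simp [h₁, h₂], ?_⟩
      refine Subalgebra.add_mem _ (Algebra.adjoin_mono ?_ hx) (Algebra.adjoin_mono ?_ hy)
      · exact Set.union_subset_union_left _ (by simp)
      · exact Set.union_subset_union_left _ (by simp)
    | mul x y _ _ hx hy =>
      obtain ⟨U₁, h₁, hx⟩ := hx
      obtain ⟨U₂, h₂, hy⟩ := hy
      refine ⟨U₁ ∪ U₂, by simp [h₁, h₂], ?_⟩
      refine Subalgebra.mul_mem _ (Algebra.adjoin_mono ?_ hx) (Algebra.adjoin_mono ?_ hy)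
      · exact Set.union_subset_union_left _ (by simp)
      · exact Set.union_subset_union_left _ (by simp)
  induction s using Finset.induction_on with
  | empty => exact ⟨∅, by simp, by simp⟩
  | insert a s _ ih =>
    rw [Finset.coe_insert, Set.insert_subset_iff] at hs
    obtain ⟨U₁, h₁, hU₁⟩ := ih hs.2
    obtain ⟨U₂, h₂, hU₂⟩ := key a hs.1
    refine ⟨U₁ ∪ U₂, by simp [h₁, h₂], ?_⟩
    rw [Finset.coe_insert, Set.insert_subset_iff]
    refine ⟨Algebra.adjoin_mono ?_ hU₂, fun x hx => Algebra.adjoin_mono ?_ (hU₁ hx)⟩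
    · exact Set.union_subset_union_left _ (by simp)
    · exact Set.union_subset_union_left _ (by simp)

theorem maximal_perfect [FaithfulSMul R Ω] (hp : p.Prime)
    (hpR : (p : R) ∈ maximalIdeal R) (hπ : Irreducible π)
    (hroot : ∀ y : Ω, ∃ α : Ω, α ^ p = y)
    {S : Subalgebra R Ω} (hS : Maximal (Good p π) S) {y : Ω} (hy : y ∈ S) :
    ∃ z ∈ S, ∃ w ∈ S, z ^ p - y = algebraMap R Ω π * w := by
  classical
  by_contra hcon
  push Not at hcon
  obtain ⟨α, hα⟩ := hroot y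
  set S' : Subalgebra R Ω := Algebra.adjoin R ((S : Set Ω) ∪ {α}) with hS'
  have hSS' : S ≤ S' := fun x hx => Algebra.subset_adjoin (Or.inl hx)
  have hαS' : α ∈ S' := Algebra.subset_adjoin (Or.inr rfl)
  have hgood : Good p π S' := by
    intro s hs
    obtain ⟨U, hUS, hsU⟩ := adjoin_finset_support S α s hs
    obtain ⟨T, hTS, hUT, hT⟩ := hS.prop (insert y U) (by
      rw [Finset.coe_insert, Set.insert_subset_iff]
      exact ⟨hy, hUS⟩)
    rw [Finset.coe_insert, Set.insert_subset_iff] at hUT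
    obtain ⟨T', hT', hTT', hαT', hT'le⟩ := hT.step hp hpR hπ hUT.1
      (fun z hz w hw => hcon z (hTS hz) w (hTS hw)) α hα
    refine ⟨T', ?_, ?_, hT'⟩
    · refine hT'le.trans (Algebra.adjoin_mono ?_)
      exact Set.union_subset_union_left _ hTS
    · refine hsU.trans ?_
      change (Algebra.adjoin R ((↑U : Set Ω) ∪ {α}) : Subalgebra R Ω) ≤ T'
      rw [Algebra.adjoin_le_iff]
      rintro x (hx | hx)
      · exact hTT' (hUT.2 hx)
      · rw [Set.mem_singleton_iff] at hx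
        rw [hx]; exact hαT'
  have hαS : α ∈ S := hS.le_of_ge hgood hSS' hαS'
  exact hcon α hαS 0 (zero_mem _) (by rw [hα, sub_self, mul_zero])

end Groth.Agent.Lib.Helper1.PerfDVR
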