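import Mathlib
import Groth.Agent.Lib.Helper1.PerfDVRC
import Groth.Agent.Lib.Helper69.HensIntegralU

/-!
# The perfect-residue-field tower over a Henselian DVR (helper1)
-/

set_option autoImplicit false

namespace Groth.Agent.Lib.Helper1.PerfDVR

open Polynomial IsLocalRing

universe u v

variable {R : Type u} [CommRing R] [IsDomain R] [IsDiscreteValuationRing R]
variable {Ω : Type v} [Field Ω] [Algebra R Ω]
variable {p : ℕ} {π : R}

/-- finitely many elements of a good subalgebra lie in a good finite subalgebra. -/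
lemma Good.exists_T {S : Subalgebra R Ω} (hS : Good p π S) (s : Finset S) :
    ∃ T : Subalgebra R Ω, ∃ _ : T ≤ S, GoodFin p π T ∧ ∀ x ∈ s, (x : Ω) ∈ T := by
  classical
  obtain ⟨T, hTS, hsT, hT⟩ := hS (s.image (fun x : S => (x : Ω))) (by
    intro x hx
    simp only [Finset.coe_image, Set.mem_image, Finset.mem_coe] at hx
    obtain ⟨a, _, rfl⟩ := hx
    exact a.2)
  refine ⟨T, hTS, hT, fun x hx => hsT ?_⟩
  simp only [Finset.coe_image, Set.mem_image, Finset.mem_coe]
  exact ⟨x, hx, rfl⟩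

lemma Good.irreducible {S : Subalgebra R Ω} (hS : Good p π S) :
    Irreducible (algebraMap R S π) := by
  classical
  rw [irreducible_iff]
  constructor
  · intro hu
    obtain ⟨v, hv⟩ := hu.exists_right_inv
    obtain ⟨T, hTS, hT, hmem⟩ := hS.exists_T {v}
    have hvT : (v : Ω) ∈ T := hmem v (by simp)
    apply hT.irr.not_isUnit
    refine IsUnit.of_mul_eq_one ⟨(v : Ω), hvT⟩ ?_
    apply Subtype.ext
    have := congrArg (fun t : S => (t : Ω)) hv
    simpa using this
  · intro a b hab
    obtain ⟨T, hTS, hT, hmem⟩ := hS.exists_T {a, b}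
    have haT : (a : Ω) ∈ T := hmem a (by simp)
    have hbT : (b : Ω) ∈ T := hmem b (by simp)
    have hab' : algebraMap R T π = ⟨(a : Ω), haT⟩ * ⟨(b : Ω), hbT⟩ := by
      apply Subtype.ext
      have := congrArg (fun t : S => (t : Ω)) hab
      simpa using this
    rcases hT.irr.isUnit_or_isUnit hab' with h | h
    · left
      have := h.map (Subalgebra.inclusion hTS)
      have e1 : Subalgebra.inclusion hTS ⟨(a : Ω), haT⟩ = a := Subtype.ext rfl
      rwa [e1] at this
    · right
      have := h.map (Subalgebra.inclusion hTS)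
      have e1 : Subalgebra.inclusion hTS ⟨(b : Ω), hbT⟩ = b := Subtype.ext rfl
      rwa [e1] at this

lemma Good.factor {S : Subalgebra R Ω} (hS : Good p π S) {x : S} (hx : x ≠ 0) :
    ∃ n : ℕ, Associated ((algebraMap R S π) ^ n) x := by
  classical
  obtain ⟨T, hTS, hT, hmem⟩ := hS.exists_T {x}
  have hxT : (x : Ω) ∈ T := hmem x (by simp)
  have hdvr := hT.dvr
  have hx' : (⟨(x : Ω), hxT⟩ : T) ≠ 0 := by
    intro h
    apply hx
    apply Subtype.ext
    exact congrArg (fun t : T => (t : Ω)) h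
  obtain ⟨n, u, hu⟩ := IsDiscreteValuationRing.eq_unit_mul_pow_irreducible hx' hT.irr
  refine ⟨n, Units.map (Subalgebra.inclusion hTS).toRingHom.toMonoidHom u, ?_⟩
  apply Subtype.ext
  have := congrArg (fun t : T => (t : Ω)) hu
  simp only [Subalgebra.coe_mul, Subalgebra.coe_pow, Subalgebra.coe_algebraMap] at this ⊢
  rw [this, mul_comm]
  rfl

theorem Good.isDVR {S : Subalgebra R Ω} (hS : Good p π S) : IsDiscreteValuationRing S :=
  IsDiscreteValuationRing.ofHasUnitMulPowIrreducibleFactorization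
    ⟨algebraMap R S π, hS.irreducible, fun hx => hS.factor hx⟩

theorem Good.isIntegral {S : Subalgebra R Ω} (hS : Good p π S) : Algebra.IsIntegral R S := by
  classical
  refine ⟨fun x => ?_⟩
  obtain ⟨T, hTS, hT, hmem⟩ := hS.exists_T {x}
  have hxT : (x : Ω) ∈ T := hmem x (by simp)
  have hfin := hT.fin
  have h1 : IsIntegral R (⟨(x : Ω), hxT⟩ : T) := IsIntegral.of_finite R _
  have := h1.map (Subalgebra.inclusion hTS)
  have e1 : Subalgebra.inclusion hTS ⟨(x : Ω), hxT⟩ = x := Subtype.ext rfl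
  rwa [e1] at this

theorem main_aux [HenselianLocalRing R] [FaithfulSMul R Ω] (hp : p.Prime)
    (hpR : (p : R) ∈ maximalIdeal R) (hπ : Irreducible π)
    (hroot : ∀ y : Ω, ∃ α : Ω, α ^ p = y)
    {S : Subalgebra R Ω} (hS : Maximal (Good p π) S) :
    ∃ (_ : IsDiscreteValuationRing S) (_ : HenselianLocalRing S),
      Function.Injective (algebraMap R S) ∧
      Ideal.map (algebraMap R S) (maximalIdeal R) = maximalIdeal S ∧
      (∀ s : Finset S, ∃ S₁ : Subalgebra R S, (↑s : Set S) ⊆ ↑S₁ ∧ Module.Finite R S₁ ∧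
        Module.Free R S₁ ∧ ∃ m : ℕ, Module.finrank R S₁ = p ^ m) ∧
      (∀ y : S, ∃ z : S, z ^ p - y ∈ maximalIdeal S) ∧
      (∀ y : S, ∃ (m : ℕ) (z : R), algebraMap R S z - y ^ (p ^ m) ∈ maximalIdeal S) := by
  classical
  have hdvr : IsDiscreteValuationRing S := hS.prop.isDVR
  have hint : Algebra.IsIntegral R S := hS.prop.isIntegral
  have hhens : HenselianLocalRing S :=
    Groth.Agent.Lib.Helper69.HensIntegralU.henselianLocalRing_of_isIntegral R S
  have hmax : maximalIdeal S = Ideal.span {algebraMap R S π} := hS.prop.irreducible.maximalIdeal_eq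
  refine ⟨hdvr, hhens, ?_, ?_, ?_, ?_, ?_⟩
  · intro a b hab
    apply FaithfulSMul.algebraMap_injective R Ω
    have := congrArg (fun t : S => (t : Ω)) hab
    simpa using this
  · rw [hmax, hπ.maximalIdeal_eq, Ideal.map_span, Set.image_singleton]
  · intro s
    obtain ⟨T, hTS, hT, hmem⟩ := hS.prop.exists_T s
    let ι : T →ₐ[R] S := Subalgebra.inclusion hTS
    have hι : Function.Injective ι := Subalgebra.inclusion_injective hTS
    let e : T ≃ₐ[R] ι.range := AlgEquiv.ofInjective ι hι
    have hfin := hT.fin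
    have hfree : Module.Free R T := Module.free_of_finite_type_torsion_free'
    refine ⟨ι.range, ?_, Module.Finite.equiv e.toLinearEquiv, Module.Free.of_equiv e.toLinearEquiv, ?_⟩
    · intro x hx
      exact ⟨⟨(x : Ω), hmem x hx⟩, rfl⟩
    · obtain ⟨m, hm⟩ := hT.rank
      exact ⟨m, by rw [← LinearEquiv.finrank_eq e.toLinearEquiv, hm]⟩
  · intro y
    obtain ⟨z, hz, w, hw, h⟩ := maximal_perfect hp hpR hπ hroot hS y.2
    refine ⟨⟨z, hz⟩, ?_⟩
    rw [hmax, Ideal.mem_span_singleton]
    refine ⟨⟨w, hw⟩, ?_⟩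
    apply Subtype.ext
    simpa using h
  · intro y
    obtain ⟨T, hTS, hT, hmem⟩ := hS.prop.exists_T {y}
    have hyT : (y : Ω) ∈ T := hmem y (by simp)
    obtain ⟨m, z, hz⟩ := hT.insep ⟨(y : Ω), hyT⟩
    refine ⟨m, z, ?_⟩
    rw [hmax]
    rw [Ideal.mem_span_singleton] at hz ⊢
    obtain ⟨w, hw⟩ := hz
    refine ⟨Subalgebra.inclusion hTS w, ?_⟩
    apply Subtype.ext
    have := congrArg (fun t : T => (t : Ω)) hw
    simpa using this

end Groth.Agent.Lib.Helper1.PerfDVR
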