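import Groth.Agent.Lib.Helper1.TensorPow
import Groth.Agent.Lib.Helper1.CSADegree
import Groth.Agent.Lib.Helper1.CSADescent
import Groth.Prelude.Def_GSzCSA
import Mathlib.Algebra.Algebra.Subalgebra.Centralizer
import Mathlib.GroupTheory.OrderOfElement

/-!
# Period of a central simple algebra as the order of its factor set class
-/

set_option autoImplicit false
universe u u' v w
open scoped TensorProduct

namespace Groth.Agent.Lib.Helper1.Factor

open PiAlg

section central

variable (k : Type u) [Field k] (B : Type v) [Ring B] [Algebra k B] (C : Type w) [Ring C]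
  [Algebra k C]

/-- the tensor product of central algebras over a field is central -/
theorem isCentral_tensor [Algebra.IsCentral k B] [Algebra.IsCentral k C] [Nontrivial C] :
    Algebra.IsCentral k (B ⊗[k] C) := by
  constructor
  intro x hx
  have h1 : x ∈ Subalgebra.centralizer k
      ((Algebra.TensorProduct.includeRight : C →ₐ[k] B ⊗[k] C).range : Set (B ⊗[k] C)) := by
    rw [Subalgebra.mem_centralizer_iff]
    rintro _ ⟨c, rfl⟩
    exact (Subalgebra.mem_center_iff.mp hx _)
  rw [Subalgebra.centralizer_range_includeRight_eq_center_tensorProduct] at h1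
  obtain ⟨y, hy⟩ := h1
  have h2 : ∀ y : B ⊗[k] Subalgebra.center k C, ∃ b : B, (Algebra.TensorProduct.map
      (AlgHom.id k B) (Subalgebra.center k C).val) y = b ⊗ₜ[k] (1 : C) := by
    intro y
    induction y using TensorProduct.induction_on with
    | zero => exact ⟨0, by simp⟩
    | tmul b z =>
      obtain ⟨r, hr⟩ := Algebra.mem_bot.mp (Algebra.IsCentral.out (K := k) z.2)
      refine ⟨r • b, ?_⟩
      rw [Algebra.TensorProduct.map_tmul, AlgHom.id_apply, Subalgebra.val_apply, ← hr,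
        Algebra.algebraMap_eq_smul_one, TensorProduct.tmul_smul, TensorProduct.smul_tmul']
    | add y y' h h' =>
      obtain ⟨b, hb⟩ := h
      obtain ⟨b', hb'⟩ := h'
      exact ⟨b + b', by rw [map_add, hb, hb', TensorProduct.add_tmul]⟩
  obtain ⟨b, hb⟩ := h2 y
  have hxb : x = b ⊗ₜ[k] (1 : C) := hy.symm.trans hb
  rw [hxb] at hx ⊢
  have hbc : b ∈ Subalgebra.center k B := by
    rw [Subalgebra.mem_center_iff]
    intro b'
    have h3 := Subalgebra.mem_center_iff.mp hx (b' ⊗ₜ[k] (1 : C))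
    rw [Algebra.TensorProduct.tmul_mul_tmul, Algebra.TensorProduct.tmul_mul_tmul, mul_one] at h3
    exact Algebra.TensorProduct.includeLeft_injective (S := k)
      (FaithfulSMul.algebraMap_injective k C) h3
  obtain ⟨r, hr⟩ := Algebra.mem_bot.mp (Algebra.IsCentral.out (K := k) hbc)
  rw [Algebra.mem_bot]
  exact ⟨r, by rw [← hr]; rfl⟩

theorem isCentral_tpow (A : Type v) [Ring A] [Algebra k A] [Algebra.IsCentral k A]
    [Nontrivial A] (m : ℕ) : Algebra.IsCentral k (⨂[k] _ : Fin m, A) := by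
  induction m with
  | zero => exact CSA.isCentral_of_algEquiv' (tpowZero k A).symm
  | succ m ih =>
    have := isCentral_tensor k (⨂[k] _ : Fin m, A) A
    exact CSA.isCentral_of_algEquiv' (tpowSucc k A m).symm

end central

section period

variable {k : Type u} [Field k] {K : Type u'} [Field K] [Algebra k K]
  [FiniteDimensional k K] [IsGalois k K]
  {A : Type v} [Ring A] [Algebra k A] [Algebra.IsCentral k A] [IsSimpleRing A]
  [FiniteDimensional k A]
  {a : (K ≃ₐ[k] K) → (K ≃ₐ[k] K) → Kˣ}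

/-- a split algebra only realizes coboundaries -/
theorem Realizes.mem_cobdry_of_split {B : Type w} [Ring B] [Algebra k B] (h : Realizes B a)
    (hs : Curves.Splits k B k) : a ∈ cobdry k K := by
  obtain ⟨n, hn, ⟨φ⟩⟩ := hs
  have : NeZero n := ⟨hn⟩
  have h1 : Realizes (Matrix (Fin n) (Fin n) k) a :=
    h.of_algEquiv ((Algebra.TensorProduct.lid k B).symm.trans φ)
  have h2 := (realizes_one_matrix (k := k) (K := K) n).div_mem_cobdry h1
  simpa using h2

theorem Realizes.splits_of_mem_cobdry {B : Type w} [Ring B] [Algebra k B] [IsSimpleRing B]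
    [FiniteDimensional k B] (h : Realizes B a) (ha : a ∈ cobdry k K) :
    Curves.Splits k B k := by
  obtain ⟨n, hn, ⟨φ⟩⟩ := h.split_of_mem_cobdry ha (Module.finrank_pos).ne'
  exact ⟨n, hn, ⟨(Algebra.TensorProduct.lid k _).trans φ⟩⟩

theorem splits_tpow_iff (h : Realizes A a) (m : ℕ) :
    Curves.Splits k (⨂[k] _ : Fin m, A) k ↔ a ^ m ∈ cobdry k K := by
  have := isSimpleRing_tpow k A m
  exact ⟨fun hs => (h.tpow m).mem_cobdry_of_split hs,
    fun ha => (h.tpow m).splits_of_mem_cobdry ha⟩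

/-- the class of a factor set in `H²` -/
abbrev cls (a : (K ≃ₐ[k] K) → (K ≃ₐ[k] K) → Kˣ) :
    ((K ≃ₐ[k] K) → (K ≃ₐ[k] K) → Kˣ) ⧸ cobdry k K := QuotientGroup.mk a

theorem cls_pow_eq_one_iff (m : ℕ) : cls a ^ m = 1 ↔ a ^ m ∈ cobdry k K := by
  rw [cls, ← QuotientGroup.mk_pow, QuotientGroup.eq_one_iff]

theorem splits_tpow_iff_cls (h : Realizes A a) (m : ℕ) :
    Curves.Splits k (⨂[k] _ : Fin m, A) k ↔ cls a ^ m = 1 := by
  rw [splits_tpow_iff h, cls_pow_eq_one_iff]

theorem isPeriod_iff (h : Realizes A a) (e : ℕ) :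
    CSAGal.IsPeriod k A e ↔ 0 < e ∧ orderOf (cls a) = e := by
  unfold CSAGal.IsPeriod CSAGal.tpow
  constructor
  · rintro ⟨he, hs, hmin⟩
    refine ⟨he, (orderOf_eq_iff he).mpr ⟨(splits_tpow_iff_cls h e).mp hs, fun m hm hm0 hx => ?_⟩⟩
    exact hmin m hm0 hm ((splits_tpow_iff_cls h m).mpr hx)
  · rintro ⟨he, ho⟩
    obtain ⟨h1, h2⟩ := (orderOf_eq_iff he).mp ho
    exact ⟨he, (splits_tpow_iff_cls h e).mpr h1,
      fun m hm0 hm hs => h2 m hm hm0 ((splits_tpow_iff_cls h m).mp hs)⟩

theorem splits_tpow_iff_dvd (h : Realizes A a) (m : ℕ) :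
    Curves.Splits k (⨂[k] _ : Fin m, A) k ↔ orderOf (cls a) ∣ m := by
  rw [splits_tpow_iff_cls h, orderOf_dvd_iff_pow_eq_one]

end period

end Groth.Agent.Lib.Helper1.Factor
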