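import Mathlib.RingTheory.PiTensorProduct
import Mathlib.LinearAlgebra.PiTensorProduct.Basic
import Mathlib.RingTheory.TensorProduct.Maps

/-!
# Algebra equivalences between tensor powers

`tpowSucc : ⨂^(m+1) A ≃ₐ ⨂^m A ⊗ A`, `tpowZero : ⨂^0 A ≃ₐ k`, and the general tool
`ofLinearEquiv`: a linear equivalence out of a `PiTensorProduct` of algebras which is
multiplicative on pure tensors is an algebra equivalence.
-/

set_option autoImplicit false
universe u v
open scoped TensorProduct

namespace Groth.Agent.Lib.Helper1.PiAlg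

open PiTensorProduct

section general

variable {k : Type*} [CommSemiring k] {ι : Type*} {A : ι → Type*} [∀ i, Semiring (A i)]
  [∀ i, Algebra k (A i)] {S : Type*} [Semiring S] [Algebra k S]

theorem map_mul_of_tprod (L : (⨂[k] i, A i) →ₗ[k] S)
    (hmul : ∀ x y : Π i, A i, L (tprod k (x * y)) = L (tprod k x) * L (tprod k y))
    (a b : ⨂[k] i, A i) : L (a * b) = L a * L b := by
  revert a b
  rw [LinearMap.map_mul_iff]
  ext x y
  simp [hmul]

/-- a linear equivalence out of a tensor product of algebras which is multiplicative on pure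
tensors is an algebra equivalence -/
noncomputable def ofLinearEquiv (L : (⨂[k] i, A i) ≃ₗ[k] S) (h1 : L (tprod k 1) = 1)
    (hmul : ∀ x y : Π i, A i, L (tprod k (x * y)) = L (tprod k x) * L (tprod k y)) :
    (⨂[k] i, A i) ≃ₐ[k] S :=
  AlgEquiv.ofLinearEquiv L h1 (map_mul_of_tprod L.toLinearMap hmul)

@[simp] theorem ofLinearEquiv_apply (L : (⨂[k] i, A i) ≃ₗ[k] S) (h1 : L (tprod k 1) = 1)
    (hmul : ∀ x y : Π i, A i, L (tprod k (x * y)) = L (tprod k x) * L (tprod k y))
    (x : ⨂[k] i, A i) : ofLinearEquiv L h1 hmul x = L x := rfl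

end general

section tpow

variable (k : Type u) [CommSemiring k] (A : Type v) [Semiring A] [Algebra k A]

/-- the underlying linear equivalence of `tpowSucc` -/
noncomputable def tpowSuccLin (m : ℕ) :
    (⨂[k] _ : Fin (m + 1), A) ≃ₗ[k] (⨂[k] _ : Fin m, A) ⊗[k] A :=
  ((reindex k (fun _ : Fin (m + 1) => A) finSumFinEquiv.symm).trans
    (tmulEquiv k A).symm).trans
    (TensorProduct.congr (LinearEquiv.refl k _) (subsingletonEquiv (0 : Fin 1)))

theorem tpowSuccLin_tprod (m : ℕ) (x : Fin (m + 1) → A) :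
    tpowSuccLin k A m (tprod k x) =
      (tprod k fun i : Fin m => x (Fin.castSucc i)) ⊗ₜ[k] x (Fin.last m) := by
  simp only [tpowSuccLin, LinearEquiv.trans_apply, reindex_tprod, Equiv.symm_symm,
    tmulEquiv_symm_apply, TensorProduct.congr_tmul, LinearEquiv.refl_apply,
    subsingletonEquiv_apply_tprod]
  congr 2

/-- `⨂^(m+1) A ≃ₐ ⨂^m A ⊗ A` -/
noncomputable def tpowSucc (m : ℕ) :
    (⨂[k] _ : Fin (m + 1), A) ≃ₐ[k] (⨂[k] _ : Fin m, A) ⊗[k] A :=
  ofLinearEquiv (tpowSuccLin k A m)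
    (by
      rw [tpowSuccLin_tprod]
      rfl)
    (by
      intro x y
      rw [tpowSuccLin_tprod, tpowSuccLin_tprod, tpowSuccLin_tprod,
        Algebra.TensorProduct.tmul_mul_tmul, tprod_mul_tprod]
      rfl)

theorem tpowSucc_tprod (m : ℕ) (x : Fin (m + 1) → A) :
    tpowSucc k A m (tprod k x) =
      (tprod k fun i : Fin m => x (Fin.castSucc i)) ⊗ₜ[k] x (Fin.last m) :=
  tpowSuccLin_tprod k A m x

/-- `⨂^0 A ≃ₐ k` -/
noncomputable def tpowZero : (⨂[k] _ : Fin 0, A) ≃ₐ[k] k :=
  ofLinearEquiv (isEmptyEquiv (Fin 0))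
    (by rw [isEmptyEquiv_apply_tprod])
    (by
      intro x y
      rw [isEmptyEquiv_apply_tprod, isEmptyEquiv_apply_tprod, isEmptyEquiv_apply_tprod,
        mul_one])

end tpow

end Groth.Agent.Lib.Helper1.PiAlg
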