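import Groth.Agent.S13293
import Groth.Agent.Lib.Helper1.CSASeparable
import Groth.Agent.Lib.Helper1.CSASplit
import Mathlib.Algebra.QuaternionBasis
import Mathlib.FieldTheory.Galois.Basic

/-!
# Central division algebras of degree two are quaternion algebras (characteristic not two)
-/

set_option autoImplicit false
universe u v
open scoped TensorProduct Quaternion

namespace Groth.Agent.Lib.Helper1.Factor

theorem exists_quaternion_of_finrank_four (k : Type u) [Field k] (h2 : (2 : k) ≠ 0)
    (D : Type v) [DivisionRing D] [Algebra k D] [Algebra.IsCentral k D] [FiniteDimensional k D]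
    (hD : Module.finrank k D = 4) :
    ∃ a b : k, Nonempty (QuaternionAlgebra k a 0 b ≃ₐ[k] D) := by
  classical
  obtain ⟨L, hL, hkL, hfin, hsep, ι, hsq⟩ := CSA.exists_separable_subfield k D
  have hL2 : Module.finrank k L = 2 := by
    rw [hD] at hsq
    exact Nat.pow_left_injective two_ne_zero (hsq.trans (by norm_num))
  have hquad : Algebra.IsQuadraticExtension k L := { finrank_eq_two' := hL2 }
  have hgal : IsGalois k L := inferInstance
  have hcard : Nat.card (L ≃ₐ[k] L) = 2 := by rw [IsGalois.card_aut_eq_finrank, hL2]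
  obtain ⟨σ, hσ1⟩ : ∃ σ : L ≃ₐ[k] L, σ ≠ 1 := by
    by_contra hcon
    push_neg at hcon
    have : Subsingleton (L ≃ₐ[k] L) := ⟨fun x y => (hcon x).trans (hcon y).symm⟩
    have h1 : Nat.card (L ≃ₐ[k] L) ≤ 1 := Finite.card_le_one_iff_subsingleton.mpr this
    omega
  have hσ2 : σ ^ 2 = 1 := by
    rw [← hcard]
    exact pow_card_eq_one'
  have hσtop : ∀ τ : L ≃ₐ[k] L, τ ∈ Subgroup.zpowers σ := by
    have ho : orderOf σ = 2 := orderOf_eq_prime hσ2 hσ1
    have hc : Nat.card (Subgroup.zpowers σ) = Nat.card (L ≃ₐ[k] L) := by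
      rw [Nat.card_zpowers, ho, hcard]
    have htop := Subgroup.eq_top_of_card_eq _ hc
    intro τ
    rw [htop]
    trivial
  have hfix : ∀ z : L, σ z = z → z ∈ Set.range (algebraMap k L) := by
    intro z hz
    rw [IsGalois.mem_range_algebraMap_iff_fixed]
    intro τ
    have hle : Subgroup.zpowers σ ≤ MulAction.stabilizer (L ≃ₐ[k] L) z := by
      rw [Subgroup.zpowers_le]
      exact hz
    exact hle (hσtop τ)
  have hσσ : ∀ z : L, σ (σ z) = z := by
    intro z
    have h := DFunLike.congr_fun hσ2 z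
    rw [pow_two, AlgEquiv.mul_apply, AlgEquiv.one_apply] at h
    exact h
  obtain ⟨x, hx⟩ : ∃ x, σ x ≠ x := by
    by_contra hcon
    push_neg at hcon
    exact hσ1 (AlgEquiv.ext hcon)
  obtain ⟨i, hi⟩ : ∃ i : L, i = x - σ x := ⟨_, rfl⟩
  have hσi : σ i = -i := by
    rw [hi, map_sub, hσσ]
    ring
  have hi0 : i ≠ 0 := by
    rw [hi]
    exact sub_ne_zero.mpr (Ne.symm hx)
  obtain ⟨a, ha⟩ : ∃ a : k, algebraMap k L a = i * i :=
    hfix (i * i) (by rw [map_mul, hσi]; ring)
  have hs : Curves.Splits k D L := CSA.splits_of_finrank_eq_sq k D L ι hsq.symm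
  obtain ⟨b, ι', y, hy, hrel, hgen, -, -⟩ :=
    (Groth.Agent.S13293.result k L σ hσtop D hs).2 (by rw [hD, hL2]; norm_num)
  have hII : ι' i * ι' i = a • (1 : D) := by
    rw [← map_mul, ← ha, AlgHom.commutes, Algebra.algebraMap_eq_smul_one]
  have hJJ : y * y = (b : k) • (1 : D) := by
    rw [hL2, pow_two] at hy
    rw [hy, Algebra.algebraMap_eq_smul_one]
  have hIJ : y * ι' i = -(ι' i * y) := by
    rw [hrel i, hσi, map_neg, mul_neg, neg_neg]
  let q : QuaternionAlgebra.Basis D a 0 (b : k) :=
    { i := ι' i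
      j := y
      k := ι' i * y
      i_mul_i := by rw [hII, zero_smul, add_zero]
      j_mul_j := hJJ
      i_mul_j := rfl
      j_mul_i := by rw [zero_smul, zero_sub, hIJ] }
  have hsurj : Function.Surjective q.liftHom := by
    rw [← AlgHom.range_eq_top, eq_top_iff, ← hgen]
    apply Algebra.adjoin_le
    have hI : ι' i ∈ q.liftHom.range := ⟨⟨0, 1, 0, 0⟩, by
      simp [QuaternionAlgebra.Basis.liftHom, QuaternionAlgebra.Basis.lift, q]⟩
    rintro z (⟨l, rfl⟩ | rfl)
    · -- decompose l = α + c i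
      obtain ⟨α, hα⟩ := hfix (l + σ l) (by rw [map_add, hσσ]; ring)
      obtain ⟨c, hc⟩ := hfix ((l - σ l) * i⁻¹) (by
        rw [map_mul, map_sub, hσσ, map_inv₀, hσi, inv_neg]
        ring)
      have h2L : (2 : L) ≠ 0 := by
        have h3 := (algebraMap k L).injective.ne h2
        rw [map_ofNat, map_zero] at h3
        exact h3
      have hl : l = algebraMap k L (α / 2) + algebraMap k L (c / 2) * i := by
        rw [map_div₀, map_div₀, hα, hc, map_ofNat]
        field_simp
        ring
      rw [hl, map_add, map_mul, AlgHom.commutes, AlgHom.commutes]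
      exact add_mem (Subalgebra.algebraMap_mem _ _)
        (mul_mem (Subalgebra.algebraMap_mem _ _) hI)
    · exact ⟨⟨0, 0, 1, 0⟩, by
        simp [QuaternionAlgebra.Basis.liftHom, QuaternionAlgebra.Basis.lift, q]⟩
  have hinj : Function.Injective q.liftHom := by
    have hfr : Module.finrank k (QuaternionAlgebra k a 0 (b : k)) = Module.finrank k D := by
      rw [QuaternionAlgebra.finrank_eq_four, hD]
    exact (LinearMap.injective_iff_surjective_of_finrank_eq_finrank hfr
      (f := q.liftHom.toLinearMap)).mpr hsurj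
  exact ⟨a, b, ⟨AlgEquiv.ofBijective q.liftHom ⟨hinj, hsurj⟩⟩⟩

end Groth.Agent.Lib.Helper1.Factor
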