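import Mathlib
import Groth.Prelude.Def_GSzCSA
import Groth.Prelude.Def_Curves
import Groth.Agent.Lib.Helper1.RedNormCharpoly

/-!
# The reduced norm of `K ⊗ A` and the Galois action

For `NK` the reduced norm of `K ⊗[k] A` over `K` and any splitting `φ : K ⊗ A ≃ M_n(K)`:
`NK t = det (φ t)`, `NK (σ • t) = σ (NK t)`, `NK (1 ⊗ y) = N y`.
-/

set_option autoImplicit false
universe u v w
open scoped TensorProduct
attribute [local instance] CSAGal.tensorAction

namespace Groth.Agent.Lib.Helper1.RedNormGalois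

variable {k : Type u} [Field k] {K : Type v} [Field K] [Algebra k K]
variable {A : Type w} [Ring A] [Algebra k A]

theorem redNorm_eq_det {n : ℕ} [FiniteDimensional K (K ⊗[k] A)] [Nontrivial (K ⊗[k] A)]
    {NK : (K ⊗[k] A) →* K} (hNK : CSAGal.IsRedNorm K (K ⊗[k] A) NK)
    (φ : K ⊗[k] A ≃ₐ[K] Matrix (Fin n) (Fin n) K) (t : K ⊗[k] A) :
    NK t = Matrix.det (φ t) := by
  have h := hNK.det_eq ((Algebra.TensorProduct.lid K (K ⊗[k] A)).trans φ) t
  rw [AlgEquiv.trans_apply, Algebra.TensorProduct.lid_tmul, one_smul] at h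
  exact h

/-- the splitting twisted by `σ`. -/
noncomputable def twist {n : ℕ} (φ : K ⊗[k] A ≃ₐ[K] Matrix (Fin n) (Fin n) K) (σ : K ≃ₐ[k] K) :
    K ⊗[k] A ≃ₐ[K] Matrix (Fin n) (Fin n) K :=
  AlgEquiv.ofRingEquiv
    (f := ((MulSemiringAction.toRingEquiv (K ≃ₐ[k] K) (K ⊗[k] A) σ).trans
      (φ : K ⊗[k] A ≃+* Matrix (Fin n) (Fin n) K)).trans
      (RingEquiv.mapMatrix (σ.symm : K ≃+* K)))
    (by
      intro c
      show (RingEquiv.mapMatrix (σ.symm : K ≃+* K)) (φ (σ • (algebraMap K (K ⊗[k] A) c))) = _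
      have h1 : σ • (algebraMap K (K ⊗[k] A) c) = algebraMap K (K ⊗[k] A) (σ c) := by
        rw [Algebra.TensorProduct.algebraMap_apply, TensorProduct.smul_tmul']
        rfl
      rw [h1, AlgEquiv.commutes]
      ext i j
      by_cases hij : i = j
      · simp [Matrix.algebraMap_matrix_apply, hij]
      · simp [Matrix.algebraMap_matrix_apply, hij])

theorem twist_apply {n : ℕ} (φ : K ⊗[k] A ≃ₐ[K] Matrix (Fin n) (Fin n) K) (σ : K ≃ₐ[k] K)
    (t : K ⊗[k] A) : twist φ σ t = (φ (σ • t)).map (σ.symm : K → K) := rfl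

theorem redNorm_smul {n : ℕ} [FiniteDimensional K (K ⊗[k] A)] [Nontrivial (K ⊗[k] A)]
    {NK : (K ⊗[k] A) →* K} (hNK : CSAGal.IsRedNorm K (K ⊗[k] A) NK)
    (φ : K ⊗[k] A ≃ₐ[K] Matrix (Fin n) (Fin n) K) (σ : K ≃ₐ[k] K) (t : K ⊗[k] A) :
    NK (σ • t) = σ (NK t) := by
  rw [redNorm_eq_det hNK (twist φ σ) t, twist_apply, redNorm_eq_det hNK φ (σ • t)]
  have : ((φ (σ • t)).map (σ.symm : K → K)).det = σ.symm ((φ (σ • t)).det) := by
    have := RingHom.map_det (σ.symm : K ≃+* K).toRingHom (φ (σ • t))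
    exact this.symm
  rw [this, AlgEquiv.apply_symm_apply]

theorem redNorm_one_tmul {n : ℕ} [FiniteDimensional k A] [Nontrivial A]
    [FiniteDimensional K (K ⊗[k] A)] [Nontrivial (K ⊗[k] A)]
    {N : A →* k} (hN : CSAGal.IsRedNorm k A N)
    {NK : (K ⊗[k] A) →* K} (hNK : CSAGal.IsRedNorm K (K ⊗[k] A) NK)
    (φ : K ⊗[k] A ≃ₐ[K] Matrix (Fin n) (Fin n) K) (y : A) :
    NK ((1 : K) ⊗ₜ[k] y) = algebraMap k K (N y) := by
  rw [redNorm_eq_det hNK φ, hN.det_eq φ y]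

end Groth.Agent.Lib.Helper1.RedNormGalois
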