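import Mathlib
import Groth.Agent.S4875

/-!
# helper1 for helper78 (S4877): RC
-/

set_option autoImplicit false
universe u
open CategoryTheory CategoryTheory.Limits AlgebraicGeometry TensorProduct

namespace Groth.Agent.Lib.Helper1.SDFRC

section aux
variable {k : Type u} [Field k]

lemma map_val_injective (A : Type u) [CommRing A] [Algebra k A] {R : Type u} [CommRing R]
    [Algebra k R] (R₀ : Subalgebra k R) :
    Function.Injective (Algebra.TensorProduct.map (AlgHom.id A A) R₀.val) := by
  have h : ⇑(Algebra.TensorProduct.map (AlgHom.id A A) R₀.val) =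
      ⇑(LinearMap.lTensor A R₀.val.toLinearMap) := by
    funext s
    induction s using TensorProduct.induction_on with
    | zero => simp
    | tmul x m => simp
    | add a c ha hc => simp [ha, hc]
  rw [h]
  exact Module.Flat.lTensor_preserves_injective_linearMap _ Subtype.val_injective

lemma bc_mono {A R : Type u} [CommRing A] [Algebra k A] [CommRing R] [Algebra k R]
    {C D : Subalgebra k R} (h : C ≤ D) : C.baseChange A ≤ D.baseChange A := by
  rintro _ ⟨s, rfl⟩
  induction s using TensorProduct.induction_on with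
  | zero => simp
  | tmul x c => exact Subalgebra.tmul_mem_baseChange (h c.2) x
  | add a c ha hc =>
    rw [map_add]
    exact add_mem ha hc

lemma exists_fg_two {A R : Type u} [CommRing A] [Algebra k A] [CommRing R] [Algebra k R]
    (b τ : A ⊗[k] R) :
    ∃ R₀ : Subalgebra k R, R₀.FG ∧ b ∈ R₀.baseChange A ∧ τ ∈ R₀.baseChange A := by
  obtain ⟨C, hC, hb⟩ := exists_fg_and_mem_baseChange b
  obtain ⟨D, hD, hτ⟩ := exists_fg_and_mem_baseChange τ
  exact ⟨C ⊔ D, hC.sup hD, bc_mono le_sup_left hb, bc_mono le_sup_right hτ⟩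

end aux

theorem RC {k : Type u} [Field k] {A R : Type u} [CommRing A] [Algebra k A] [CommRing R]
    [Algebra k R] (b τ : A ⊗[k] R) {Λ : Type u} (C : Λ → Type u) [∀ i, CommRing (C i)]
    [∀ i, Algebra k (C i)] (ψ : ∀ i, A →ₐ[k] C i)
    (hSL : ∀ (g x : A), (∀ i, ∃ m : ℕ, ψ i g ^ m * ψ i x = 0) → ∃ m : ℕ, g ^ m * x = 0)
    (hvan : ∀ i, ∃ m : ℕ, (Algebra.TensorProduct.map (ψ i) (AlgHom.id k R) b) ^ m *
      Algebra.TensorProduct.map (ψ i) (AlgHom.id k R) τ = 0) : ∃ m : ℕ, b ^ m * τ = 0 := by
  obtain ⟨R₀, hR₀, ⟨b₀, hb₀'⟩, ⟨τ₀, hτ₀'⟩⟩ := exists_fg_two b τ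
  have hb₀ : Algebra.TensorProduct.map (AlgHom.id A A) R₀.val b₀ = b := hb₀'
  have hτ₀ : Algebra.TensorProduct.map (AlgHom.id A A) R₀.val τ₀ = τ := hτ₀'
  have hfpR₀ : Algebra.FinitePresentation k R₀ :=
    Algebra.FinitePresentation.of_finiteType.mp ((Subalgebra.fg_iff_finiteType R₀).mp hR₀)
  have hflat : Module.Flat A (Localization.Away b₀) :=
    Module.Flat.trans A (A ⊗[k] R₀) (Localization.Away b₀)
  have hfp : Algebra.FinitePresentation A (Localization.Away b₀) := inferInstance
  obtain ⟨l, hl, hfree⟩ := Groth.Agent.S2591.result (A := A) (B := Localization.Away b₀)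
    (Localization.Away b₀)
  have ht0 : algebraMap (A ⊗[k] R₀) (Localization.Away b₀) τ₀ = 0 := by
    refine Groth.Agent.S4875.ringF (A := A) (Localization.Away b₀) l hl hfree C
      (fun i => (ψ i).toRingHom) hSL _ ?_
    intro i R' _ α β hαβ
    let _ : Algebra k R' := (α.comp (algebraMap k (C i))).toAlgebra
    let α' : C i →ₐ[k] R' := { α with commutes' := fun c => rfl }
    let β₀ : R₀ →+* R' := β.comp ((algebraMap (A ⊗[k] R₀) (Localization.Away b₀)).comp
      (Algebra.TensorProduct.includeRight : R₀ →ₐ[k] A ⊗[k] R₀).toRingHom)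
    have hαβ' : ∀ a : A, α (ψ i a) = β (algebraMap A (Localization.Away b₀) a) := fun a =>
      congrArg (fun φ => φ a) hαβ
    have hβ₀ : ∀ c : k, β₀ (algebraMap k R₀ c) = algebraMap k R' c := by
      intro c
      have h1 : (Algebra.TensorProduct.includeRight : R₀ →ₐ[k] A ⊗[k] R₀) (algebraMap k R₀ c) =
          algebraMap A (A ⊗[k] R₀) (algebraMap k A c) := by
        rw [AlgHom.commutes, ← IsScalarTower.algebraMap_apply]
      change β (algebraMap (A ⊗[k] R₀) (Localization.Away b₀)
        ((Algebra.TensorProduct.includeRight : R₀ →ₐ[k] A ⊗[k] R₀) (algebraMap k R₀ c))) =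
        α (algebraMap k (C i) c)
      rw [h1, ← IsScalarTower.algebraMap_apply A (A ⊗[k] R₀) (Localization.Away b₀), ← hαβ',
        AlgHom.commutes]
    let β' : R₀ →ₐ[k] R' := { β₀ with commutes' := hβ₀ }
    let γ : C i ⊗[k] R₀ →ₐ[k] R' :=
      Algebra.TensorProduct.lift α' β' (fun _ _ => Commute.all _ _)
    have hγ : ∀ s : A ⊗[k] R₀, γ (Algebra.TensorProduct.map (ψ i) (AlgHom.id k R₀) s) =
        β (algebraMap (A ⊗[k] R₀) (Localization.Away b₀) s) := by
      intro s
      induction s using TensorProduct.induction_on with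
      | zero => simp
      | tmul a r =>
        have h1 : (a ⊗ₜ[k] r : A ⊗[k] R₀) = algebraMap A (A ⊗[k] R₀) a *
            (Algebra.TensorProduct.includeRight : R₀ →ₐ[k] A ⊗[k] R₀) r := by
          simp [Algebra.TensorProduct.algebraMap_apply, Algebra.TensorProduct.tmul_mul_tmul]
        have hL : γ (Algebra.TensorProduct.map (ψ i) (AlgHom.id k R₀) (a ⊗ₜ[k] r)) =
            α (ψ i a) * β₀ r := by
          simp only [Algebra.TensorProduct.map_tmul, AlgHom.coe_id, id_eq, γ,
            Algebra.TensorProduct.lift_tmul]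
          rfl
        have hR : β (algebraMap (A ⊗[k] R₀) (Localization.Away b₀) (a ⊗ₜ[k] r)) =
            β (algebraMap A (Localization.Away b₀) a) * β₀ r := by
          rw [h1, map_mul, map_mul, ← IsScalarTower.algebraMap_apply A (A ⊗[k] R₀)
            (Localization.Away b₀)]
          rfl
        rw [hL, hR, hαβ']
      | add x y hx hy => simp only [map_add, hx, hy]
    obtain ⟨m, hm⟩ := hvan i
    have hcomm : ∀ s : A ⊗[k] R₀,
        Algebra.TensorProduct.map (ψ i) (AlgHom.id k R)
          (Algebra.TensorProduct.map (AlgHom.id A A) R₀.val s) =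
        Algebra.TensorProduct.map (AlgHom.id (C i) (C i)) R₀.val
          (Algebra.TensorProduct.map (ψ i) (AlgHom.id k R₀) s) := by
      intro s
      induction s using TensorProduct.induction_on with
      | zero => simp
      | tmul a r => simp
      | add x y hx hy => simp only [map_add, hx, hy]
    rw [← hb₀, ← hτ₀, hcomm, hcomm, ← map_pow, ← map_mul] at hm
    have hm' := map_val_injective (C i) R₀ (hm.trans (map_zero _).symm)
    have h2 := congrArg γ hm'
    rw [map_mul, map_pow, hγ, hγ, map_zero] at h2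
    have hunit : IsUnit (β (algebraMap (A ⊗[k] R₀) (Localization.Away b₀) b₀)) :=
      (IsLocalization.Away.algebraMap_isUnit b₀).map β
    exact (hunit.pow m).mul_right_eq_zero.mp h2
  obtain ⟨⟨_, m, rfl⟩, hm⟩ :=
    (IsLocalization.map_eq_zero_iff (Submonoid.powers b₀) (Localization.Away b₀) τ₀).mp ht0
  refine ⟨m, ?_⟩
  rw [← hb₀, ← hτ₀, ← map_pow, ← map_mul]
  simp only at hm
  rw [hm, map_zero]

end Groth.Agent.Lib.Helper1.SDFRC
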