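import Groth.Agent.Lib.Helper21.SepPull
import Groth.Agent.S4875

/-!
# helper1 for helper78 (S4911): RCM
-/

set_option autoImplicit false
universe u
open TensorProduct

namespace Groth.Agent.Lib.Helper1.SDMRCM

section loc
variable {A : Type u} [CommRing A] {T : Type u} [CommRing T] [Algebra A T] (s : T)
  (Ts : Type u) [CommRing Ts] [Algebra T Ts] [Algebra A Ts] [IsScalarTower A T Ts]
  [IsLocalization.Away s Ts]

/-- the localization map on tensors -/
noncomputable abbrev ell (N : Type u) [AddCommGroup N] [Module A N] : T ⊗[A] N →ₗ[T] Ts ⊗[A] N :=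
  TensorProduct.AlgebraTensorModule.rTensor A N (Algebra.linearMap T Ts)

lemma ell_eq_zero_iff (N : Type u) [AddCommGroup N] [Module A N] (z : T ⊗[A] N) :
    ell (A := A) Ts N z = 0 ↔ ∃ m : ℕ, s ^ m • z = 0 := by
  rw [IsLocalizedModule.eq_zero_iff (Submonoid.powers s)]
  constructor
  · rintro ⟨⟨_, m, rfl⟩, h⟩
    exact ⟨m, h⟩
  · rintro ⟨m, h⟩
    exact ⟨⟨_, m, rfl⟩, h⟩

lemma exists_ell (N : Type u) [AddCommGroup N] [Module A N] (x : Ts ⊗[A] N) :
    ∃ (n : ℕ) (z : T ⊗[A] N), s ^ n • x = ell (A := A) Ts N z := by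
  obtain ⟨⟨z, ⟨_, n, rfl⟩⟩, h⟩ := IsLocalizedModule.surj (Submonoid.powers s)
    (ell (A := A) (T := T) Ts N) x
  exact ⟨n, z, h⟩

lemma smul_pow_injective (N : Type u) [AddCommGroup N] [Module A N] (n : ℕ) (x : Ts ⊗[A] N)
    (h : s ^ n • x = 0) : x = 0 := by
  have hu := IsLocalizedModule.map_units (ell (A := A) (T := T) Ts N)
    (⟨s ^ n, n, rfl⟩ : Submonoid.powers s)
  rw [Module.End.isUnit_iff] at hu
  apply hu.1
  change (algebraMap T (Module.End T (Ts ⊗[A] N)) (s ^ n)) x =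
    (algebraMap T (Module.End T (Ts ⊗[A] N)) (s ^ n)) 0
  rw [Module.algebraMap_end_apply, Module.algebraMap_end_apply, smul_zero]
  exact h

lemma ell_lTensor {N N' : Type u} [AddCommGroup N] [Module A N] [AddCommGroup N'] [Module A N']
    (f : N →ₗ[A] N') (z : T ⊗[A] N) :
    LinearMap.lTensor Ts f (ell (A := A) Ts N z) = ell (A := A) Ts N' (LinearMap.lTensor T f z) := by
  induction z using TensorProduct.induction_on with
  | zero => simp
  | tmul t n => simp
  | add a c ha hc => simp only [map_add, ha, hc]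

lemma lTensor_smul {N N' : Type u} [AddCommGroup N] [Module A N] [AddCommGroup N'] [Module A N']
    (f : N →ₗ[A] N') (t : T) (x : Ts ⊗[A] N) :
    LinearMap.lTensor Ts f (t • x) = t • LinearMap.lTensor Ts f x := by
  induction x using TensorProduct.induction_on with
  | zero => simp
  | tmul u n => simp [TensorProduct.smul_tmul']
  | add a c ha hc => simp only [smul_add, map_add, ha, hc]

end loc

section fg
variable {K : Type u} [Field K] {A R : Type u} [CommRing A] [Algebra K A] [CommRing R]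
  [Algebra K R]

/-- the inclusion `A ⊗ R₀ → A ⊗ R` -/
noncomputable abbrev iota (R₀ : Subalgebra K R) : A ⊗[K] R₀ →ₐ[A] A ⊗[K] R :=
  Algebra.TensorProduct.map (AlgHom.id A A) R₀.val

lemma bc_mono {C D : Subalgebra K R} (h : C ≤ D) : C.baseChange A ≤ D.baseChange A := by
  rintro _ ⟨s, rfl⟩
  induction s using TensorProduct.induction_on with
  | zero => simp
  | tmul x c => exact Subalgebra.tmul_mem_baseChange (h c.2) x
  | add a c ha hc =>
    rw [map_add]
    exact add_mem ha hc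

lemma exists_fg_finset (s : Finset (A ⊗[K] R)) :
    ∃ C : Subalgebra K R, C.FG ∧ ∀ x ∈ s, ∃ t₀ : A ⊗[K] C, iota C t₀ = x := by
  classical
  induction s using Finset.induction_on with
  | empty => exact ⟨⊥, Subalgebra.fg_bot, by simp⟩
  | insert a s _ ih =>
    obtain ⟨C, hC, h⟩ := ih
    obtain ⟨D, hD, hx⟩ := exists_fg_and_mem_baseChange a
    refine ⟨C ⊔ D, hC.sup hD, ?_⟩
    intro x hx'
    rcases Finset.mem_insert.mp hx' with rfl | hx'
    · obtain ⟨y, hy⟩ := bc_mono (A := A) (le_sup_right : D ≤ C ⊔ D) hx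
      exact ⟨y, hy⟩
    · obtain ⟨t₀, ht₀⟩ := h x hx'
      obtain ⟨y, hy⟩ := bc_mono (A := A) (le_sup_left : C ≤ C ⊔ D) ⟨t₀, ht₀⟩
      exact ⟨y, hy⟩

lemma exists_fg_tensor {M : Type u} [AddCommGroup M] [Module A M] (b : A ⊗[K] R)
    (z : (A ⊗[K] R) ⊗[A] M) :
    ∃ R₀ : Subalgebra K R, R₀.FG ∧ (∃ b₀, iota R₀ b₀ = b) ∧
      ∃ z₀ : (A ⊗[K] R₀) ⊗[A] M, LinearMap.rTensor M (iota R₀).toLinearMap z₀ = z := by
  classical
  obtain ⟨S, hS⟩ := TensorProduct.exists_finset z
  obtain ⟨R₀, hR₀, hmem⟩ := exists_fg_finset (insert b (S.image Prod.fst))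
  refine ⟨R₀, hR₀, hmem b (Finset.mem_insert_self _ _), ?_⟩
  have hpre : ∀ p ∈ S, ∃ t₀ : A ⊗[K] R₀, iota R₀ t₀ = p.1 := fun p hp =>
    hmem _ (Finset.mem_insert_of_mem (Finset.mem_image_of_mem _ hp))
  choose! f hf using hpre
  refine ⟨∑ p ∈ S, f p ⊗ₜ[A] p.2, ?_⟩
  rw [map_sum, hS]
  refine Finset.sum_congr rfl (fun p hp => ?_)
  rw [LinearMap.rTensor_tmul]
  change iota R₀ (f p) ⊗ₜ[A] p.2 = _
  rw [hf p hp]

lemma rTensor_iota_smul {N : Type u} [AddCommGroup N] [Module A N] (R₀ : Subalgebra K R)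
    (t₀ : A ⊗[K] R₀) (w : (A ⊗[K] R₀) ⊗[A] N) :
    LinearMap.rTensor N (iota R₀).toLinearMap (t₀ • w) =
      iota R₀ t₀ • LinearMap.rTensor N (iota R₀).toLinearMap w := by
  induction w using TensorProduct.induction_on with
  | zero => simp
  | tmul u n =>
    rw [TensorProduct.smul_tmul', LinearMap.rTensor_tmul, LinearMap.rTensor_tmul,
      TensorProduct.smul_tmul']
    congr 1
    change iota R₀ (t₀ * u) = iota R₀ t₀ * iota R₀ u
    rw [map_mul]
  | add a c ha hc => simp only [smul_add, map_add, ha, hc]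

lemma rTensor_iota_injective (N : Type u) [AddCommGroup N] [Module A N] (R₀ : Subalgebra K R) :
    Function.Injective (LinearMap.rTensor N (iota (A := A) R₀).toLinearMap) := by
  obtain ⟨ρK, hρ⟩ := LinearMap.exists_leftInverse_of_injective R₀.val.toLinearMap
    (LinearMap.ker_eq_bot.mpr Subtype.val_injective)
  let ρ : A ⊗[K] R →ₗ[A] A ⊗[K] R₀ := TensorProduct.AlgebraTensorModule.lTensor A A ρK
  have h : ρ ∘ₗ (iota R₀).toLinearMap = LinearMap.id := by
    apply LinearMap.ext
    intro t₀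
    induction t₀ using TensorProduct.induction_on with
    | zero => simp
    | tmul a r =>
      have : ρK (R₀.val.toLinearMap r) = r := congrArg (fun φ => φ r) hρ
      simp only [LinearMap.comp_apply, LinearMap.id_apply]
      change ρ (a ⊗ₜ[K] (r : R)) = _
      change a ⊗ₜ[K] ρK (r : R) = _
      rw [show ((r : R)) = R₀.val.toLinearMap r from rfl, this]
    | add x y hx hy => simp only [map_add, hx, hy]
  intro x y hxy
  have h2 := congrArg (LinearMap.rTensor N ρ) hxy
  rw [← LinearMap.comp_apply, ← LinearMap.comp_apply, ← LinearMap.rTensor_comp, h,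
    LinearMap.rTensor_id] at h2
  exact h2

end fg

section core
variable {K : Type u} [Field K] {A R : Type u} [CommRing A] [Algebra K A] [CommRing R]
  [Algebra K R]

theorem core {M : Type u} [AddCommGroup M] [Module A M] {Λ : Type u} (N : Λ → Type u)
    [∀ i, AddCommGroup (N i)] [∀ i, Module A (N i)] (φ : ∀ i, M →ₗ[A] N i)
    (hSL : ∀ (g : A) (x : M), (∀ i, ∃ m : ℕ, g ^ m • φ i x = 0) → ∃ m : ℕ, g ^ m • x = 0)
    (b : A ⊗[K] R) (z : (A ⊗[K] R) ⊗[A] M)
    (hz : ∀ i, ∃ m : ℕ, b ^ m • LinearMap.lTensor (A ⊗[K] R) (φ i) z = 0) :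
    ∃ m : ℕ, b ^ m • z = 0 := by
  obtain ⟨R₀, hR₀, ⟨b₀, hb₀⟩, z₀, hz₀⟩ := exists_fg_tensor b z
  have h5 : ∀ i, ∃ m : ℕ, b₀ ^ m • LinearMap.lTensor (A ⊗[K] R₀) (φ i) z₀ = 0 := by
    intro i
    obtain ⟨m, hm⟩ := hz i
    refine ⟨m, rTensor_iota_injective (N i) R₀ ?_⟩
    rw [map_zero, rTensor_iota_smul, map_pow, hb₀]
    have h : LinearMap.rTensor (N i) (iota R₀).toLinearMap
        (LinearMap.lTensor (A ⊗[K] R₀) (φ i) z₀) =
        LinearMap.lTensor (A ⊗[K] R) (φ i)
          (LinearMap.rTensor M (iota R₀).toLinearMap z₀) := by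
      rw [← LinearMap.comp_apply, ← LinearMap.comp_apply, LinearMap.rTensor_comp_lTensor,
        LinearMap.lTensor_comp_rTensor]
    rw [h, hz₀]
    exact hm
  have hfpR₀ : Algebra.FinitePresentation K R₀ :=
    Algebra.FinitePresentation.of_finiteType.mp ((Subalgebra.fg_iff_finiteType R₀).mp hR₀)
  have hflat : Module.Flat A (Localization.Away b₀) :=
    Module.Flat.trans A (A ⊗[K] R₀) (Localization.Away b₀)
  have hfp : Algebra.FinitePresentation A (Localization.Away b₀) := inferInstance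
  obtain ⟨l, hl, hfree⟩ := Groth.Agent.S2591.result (A := A) (B := Localization.Away b₀)
    (Localization.Away b₀)
  have h6 : ∀ i, LinearMap.lTensor (Localization.Away b₀) (φ i)
      (ell (A := A) (T := A ⊗[K] R₀) (Localization.Away b₀) M z₀) = 0 := by
    intro i
    rw [ell_lTensor, ell_eq_zero_iff b₀]
    exact h5 i
  have hcomm : ∀ (j : Λ) (y : Localization.Away b₀ ⊗[A] M),
      (φ j).rTensor (Localization.Away b₀) (TensorProduct.comm A (Localization.Away b₀) M y) =
        TensorProduct.comm A (Localization.Away b₀) (N j)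
          (LinearMap.lTensor (Localization.Away b₀) (φ j) y) := by
    intro j y
    induction y using TensorProduct.induction_on with
    | zero => simp
    | tmul u m => simp
    | add a c ha hc => simp only [map_add, ha, hc]
  have h7 : TensorProduct.comm A (Localization.Away b₀) M
      (ell (A := A) (T := A ⊗[K] R₀) (Localization.Away b₀) M z₀) = 0 := by
    refine Groth.Agent.S4875.sep_aux (Localization.Away b₀) l hl hfree Λ l.length 0 (by simp)
      M N φ ?_ ?_ hSL _ ?_
    · intro a ha p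
      have : a = 0 := by simpa using ha
      rw [this, zero_smul]
    · intro j a ha p
      have : a = 0 := by simpa using ha
      rw [this, zero_smul]
    · intro j
      rw [hcomm, h6 j, map_zero]
  have h8 : ell (A := A) (T := A ⊗[K] R₀) (Localization.Away b₀) M z₀ = 0 := by
    have := congrArg (TensorProduct.comm A (Localization.Away b₀) M).symm h7
    simpa using this
  obtain ⟨m, hm⟩ := (ell_eq_zero_iff b₀ (Localization.Away b₀) M z₀).mp h8
  refine ⟨m, ?_⟩
  rw [← hz₀, ← hb₀, ← map_pow, ← rTensor_iota_smul, hm, map_zero]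

end core

theorem RCM {K : Type u} [Field K] {A R : Type u} [CommRing A] [Algebra K A] [CommRing R]
    [Algebra K R] {Bp Bu : Type u} [CommRing Bp] [CommRing Bu] [Algebra Bp Bu] [Algebra A Bu]
    (θ : A ⊗[K] R ≃+* Bp) (b' : Bp) [IsLocalization.Away b' Bu]
    (hA : ∀ a : A, algebraMap A Bu a = algebraMap Bp Bu (θ (a ⊗ₜ[K] (1 : R))))
    {M : Type u} [AddCommGroup M] [Module A M] {Λ : Type u} (N : Λ → Type u)
    [∀ i, AddCommGroup (N i)] [∀ i, Module A (N i)] (φ : ∀ i, M →ₗ[A] N i)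
    (hSL : ∀ (g : A) (x : M), (∀ i, ∃ m : ℕ, g ^ m • φ i x = 0) → ∃ m : ℕ, g ^ m • x = 0)
    (x : Bu ⊗[A] M) (hx : ∀ i, LinearMap.lTensor Bu (φ i) x = 0) : x = 0 := by
  let _ : Algebra (A ⊗[K] R) Bu := ((algebraMap Bp Bu).comp θ.toRingHom).toAlgebra
  have hst : IsScalarTower A (A ⊗[K] R) Bu := IsScalarTower.of_algebraMap_eq (fun a => by
    rw [hA]
    rfl)
  have hloc : IsLocalization.Away (θ.symm b') Bu :=
    IsLocalization.of_ringEquiv_left θ (M₁ := Submonoid.powers b')
      (M₂ := Submonoid.powers (θ.symm b')) (by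
        rw [Submonoid.map_powers]
        simp) (fun _ => rfl)
  obtain ⟨n, z, hz⟩ := exists_ell (A := A) (θ.symm b') Bu M x
  have h3 : ∀ i, ∃ m : ℕ,
      (θ.symm b') ^ m • LinearMap.lTensor (A ⊗[K] R) (φ i) z = 0 := by
    intro i
    rw [← ell_eq_zero_iff (θ.symm b') Bu (N i), ← ell_lTensor, ← hz, lTensor_smul, hx i,
      smul_zero]
  obtain ⟨m, hm⟩ := core N φ hSL (θ.symm b') z h3
  have h4 : ell (A := A) Bu M z = 0 := (ell_eq_zero_iff (θ.symm b') Bu M z).mpr ⟨m, hm⟩
  rw [h4] at hz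
  exact smul_pow_injective (A := A) (θ.symm b') Bu M n x hz

end Groth.Agent.Lib.Helper1.SDMRCM
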