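import Mathlib

set_option autoImplicit false
set_option linter.unusedSectionVars false
set_option linter.unusedVariables false

namespace Groth.Agent.Lib.Helper1.SR

open MvPolynomial

universe u
variable {k : Type u} [Field k]

/-- exponent vector of the monomial `x0^i x1^(3-i) y0^j y1^(3-j)` -/
noncomputable def dexp (i j : Fin 4) : Fin 4 →₀ ℕ :=
  Finsupp.single 0 (i : ℕ) + Finsupp.single 1 (3 - (i : ℕ)) + Finsupp.single 2 (j : ℕ) +
    Finsupp.single 3 (3 - (j : ℕ))

/-- the monomial `x0^i x1^(3-i) y0^j y1^(3-j)` -/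
noncomputable def mon (i j : Fin 4) : MvPolynomial (Fin 4) k :=
  X 0 ^ (i : ℕ) * X 1 ^ (3 - (i : ℕ)) * X 2 ^ (j : ℕ) * X 3 ^ (3 - (j : ℕ))

theorem mon_eq (i j : Fin 4) : (mon i j : MvPolynomial (Fin 4) k) = monomial (dexp i j) 1 := by
  simp [mon, dexp, X_pow_eq_monomial, monomial_mul]

theorem dexp_0 (i j : Fin 4) : dexp i j 0 = (i : ℕ) := by
  simp [dexp]

theorem dexp_1 (i j : Fin 4) : dexp i j 1 = 3 - (i : ℕ) := by
  simp [dexp]

theorem dexp_2 (i j : Fin 4) : dexp i j 2 = (j : ℕ) := by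
  simp [dexp]

theorem dexp_3 (i j : Fin 4) : dexp i j 3 = 3 - (j : ℕ) := by
  simp [dexp]

theorem dexp_inj {i j i' j' : Fin 4} (h : dexp i j = dexp i' j') : i = i' ∧ j = j' := by
  have h0 := DFunLike.congr_fun h 0
  have h2 := DFunLike.congr_fun h 2
  rw [dexp_0, dexp_0] at h0
  rw [dexp_2, dexp_2] at h2
  exact ⟨Fin.ext h0, Fin.ext h2⟩

theorem eq_dexp (d : Fin 4 →₀ ℕ) (h1 : d 0 + d 1 = 3) (h2 : d 2 + d 3 = 3) :
    d = dexp ⟨d 0, by omega⟩ ⟨d 2, by omega⟩ := by
  ext a
  fin_cases a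
  · simp [dexp_0]
  · simp only [Fin.mk_one, Fin.isValue, dexp_1]; omega
  · simp [dexp_2]
  · simp only [Fin.reduceFinMk, Fin.isValue, dexp_3]; omega

theorem bihom_eq {f : MvPolynomial (Fin 4) k}
    (h1 : f.IsWeightedHomogeneous (![1, 1, 0, 0] : Fin 4 → ℕ) 3)
    (h2 : f.IsWeightedHomogeneous (![0, 0, 1, 1] : Fin 4 → ℕ) 3) :
    f = ∑ i : Fin 4, ∑ j : Fin 4, C (coeff (dexp i j) f) * mon i j := by
  ext d
  simp only [coeff_sum, mon_eq, coeff_C_mul, coeff_monomial]
  by_cases hd : coeff d f = 0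
  · rw [hd]; symm
    apply Finset.sum_eq_zero; intro i _
    apply Finset.sum_eq_zero; intro j _
    split_ifs with h
    · rw [h, hd, zero_mul]
    · rw [mul_zero]
  · have e1 := h1 hd
    have e2 := h2 hd
    have e1' : d 0 + d 1 = 3 := by
      simpa [Finsupp.weight_apply, Finsupp.sum_fintype, Fin.sum_univ_four] using e1
    have e2' : d 2 + d 3 = 3 := by
      simpa [Finsupp.weight_apply, Finsupp.sum_fintype, Fin.sum_univ_four] using e2
    have hd' := eq_dexp d e1' e2'
    rw [Finset.sum_eq_single (⟨d 0, by omega⟩ : Fin 4)]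
    · rw [Finset.sum_eq_single (⟨d 2, by omega⟩ : Fin 4)]
      · rw [← hd', if_pos rfl, mul_one]
      · intro j _ hj
        rw [if_neg, mul_zero]
        intro h
        exact hj (dexp_inj (h.trans hd')).2
      · intro h; exact absurd (Finset.mem_univ _) h
    · intro i _ hi
      apply Finset.sum_eq_zero; intro j _
      rw [if_neg, mul_zero]
      intro h
      exact hi (dexp_inj (h.trans hd')).1
    · intro h; exact absurd (Finset.mem_univ _) h

end Groth.Agent.Lib.Helper1.SR
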