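import Groth.Agent.Lib.Helper1.SR1

set_option autoImplicit false
set_option linter.unusedSectionVars false
set_option linter.unusedVariables false

namespace Groth.Agent.Lib.Helper1.SR

open MvPolynomial

universe u
variable {k : Type u} [Field k]

theorem sw_inj : Function.Injective (![2, 3, 0, 1] : Fin 4 → Fin 4) := by decide

theorem mapDomain_dexp (i j : Fin 4) :
    (dexp i j).mapDomain (![2, 3, 0, 1] : Fin 4 → Fin 4) = dexp j i := by
  simp only [dexp, Finsupp.mapDomain_add, Finsupp.mapDomain_single]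
  simp only [Matrix.cons_val_zero, Matrix.cons_val_one, Matrix.cons_val]
  abel

theorem coeff_swap (f : MvPolynomial (Fin 4) k) (i j : Fin 4) :
    coeff (dexp i j) (rename (![2, 3, 0, 1] : Fin 4 → Fin 4) f) = coeff (dexp j i) f := by
  rw [← mapDomain_dexp j i, coeff_rename_mapDomain _ sw_inj]

theorem eval_of_sq_dvd {g : Polynomial k} (r : k) (h : (Polynomial.X - Polynomial.C r) ^ 2 ∣ g) :
    g.eval r = 0 ∧ (Polynomial.derivative g).eval r = 0 := by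
  obtain ⟨q, rfl⟩ := h
  simp [Polynomial.derivative_mul, Polynomial.derivative_pow]

theorem constraints (a : Fin 4 → Fin 4 → k)
    (hdvd : (X 0 * X 1 * (X 0 - X 1)) ^ 2 ∣ rename (![0, 1, 0, 1] : Fin 4 → Fin 2)
      (∑ i : Fin 4, ∑ j : Fin 4, C (a i j) * mon i j)) :
    a 0 0 = 0 ∧ a 0 1 + a 1 0 = 0 ∧ a 2 3 + a 3 2 = 0 ∧ a 3 3 = 0 ∧
    (a 0 2 + a 1 1 + a 2 0) + (a 0 3 + a 1 2 + a 2 1 + a 3 0) + (a 1 3 + a 2 2 + a 3 1) = 0 ∧
    2 * (a 0 2 + a 1 1 + a 2 0) + 3 * (a 0 3 + a 1 2 + a 2 1 + a 3 0) +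
      4 * (a 1 3 + a 2 2 + a 3 1) = 0 := by
  have h₁ := map_dvd (aeval (![Polynomial.X, 1] : Fin 2 → Polynomial k)) hdvd
  have h₂ := map_dvd (aeval (![1, Polynomial.X] : Fin 2 → Polynomial k)) hdvd
  simp [mon, Fin.sum_univ_four] at h₁ h₂
  have hA : (Polynomial.X - Polynomial.C (0 : k)) ^ 2 ∣ (Polynomial.X * (Polynomial.X - 1)) ^ 2 :=
    Dvd.intro ((Polynomial.X - 1) ^ 2) (by rw [map_zero, sub_zero]; ring)
  have hB : (Polynomial.X - Polynomial.C (1 : k)) ^ 2 ∣ (Polynomial.X * (Polynomial.X - 1)) ^ 2 :=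
    Dvd.intro (Polynomial.X ^ 2) (by rw [map_one]; ring)
  have hC : (Polynomial.X - Polynomial.C (0 : k)) ^ 2 ∣ (Polynomial.X * (1 - Polynomial.X)) ^ 2 :=
    Dvd.intro ((1 - Polynomial.X) ^ 2) (by rw [map_zero, sub_zero]; ring)
  obtain ⟨e1, e2⟩ := eval_of_sq_dvd 0 (hA.trans h₁)
  obtain ⟨e3, e4⟩ := eval_of_sq_dvd 1 (hB.trans h₁)
  obtain ⟨e5, e6⟩ := eval_of_sq_dvd 0 (hC.trans h₂)
  simp [Polynomial.derivative_mul, Polynomial.derivative_pow] at e1 e2 e3 e4 e5 e6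
  refine ⟨e1, e2, e6, e5, ?_, ?_⟩
  · linear_combination e3 - e1 - e2 - e6 - e5
  · linear_combination e4 - e2 - 5 * e6 - 6 * e5

end Groth.Agent.Lib.Helper1.SR
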