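import Groth.Agent.Lib.Helper1.SR2

/-!
# Bidegree (3,3) forms on the quadric: homogeneity, restriction to the diagonal, symmetry of the
concrete generators (helper1, for S16153)
-/

set_option autoImplicit false
set_option linter.unusedSectionVars false
set_option linter.unusedVariables false

namespace Groth.Agent.Lib.Helper1.SR

open MvPolynomial

universe u
variable {k : Type u} [Field k]

theorem wh_congr {w : Fin 4 → ℕ} {f : MvPolynomial (Fin 4) k} {m n : ℕ}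
    (h : IsWeightedHomogeneous w f m) (e : m = n) : IsWeightedHomogeneous w f n := e ▸ h

section
variable (k)

theorem wh1_X0 : IsWeightedHomogeneous (![1, 1, 0, 0] : Fin 4 → ℕ)
    (X 0 : MvPolynomial (Fin 4) k) 1 := isWeightedHomogeneous_X k _ 0
theorem wh1_X1 : IsWeightedHomogeneous (![1, 1, 0, 0] : Fin 4 → ℕ)
    (X 1 : MvPolynomial (Fin 4) k) 1 := isWeightedHomogeneous_X k _ 1
theorem wh1_X2 : IsWeightedHomogeneous (![1, 1, 0, 0] : Fin 4 → ℕ)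
    (X 2 : MvPolynomial (Fin 4) k) 0 := isWeightedHomogeneous_X k _ 2
theorem wh1_X3 : IsWeightedHomogeneous (![1, 1, 0, 0] : Fin 4 → ℕ)
    (X 3 : MvPolynomial (Fin 4) k) 0 := isWeightedHomogeneous_X k _ 3
theorem wh2_X0 : IsWeightedHomogeneous (![0, 0, 1, 1] : Fin 4 → ℕ)
    (X 0 : MvPolynomial (Fin 4) k) 0 := isWeightedHomogeneous_X k _ 0
theorem wh2_X1 : IsWeightedHomogeneous (![0, 0, 1, 1] : Fin 4 → ℕ)
    (X 1 : MvPolynomial (Fin 4) k) 0 := isWeightedHomogeneous_X k _ 1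
theorem wh2_X2 : IsWeightedHomogeneous (![0, 0, 1, 1] : Fin 4 → ℕ)
    (X 2 : MvPolynomial (Fin 4) k) 1 := isWeightedHomogeneous_X k _ 2
theorem wh2_X3 : IsWeightedHomogeneous (![0, 0, 1, 1] : Fin 4 → ℕ)
    (X 3 : MvPolynomial (Fin 4) k) 1 := isWeightedHomogeneous_X k _ 3

/-- a product `x_i * y_j` has bidegree `(1,1)` -/
theorem wh1_xy (i j : Fin 2) : IsWeightedHomogeneous (![1, 1, 0, 0] : Fin 4 → ℕ)
    ((X (![0, 1] i) : MvPolynomial (Fin 4) k) * X (![2, 3] j)) 1 := by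
  fin_cases i <;> fin_cases j
  · exact wh_congr ((wh1_X0 k).mul (wh1_X2 k)) rfl
  · exact wh_congr ((wh1_X0 k).mul (wh1_X3 k)) rfl
  · exact wh_congr ((wh1_X1 k).mul (wh1_X2 k)) rfl
  · exact wh_congr ((wh1_X1 k).mul (wh1_X3 k)) rfl

theorem wh2_xy (i j : Fin 2) : IsWeightedHomogeneous (![0, 0, 1, 1] : Fin 4 → ℕ)
    ((X (![0, 1] i) : MvPolynomial (Fin 4) k) * X (![2, 3] j)) 1 := by
  fin_cases i <;> fin_cases j
  · exact wh_congr ((wh2_X0 k).mul (wh2_X2 k)) rfl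
  · exact wh_congr ((wh2_X0 k).mul (wh2_X3 k)) rfl
  · exact wh_congr ((wh2_X1 k).mul (wh2_X2 k)) rfl
  · exact wh_congr ((wh2_X1 k).mul (wh2_X3 k)) rfl

end

/-- the forms of bidegree `(1,1)` used below, all written as combinations of `x_i y_j` -/
theorem l_eq : (X 0 * X 3 - X 1 * X 2 : MvPolynomial (Fin 4) k) =
    X (![0, 1] 0) * X (![2, 3] 1) - X (![0, 1] 1) * X (![2, 3] 0) := by
  simp

theorem wh1_l : IsWeightedHomogeneous (![1, 1, 0, 0] : Fin 4 → ℕ)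
    (X 0 * X 3 - X 1 * X 2 : MvPolynomial (Fin 4) k) 1 := by
  rw [l_eq]; exact (wh1_xy k 0 1).sub (wh1_xy k 1 0)

theorem wh2_l : IsWeightedHomogeneous (![0, 0, 1, 1] : Fin 4 → ℕ)
    (X 0 * X 3 - X 1 * X 2 : MvPolynomial (Fin 4) k) 1 := by
  rw [l_eq]; exact (wh2_xy k 0 1).sub (wh2_xy k 1 0)

theorem h1_eq : (X 0 * (X 3 - X 2) + X 2 * (X 1 - X 0) : MvPolynomial (Fin 4) k) =
    X (![0, 1] 0) * X (![2, 3] 1) - X (![0, 1] 0) * X (![2, 3] 0) +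
      (X (![0, 1] 1) * X (![2, 3] 0) - X (![0, 1] 0) * X (![2, 3] 0)) := by
  simp; ring

theorem wh1_h1 : IsWeightedHomogeneous (![1, 1, 0, 0] : Fin 4 → ℕ)
    (X 0 * (X 3 - X 2) + X 2 * (X 1 - X 0) : MvPolynomial (Fin 4) k) 1 := by
  rw [h1_eq]
  exact ((wh1_xy k 0 1).sub (wh1_xy k 0 0)).add ((wh1_xy k 1 0).sub (wh1_xy k 0 0))

theorem wh2_h1 : IsWeightedHomogeneous (![0, 0, 1, 1] : Fin 4 → ℕ)
    (X 0 * (X 3 - X 2) + X 2 * (X 1 - X 0) : MvPolynomial (Fin 4) k) 1 := by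
  rw [h1_eq]
  exact ((wh2_xy k 0 1).sub (wh2_xy k 0 0)).add ((wh2_xy k 1 0).sub (wh2_xy k 0 0))

theorem h2_eq : (X 1 * (X 2 - X 3) + X 3 * (X 0 - X 1) : MvPolynomial (Fin 4) k) =
    X (![0, 1] 1) * X (![2, 3] 0) - X (![0, 1] 1) * X (![2, 3] 1) +
      (X (![0, 1] 0) * X (![2, 3] 1) - X (![0, 1] 1) * X (![2, 3] 1)) := by
  simp; ring

theorem wh1_h2 : IsWeightedHomogeneous (![1, 1, 0, 0] : Fin 4 → ℕ)
    (X 1 * (X 2 - X 3) + X 3 * (X 0 - X 1) : MvPolynomial (Fin 4) k) 1 := by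
  rw [h2_eq]
  exact ((wh1_xy k 1 0).sub (wh1_xy k 1 1)).add ((wh1_xy k 0 1).sub (wh1_xy k 1 1))

theorem wh2_h2 : IsWeightedHomogeneous (![0, 0, 1, 1] : Fin 4 → ℕ)
    (X 1 * (X 2 - X 3) + X 3 * (X 0 - X 1) : MvPolynomial (Fin 4) k) 1 := by
  rw [h2_eq]
  exact ((wh2_xy k 1 0).sub (wh2_xy k 1 1)).add ((wh2_xy k 0 1).sub (wh2_xy k 1 1))

theorem h3_eq : (X 0 * X 3 + X 1 * X 2 : MvPolynomial (Fin 4) k) =
    X (![0, 1] 0) * X (![2, 3] 1) + X (![0, 1] 1) * X (![2, 3] 0) := by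
  simp

theorem wh1_h3 : IsWeightedHomogeneous (![1, 1, 0, 0] : Fin 4 → ℕ)
    (X 0 * X 3 + X 1 * X 2 : MvPolynomial (Fin 4) k) 1 := by
  rw [h3_eq]; exact (wh1_xy k 0 1).add (wh1_xy k 1 0)

theorem wh2_h3 : IsWeightedHomogeneous (![0, 0, 1, 1] : Fin 4 → ℕ)
    (X 0 * X 3 + X 1 * X 2 : MvPolynomial (Fin 4) k) 1 := by
  rw [h3_eq]; exact (wh2_xy k 0 1).add (wh2_xy k 1 0)

theorem wh1_c : IsWeightedHomogeneous (![1, 1, 0, 0] : Fin 4 → ℕ)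
    (X 0 * X 1 * (X 0 - X 1) * (X 2 * X 3 * (X 2 - X 3)) : MvPolynomial (Fin 4) k) 3 :=
  wh_congr ((((wh1_X0 k).mul (wh1_X1 k)).mul ((wh1_X0 k).sub (wh1_X1 k))).mul
    (((wh1_X2 k).mul (wh1_X3 k)).mul ((wh1_X2 k).sub (wh1_X3 k)))) rfl

theorem wh2_c : IsWeightedHomogeneous (![0, 0, 1, 1] : Fin 4 → ℕ)
    (X 0 * X 1 * (X 0 - X 1) * (X 2 * X 3 * (X 2 - X 3)) : MvPolynomial (Fin 4) k) 3 :=
  wh_congr ((((wh2_X0 k).mul (wh2_X1 k)).mul ((wh2_X0 k).sub (wh2_X1 k))).mul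
    (((wh2_X2 k).mul (wh2_X3 k)).mul ((wh2_X2 k).sub (wh2_X3 k)))) rfl

/-- restriction to the diagonal kills `l` -/
theorem rho_l : rename (![0, 1, 0, 1] : Fin 4 → Fin 2)
    (X 0 * X 3 - X 1 * X 2 : MvPolynomial (Fin 4) k) = 0 := by
  simp; ring

theorem rho_c : rename (![0, 1, 0, 1] : Fin 4 → Fin 2)
    (X 0 * X 1 * (X 0 - X 1) * (X 2 * X 3 * (X 2 - X 3)) : MvPolynomial (Fin 4) k) =
    (X 0 * X 1 * (X 0 - X 1)) ^ 2 := by
  simp; ring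

/-- the swap on the basic forms -/
theorem iota_l : rename (![2, 3, 0, 1] : Fin 4 → Fin 4)
    (X 0 * X 3 - X 1 * X 2 : MvPolynomial (Fin 4) k) = -(X 0 * X 3 - X 1 * X 2) := by
  simp; ring

theorem iota_h1 : rename (![2, 3, 0, 1] : Fin 4 → Fin 4)
    (X 0 * (X 3 - X 2) + X 2 * (X 1 - X 0) : MvPolynomial (Fin 4) k) =
    X 0 * (X 3 - X 2) + X 2 * (X 1 - X 0) := by
  simp; ring

theorem iota_h2 : rename (![2, 3, 0, 1] : Fin 4 → Fin 4)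
    (X 1 * (X 2 - X 3) + X 3 * (X 0 - X 1) : MvPolynomial (Fin 4) k) =
    X 1 * (X 2 - X 3) + X 3 * (X 0 - X 1) := by
  simp; ring

theorem iota_h3 : rename (![2, 3, 0, 1] : Fin 4 → Fin 4)
    (X 0 * X 3 + X 1 * X 2 : MvPolynomial (Fin 4) k) = X 0 * X 3 + X 1 * X 2 := by
  simp; ring

theorem iota_c : rename (![2, 3, 0, 1] : Fin 4 → Fin 4)
    (X 0 * X 1 * (X 0 - X 1) * (X 2 * X 3 * (X 2 - X 3)) : MvPolynomial (Fin 4) k) =
    X 0 * X 1 * (X 0 - X 1) * (X 2 * X 3 * (X 2 - X 3)) := by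
  simp; ring

end Groth.Agent.Lib.Helper1.SR
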