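import Groth.Agent.Lib.Helper1.SR3

/-!
# The ten forms of bidegree (3,3): eigenspaces of the swap and linear independence
(helper1, for S16153)
-/

set_option autoImplicit false
set_option linter.unusedSectionVars false
set_option linter.unusedVariables false
set_option maxHeartbeats 1600000

namespace Groth.Agent.Lib.Helper1.SR

open MvPolynomial

universe u

theorem exists_coeffs {k : Type u} [Field k] {f : MvPolynomial (Fin 4) k}
    (h1 : f.IsWeightedHomogeneous (![1, 1, 0, 0] : Fin 4 → ℕ) 3)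
    (h2 : f.IsWeightedHomogeneous (![0, 0, 1, 1] : Fin 4 → ℕ) 3)
    (hdvd : (X 0 * X 1 * (X 0 - X 1)) ^ 2 ∣ rename (![0, 1, 0, 1] : Fin 4 → Fin 2) f) :
    ∃ a : Fin 4 → Fin 4 → k, f = ∑ i : Fin 4, ∑ j : Fin 4, C (a i j) * mon i j ∧
      (∀ i j, a i j = coeff (dexp i j) f) ∧
      a 0 0 = 0 ∧ a 0 1 + a 1 0 = 0 ∧ a 2 3 + a 3 2 = 0 ∧ a 3 3 = 0 ∧
      (a 0 2 + a 1 1 + a 2 0) + (a 0 3 + a 1 2 + a 2 1 + a 3 0) + (a 1 3 + a 2 2 + a 3 1) = 0 ∧
      2 * (a 0 2 + a 1 1 + a 2 0) + 3 * (a 0 3 + a 1 2 + a 2 1 + a 3 0) +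
        4 * (a 1 3 + a 2 2 + a 3 1) = 0 := by
  have hfe := bihom_eq h1 h2
  refine ⟨fun i j => coeff (dexp i j) f, hfe, fun _ _ => rfl, ?_⟩
  have hd2 := hdvd
  rw [hfe] at hd2
  exact constraints (fun i j => coeff (dexp i j) f) hd2

theorem sym_part (k : Type u) [Field k] [CharZero k]
    (l h1 h2 h3 h h13 h23 c : MvPolynomial (Fin 4) k)
    (hl : l = X 0 * X 3 - X 1 * X 2)
    (hh1 : h1 = X 0 * (X 3 - X 2) + X 2 * (X 1 - X 0))
    (hh2 : h2 = X 1 * (X 2 - X 3) + X 3 * (X 0 - X 1))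
    (hh3 : h3 = X 0 * X 3 + X 1 * X 2)
    (hh : h = h1 + h2 + h3) (hh13 : h13 = h1 - h3) (hh23 : h23 = h2 - h3)
    (hc : c = X 0 * X 1 * (X 0 - X 1) * (X 2 * X 3 * (X 2 - X 3)))
    (I : Submodule k (MvPolynomial (Fin 4) k))
    (hI : ∀ f, f ∈ I ↔
      (f.IsWeightedHomogeneous (![1, 1, 0, 0] : Fin 4 → ℕ) 3 ∧
       f.IsWeightedHomogeneous (![0, 0, 1, 1] : Fin 4 → ℕ) 3 ∧
       (X 0 * X 1 * (X 0 - X 1)) ^ 2 ∣ rename (![0, 1, 0, 1] : Fin 4 → Fin 2) f)) :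
    ∀ f, (f ∈ I ∧ rename (![2, 3, 0, 1] : Fin 4 → Fin 4) f = f) ↔
        f ∈ Submodule.span k ({c, l ^ 2 * h, l ^ 2 * h13, l ^ 2 * h23} :
          Set (MvPolynomial (Fin 4) k)) := by
  -- homogeneity of the basic forms
  have wl1 : IsWeightedHomogeneous (![1, 1, 0, 0] : Fin 4 → ℕ) l 1 := hl ▸ wh1_l
  have wl2 : IsWeightedHomogeneous (![0, 0, 1, 1] : Fin 4 → ℕ) l 1 := hl ▸ wh2_l
  have wa1 : IsWeightedHomogeneous (![1, 1, 0, 0] : Fin 4 → ℕ) h1 1 := hh1 ▸ wh1_h1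
  have wa2 : IsWeightedHomogeneous (![0, 0, 1, 1] : Fin 4 → ℕ) h1 1 := hh1 ▸ wh2_h1
  have wb1 : IsWeightedHomogeneous (![1, 1, 0, 0] : Fin 4 → ℕ) h2 1 := hh2 ▸ wh1_h2
  have wb2 : IsWeightedHomogeneous (![0, 0, 1, 1] : Fin 4 → ℕ) h2 1 := hh2 ▸ wh2_h2
  have wc1 : IsWeightedHomogeneous (![1, 1, 0, 0] : Fin 4 → ℕ) h3 1 := hh3 ▸ wh1_h3
  have wc2 : IsWeightedHomogeneous (![0, 0, 1, 1] : Fin 4 → ℕ) h3 1 := hh3 ▸ wh2_h3
  have wh_1 : IsWeightedHomogeneous (![1, 1, 0, 0] : Fin 4 → ℕ) h 1 := hh ▸ (wa1.add wb1).add wc1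
  have wh_2 : IsWeightedHomogeneous (![0, 0, 1, 1] : Fin 4 → ℕ) h 1 := hh ▸ (wa2.add wb2).add wc2
  have wd1 : IsWeightedHomogeneous (![1, 1, 0, 0] : Fin 4 → ℕ) h13 1 := hh13 ▸ wa1.sub wc1
  have wd2 : IsWeightedHomogeneous (![0, 0, 1, 1] : Fin 4 → ℕ) h13 1 := hh13 ▸ wa2.sub wc2
  have we1 : IsWeightedHomogeneous (![1, 1, 0, 0] : Fin 4 → ℕ) h23 1 := hh23 ▸ wb1.sub wc1
  have we2 : IsWeightedHomogeneous (![0, 0, 1, 1] : Fin 4 → ℕ) h23 1 := hh23 ▸ wb2.sub wc2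
  have ρl : rename (![0, 1, 0, 1] : Fin 4 → Fin 2) l = 0 := hl ▸ rho_l
  have ιl : rename (![2, 3, 0, 1] : Fin 4 → Fin 4) l = -l := by rw [hl]; exact iota_l
  have ιa : rename (![2, 3, 0, 1] : Fin 4 → Fin 4) h1 = h1 := by rw [hh1]; exact iota_h1
  have ιb : rename (![2, 3, 0, 1] : Fin 4 → Fin 4) h2 = h2 := by rw [hh2]; exact iota_h2
  have ιc : rename (![2, 3, 0, 1] : Fin 4 → Fin 4) h3 = h3 := by rw [hh3]; exact iota_h3
  have ιh : rename (![2, 3, 0, 1] : Fin 4 → Fin 4) h = h := by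
    rw [hh, map_add, map_add, ιa, ιb, ιc]
  have ιd : rename (![2, 3, 0, 1] : Fin 4 → Fin 4) h13 = h13 := by rw [hh13, map_sub, ιa, ιc]
  have ιe : rename (![2, 3, 0, 1] : Fin 4 → Fin 4) h23 = h23 := by rw [hh23, map_sub, ιb, ιc]
  -- membership of `l^2 * g`
  have memI : ∀ g : MvPolynomial (Fin 4) k,
      IsWeightedHomogeneous (![1, 1, 0, 0] : Fin 4 → ℕ) g 1 →
      IsWeightedHomogeneous (![0, 0, 1, 1] : Fin 4 → ℕ) g 1 → l ^ 2 * g ∈ I := by
    intro g hg1 hg2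
    rw [hI]
    refine ⟨wh_congr ((wl1.pow 2).mul hg1) rfl, wh_congr ((wl2.pow 2).mul hg2) rfl, ?_⟩
    rw [map_mul, map_pow, ρl, zero_pow (by norm_num), zero_mul]
    exact dvd_zero _
  have ιmem : ∀ g : MvPolynomial (Fin 4) k, rename (![2, 3, 0, 1] : Fin 4 → Fin 4) g = g →
      rename (![2, 3, 0, 1] : Fin 4 → Fin 4) (l ^ 2 * g) = l ^ 2 * g := by
    intro g hg
    rw [map_mul, map_pow, ιl, hg]; ring
  have cI : c ∈ I := by
    rw [hI, hc]
    exact ⟨wh1_c, wh2_c, by rw [rho_c]⟩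
  have ιcc : rename (![2, 3, 0, 1] : Fin 4 → Fin 4) c = c := by rw [hc]; exact iota_c
  intro f
  constructor
  · rintro ⟨hfI, hfι⟩
    obtain ⟨w1f, w2f, hdvd⟩ := (hI f).1 hfI
    obtain ⟨a, hfe, hac, c0, c1, c5, c6, cS, cD⟩ := exists_coeffs w1f w2f hdvd
    have hs : ∀ i j, a i j = a j i := fun i j => by
      rw [hac, hac]
      have := coeff_swap f i j
      rw [hfι] at this; exact this
    have s10 := hs 1 0
    have s20 := hs 2 0
    have s30 := hs 3 0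
    have s21 := hs 2 1
    have s31 := hs 3 1
    have s32 := hs 3 2
    have e01 : a 0 1 = 0 := by linear_combination (1 / 2 : k) * c1 - (1 / 2 : k) * s10
    have e10 : a 1 0 = 0 := by rw [s10, e01]
    have e23 : a 2 3 = 0 := by linear_combination (1 / 2 : k) * c5 - (1 / 2 : k) * s32
    have e32 : a 3 2 = 0 := by rw [s32, e23]
    have e11 : a 1 1 = 2 * a 1 3 + a 2 2 - 2 * a 0 2 := by
      linear_combination 3 * cS - cD - s20 + s31
    have e12 : a 1 2 = -(a 2 2) - 2 * a 1 3 - a 0 3 := by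
      linear_combination (1 / 2 : k) * (cD - 2 * cS) - (1 / 2 : k) * s21 - (1 / 2 : k) * s30 - s31
    have e21 : a 2 1 = -(a 2 2) - 2 * a 1 3 - a 0 3 := by rw [s21, e12]
    have key : f = C (a 2 2 + 2 * a 1 3) * c + C (a 0 3) * (l ^ 2 * h3) +
        C (a 1 3) * (l ^ 2 * (X 0 * X 2)) + C (a 0 2) * (l ^ 2 * (X 1 * X 3)) := by
      rw [hfe]
      simp only [Fin.sum_univ_four, mon]
      rw [c0, e01, e10, e23, e32, c6, s20, s30, s31, e21, e11, e12, hl, hh3, hc]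
      simp only [map_add, map_mul, map_sub, map_neg, map_zero, map_ofNat]
      simp
      ring
    set S := Submodule.span k ({c, l ^ 2 * h, l ^ 2 * h13, l ^ 2 * h23} :
          Set (MvPolynomial (Fin 4) k)) with hS
    have m0 : c ∈ S := Submodule.subset_span (by simp)
    have m1 : l ^ 2 * h ∈ S := Submodule.subset_span (by simp)
    have m2 : l ^ 2 * h13 ∈ S := Submodule.subset_span (by simp)
    have m3 : l ^ 2 * h23 ∈ S := Submodule.subset_span (by simp)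
    have mv : l ^ 2 * (X 0 * X 2) ∈ S := by
      have : (-2 : k) • (l ^ 2 * (X 0 * X 2)) = l ^ 2 * h13 := by
        rw [Algebra.smul_def, hh13, hh1, hh3, algebraMap_eq, map_neg, map_ofNat]; ring
      rw [← Submodule.smul_mem_iff S (show (-2 : k) ≠ 0 by norm_num), this]; exact m2
    have mw : l ^ 2 * (X 1 * X 3) ∈ S := by
      have : (-2 : k) • (l ^ 2 * (X 1 * X 3)) = l ^ 2 * h23 := by
        rw [Algebra.smul_def, hh23, hh2, hh3, algebraMap_eq, map_neg, map_ofNat]; ring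
      rw [← Submodule.smul_mem_iff S (show (-2 : k) ≠ 0 by norm_num), this]; exact m3
    have mu : l ^ 2 * h3 ∈ S := by
      have : (3 : k) • (l ^ 2 * h3) = l ^ 2 * h - l ^ 2 * h13 - l ^ 2 * h23 := by
        rw [Algebra.smul_def, hh, hh13, hh23, algebraMap_eq, map_ofNat]; ring
      rw [← Submodule.smul_mem_iff S (show (3 : k) ≠ 0 by norm_num), this]
      exact S.sub_mem (S.sub_mem m1 m2) m3
    rw [key]
    simp only [C_mul']
    exact S.add_mem (S.add_mem (S.add_mem (S.smul_mem _ m0) (S.smul_mem _ mu)) (S.smul_mem _ mv))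
      (S.smul_mem _ mw)
  · intro hf
    refine Submodule.span_induction
      (p := fun f _ => f ∈ I ∧ rename (![2, 3, 0, 1] : Fin 4 → Fin 4) f = f) ?_ ?_ ?_ ?_ hf
    · rintro x (rfl | rfl | rfl | rfl)
      · exact ⟨cI, ιcc⟩
      · exact ⟨memI _ wh_1 wh_2, ιmem _ ιh⟩
      · exact ⟨memI _ wd1 wd2, ιmem _ ιd⟩
      · exact ⟨memI _ we1 we2, ιmem _ ιe⟩
    · exact ⟨I.zero_mem, map_zero _⟩
    · intro x y _ _ hx hy
      exact ⟨I.add_mem hx.1 hy.1, by rw [map_add, hx.2, hy.2]⟩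
    · intro r x _ hx
      exact ⟨I.smul_mem r hx.1, by rw [map_smul, hx.2]⟩

theorem anti_part (k : Type u) [Field k] [CharZero k]
    (l h1 h2 h3 h h13 h23 c : MvPolynomial (Fin 4) k)
    (hl : l = X 0 * X 3 - X 1 * X 2)
    (hh1 : h1 = X 0 * (X 3 - X 2) + X 2 * (X 1 - X 0))
    (hh2 : h2 = X 1 * (X 2 - X 3) + X 3 * (X 0 - X 1))
    (hh3 : h3 = X 0 * X 3 + X 1 * X 2)
    (hh : h = h1 + h2 + h3) (hh13 : h13 = h1 - h3) (hh23 : h23 = h2 - h3)
    (hc : c = X 0 * X 1 * (X 0 - X 1) * (X 2 * X 3 * (X 2 - X 3)))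
    (I : Submodule k (MvPolynomial (Fin 4) k))
    (hI : ∀ f, f ∈ I ↔
      (f.IsWeightedHomogeneous (![1, 1, 0, 0] : Fin 4 → ℕ) 3 ∧
       f.IsWeightedHomogeneous (![0, 0, 1, 1] : Fin 4 → ℕ) 3 ∧
       (X 0 * X 1 * (X 0 - X 1)) ^ 2 ∣ rename (![0, 1, 0, 1] : Fin 4 → Fin 2) f)) :
    ∀ f, (f ∈ I ∧ rename (![2, 3, 0, 1] : Fin 4 → Fin 4) f = -f) ↔
        f ∈ Submodule.span k ({l * h ^ 2, l * h * h13, l * h * h23, l * h13 ^ 2, l * h23 ^ 2,
          l * h13 * h23} : Set (MvPolynomial (Fin 4) k)) := by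
  have wl1 : IsWeightedHomogeneous (![1, 1, 0, 0] : Fin 4 → ℕ) l 1 := hl ▸ wh1_l
  have wl2 : IsWeightedHomogeneous (![0, 0, 1, 1] : Fin 4 → ℕ) l 1 := hl ▸ wh2_l
  have wa1 : IsWeightedHomogeneous (![1, 1, 0, 0] : Fin 4 → ℕ) h1 1 := hh1 ▸ wh1_h1
  have wa2 : IsWeightedHomogeneous (![0, 0, 1, 1] : Fin 4 → ℕ) h1 1 := hh1 ▸ wh2_h1
  have wb1 : IsWeightedHomogeneous (![1, 1, 0, 0] : Fin 4 → ℕ) h2 1 := hh2 ▸ wh1_h2
  have wb2 : IsWeightedHomogeneous (![0, 0, 1, 1] : Fin 4 → ℕ) h2 1 := hh2 ▸ wh2_h2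
  have wc1 : IsWeightedHomogeneous (![1, 1, 0, 0] : Fin 4 → ℕ) h3 1 := hh3 ▸ wh1_h3
  have wc2 : IsWeightedHomogeneous (![0, 0, 1, 1] : Fin 4 → ℕ) h3 1 := hh3 ▸ wh2_h3
  have wh_1 : IsWeightedHomogeneous (![1, 1, 0, 0] : Fin 4 → ℕ) h 1 := hh ▸ (wa1.add wb1).add wc1
  have wh_2 : IsWeightedHomogeneous (![0, 0, 1, 1] : Fin 4 → ℕ) h 1 := hh ▸ (wa2.add wb2).add wc2
  have wd1 : IsWeightedHomogeneous (![1, 1, 0, 0] : Fin 4 → ℕ) h13 1 := hh13 ▸ wa1.sub wc1
  have wd2 : IsWeightedHomogeneous (![0, 0, 1, 1] : Fin 4 → ℕ) h13 1 := hh13 ▸ wa2.sub wc2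
  have we1 : IsWeightedHomogeneous (![1, 1, 0, 0] : Fin 4 → ℕ) h23 1 := hh23 ▸ wb1.sub wc1
  have we2 : IsWeightedHomogeneous (![0, 0, 1, 1] : Fin 4 → ℕ) h23 1 := hh23 ▸ wb2.sub wc2
  have ρl : rename (![0, 1, 0, 1] : Fin 4 → Fin 2) l = 0 := hl ▸ rho_l
  have ιl : rename (![2, 3, 0, 1] : Fin 4 → Fin 4) l = -l := by rw [hl]; exact iota_l
  have ιa : rename (![2, 3, 0, 1] : Fin 4 → Fin 4) h1 = h1 := by rw [hh1]; exact iota_h1
  have ιb : rename (![2, 3, 0, 1] : Fin 4 → Fin 4) h2 = h2 := by rw [hh2]; exact iota_h2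
  have ιc : rename (![2, 3, 0, 1] : Fin 4 → Fin 4) h3 = h3 := by rw [hh3]; exact iota_h3
  have ιh : rename (![2, 3, 0, 1] : Fin 4 → Fin 4) h = h := by
    rw [hh, map_add, map_add, ιa, ιb, ιc]
  have ιd : rename (![2, 3, 0, 1] : Fin 4 → Fin 4) h13 = h13 := by rw [hh13, map_sub, ιa, ιc]
  have ιe : rename (![2, 3, 0, 1] : Fin 4 → Fin 4) h23 = h23 := by rw [hh23, map_sub, ιb, ιc]
  -- membership of `l * (g1 * g2)`
  have memI : ∀ g1 g2 : MvPolynomial (Fin 4) k,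
      IsWeightedHomogeneous (![1, 1, 0, 0] : Fin 4 → ℕ) g1 1 →
      IsWeightedHomogeneous (![0, 0, 1, 1] : Fin 4 → ℕ) g1 1 →
      IsWeightedHomogeneous (![1, 1, 0, 0] : Fin 4 → ℕ) g2 1 →
      IsWeightedHomogeneous (![0, 0, 1, 1] : Fin 4 → ℕ) g2 1 → l * (g1 * g2) ∈ I := by
    intro g1 g2 ha1 ha2 hb1 hb2
    rw [hI]
    refine ⟨wh_congr (wl1.mul (ha1.mul hb1)) rfl, wh_congr (wl2.mul (ha2.mul hb2)) rfl, ?_⟩
    rw [map_mul, ρl, zero_mul]
    exact dvd_zero _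
  have ιmem : ∀ g1 g2 : MvPolynomial (Fin 4) k,
      rename (![2, 3, 0, 1] : Fin 4 → Fin 4) g1 = g1 →
      rename (![2, 3, 0, 1] : Fin 4 → Fin 4) g2 = g2 →
      rename (![2, 3, 0, 1] : Fin 4 → Fin 4) (l * (g1 * g2)) = -(l * (g1 * g2)) := by
    intro g1 g2 hg1 hg2
    rw [map_mul, map_mul, ιl, hg1, hg2]; ring
  have r1 : l * h ^ 2 = l * (h * h) := by ring
  have r2 : l * h * h13 = l * (h * h13) := by ring
  have r3 : l * h * h23 = l * (h * h23) := by ring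
  have r4 : l * h13 ^ 2 = l * (h13 * h13) := by ring
  have r5 : l * h23 ^ 2 = l * (h23 * h23) := by ring
  have r6 : l * h13 * h23 = l * (h13 * h23) := by ring
  intro f
  constructor
  · rintro ⟨hfI, hfι⟩
    obtain ⟨w1f, w2f, hdvd⟩ := (hI f).1 hfI
    obtain ⟨a, hfe, hac, -⟩ := exists_coeffs w1f w2f hdvd
    have hs : ∀ i j, a i j = -a j i := fun i j => by
      rw [hac, hac]
      have := coeff_swap f i j
      rw [hfι, coeff_neg] at this
      rw [← this, neg_neg]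
    have d0 : a 0 0 = 0 := by linear_combination (1 / 2 : k) * hs 0 0
    have d1 : a 1 1 = 0 := by linear_combination (1 / 2 : k) * hs 1 1
    have d2 : a 2 2 = 0 := by linear_combination (1 / 2 : k) * hs 2 2
    have d3 : a 3 3 = 0 := by linear_combination (1 / 2 : k) * hs 3 3
    have s01 := hs 0 1
    have s02 := hs 0 2
    have s03 := hs 0 3
    have s12 := hs 1 2
    have s13 := hs 1 3
    have s23 := hs 2 3
    have key : f = C (a 3 2) * (l * ((X 0 * X 2) * (X 0 * X 2))) +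
        C (a 1 0) * (l * ((X 1 * X 3) * (X 1 * X 3))) +
        C (a 3 1) * (l * (h3 * (X 0 * X 2))) + C (a 2 0) * (l * (h3 * (X 1 * X 3))) +
        C (a 3 0) * (l * (h3 * h3)) + C (a 2 1 - a 3 0) * (l * ((X 0 * X 2) * (X 1 * X 3))) := by
      rw [hfe]
      simp only [Fin.sum_univ_four, mon]
      rw [d0, d1, d2, d3, s01, s02, s03, s12, s13, s23, hl, hh3]
      simp only [map_add, map_mul, map_sub, map_neg, map_zero, map_ofNat]
      simp
      ring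
    set S := Submodule.span k ({l * h ^ 2, l * h * h13, l * h * h23, l * h13 ^ 2, l * h23 ^ 2,
          l * h13 * h23} : Set (MvPolynomial (Fin 4) k)) with hS
    have m1 : l * h ^ 2 ∈ S := Submodule.subset_span (by simp)
    have m2 : l * h * h13 ∈ S := Submodule.subset_span (by simp)
    have m3 : l * h * h23 ∈ S := Submodule.subset_span (by simp)
    have m4 : l * h13 ^ 2 ∈ S := Submodule.subset_span (by simp)
    have m5 : l * h23 ^ 2 ∈ S := Submodule.subset_span (by simp)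
    have m6 : l * h13 * h23 ∈ S := Submodule.subset_span (by simp)
    have mpp : l * ((X 0 * X 2) * (X 0 * X 2)) ∈ S := by
      have : (4 : k) • (l * ((X 0 * X 2) * (X 0 * X 2))) = l * h13 ^ 2 := by
        rw [Algebra.smul_def, hh13, hh1, hh3, algebraMap_eq, map_ofNat]; ring
      rw [← Submodule.smul_mem_iff S (show (4 : k) ≠ 0 by norm_num), this]; exact m4
    have mqq : l * ((X 1 * X 3) * (X 1 * X 3)) ∈ S := by
      have : (4 : k) • (l * ((X 1 * X 3) * (X 1 * X 3))) = l * h23 ^ 2 := by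
        rw [Algebra.smul_def, hh23, hh2, hh3, algebraMap_eq, map_ofNat]; ring
      rw [← Submodule.smul_mem_iff S (show (4 : k) ≠ 0 by norm_num), this]; exact m5
    have mpq : l * ((X 0 * X 2) * (X 1 * X 3)) ∈ S := by
      have : (4 : k) • (l * ((X 0 * X 2) * (X 1 * X 3))) = l * h13 * h23 := by
        rw [Algebra.smul_def, hh13, hh23, hh1, hh2, hh3, algebraMap_eq, map_ofNat]; ring
      rw [← Submodule.smul_mem_iff S (show (4 : k) ≠ 0 by norm_num), this]; exact m6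
    have msp : l * (h3 * (X 0 * X 2)) ∈ S := by
      have : (-6 : k) • (l * (h3 * (X 0 * X 2))) = l * h * h13 - l * h13 ^ 2 - l * h13 * h23 := by
        rw [Algebra.smul_def, hh, hh13, hh23, hh1, hh2, hh3, algebraMap_eq, map_neg, map_ofNat]; ring
      rw [← Submodule.smul_mem_iff S (show (-6 : k) ≠ 0 by norm_num), this]
      exact S.sub_mem (S.sub_mem m2 m4) m6
    have msq : l * (h3 * (X 1 * X 3)) ∈ S := by
      have : (-6 : k) • (l * (h3 * (X 1 * X 3))) = l * h * h23 - l * h23 ^ 2 - l * h13 * h23 := by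
        rw [Algebra.smul_def, hh, hh13, hh23, hh1, hh2, hh3, algebraMap_eq, map_neg, map_ofNat]; ring
      rw [← Submodule.smul_mem_iff S (show (-6 : k) ≠ 0 by norm_num), this]
      exact S.sub_mem (S.sub_mem m3 m5) m6
    have mss : l * (h3 * h3) ∈ S := by
      have : (9 : k) • (l * (h3 * h3)) = l * h ^ 2 + l * h13 ^ 2 + l * h23 ^ 2 -
          (l * h * h13 + l * h * h13) - (l * h * h23 + l * h * h23) +
          (l * h13 * h23 + l * h13 * h23) := by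
        rw [Algebra.smul_def, hh, hh13, hh23, algebraMap_eq, map_ofNat]; ring
      rw [← Submodule.smul_mem_iff S (show (9 : k) ≠ 0 by norm_num), this]
      exact S.add_mem (S.sub_mem (S.sub_mem (S.add_mem (S.add_mem m1 m4) m5) (S.add_mem m2 m2))
        (S.add_mem m3 m3)) (S.add_mem m6 m6)
    rw [key]
    simp only [C_mul']
    exact S.add_mem (S.add_mem (S.add_mem (S.add_mem (S.add_mem (S.smul_mem _ mpp)
      (S.smul_mem _ mqq)) (S.smul_mem _ msp)) (S.smul_mem _ msq)) (S.smul_mem _ mss))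
      (S.smul_mem _ mpq)
  · intro hf
    refine Submodule.span_induction
      (p := fun f _ => f ∈ I ∧ rename (![2, 3, 0, 1] : Fin 4 → Fin 4) f = -f) ?_ ?_ ?_ ?_ hf
    · rintro x (rfl | rfl | rfl | rfl | rfl | rfl)
      · rw [r1]; exact ⟨memI _ _ wh_1 wh_2 wh_1 wh_2, ιmem _ _ ιh ιh⟩
      · rw [r2]; exact ⟨memI _ _ wh_1 wh_2 wd1 wd2, ιmem _ _ ιh ιd⟩
      · rw [r3]; exact ⟨memI _ _ wh_1 wh_2 we1 we2, ιmem _ _ ιh ιe⟩
      · rw [r4]; exact ⟨memI _ _ wd1 wd2 wd1 wd2, ιmem _ _ ιd ιd⟩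
      · rw [r5]; exact ⟨memI _ _ we1 we2 we1 we2, ιmem _ _ ιe ιe⟩
      · rw [r6]; exact ⟨memI _ _ wd1 wd2 we1 we2, ιmem _ _ ιd ιe⟩
    · exact ⟨I.zero_mem, by rw [map_zero, neg_zero]⟩
    · intro x y _ _ hx hy
      exact ⟨I.add_mem hx.1 hy.1, by rw [map_add, hx.2, hy.2, neg_add]⟩
    · intro r x _ hx
      exact ⟨I.smul_mem r hx.1, by rw [map_smul, hx.2, smul_neg]⟩

theorem indep_part (k : Type u) [Field k] [CharZero k]
    (l h1 h2 h3 h h13 h23 c : MvPolynomial (Fin 4) k)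
    (hl : l = X 0 * X 3 - X 1 * X 2)
    (hh1 : h1 = X 0 * (X 3 - X 2) + X 2 * (X 1 - X 0))
    (hh2 : h2 = X 1 * (X 2 - X 3) + X 3 * (X 0 - X 1))
    (hh3 : h3 = X 0 * X 3 + X 1 * X 2)
    (hh : h = h1 + h2 + h3) (hh13 : h13 = h1 - h3) (hh23 : h23 = h2 - h3)
    (hc : c = X 0 * X 1 * (X 0 - X 1) * (X 2 * X 3 * (X 2 - X 3))) :
    LinearIndependent k
      ![c, l ^ 2 * h, l ^ 2 * h13, l ^ 2 * h23, l * h ^ 2, l * h * h13, l * h * h23, l * h13 ^ 2, l * h23 ^ 2,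
        l * h13 * h23] := by
  rw [Fintype.linearIndependent_iff]
  intro g hg
  have hg' : C (g 0) * c + C (g 1) * (l ^ 2 * h) + C (g 2) * (l ^ 2 * h13) + C (g 3) * (l ^ 2 * h23) +
      C (g 4) * (l * h ^ 2) + C (g 5) * (l * h * h13) + C (g 6) * (l * h * h23) +
      C (g 7) * (l * h13 ^ 2) + C (g 8) * (l * h23 ^ 2) + C (g 9) * (l * h13 * h23) = 0 := by
    rw [← hg]
    simp [Fin.sum_univ_succ, smul_eq_C_mul]
    ring
  subst hh hh13 hh23 hh1 hh2 hh3 hl hc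
  have e0 := congrArg (eval (![(0 : k), (-1 : k), (2 : k), (1 : k)] : Fin 4 → k)) hg'
  have e1 := congrArg (eval (![(1 : k), (1 : k), (0 : k), (2 : k)] : Fin 4 → k)) hg'
  have e2 := congrArg (eval (![(0 : k), (-1 : k), (1 : k), (1 : k)] : Fin 4 → k)) hg'
  have e3 := congrArg (eval (![(1 : k), (1 : k), (-1 : k), (2 : k)] : Fin 4 → k)) hg'
  have e4 := congrArg (eval (![(0 : k), (1 : k), (-1 : k), (1 : k)] : Fin 4 → k)) hg'
  have e5 := congrArg (eval (![(1 : k), (-1 : k), (1 : k), (-1 : k)] : Fin 4 → k)) hg'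
  have e6 := congrArg (eval (![(1 : k), (1 : k), (2 : k), (0 : k)] : Fin 4 → k)) hg'
  have e7 := congrArg (eval (![(-1 : k), (0 : k), (1 : k), (-1 : k)] : Fin 4 → k)) hg'
  have e8 := congrArg (eval (![(-1 : k), (2 : k), (2 : k), (2 : k)] : Fin 4 → k)) hg'
  have e9 := congrArg (eval (![(-1 : k), (1 : k), (0 : k), (-1 : k)] : Fin 4 → k)) hg'
  simp only [map_add, map_mul, map_sub, map_pow, map_zero, eval_X, eval_C, Matrix.cons_val_zero, Matrix.cons_val_one, Matrix.cons_val] at e0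
  norm_num at e0
  simp only [map_add, map_mul, map_sub, map_pow, map_zero, eval_X, eval_C, Matrix.cons_val_zero, Matrix.cons_val_one, Matrix.cons_val] at e1
  norm_num at e1
  simp only [map_add, map_mul, map_sub, map_pow, map_zero, eval_X, eval_C, Matrix.cons_val_zero, Matrix.cons_val_one, Matrix.cons_val] at e2
  norm_num at e2
  simp only [map_add, map_mul, map_sub, map_pow, map_zero, eval_X, eval_C, Matrix.cons_val_zero, Matrix.cons_val_one, Matrix.cons_val] at e3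
  norm_num at e3
  simp only [map_add, map_mul, map_sub, map_pow, map_zero, eval_X, eval_C, Matrix.cons_val_zero, Matrix.cons_val_one, Matrix.cons_val] at e4
  norm_num at e4
  simp only [map_add, map_mul, map_sub, map_pow, map_zero, eval_X, eval_C, Matrix.cons_val_zero, Matrix.cons_val_one, Matrix.cons_val] at e5
  norm_num at e5
  simp only [map_add, map_mul, map_sub, map_pow, map_zero, eval_X, eval_C, Matrix.cons_val_zero, Matrix.cons_val_one, Matrix.cons_val] at e6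
  norm_num at e6
  simp only [map_add, map_mul, map_sub, map_pow, map_zero, eval_X, eval_C, Matrix.cons_val_zero, Matrix.cons_val_one, Matrix.cons_val] at e7
  norm_num at e7
  simp only [map_add, map_mul, map_sub, map_pow, map_zero, eval_X, eval_C, Matrix.cons_val_zero, Matrix.cons_val_one, Matrix.cons_val] at e8
  norm_num at e8
  simp only [map_add, map_mul, map_sub, map_pow, map_zero, eval_X, eval_C, Matrix.cons_val_zero, Matrix.cons_val_one, Matrix.cons_val] at e9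
  norm_num at e9
  have z0 : g 0 = 0 := e5
  have z1 : g 1 = 0 := by linear_combination ((1 : k) / 96) * e1 + ((-1 : k) / 12) * e2 + ((-1 : k) / 12) * e4 + ((1 : k) / 12) * e9
  have z2 : g 2 = 0 := by linear_combination ((-11 : k) / 192) * e1 + ((11 : k) / 24) * e2 + ((1 : k) / 36) * e3 + ((-1 : k) / 24) * e4 + ((1 : k) / 288) * e8 + ((1 : k) / 24) * e9
  have z3 : g 3 = 0 := by linear_combination ((-5 : k) / 192) * e1 + ((5 : k) / 24) * e2 + ((-1 : k) / 24) * e4 + ((1 : k) / 24) * e9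
  have z4 : g 4 = 0 := by linear_combination ((1 : k) / 54) * e0 + ((1 : k) / 288) * e1 + ((-1 : k) / 12) * e2 + ((-1 : k) / 108) * e4 + ((1 : k) / 36) * e9
  have z5 : g 5 = 0 := by linear_combination ((-1 : k) / 27) * e0 + ((-7 : k) / 576) * e1 + ((5 : k) / 24) * e2 + ((13 : k) / 216) * e4 + ((1 : k) / 96) * e6 + ((1 : k) / 12) * e7 + ((-7 : k) / 72) * e9
  have z6 : g 6 = 0 := by linear_combination ((-1 : k) / 27) * e0 + ((-7 : k) / 576) * e1 + ((1 : k) / 8) * e2 + ((13 : k) / 216) * e4 + ((-1 : k) / 72) * e9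
  have z7 : g 7 = 0 := by linear_combination ((-5 : k) / 216) * e0 + ((7 : k) / 288) * e1 + ((-1 : k) / 8) * e2 + ((-1 : k) / 72) * e3 + ((7 : k) / 216) * e4 + ((-5 : k) / 192) * e6 + ((1 : k) / 24) * e7 + ((-1 : k) / 576) * e8 + ((-1 : k) / 18) * e9
  have z8 : g 8 = 0 := by linear_combination ((-5 : k) / 216) * e0 + ((5 : k) / 576) * e1 + ((5 : k) / 24) * e2 + ((7 : k) / 216) * e4 + ((-1 : k) / 72) * e9
  have z9 : g 9 = 0 := by linear_combination ((-5 : k) / 108) * e0 + ((19 : k) / 576) * e1 + ((1 : k) / 3) * e2 + ((-1 : k) / 36) * e3 + ((7 : k) / 108) * e4 + ((-1 : k) / 96) * e6 + ((1 : k) / 24) * e7 + ((1 : k) / 576) * e8 + ((-5 : k) / 72) * e9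
  intro i
  fin_cases i
  · exact z0
  · exact z1
  · exact z2
  · exact z3
  · exact z4
  · exact z5
  · exact z6
  · exact z7
  · exact z8
  · exact z9

end Groth.Agent.Lib.Helper1.SR
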