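import Groth.Agent.Lib.Helper1.TautPos

/-!
# Reduction of `x_{0,2i}` modulo the relation ideal: the algebraic part
-/

set_option autoImplicit false
open W4c3tautjacobian MvPolynomial

namespace Groth.Agent.Lib.Helper1.TautGen

open Groth.Agent.S16397 Groth.Agent.S16398 Groth.Agent.Lib.Helper1.TautPos

variable (g : ℕ)

/-- second weight -/
def w2 : Var g → ℕ := fun v => (wt g v).2

lemma weight_wZ_snd (d : Var g →₀ ℕ) :
    (Finsupp.weight (wZ g) d).2 = ((Finsupp.weight (w2 g) d : ℕ) : ℤ) := by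
  rw [Finsupp.weight_apply, Finsupp.weight_apply]
  rw [← AddMonoidHom.coe_snd, map_finsuppSum, ← Nat.coe_castAddMonoidHom, map_finsuppSum]
  refine Finsupp.sum_congr fun v _ => ?_
  simp [wZ, w2]

lemma wh_w2 {P : RelRing g} {n : ℤ × ℤ} {b : ℕ} (hb : n.2 = b)
    (h : IsWeightedHomogeneous (wZ g) P n) : IsWeightedHomogeneous (w2 g) P b := by
  intro d hd
  have h1 := congrArg Prod.snd (h hd)
  rw [weight_wZ_snd, hb] at h1
  exact_mod_cast h1

lemma var_w1_zero (v : Var g) (h : w1 g v = 0) :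
    2 ≤ w2 g v ∧ (v = none ∨ ∃ j : ℕ, 1 ≤ j ∧ w2 g v = 2 * j ∧
      ∃ hv : Valid g (0, 2 * j), v = some ⟨(0, 2 * j), hv⟩) := by
  rcases v with _ | ⟨⟨a, b⟩, hv⟩
  · exact ⟨by simp [w2, wt], Or.inl rfl⟩
  · have ha : a = 0 := h
    subst ha
    obtain ⟨h1, h2, ⟨r, hr⟩, h4⟩ := hv
    have hb : b ≠ 0 := fun hb => h4 (by rw [hb])
    have hbr : b = 2 * r := by simp only at hr; omega
    subst hbr
    refine ⟨by simp only [w2, wt]; omega, Or.inr ⟨r, by omega, rfl, ⟨h1, h2, ⟨r, hr⟩, h4⟩, rfl⟩⟩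

/-- generators below level `i` -/
def lowerGens (i : ℕ) : Set (RelRing g) :=
  {MvPolynomial.X none} ∪ {P | ∃ j : ℕ, j < i ∧ P = xv g 0 (2 * (j : ℤ))}

lemma xv_eq_X (j : ℕ) (hv : Valid g (0, 2 * j)) :
    xv g 0 (2 * (j : ℤ)) = X (some ⟨(0, 2 * j), hv⟩) := by
  rw [← xv_valid g (0, 2 * j) hv]
  push_cast
  rfl

lemma weight_split (w : Var g → ℕ) (d : Var g →₀ ℕ) (v : Var g) :
    Finsupp.weight w d = d v * w v + Finsupp.weight w (d.erase v) := by
  conv_lhs => rw [← Finsupp.single_add_erase v d]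
  rw [map_add, Finsupp.weight_single, smul_eq_mul]

lemma var_mem (i : ℕ) (hi : 1 ≤ i) (hv0 : Valid g (0, 2 * i)) (d : Var g →₀ ℕ)
    (h1 : Finsupp.weight (w1 g) d = 0) (h2 : Finsupp.weight (w2 g) d = 2 * i)
    (hne : d ≠ Finsupp.single (some ⟨(0, 2 * i), hv0⟩) 1) (v : Var g) (hv : v ∈ d.support) :
    (X v : RelRing g) ∈ Algebra.adjoin ℚ (lowerGens g i) := by
  have hsupp : ∀ v' : Var g, d v' ≠ 0 → w1 g v' = 0 := by
    intro v' hv'
    have := Finsupp.le_weight_of_ne_zero' (w := w1 g) hv'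
    omega
  have hdv : d v ≠ 0 := Finsupp.mem_support_iff.1 hv
  obtain ⟨hw2, hcase⟩ := var_w1_zero g v (hsupp v hdv)
  rcases hcase with rfl | ⟨j, hj1, hj2, hvj, rfl⟩
  · exact Algebra.subset_adjoin (Or.inl rfl)
  · have hsplit := weight_split g (w2 g) d (some ⟨(0, 2 * j), hvj⟩)
    rw [h2, hj2] at hsplit
    have hdv1 : 1 ≤ d (some ⟨(0, 2 * j), hvj⟩) := Nat.one_le_iff_ne_zero.2 hdv
    have hji : j ≤ i := by nlinarith
    rcases Nat.lt_or_ge j i with hlt | hge
    · rw [← xv_eq_X g j hvj]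
      exact Algebra.subset_adjoin (Or.inr ⟨j, hlt, rfl⟩)
    · exfalso
      have hji' : j = i := le_antisymm hji hge
      subst hji'
      have hd1 : d (some ⟨(0, 2 * j), hvj⟩) = 1 := by nlinarith
      have hrest : Finsupp.weight (w2 g) (d.erase (some ⟨(0, 2 * j), hvj⟩)) = 0 := by
        rw [hd1] at hsplit; omega
      have herase : d.erase (some ⟨(0, 2 * j), hvj⟩) = 0 := by
        ext v'
        by_contra hv'
        have hle := Finsupp.le_weight_of_ne_zero' (w := w2 g) hv'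
        rw [hrest] at hle
        have hdv' : d v' ≠ 0 := by
          intro h0
          apply hv'
          by_cases hvv : v' = some ⟨(0, 2 * j), hvj⟩
          · rw [hvv, Finsupp.erase_same]; rfl
          · rw [Finsupp.erase_ne hvv, h0]; rfl
        have := (var_w1_zero g v' (hsupp v' hdv')).1
        omega
      apply hne
      rw [← Finsupp.single_add_erase (some ⟨(0, 2 * j), hvj⟩) d, herase, add_zero, hd1]

lemma decomp (i : ℕ) (hi : 1 ≤ i) (hv0 : Valid g (0, 2 * i)) (R : RelRing g)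
    (hR : IsWeightedHomogeneous (wZ g) R ((0, 2 * (i : ℤ)) : ℤ × ℤ)) :
    R - coeff (Finsupp.single (some ⟨(0, 2 * i), hv0⟩) 1) R • X (some ⟨(0, 2 * i), hv0⟩)
      ∈ Algebra.adjoin ℚ (lowerGens g i) := by
  classical
  set e0 : Var g →₀ ℕ := Finsupp.single (some ⟨(0, 2 * i), hv0⟩) 1 with he0
  set c := coeff e0 R with hc
  set R' := R - c • X (some ⟨(0, 2 * i), hv0⟩) with hR'
  have hw1 := wh_w1 g (a := 0) (by simp) hR
  have hw2 := wh_w2 g (b := 2 * i) (by simp) hR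
  have hcoeff : ∀ d, coeff d R' = coeff d R - (if e0 = d then c else 0) := by
    intro d
    rw [hR', coeff_sub, coeff_smul, coeff_X', smul_eq_mul, mul_ite, mul_one, mul_zero]
  rw [R'.as_sum]
  refine Subalgebra.sum_mem _ fun d hd => ?_
  have hd' : coeff d R' ≠ 0 := mem_support_iff.1 hd
  have hne : d ≠ e0 := by
    rintro rfl
    apply hd'
    rw [hcoeff, if_pos rfl, sub_self]
  have hdR : coeff d R ≠ 0 := by
    intro h0
    apply hd'
    rw [hcoeff, h0, if_neg (Ne.symm hne), sub_zero]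
  rw [monomial_eq]
  refine Subalgebra.mul_mem _ (Subalgebra.algebraMap_mem _ _) ?_
  rw [Finsupp.prod]
  refine Subalgebra.prod_mem _ fun v hv => Subalgebra.pow_mem _ ?_ _
  exact var_mem g i hi hv0 d (hw1 hdR) (hw2 hdR) hne v hv

/-- elements reducible to the low generators modulo the relation ideal -/
def redSub : Subalgebra ℚ (RelRing g) where
  carrier := {x | ∃ q ∈ Algebra.adjoin ℚ (lowGens g), x - q ∈ relIdeal g}
  mul_mem' := by
    rintro x x' ⟨q, hq, h⟩ ⟨q', hq', h'⟩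
    refine ⟨q * q', Subalgebra.mul_mem _ hq hq', ?_⟩
    have : x * x' - q * q' = x * (x' - q') + (x - q) * q' := by ring
    rw [this]
    exact Ideal.add_mem _ (Ideal.mul_mem_left _ _ h') (Ideal.mul_mem_right _ _ h)
  add_mem' := by
    rintro x x' ⟨q, hq, h⟩ ⟨q', hq', h'⟩
    refine ⟨q + q', Subalgebra.add_mem _ hq hq', ?_⟩
    have : x + x' - (q + q') = (x - q) + (x' - q') := by ring
    rw [this]
    exact Ideal.add_mem _ h h'
  algebraMap_mem' := by
    intro r
    exact ⟨algebraMap ℚ _ r, Subalgebra.algebraMap_mem _ _, by rw [sub_self]; exact Ideal.zero_mem _⟩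

lemma mem_redSub (x : RelRing g) :
    x ∈ redSub g ↔ ∃ q ∈ Algebra.adjoin ℚ (lowGens g), x - q ∈ relIdeal g := Iff.rfl

lemma adjoin_le_redSub : Algebra.adjoin ℚ (lowGens g) ≤ redSub g := by
  intro x hx
  exact ⟨x, hx, by rw [sub_self]; exact Ideal.zero_mem _⟩

lemma relIdeal_le_redSub {x : RelRing g} (hx : x ∈ relIdeal g) : x ∈ redSub g :=
  ⟨0, Subalgebra.zero_mem _, by rwa [sub_zero]⟩

end Groth.Agent.Lib.Helper1.TautGen
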