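import Groth.Agent.S16398

/-!
# Sign-positivity of the merge/lower part of the operator `F` on the formal relation ring

We show that the cone of polynomials whose `y`-free coefficients are `x_{2,0}`-free and have sign
`(-1)^{degree}` is preserved by `F`, with explicit lower bounds along merge and lowering steps.
-/

set_option autoImplicit false
open W4c3tautjacobian MvPolynomial

namespace Groth.Agent.Lib.Helper1.TautPos

open Groth.Agent.S16397 Groth.Agent.S16398

variable (g : ℕ)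

/-- signed coefficient -/
noncomputable def sc (d : Var g →₀ ℕ) (P : RelRing g) : ℚ := (-1) ^ (Finsupp.degree d) * coeff d P

lemma sc_add (d : Var g →₀ ℕ) (P Q : RelRing g) : sc g d (P + Q) = sc g d P + sc g d Q := by
  unfold sc; rw [coeff_add, mul_add]

lemma sc_zero (d : Var g →₀ ℕ) : sc g d (0 : RelRing g) = 0 := by
  unfold sc; rw [coeff_zero, mul_zero]

lemma sc_smul (d : Var g →₀ ℕ) (c : ℚ) (P : RelRing g) : sc g d (c • P) = c * sc g d P := by
  unfold sc; rw [coeff_smul, smul_eq_mul]; ring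

lemma sc_sum {ι : Type*} (s : Finset ι) (f : ι → RelRing g) (d : Var g →₀ ℕ) :
    sc g d (∑ i ∈ s, f i) = ∑ i ∈ s, sc g d (f i) := by
  classical
  induction s using Finset.induction_on with
  | empty => simp [sc_zero]
  | insert a s ha ih => rw [Finset.sum_insert ha, Finset.sum_insert ha, sc_add, ih]

/-- the `y`-free part vanishes -/
def ZZ (P : RelRing g) : Prop := ∀ d : Var g →₀ ℕ, d none = 0 → coeff d P = 0

lemma ZZ_zero : ZZ g 0 := fun d _ => coeff_zero d

lemma ZZ_ymul (A : RelRing g) : ZZ g (X none * A) := by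
  classical
  intro d hd
  rw [coeff_X_mul', if_neg]
  simpa using hd

lemma ZZ_pderiv {P : RelRing g} (h : ZZ g P) (w : {p : ℕ × ℕ // Valid g p}) :
    ZZ g (pderiv (some w) P) := by
  intro d hd
  rw [coeff_pderiv, h _ (by simp [hd]), zero_mul]

lemma ZZ_Xmul {P : RelRing g} (h : ZZ g P) (v : Var g) : ZZ g (X v * P) := by
  classical
  intro d hd
  rw [coeff_X_mul']
  split_ifs with hv
  · apply h
    simp [hd]
  · rfl

lemma ZZ_smul {P : RelRing g} (h : ZZ g P) (c : ℚ) : ZZ g (c • P) := by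
  intro d hd
  rw [coeff_smul, h d hd, smul_zero]

lemma ZZ_natmul {P : RelRing g} (h : ZZ g P) (m : ℕ) : ZZ g ((m : RelRing g) * P) := by
  rw [← map_natCast (C : ℚ →+* RelRing g), C_mul']
  exact ZZ_smul g h _

lemma ZZ_neg {P : RelRing g} (h : ZZ g P) : ZZ g (-P) := by
  intro d hd
  rw [coeff_neg, h d hd, neg_zero]

section cone
variable (hg : 1 ≤ g)

/-- the cone -/
def KK (P : RelRing g) : Prop :=
  ∀ d : Var g →₀ ℕ, d none = 0 → (0 ≤ sc g d P ∧ (d (v20 g hg) ≠ 0 → coeff d P = 0))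

lemma KK_of_ZZ {P : RelRing g} (h : ZZ g P) : KK g hg P := by
  intro d hd
  refine ⟨?_, fun _ => h d hd⟩
  unfold sc; rw [h d hd, mul_zero]

lemma KK_zero : KK g hg 0 := KK_of_ZZ g hg (ZZ_zero g)

lemma KK_add {P Q : RelRing g} (hP : KK g hg P) (hQ : KK g hg Q) : KK g hg (P + Q) := by
  intro d hd
  refine ⟨?_, fun h => ?_⟩
  · rw [sc_add]; exact add_nonneg (hP d hd).1 (hQ d hd).1
  · rw [coeff_add, (hP d hd).2 h, (hQ d hd).2 h, add_zero]

lemma KK_smul {P : RelRing g} (hP : KK g hg P) {c : ℚ} (hc : 0 ≤ c) : KK g hg (c • P) := by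
  intro d hd
  refine ⟨?_, fun h => ?_⟩
  · rw [sc_smul]; exact mul_nonneg hc (hP d hd).1
  · rw [coeff_smul, (hP d hd).2 h, smul_zero]

lemma KK_natmul {P : RelRing g} (hP : KK g hg P) (m : ℕ) : KK g hg ((m : RelRing g) * P) := by
  rw [← map_natCast (C : ℚ →+* RelRing g), C_mul']
  exact KK_smul g hg hP (Nat.cast_nonneg m)

lemma KK_sum {ι : Type*} (s : Finset ι) (f : ι → RelRing g) (h : ∀ i ∈ s, KK g hg (f i)) :
    KK g hg (∑ i ∈ s, f i) := by
  classical
  induction s using Finset.induction_on with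
  | empty => simpa using KK_zero g hg
  | insert a s ha ih =>
    rw [Finset.sum_insert ha]
    exact KK_add g hg (h a (Finset.mem_insert_self a s))
      (ih fun i hi => h i (Finset.mem_insert_of_mem hi))

lemma sc_neg_pderiv (P : RelRing g) (w : {p : ℕ × ℕ // Valid g p}) (d : Var g →₀ ℕ) :
    sc g d (-(pderiv (some w) P)) = (d (some w) + 1) * sc g (d + Finsupp.single (some w) 1) P := by
  unfold sc
  rw [coeff_neg, coeff_pderiv, map_add, Finsupp.degree_single, pow_succ]
  ring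

lemma KK_neg_pderiv {P : RelRing g} (hP : KK g hg P) (w : {p : ℕ × ℕ // Valid g p}) :
    KK g hg (-(pderiv (some w) P)) := by
  intro d hd
  have hd' : (d + Finsupp.single (some w : Var g) 1 : Var g →₀ ℕ) none = 0 := by simp [hd]
  refine ⟨?_, fun h => ?_⟩
  · rw [sc_neg_pderiv]
    exact mul_nonneg (by positivity) (hP _ hd').1
  · rw [coeff_neg, coeff_pderiv, (hP _ hd').2, zero_mul, neg_zero]
    simp only [Finsupp.add_apply]
    omega

lemma ZZ_pderiv20 {P : RelRing g} (hP : KK g hg P) :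
    ZZ g (pderiv (v20 g hg) P) := by
  intro d hd
  have hd' : (d + Finsupp.single (v20 g hg) 1 : Var g →₀ ℕ) none = 0 := by simp [hd, v20]
  rw [coeff_pderiv, (hP _ hd').2, zero_mul]
  simp

lemma sc_neg_Xmul (P : RelRing g) (v : Var g) (e : Var g →₀ ℕ) :
    sc g (e + Finsupp.single v 1) (-(X v * P)) = sc g e P := by
  unfold sc
  rw [coeff_neg, add_comm e, coeff_X_mul, map_add, Finsupp.degree_single, add_comm, pow_succ]
  ring

lemma KK_neg_Xmul {P : RelRing g} (hP : KK g hg P) (w : {p : ℕ × ℕ // Valid g p})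
    (hw : (some w : Var g) ≠ v20 g hg) : KK g hg (-(X (some w) * P)) := by
  classical
  intro d hd
  by_cases hv : (some w : Var g) ∈ d.support
  · have hle : Finsupp.single (some w : Var g) 1 ≤ d := by
      rw [Finsupp.single_le_iff]
      exact Nat.one_le_iff_ne_zero.2 (Finsupp.mem_support_iff.1 hv)
    obtain ⟨e, rfl⟩ : ∃ e, d = e + Finsupp.single (some w : Var g) 1 :=
      ⟨d - Finsupp.single (some w : Var g) 1, (tsub_add_cancel_of_le hle).symm⟩
    have he : e none = 0 := by simpa using hd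
    refine ⟨?_, fun h => ?_⟩
    · rw [sc_neg_Xmul]; exact (hP e he).1
    · rw [coeff_neg, add_comm e, coeff_X_mul, (hP e he).2, neg_zero]
      rw [Finsupp.add_apply, Finsupp.single_eq_of_ne' hw, add_zero] at h
      exact h
  · have : coeff d (-(X (some w) * P)) = 0 := by
      rw [coeff_neg, coeff_X_mul', if_neg hv, neg_zero]
    refine ⟨?_, fun _ => this⟩
    unfold sc; rw [this, mul_zero]

lemma xv_cases (a b : ℤ) :
    (a = 0 ∧ b = 0 ∧ xv g a b = (g : RelRing g)) ∨
    (∃ w : {p : ℕ × ℕ // Valid g p}, (w.1.1 : ℤ) = a ∧ (w.1.2 : ℤ) = b ∧ xv g a b = X (some w)) ∨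
    xv g a b = 0 := by
  unfold xv
  split_ifs with h1 h2
  · exact Or.inl ⟨h1.1, h1.2, rfl⟩
  · refine Or.inr (Or.inl ⟨⟨(a.toNat, b.toNat), h2.2.2⟩, ?_, ?_, rfl⟩)
    · exact Int.toNat_of_nonneg h2.1
    · exact Int.toNat_of_nonneg h2.2.1
  · exact Or.inr (Or.inr rfl)

lemma valid_snd_zero (p : ℕ × ℕ) (hp : Valid g p) (h : p.2 = 0) : p = (2, 0) := by
  obtain ⟨h1, h2, ⟨r, hr⟩, h4⟩ := hp
  have : p.1 ≠ 0 := fun h0 => h4 (Prod.ext h0 h)
  exact Prod.ext (by simp only; omega) h

lemma some_eq_v20 (q : ℕ × ℕ) (hq : Valid g q) (h : q = (2, 0)) :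
    (some ⟨q, hq⟩ : Var g) = v20 g hg := by
  subst h; rfl

lemma sc_of_ZZ {Z : RelRing g} (h : ZZ g Z) (d : Var g →₀ ℕ) (hd : d none = 0) : sc g d Z = 0 := by
  unfold sc; rw [h d hd, mul_zero]

lemma KK_DD {P : RelRing g} (hP : KK g hg P) (p q : {p : ℕ × ℕ // Valid g p}) :
    KK g hg (pderiv (some p) (pderiv (some q) P)) := by
  have := KK_neg_pderiv g hg (KK_neg_pderiv g hg hP q) p
  rwa [map_neg, neg_neg] at this

lemma KK_T {P : RelRing g} (hP : KK g hg P) (p q : ℕ × ℕ) :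
    KK g hg (cc g p q * dv g p (dv g q P)) := by
  by_cases hq : Valid g q
  swap
  · rw [dv_invalid g q hq, dv_zero, mul_zero]; exact KK_zero g hg
  by_cases hp : Valid g p
  swap
  · rw [dv_invalid g p hp, mul_zero]; exact KK_zero g hg
  rw [dv_valid g q hq, dv_valid g p hp]
  have hD := KK_DD g hg hP ⟨p, hp⟩ ⟨q, hq⟩
  set D := pderiv (some ⟨p, hp⟩ : Var g) (pderiv (some ⟨q, hq⟩ : Var g) P) with hDdef
  unfold cc
  have e1 : ∀ A B m Y : RelRing g, (X none * A * B - m * Y) * D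
      = X none * (A * B * D) + m * (-(Y * D)) := by intros; ring
  rw [e1]
  refine KK_add g hg (KK_of_ZZ g hg (ZZ_ymul g _)) ?_
  refine KK_natmul g hg ?_ _
  rcases xv_cases g ((p.1 : ℤ) + q.1 - 2) ((p.2 : ℤ) + q.2) with ⟨h1, h2, -⟩ | ⟨w, h1, h2, h3⟩ | h3
  · exfalso
    have hq2 : q.2 = 0 := by omega
    have hp2 : p.2 = 0 := by omega
    have := valid_snd_zero g p hp hp2
    have := valid_snd_zero g q hq hq2
    simp_all
  · rw [h3]
    by_cases hw : (some w : Var g) = v20 g hg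
    · have hw' : w.1 = (2, 0) := by
        have := Option.some.inj hw
        exact congrArg Subtype.val this
      have hq2 : q.2 = 0 := by rw [hw'] at h2; simp at h2; omega
      have hqq := valid_snd_zero g q hq hq2
      have hZ : ZZ g D := by
        rw [hDdef, some_eq_v20 g hg q hq hqq]
        exact ZZ_pderiv g (ZZ_pderiv20 g hg hP) _
      exact KK_of_ZZ g hg (ZZ_neg g (ZZ_Xmul g hZ _))
    · exact KK_neg_Xmul g hg hD w hw
  · rw [h3, zero_mul, neg_zero]; exact KK_zero g hg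

lemma KK_U {P : RelRing g} (hP : KK g hg P) (p : ℕ × ℕ) :
    KK g hg (bb g p * dv g p P) := by
  by_cases hp : Valid g p
  swap
  · rw [dv_invalid g p hp, mul_zero]; exact KK_zero g hg
  rw [dv_valid g p hp]
  unfold bb
  rcases xv_cases g ((p.1 : ℤ) - 2) (p.2 : ℤ) with ⟨h1, h2, h3⟩ | ⟨w, h1, h2, h3⟩ | h3
  · rw [h3]
    have hp2 : p.2 = 0 := by omega
    have hpp := valid_snd_zero g p hp hp2
    rw [some_eq_v20 g hg p hp hpp]
    exact KK_of_ZZ g hg (ZZ_natmul g (ZZ_pderiv20 g hg hP) g)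
  · rw [h3]
    have hw : (some w : Var g) ≠ v20 g hg := by
      intro hw
      have hw' : w.1 = (2, 0) := by
        have := Option.some.inj hw
        exact congrArg Subtype.val this
      rw [hw'] at h1 h2
      simp at h1 h2
      obtain ⟨h5, -⟩ := hp
      omega
    have := KK_neg_Xmul g hg (KK_neg_pderiv g hg hP ⟨p, hp⟩) w hw
    rwa [mul_neg, neg_neg] at this
  · rw [h3, zero_mul]; exact KK_zero g hg

lemma KK_F {P : RelRing g} (hP : KK g hg P) : KK g hg (F g P) := by
  rw [F_def]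
  refine KK_add g hg (KK_smul g hg (KK_sum g hg _ _ fun p _ => KK_sum g hg _ _ fun q _ =>
    KK_T g hg hP p q) (by norm_num)) (KK_sum g hg _ _ fun p _ => KK_U g hg hP p)

lemma KK_iter_F {P : RelRing g} (hP : KK g hg P) (n : ℕ) : KK g hg ((F g)^[n] P) := by
  induction n with
  | zero => exact hP
  | succ n ih => rw [Function.iterate_succ_apply']; exact KK_F g hg ih

lemma sc_F_ge_T {P : RelRing g} (hP : KK g hg P) (d : Var g →₀ ℕ) (hd : d none = 0)
    (p q : ℕ × ℕ) (hp : p ∈ idx g) (hq : q ∈ idx g) :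
    (1 / 2 : ℚ) * sc g d (cc g p q * dv g p (dv g q P)) ≤ sc g d (F g P) := by
  rw [F_def, sc_add, sc_smul, sc_sum]
  simp_rw [sc_sum]
  have h1 : sc g d (cc g p q * dv g p (dv g q P)) ≤
      ∑ p' ∈ idx g, ∑ q' ∈ idx g, sc g d (cc g p' q' * dv g p' (dv g q' P)) := by
    refine le_trans ?_ (Finset.single_le_sum
      (f := fun p' => ∑ q' ∈ idx g, sc g d (cc g p' q' * dv g p' (dv g q' P)))
      (fun p' _ => Finset.sum_nonneg fun q' _ => (KK_T g hg hP p' q' d hd).1) hp)
    exact Finset.single_le_sum (f := fun q' => sc g d (cc g p q' * dv g p (dv g q' P)))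
      (fun q' _ => (KK_T g hg hP p q' d hd).1) hq
  have h2 : 0 ≤ ∑ p' ∈ idx g, sc g d (bb g p' * dv g p' P) :=
    Finset.sum_nonneg fun p' _ => (KK_U g hg hP p' d hd).1
  linarith

lemma sc_F_ge_U {P : RelRing g} (hP : KK g hg P) (d : Var g →₀ ℕ) (hd : d none = 0)
    (p : ℕ × ℕ) (hp : p ∈ idx g) :
    sc g d (bb g p * dv g p P) ≤ sc g d (F g P) := by
  rw [F_def, sc_add, sc_smul, sc_sum]
  simp_rw [sc_sum]
  have h1 : 0 ≤ ∑ p' ∈ idx g, ∑ q' ∈ idx g, sc g d (cc g p' q' * dv g p' (dv g q' P)) :=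
    Finset.sum_nonneg fun p' _ => Finset.sum_nonneg fun q' _ => (KK_T g hg hP p' q' d hd).1
  have h2 : sc g d (bb g p * dv g p P) ≤ ∑ p' ∈ idx g, sc g d (bb g p' * dv g p' P) :=
    Finset.single_le_sum (f := fun p' => sc g d (bb g p' * dv g p' P))
      (fun p' _ => (KK_U g hg hP p' d hd).1) hp
  linarith

lemma sc_T_merge (P : RelRing g) (p q w : {p : ℕ × ℕ // Valid g p})
    (hw1 : (w.1.1 : ℤ) = (p.1.1 : ℤ) + q.1.1 - 2) (hw2 : (w.1.2 : ℤ) = (p.1.2 : ℤ) + q.1.2)
    (e : Var g →₀ ℕ) (he : e none = 0) :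
    sc g (e + Finsupp.single (some w) 1) (cc g p.1 q.1 * dv g p.1 (dv g q.1 P)) =
      (mergeCoeff p.1.1 q.1.1 : ℚ) * (((e (some p) : ℚ) + 1) *
        (((e + Finsupp.single (some p : Var g) 1 : Var g →₀ ℕ) (some q) : ℚ) + 1))
        * sc g (e + Finsupp.single (some p) 1 + Finsupp.single (some q) 1) P := by
  rw [dv_valid g q.1 q.2, dv_valid g p.1 p.2]
  unfold cc
  rw [← hw1, ← hw2, xv_valid g w.1 w.2]
  have e1 : ∀ A B m Y D : RelRing g, (X none * A * B - m * Y) * D
      = X none * (A * B * D) + m * (-(Y * D)) := by intros; ring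
  have hd' : (e + Finsupp.single (some w : Var g) 1 : Var g →₀ ℕ) none = 0 := by simp [he]
  rw [e1, sc_add, sc_of_ZZ g (ZZ_ymul g _) _ hd', zero_add,
    ← map_natCast (C : ℚ →+* RelRing g), C_mul', sc_smul, sc_neg_Xmul]
  have e2 : pderiv (some ⟨p.1, p.2⟩ : Var g) (pderiv (some ⟨q.1, q.2⟩ : Var g) P)
      = -(pderiv (some p : Var g) (-(pderiv (some q : Var g) P))) := by
    rw [map_neg, neg_neg]
  rw [e2, sc_neg_pderiv, sc_neg_pderiv]
  ring

lemma sc_U_lower (P : RelRing g) (p w : {p : ℕ × ℕ // Valid g p})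
    (hw1 : (w.1.1 : ℤ) = (p.1.1 : ℤ) - 2) (hw2 : w.1.2 = p.1.2)
    (e : Var g →₀ ℕ) :
    sc g (e + Finsupp.single (some w) 1) (bb g p.1 * dv g p.1 P) =
      ((e (some p) : ℚ) + 1) * sc g (e + Finsupp.single (some p) 1) P := by
  rw [dv_valid g p.1 p.2]
  unfold bb
  rw [← hw1, ← hw2, xv_valid g w.1 w.2]
  have e2 : X (some ⟨w.1, w.2⟩ : Var g) * pderiv (some ⟨p.1, p.2⟩ : Var g) P
      = -(X (some w : Var g) * (-(pderiv (some p : Var g) P))) := by
    rw [mul_neg, neg_neg]
  rw [e2, sc_neg_Xmul, sc_neg_pderiv]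

/-- total version of the variable at a pair -/
noncomputable def vv (a b : ℕ) : Var g := if h : Valid g (a, b) then some ⟨(a, b), h⟩ else none

lemma vv_eq (a b : ℕ) (h : Valid g (a, b)) : vv g a b = some ⟨(a, b), h⟩ := dif_pos h

lemma step_merge {P : RelRing g} (hP : KK g hg P) (a b c d : ℕ) (hp : Valid g (a, b))
    (hq : Valid g (c, d)) (hw : Valid g (a + c - 2, b + d)) (hac : 2 ≤ a + c)
    (e : Var g →₀ ℕ) (he : e none = 0) :
    (1 / 2 : ℚ) * ((mergeCoeff a c : ℚ) * (((e (vv g a b) : ℚ) + 1) *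
        (((e + Finsupp.single (vv g a b) 1 : Var g →₀ ℕ) (vv g c d) : ℚ) + 1))
        * sc g (e + Finsupp.single (vv g a b) 1 + Finsupp.single (vv g c d) 1) P)
      ≤ sc g (e + Finsupp.single (vv g (a + c - 2) (b + d)) 1) (F g P) := by
  rw [vv_eq g a b hp, vv_eq g c d hq, vv_eq g _ _ hw]
  have hd' : (e + Finsupp.single (some ⟨(a + c - 2, b + d), hw⟩ : Var g) 1 : Var g →₀ ℕ) none
      = 0 := by simp [he]
  have h1 := sc_F_ge_T g hg hP _ hd' (a, b) (c, d) (valid_mem g _ hp) (valid_mem g _ hq)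
  have h2 := sc_T_merge g P ⟨(a, b), hp⟩ ⟨(c, d), hq⟩ ⟨(a + c - 2, b + d), hw⟩
    (by simp only; omega) (by simp only; omega) e he
  simp only at h2
  rw [h2] at h1
  exact h1

lemma step_lower {P : RelRing g} (hP : KK g hg P) (a b : ℕ) (hp : Valid g (a, b))
    (hw : Valid g (a - 2, b)) (ha : 2 ≤ a)
    (e : Var g →₀ ℕ) (he : e none = 0) :
    ((e (vv g a b) : ℚ) + 1) * sc g (e + Finsupp.single (vv g a b) 1) P
      ≤ sc g (e + Finsupp.single (vv g (a - 2) b) 1) (F g P) := by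
  rw [vv_eq g a b hp, vv_eq g _ _ hw]
  have hd' : (e + Finsupp.single (some ⟨(a - 2, b), hw⟩ : Var g) 1 : Var g →₀ ℕ) none
      = 0 := by simp [he]
  have h1 := sc_F_ge_U g hg hP _ hd' (a, b) (valid_mem g _ hp)
  have h2 := sc_U_lower g P ⟨(a, b), hp⟩ ⟨(a - 2, b), hw⟩
    (by simp only; omega) rfl e
  simp only at h2
  rw [h2] at h1
  exact h1

end cone

section path
variable (hg : 1 ≤ g) (i : ℕ) (hi1 : g < 3 * i) (hi2 : i < g)
include hi1 hi2

lemma valid31 : Valid g (3, 1) := by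
  refine ⟨by simp, by simp only; omega, by decide, by simp⟩

lemma validA (s : ℕ) (hs : s + 1 ≤ 2 * i) : Valid g (s + 3, s + 1) := by
  refine ⟨by simp, by simp only; omega, ⟨s + 2, by simp only; omega⟩, by simp⟩

lemma validB (t : ℕ) (ht : t ≤ i + 1) : Valid g (2 * i + 2 - 2 * t, 2 * i) := by
  refine ⟨by simp only; omega, by simp only; omega, ⟨2 * i + 1 - t, by simp only; omega⟩, ?_⟩
  intro h
  have := congrArg Prod.snd h
  simp only at this
  omega

omit hi1 hi2 in
/-- the exponent vectors of the merging phase -/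
noncomputable def Aexp (s : ℕ) : Var g →₀ ℕ :=
  Finsupp.single (vv g 3 1) (2 * i - 1 - s) + Finsupp.single (vv g (s + 3) (s + 1)) 1

omit hi1 hi2 in
/-- the starting monomial `x_{3,1}^{2i}` -/
noncomputable def M0 : RelRing g := monomial (Finsupp.single (vv g 3 1) (2 * i)) 1

lemma vv31_ne_none : vv g 3 1 ≠ none := by
  rw [vv_eq g 3 1 (valid31 g i hi1 hi2)]; simp

lemma vv31_ne_v20 : vv g 3 1 ≠ v20 g hg := by
  rw [vv_eq g 3 1 (valid31 g i hi1 hi2)]
  intro h
  have := congrArg Subtype.val (Option.some.inj h)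
  simp at this

lemma KK_M0 : KK g hg (M0 g i) := by
  classical
  intro d hd
  unfold M0
  refine ⟨?_, fun h => ?_⟩
  · unfold sc
    rw [coeff_monomial]
    split_ifs with h
    · subst h
      rw [Finsupp.degree_single, pow_mul]
      norm_num
    · simp
  · rw [coeff_monomial, if_neg]
    intro h'
    apply h
    rw [← h', Finsupp.single_eq_of_ne' (vv31_ne_v20 g hg i hi1 hi2)]

lemma claimA (s : ℕ) (hs : s + 1 ≤ 2 * i) : 0 < sc g (Aexp g i s) ((F g)^[s] (M0 g i)) := by
  classical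
  have hg : 1 ≤ g := by omega
  induction s with
  | zero =>
    have h1 : Aexp g i 0 = Finsupp.single (vv g 3 1) (2 * i) := by
      unfold Aexp
      rw [← Finsupp.single_add]
      congr 1
      omega
    rw [h1, Function.iterate_zero, id_eq]
    unfold sc M0
    rw [coeff_monomial, if_pos rfl, Finsupp.degree_single, pow_mul]
    norm_num
  | succ s ih =>
    have ih' := ih (by omega)
    rw [Function.iterate_succ_apply']
    have hK := KK_iter_F g hg (KK_M0 g hg i hi1 hi2) s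
    have hstep := step_merge g hg hK 3 1 (s + 3) (s + 1) (valid31 g i hi1 hi2)
      (validA g i hi1 hi2 s (by omega))
      (by
        have := validA g i hi1 hi2 (s + 1) hs
        have e1 : 3 + (s + 3) - 2 = s + 1 + 3 := by omega
        have e2 : 1 + (s + 1) = s + 1 + 1 := by omega
        rw [e1, e2]; exact this)
      (by omega) (Finsupp.single (vv g 3 1) (2 * i - 2 - s))
      (by rw [Finsupp.single_eq_of_ne' (vv31_ne_none g i hi1 hi2)])
    have e1 : 3 + (s + 3) - 2 = s + 1 + 3 := by omega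
    have e2 : 1 + (s + 1) = s + 1 + 1 := by omega
    have e3 : Finsupp.single (vv g 3 1) (2 * i - 2 - s) + Finsupp.single (vv g 3 1) 1
        = Finsupp.single (vv g 3 1) (2 * i - 1 - s) := by
      rw [← Finsupp.single_add]; congr 1; omega
    have e4 : 2 * i - 2 - s = 2 * i - 1 - (s + 1) := by omega
    rw [e1, e2, e3] at hstep
    have hm : (0 : ℚ) < (mergeCoeff 3 (s + 3) : ℚ) := by
      have : 0 < mergeCoeff 3 (s + 3) := by
        unfold mergeCoeff
        rw [if_neg (by omega)]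
        exact Nat.choose_pos (by omega)
      exact_mod_cast this
    have hA : Aexp g i s = Finsupp.single (vv g 3 1) (2 * i - 1 - s)
        + Finsupp.single (vv g (s + 3) (s + 1)) 1 := rfl
    have hA' : Aexp g i (s + 1) = Finsupp.single (vv g 3 1) (2 * i - 2 - s)
        + Finsupp.single (vv g (s + 1 + 3) (s + 1 + 1)) 1 := by
      unfold Aexp; rw [e4]
    rw [← hA, ← hA'] at hstep
    refine lt_of_lt_of_le ?_ hstep
    positivity

lemma claimB (t : ℕ) (ht : t ≤ i + 1) :
    0 < sc g (Finsupp.single (vv g (2 * i + 2 - 2 * t) (2 * i)) 1)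
      ((F g)^[2 * i - 1 + t] (M0 g i)) := by
  have hg : 1 ≤ g := by omega
  induction t with
  | zero =>
    have h := claimA g i hi1 hi2 (2 * i - 1) (by omega)
    have h1 : Aexp g i (2 * i - 1) = Finsupp.single (vv g (2 * i + 2 - 2 * 0) (2 * i)) 1 := by
      unfold Aexp
      have e1 : 2 * i - 1 - (2 * i - 1) = 0 := by omega
      have e2 : 2 * i - 1 + 3 = 2 * i + 2 - 2 * 0 := by omega
      have e3 : 2 * i - 1 + 1 = 2 * i := by omega
      rw [e1, e2, e3, Finsupp.single_zero, zero_add]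
    rw [h1] at h
    exact h
  | succ t ih =>
    have ih' := ih (by omega)
    have e0 : 2 * i - 1 + (t + 1) = (2 * i - 1 + t) + 1 := by omega
    rw [e0, Function.iterate_succ_apply']
    have hK := KK_iter_F g hg (KK_M0 g hg i hi1 hi2) (2 * i - 1 + t)
    have hstep := step_lower g hg hK (2 * i + 2 - 2 * t) (2 * i) (validB g i hi1 hi2 t (by omega))
      (by
        have := validB g i hi1 hi2 (t + 1) ht
        have e1 : 2 * i + 2 - 2 * t - 2 = 2 * i + 2 - 2 * (t + 1) := by omega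
        rw [e1]; exact this)
      (by omega) 0 rfl
    have e1 : 2 * i + 2 - 2 * t - 2 = 2 * i + 2 - 2 * (t + 1) := by omega
    rw [e1, zero_add, zero_add] at hstep
    refine lt_of_lt_of_le ?_ hstep
    have : (0 : ℚ) ≤ ((0 : Var g →₀ ℕ) (vv g (2 * i + 2 - 2 * t) (2 * i)) : ℚ) := by simp
    positivity

lemma final_pos :
    0 < sc g (Finsupp.single (vv g 0 (2 * i)) 1) ((F g)^[3 * i] (M0 g i)) := by
  have h := claimB g i hi1 hi2 (i + 1) le_rfl
  have e1 : 2 * i + 2 - 2 * (i + 1) = 0 := by omega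
  have e2 : 2 * i - 1 + (i + 1) = 3 * i := by omega
  rw [e1, e2] at h
  exact h

lemma final_coeff_ne :
    coeff (Finsupp.single (vv g 0 (2 * i)) 1) ((F g)^[3 * i] (M0 g i)) ≠ 0 := by
  intro h
  have := final_pos g i hi1 hi2
  unfold sc at this
  rw [h, mul_zero] at this
  exact lt_irrefl _ this

end path

end Groth.Agent.Lib.Helper1.TautPos
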