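import Groth.Agent.Lib.Helper1.FactorSplit
import Groth.Agent.Lib.Helper1.PiTensorAlg
import Mathlib.RingTheory.SimpleRing.Congr
import Mathlib.LinearAlgebra.PiTensorProduct.Finite

/-!
# Tensor powers of central simple algebras and factor sets
-/

set_option autoImplicit false
universe u u' v w
open scoped TensorProduct Kronecker

namespace Groth.Agent.Lib.Helper1.Factor

open PiAlg

section basic

variable (k : Type u) [Field k] (A : Type v) [Ring A] [Algebra k A]

theorem isSimpleRing_tpow [Algebra.IsCentral k A] [IsSimpleRing A] (m : ℕ) :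
    IsSimpleRing (⨂[k] _ : Fin m, A) := by
  induction m with
  | zero =>
    exact IsSimpleRing.of_ringEquiv (tpowZero k A).symm.toRingEquiv inferInstance
  | succ m ih =>
    have := CSA.isSimpleRing_tensor k (⨂[k] _ : Fin m, A) A
    exact IsSimpleRing.of_ringEquiv (tpowSucc k A m).symm.toRingEquiv this

theorem finrank_tpow [FiniteDimensional k A] (m : ℕ) :
    Module.finrank k (⨂[k] _ : Fin m, A) = Module.finrank k A ^ m := by
  induction m with
  | zero =>
    rw [(tpowZero k A).toLinearEquiv.finrank_eq, Module.finrank_self, pow_zero]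
  | succ m ih =>
    rw [(tpowSucc k A m).toLinearEquiv.finrank_eq, Module.finrank_tensorProduct, ih, pow_succ]

end basic

section realizes

variable {k : Type u} [Field k] {K : Type u'} [Field K] [Algebra k K]
  {A : Type v} [Ring A] [Algebra k A] {a : (K ≃ₐ[k] K) → (K ≃ₐ[k] K) → Kˣ}

/-- the base field realizes the trivial factor set -/
theorem realizes_one_self : Realizes (k := k) (K := K) k 1 := by
  refine ⟨Unit, inferInstance, inferInstance, Algebra.ofId k (Matrix Unit Unit K), fun _ => 1,
    ?_, ?_, ?_, ?_⟩
  · simp
  · intro σ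
    simp
  · intro σ b
    rw [one_mul, mul_one, Algebra.ofId_apply, AlgEquiv.commutes]
  · intro σ τ
    simp

/-- matrix algebras over the base field realize the trivial factor set -/
theorem realizes_one_matrix (n : ℕ) :
    Realizes (k := k) (K := K) (Matrix (Fin n) (Fin n) k) 1 := by
  refine ⟨Fin n, inferInstance, inferInstance, AlgHom.mapMatrix (Algebra.ofId k K),
    fun _ => 1, ?_, ?_, ?_, ?_⟩
  · rw [Module.finrank_matrix]
    simp [pow_two]
  · intro σ
    simp
  · intro σ M
    rw [one_mul, mul_one]
    ext i j
    simp [AlgEquiv.mapMatrix_apply, AlgHom.mapMatrix_apply, Algebra.ofId_apply]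
  · intro σ τ
    simp

theorem Realizes.tpow (h : Realizes A a) (m : ℕ) :
    Realizes (⨂[k] _ : Fin m, A) (a ^ m) := by
  induction m with
  | zero =>
    rw [pow_zero]
    exact realizes_one_self.of_algEquiv (tpowZero k A).symm
  | succ m ih =>
    rw [pow_succ]
    exact (ih.tensor h).of_algEquiv (tpowSucc k A m).symm

/-- matrix algebras over `D` realize the factor sets of `D` -/
theorem Realizes.matrix {D : Type v} [Ring D] [Algebra k D] (h : Realizes D a) (n : ℕ) :
    Realizes (Matrix (Fin n) (Fin n) D) a := by
  have h1 := h.tensor (realizes_one_matrix (k := k) (K := K) n)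
  rw [mul_one] at h1
  exact h1.of_algEquiv (matrixEquivTensor (Fin n) k D).symm

end realizes

end Groth.Agent.Lib.Helper1.Factor
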