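import Groth.Agent.Lib.Helper1.Tgt13450d

/-!
# The ideal `x_0 (x_0, …, x_{n-1}) + x_1 (x_1, …, x_{n-2})` (helper1, for S13448)
-/

set_option autoImplicit false
set_option linter.unusedSectionVars false
set_option linter.unusedVariables false
set_option linter.unusedSimpArgs false

universe u

namespace Groth.Agent.Lib.Helper1.Tgt13448

open W4c1hilbpn MvPolynomial Groth.Agent.Lib.Helper44.TgtComp Groth.Agent.Lib.Helper1.TgtGen

variable (k : Type u) [Field k] (n : ℕ)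

/-- generator exponents `e_c + e_j` -/
noncomputable def gen {n : ℕ} (c j : Fin (n + 1)) : Fin (n + 1) →₀ ℕ :=
  Finsupp.single c 1 + Finsupp.single j 1

/-- the admissible index pairs: `x_0 x_j` (`j < n`) and `x_1 x_j` (`1 ≤ j ≤ n - 2`) -/
def IsGen (c j : ℕ) : Prop := (c = 0 ∧ j < n) ∨ (c = 1 ∧ 1 ≤ j ∧ j + 2 ≤ n)

/-- the generating set -/
def G : Set (Fin (n + 1) →₀ ℕ) :=
  {g | ∃ c j : Fin (n + 1), IsGen n c.val j.val ∧ g = gen c j}

/-- the ideal of S13448 -/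
noncomputable def II : Ideal (MvPolynomial (Fin (n + 1)) k) :=
  Ideal.span ({f : MvPolynomial (Fin (n + 1)) k | ∃ i : Fin (n + 1), i.val + 1 ≤ n ∧
    f = MvPolynomial.X 0 * MvPolynomial.X i} ∪
    {f : MvPolynomial (Fin (n + 1)) k | ∃ i : Fin (n + 1), 1 ≤ i.val ∧ i.val ≤ n - 2 ∧
      f = MvPolynomial.X 1 * MvPolynomial.X i})

variable {n}

theorem one_val (hn : 4 ≤ n) : ((1 : Fin (n + 1)).val) = 1 :=
  Tgt13450.one_val (by omega)

theorem II_eq (hn : 4 ≤ n) :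
    II k n = Ideal.span ((fun s => monomial s (1 : k)) '' G n) := by
  unfold II
  congr 1
  ext f
  simp only [Set.mem_union, Set.mem_ofPred_eq, Set.mem_image, G]
  constructor
  · rintro (⟨i, hi, rfl⟩ | ⟨i, hi1, hi2, rfl⟩)
    · refine ⟨gen 0 i, ⟨0, i, Or.inl ⟨rfl, by omega⟩, rfl⟩, ?_⟩
      unfold gen
      simp only [X, monomial_mul, one_mul]
    · refine ⟨gen 1 i, ⟨1, i, Or.inr ⟨one_val hn, hi1, by omega⟩, rfl⟩, ?_⟩
      unfold gen
      simp only [X, monomial_mul, one_mul]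
  · rintro ⟨_, ⟨c, j, hcj, rfl⟩, rfl⟩
    unfold gen
    rcases hcj with ⟨hc, hj⟩ | ⟨hc, hj1, hj2⟩
    · left
      have : c = 0 := Fin.ext hc
      subst this
      refine ⟨j, by omega, ?_⟩
      simp only [X, monomial_mul, one_mul]
    · right
      have : c = 1 := Fin.ext (by rw [hc, one_val hn])
      subst this
      refine ⟨j, hj1, by omega, ?_⟩
      simp only [X, monomial_mul, one_mul]

theorem isMonomial (hn : 4 ≤ n) : IsMonomial (II k n) :=
  (span_monomial_spec (G n) _ (II_eq k hn)).1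

theorem mem_exps_iff_gen (hn : 4 ≤ n) (β : Fin (n + 1) →₀ ℕ) :
    β ∈ exps (II k n) ↔ ∃ g ∈ G n, g ≤ β :=
  (span_monomial_spec (G n) _ (II_eq k hn)).2 β

variable (n) in
/-- membership predicate on integer vectors -/
def InI (v : Fin (n + 1) → ℤ) : Prop :=
  2 ≤ v 0 ∨ (1 ≤ v 0 ∧ ∃ t : Fin (n + 1), 1 ≤ t.val ∧ t.val + 1 ≤ n ∧ 1 ≤ v t) ∨
  2 ≤ v 1 ∨ (1 ≤ v 1 ∧ ∃ t : Fin (n + 1), 2 ≤ t.val ∧ t.val + 2 ≤ n ∧ 1 ≤ v t)

theorem gen_apply (c j t : Fin (n + 1)) :
    gen c j t = (if t.val = c.val then 1 else 0) + (if t.val = j.val then 1 else 0) := by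
  unfold gen
  simp only [Finsupp.add_apply, Finsupp.single_apply, Fin.ext_iff, eq_comm]

variable (n) in
/-- integer vector `e_c + e_j` -/
def Gz (c j : ℕ) : Fin (n + 1) → ℤ := fun t =>
  (if t.val = c then 1 else 0) + (if t.val = j then 1 else 0)

theorem ofN_gen (c j : Fin (n + 1)) : ofN (gen c j) = Gz n c.val j.val := by
  funext t
  rw [ofN_apply, gen_apply]
  unfold Gz
  push_cast
  rfl

theorem le_iff_Gz (c j : Fin (n + 1)) (β : Fin (n + 1) →₀ ℕ) :
    gen c j ≤ β ↔ ∀ t, Gz n c.val j.val t ≤ (β t : ℤ) := by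
  rw [← ofN_gen]
  constructor
  · intro h t
    rw [ofN_apply]
    exact_mod_cast h t
  · intro h t
    have := h t
    rw [ofN_apply] at this
    exact_mod_cast this

theorem mem_exps_iff (hn : 4 ≤ n) (β : Fin (n + 1) →₀ ℕ) :
    β ∈ exps (II k n) ↔ InI n (ofN β) := by
  rw [mem_exps_iff_gen k hn]
  have h1 := one_val hn
  have hz : ((0 : Fin (n + 1)) : ℕ) = 0 := rfl
  constructor
  · rintro ⟨_, ⟨c, j, hcj, rfl⟩, hle⟩
    rw [le_iff_Gz] at hle
    have hc := hle c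
    have hj := hle j
    simp only [Gz, if_true] at hc hj
    unfold InI
    simp only [ofN_apply]
    rcases hcj with ⟨hc0, hjn⟩ | ⟨hc1, hj1, hj2⟩
    · have hc' : c = 0 := Fin.ext hc0
      subst hc'
      by_cases hj0 : j.val = 0
      · left
        omega
      · right; left
        refine ⟨?_, j, by omega, by omega, ?_⟩
        · omega
        · omega
    · have hc' : c = 1 := Fin.ext (by rw [hc1, h1])
      subst hc'
      by_cases hj0 : j.val = 1
      · right; right; left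
        omega
      · right; right; right
        refine ⟨?_, j, by omega, by omega, ?_⟩
        · omega
        · omega
  · unfold InI
    simp only [ofN_apply]
    rintro (h | ⟨h0, t, ht1, ht2, ht⟩ | h | ⟨h0, t, ht1, ht2, ht⟩)
    · refine ⟨gen 0 0, ⟨0, 0, Or.inl ⟨rfl, by rw [hz]; omega⟩, rfl⟩, ?_⟩
      rw [le_iff_Gz]
      intro s
      simp only [Gz]
      rcases eq_or_ne s 0 with rfl | hs
      · omega
      · have := Fin.val_ne_of_ne hs
        omega
    · refine ⟨gen 0 t, ⟨0, t, Or.inl ⟨rfl, by omega⟩, rfl⟩, ?_⟩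
      rw [le_iff_Gz]
      intro s
      simp only [Gz]
      rcases eq_or_ne s 0 with rfl | hs
      · omega
      · have := Fin.val_ne_of_ne hs
        rcases eq_or_ne s t with rfl | hst
        · omega
        · have := Fin.val_ne_of_ne hst
          omega
    · refine ⟨gen 1 1, ⟨1, 1, Or.inr ⟨h1, by omega, by omega⟩, rfl⟩, ?_⟩
      rw [le_iff_Gz]
      intro s
      simp only [Gz]
      rcases eq_or_ne s 1 with rfl | hs
      · omega
      · have := Fin.val_ne_of_ne hs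
        omega
    · refine ⟨gen 1 t, ⟨1, t, Or.inr ⟨h1, by omega, by omega⟩, rfl⟩, ?_⟩
      rw [le_iff_Gz]
      intro s
      simp only [Gz]
      rcases eq_or_ne s 1 with rfl | hs
      · omega
      · have := Fin.val_ne_of_ne hs
        rcases eq_or_ne s t with rfl | hst
        · omega
        · have := Fin.val_ne_of_ne hst
          omega

theorem toN_mem_exps_iff (hn : 4 ≤ n) {v : Fin (n + 1) → ℤ} (hv : Nonneg v) :
    toN v ∈ exps (II k n) ↔ InI n v := by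
  rw [mem_exps_iff k hn, ofN_toN hv]

theorem gen_mem_G {c j : Fin (n + 1)} (h : IsGen n c.val j.val) : gen c j ∈ G n :=
  ⟨c, j, h, rfl⟩

theorem gen_mem_exps (hn : 4 ≤ n) {c j : Fin (n + 1)} (h : IsGen n c.val j.val) :
    gen c j ∈ exps (II k n) := by
  rw [mem_exps_iff_gen k hn]
  exact ⟨_, gen_mem_G h, le_rfl⟩

theorem hG_gen (hn : 4 ≤ n) (β : Fin (n + 1) →₀ ℕ) (hβ : β ∈ exps (II k n)) :
    ∃ g ∈ G n, g ∈ exps (II k n) ∧ g ≤ β := by
  rw [mem_exps_iff_gen k hn] at hβ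
  obtain ⟨g, hg, hle⟩ := hβ
  obtain ⟨c, j, hcj, rfl⟩ := hg
  exact ⟨_, gen_mem_G hcj, gen_mem_exps k hn hcj, hle⟩

/-- `cf` vanishes at invalid points -/
theorem cf_eq_zero_of_invalid (hn : 4 ≤ n) {α : Fin (n + 1) → ℤ} (φ : Tgt (II k n))
    {γ : Fin (n + 1) → ℤ} (h : ¬ (Nonneg γ ∧ ¬ InI n γ)) : cf (II k n) α φ γ = 0 := by
  unfold cf
  rw [dif_neg]
  rintro ⟨_, h2, h3⟩
  apply h
  refine ⟨h2, ?_⟩
  rwa [toN_mem_exps_iff k hn h2] at h3

theorem sup_coord (c j c' j' t : Fin (n + 1)) :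
    ofN (gen c j ⊔ gen c' j') t = max (Gz n c.val j.val t) (Gz n c'.val j'.val t) := by
  rw [← ofN_gen, ← ofN_gen]
  simp only [ofN_apply, Finsupp.sup_apply, Nat.cast_max]

/-- edge lemma in integer form -/
theorem cf_edge_z (hn : 4 ≤ n) {α : Fin (n + 1) → ℤ} {φ : Tgt (II k n)}
    (hφ : φ ∈ tPiece (II k n) α) {c j c' j' : Fin (n + 1)} (hg : IsGen n c.val j.val)
    (hg' : IsGen n c'.val j'.val)
    (hnn : Nonneg (ofN (gen c j ⊔ gen c' j') + α))
    (hout : ¬ InI n (ofN (gen c j ⊔ gen c' j') + α)) :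
    cf (II k n) α φ (Gz n c.val j.val + α) = cf (II k n) α φ (Gz n c'.val j'.val + α) := by
  rw [← ofN_gen, ← ofN_gen]
  refine cf_edge (isMonomial k hn) hφ (gen_mem_exps k hn hg) (gen_mem_exps k hn hg')
    le_sup_left le_sup_right hnn ?_
  rw [toN_mem_exps_iff k hn hnn]; exact hout

/-- unfolding `¬ InI` -/
theorem not_InI_iff (v : Fin (n + 1) → ℤ) :
    ¬ InI n v ↔ v 0 < 2 ∧ (1 ≤ v 0 → ∀ t : Fin (n + 1), 1 ≤ t.val → t.val + 1 ≤ n → v t < 1) ∧
      v 1 < 2 ∧ (1 ≤ v 1 → ∀ t : Fin (n + 1), 2 ≤ t.val → t.val + 2 ≤ n → v t < 1) := by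
  unfold InI
  constructor
  · intro h
    refine ⟨?_, ?_, ?_, ?_⟩
    · by_contra h'; exact h (Or.inl (by omega))
    · intro h0 t ht1 ht2
      by_contra h'
      exact h (Or.inr (Or.inl ⟨h0, t, ht1, ht2, by omega⟩))
    · by_contra h'; exact h (Or.inr (Or.inr (Or.inl (by omega))))
    · intro h0 t ht1 ht2
      by_contra h'
      exact h (Or.inr (Or.inr (Or.inr ⟨h0, t, ht1, ht2, by omega⟩)))
  · rintro ⟨h1, h2, h3, h4⟩ (h | ⟨h0, t, ht1, ht2, ht⟩ | h | ⟨h0, t, ht1, ht2, ht⟩)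
    · omega
    · have := h2 h0 t ht1 ht2; omega
    · omega
    · have := h4 h0 t ht1 ht2; omega

theorem InI_mono {v w : Fin (n + 1) → ℤ} (h : ∀ t, v t ≤ w t) (hv : InI n v) : InI n w := by
  rcases hv with h1 | ⟨h0, t, ht1, ht2, ht⟩ | h1 | ⟨h0, t, ht1, ht2, ht⟩
  · left; have := h 0; omega
  · right; left
    refine ⟨by have := h 0; omega, t, ht1, ht2, by have := h t; omega⟩
  · right; right; left; have := h 1; omega
  · right; right; right
    refine ⟨by have := h 1; omega, t, ht1, ht2, by have := h t; omega⟩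

/-! ### the validity predicate -/

variable (n) in
/-- validity predicate: `ε1 = -1` is a wildcard -/
def V (α : Fin (n + 1) → ℤ) (ε0 ε1 : ℤ) (g : Fin (n + 1) →₀ ℕ) : Prop :=
  Nonneg (ofN g + α) ∧ ¬ InI n (ofN g + α) ∧ (ofN g + α) 0 = ε0 ∧
    (ε1 = -1 ∨ (ofN g + α) 1 = ε1)

open Classical in
variable (n) in
/-- indicator of validity -/
noncomputable def cV (α : Fin (n + 1) → ℤ) (ε0 ε1 : ℤ) (g : Fin (n + 1) →₀ ℕ) : k :=
  if V n α ε0 ε1 g then 1 else 0

theorem gcompat_of_closed (hn : 4 ≤ n) (α : Fin (n + 1) → ℤ) (ε0 ε1 : ℤ)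
    (hcl : ∀ c j c' j' : Fin (n + 1), IsGen n c.val j.val → IsGen n c'.val j'.val →
      Nonneg (ofN (gen c j ⊔ gen c' j') + α) →
      ¬ InI n (ofN (gen c j ⊔ gen c' j') + α) → V n α ε0 ε1 (gen c j) →
      V n α ε0 ε1 (gen c' j')) :
    GCompat (II k n) α (G n) (cV k n α ε0 ε1) where
  sub := by
    rintro _ ⟨c, j, hcj, rfl⟩
    exact gen_mem_exps k hn hcj
  gen := by
    intro β hβ
    rw [mem_exps_iff_gen k hn] at hβ
    exact hβ
  c1 := by
    rintro _ ⟨c, j, hcj, rfl⟩ hneg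
    unfold cV
    rw [if_neg]
    exact fun h => hneg h.1
  c2 := by
    rintro _ ⟨c, j, hcj, rfl⟩ _ ⟨c', j', hcj', rfl⟩ hnn hout
    rw [toN_mem_exps_iff k hn hnn] at hout
    have h1 := hcl c j c' j' hcj hcj' hnn hout
    have h2 := hcl c' j' c j hcj' hcj (by rwa [sup_comm]) (by rwa [sup_comm])
    unfold cV
    by_cases hv : V n α ε0 ε1 (gen c j)
    · rw [if_pos hv, if_pos (h1 hv)]
    · rw [if_neg hv, if_neg (fun h => hv (h2 h))]
  c3 := by
    rintro _ ⟨c, j, hcj, rfl⟩ hnn hin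
    rw [toN_mem_exps_iff k hn hnn] at hin
    unfold cV
    rw [if_neg]
    exact fun h => h.2.1 hin

theorem V_of_sup {α : Fin (n + 1) → ℤ} {ε0 ε1 : ℤ} (c j c' j' : Fin (n + 1))
    (hout : ¬ InI n (ofN (gen c j ⊔ gen c' j') + α))
    (hnn' : Nonneg (Gz n c'.val j'.val + α)) (h0 : (Gz n c'.val j'.val + α) 0 = ε0)
    (h1 : ε1 = -1 ∨ (Gz n c'.val j'.val + α) 1 = ε1) : V n α ε0 ε1 (gen c' j') := by
  unfold V
  rw [ofN_gen]
  refine ⟨hnn', fun h => hout (InI_mono ?_ h), h0, h1⟩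
  intro t
  simp only [Pi.add_apply, sup_coord]
  have := le_max_right (Gz n c.val j.val t) (Gz n c'.val j'.val t)
  omega

/-- coordinates of the edge vector -/
theorem W_eq (c j c' j' t : Fin (n + 1)) (α : Fin (n + 1) → ℤ) :
    (ofN (gen c j ⊔ gen c' j') + α) t =
      (Gz n c.val j.val + α) t +
        (max (Gz n c.val j.val t) (Gz n c'.val j'.val t) - Gz n c.val j.val t) := by
  simp only [Pi.add_apply, sup_coord]
  ring

theorem nonneg_W {c j : Fin (n + 1)} {α : Fin (n + 1) → ℤ}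
    (hnn : Nonneg (Gz n c.val j.val + α)) (c' j' : Fin (n + 1)) :
    Nonneg (ofN (gen c j ⊔ gen c' j') + α) := by
  intro t
  rw [W_eq]
  have := hnn t
  have := le_max_left (Gz n c.val j.val t) (Gz n c'.val j'.val t)
  omega

end Groth.Agent.Lib.Helper1.Tgt13448
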