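import Groth.Agent.Lib.Helper1.Tgt13448

/-!
# S13448: the families (helper1)
-/

set_option autoImplicit false
set_option linter.unusedSectionVars false
set_option linter.unusedVariables false
set_option linter.unusedSimpArgs false

universe u

namespace Groth.Agent.Lib.Helper1.Tgt13448

open W4c1hilbpn MvPolynomial Groth.Agent.Lib.Helper44.TgtComp Groth.Agent.Lib.Helper1.TgtGen

variable (k : Type u) [Field k] {n : ℕ}

variable (n) in
/-- `e_a - e_c` -/
def α2 (a c : ℕ) : Fin (n + 1) → ℤ := fun t =>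
  (if t.val = a then 1 else 0) - (if t.val = c then 1 else 0)

variable (n) in
/-- `e_a + e_b - e_c - e_j` -/
def α4 (a b c j : ℕ) : Fin (n + 1) → ℤ := fun t =>
  (if t.val = a then 1 else 0) + (if t.val = b then 1 else 0) - (if t.val = c then 1 else 0) -
    (if t.val = j then 1 else 0)

theorem out_facts {W : Fin (n + 1) → ℤ} (hout : ¬ InI n W) :
    W 0 < 2 ∧ W 1 < 2 ∧
      (∀ t : Fin (n + 1), 1 ≤ W 0 → 1 ≤ t.val → t.val + 1 ≤ n → W t < 1) ∧
      (∀ t : Fin (n + 1), 1 ≤ W 1 → 2 ≤ t.val → t.val + 2 ≤ n → W t < 1) := by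
  rw [not_InI_iff] at hout
  obtain ⟨h1, h2, h3, h4⟩ := hout
  exact ⟨h1, h3, fun t h => h2 h t, fun t h => h4 h t⟩

theorem fin_eq {a b : Fin (n + 1)} (h : a.val = b.val) : a = b := Fin.ext h

/-! ### family F1 : `α = e_n - e_i`, `A_i ↦ x_0 x_n` -/

theorem closed_F1 (hn : 4 ≤ n) {i : ℕ} (hi : i < n) (c j c' j' : Fin (n + 1))
    (hg : IsGen n c.val j.val) (hg' : IsGen n c'.val j'.val)
    (hnn : Nonneg (ofN (gen c j ⊔ gen c' j') + α2 n n i))
    (hout : ¬ InI n (ofN (gen c j ⊔ gen c' j') + α2 n n i))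
    (hV : V n (α2 n n i) 1 (-1) (gen c j)) : V n (α2 n n i) 1 (-1) (gen c' j') := by
  have h1 := one_val hn
  have hz : ((0 : Fin (n + 1)) : ℕ) = 0 := rfl
  obtain ⟨vnn, vout, v0, _⟩ := hV
  rw [ofN_gen] at vnn vout v0
  have vi := vnn ⟨i, by omega⟩
  simp only [Pi.add_apply, Gz, α2, if_true, if_false, hz] at v0 vi
  unfold IsGen at hg hg'
  have hc : c.val = 0 := by omega
  have hj : j.val = i := by omega
  by_cases hsame : c'.val = 0 ∧ j'.val = i
  · have e1 : c' = c := fin_eq (by omega)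
    have e2 : j' = j := fin_eq (by omega)
    rw [e1, e2, V, ofN_gen]
    exact ⟨vnn, vout, by simp only [Pi.add_apply, Gz, α2, if_true, if_false, hz]; omega, Or.inl rfl⟩
  · exfalso
    obtain ⟨o0, o1, o2, o3⟩ := out_facts hout
    have a1 := o2 1
    have a2 := o2 j'
    simp only [Pi.add_apply, sup_coord, Gz, α2, if_true, if_false, hz, h1, hc, hj] at o0 a1 a2
    omega


/-! ### family F2 : `α = e_b - e_0`, `A_j ↦ x_j x_b` -/

theorem closed_F2 (hn : 4 ≤ n) {b : ℕ} (hb1 : 1 ≤ b) (hb2 : b ≤ n) (c j c' j' : Fin (n + 1))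
    (hg : IsGen n c.val j.val) (hg' : IsGen n c'.val j'.val)
    (hnn : Nonneg (ofN (gen c j ⊔ gen c' j') + α2 n b 0))
    (hout : ¬ InI n (ofN (gen c j ⊔ gen c' j') + α2 n b 0))
    (hV : V n (α2 n b 0) 0 (-1) (gen c j)) : V n (α2 n b 0) 0 (-1) (gen c' j') := by
  have h1 := one_val hn
  have hz : ((0 : Fin (n + 1)) : ℕ) = 0 := rfl
  obtain ⟨vnn, vout, v0, _⟩ := hV
  rw [ofN_gen] at vnn vout v0
  simp only [Pi.add_apply, Gz, α2, if_true, if_false, hz] at v0
  unfold IsGen at hg hg'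
  have hc : c.val = 0 := by omega
  have hj : 1 ≤ j.val := by omega
  by_cases hsame : c'.val = 0 ∧ 1 ≤ j'.val
  · apply V_of_sup c j c' j' hout
    · intro t
      simp only [Pi.add_apply, Gz, α2, if_true, if_false, hz]
      omega
    · simp only [Pi.add_apply, Gz, α2, if_true, if_false, hz]
      omega
    · exact Or.inl rfl
  · exfalso
    obtain ⟨o0, o1, o2, o3⟩ := out_facts hout
    have a1 := o2 j
    have a2 := o3 j'
    simp only [Pi.add_apply, sup_coord, Gz, α2, if_true, if_false, hz, h1, hc] at o0 o1 a1 a2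
    omega

/-! ### family F3 : `α = e_1 + e_n - e_0 - e_{n-1}`, `A_{n-1} ↦ x_1 x_n` -/

theorem closed_F3 (hn : 4 ≤ n) (c j c' j' : Fin (n + 1))
    (hg : IsGen n c.val j.val) (hg' : IsGen n c'.val j'.val)
    (hnn : Nonneg (ofN (gen c j ⊔ gen c' j') + α4 n 1 n 0 (n - 1)))
    (hout : ¬ InI n (ofN (gen c j ⊔ gen c' j') + α4 n 1 n 0 (n - 1)))
    (hV : V n (α4 n 1 n 0 (n - 1)) 0 (-1) (gen c j)) :
    V n (α4 n 1 n 0 (n - 1)) 0 (-1) (gen c' j') := by
  have h1 := one_val hn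
  have hz : ((0 : Fin (n + 1)) : ℕ) = 0 := rfl
  obtain ⟨vnn, vout, v0, _⟩ := hV
  rw [ofN_gen] at vnn vout v0
  have vp := vnn ⟨n - 1, by omega⟩
  simp only [Pi.add_apply, Gz, α4, if_true, if_false, hz] at v0 vp
  unfold IsGen at hg hg'
  have hj : j.val = n - 1 := by omega
  have hc : c.val = 0 := by omega
  by_cases hsame : c'.val = 0 ∧ j'.val = n - 1
  · have e1 : c' = c := fin_eq (by omega)
    have e2 : j' = j := fin_eq (by omega)
    rw [e1, e2, V, ofN_gen]
    exact ⟨vnn, vout, by simp only [Pi.add_apply, Gz, α4, if_true, if_false, hz]; omega,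
      Or.inl rfl⟩
  · exfalso
    obtain ⟨o0, o1, o2, o3⟩ := out_facts hout
    have a1 := o2 1
    have a2 := o3 j'
    simp only [Pi.add_apply, sup_coord, Gz, α4, if_true, if_false, hz, h1, hc, hj] at o0 o1 a1 a2
    omega

/-! ### family F4 : `α = e_b - e_1`, `B_j ↦ x_j x_b` (`j ≥ 2`) -/

theorem closed_F4 (hn : 4 ≤ n) {b : ℕ} (hb1 : 2 ≤ b) (hb2 : b ≤ n) (c j c' j' : Fin (n + 1))
    (hg : IsGen n c.val j.val) (hg' : IsGen n c'.val j'.val)
    (hnn : Nonneg (ofN (gen c j ⊔ gen c' j') + α2 n b 1))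
    (hout : ¬ InI n (ofN (gen c j ⊔ gen c' j') + α2 n b 1))
    (hV : V n (α2 n b 1) 0 0 (gen c j)) : V n (α2 n b 1) 0 0 (gen c' j') := by
  have h1 := one_val hn
  have hz : ((0 : Fin (n + 1)) : ℕ) = 0 := rfl
  obtain ⟨vnn, vout, v0, v1⟩ := hV
  rw [ofN_gen] at vnn vout v0 v1
  simp only [Pi.add_apply, Gz, α2, if_true, if_false, hz, h1] at v0 v1
  unfold IsGen at hg hg'
  have hc : c.val = 1 := by omega
  have hj : 2 ≤ j.val := by omega
  by_cases hsame : c'.val = 1 ∧ 2 ≤ j'.val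
  · apply V_of_sup c j c' j' hout
    · intro t
      simp only [Pi.add_apply, Gz, α2, if_true, if_false, hz]
      omega
    · simp only [Pi.add_apply, Gz, α2, if_true, if_false, hz]
      omega
    · right
      simp only [Pi.add_apply, Gz, α2, if_true, if_false, hz, h1]
      omega
  · exfalso
    obtain ⟨o0, o1, o2, o3⟩ := out_facts hout
    have a1 := o2 j
    have a2 := o3 j
    simp only [Pi.add_apply, sup_coord, Gz, α2, if_true, if_false, hz, h1, hc] at o0 o1 a1 a2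
    omega

/-! ### family F5 : `α = e_b - e_i`, `B_i ↦ x_1 x_b` (`b ∈ {n-1, n}`) -/

theorem closed_F5 (hn : 4 ≤ n) {i b : ℕ} (hi1 : 1 ≤ i) (hi2 : i + 2 ≤ n)
    (hb : b = n - 1 ∨ b = n) (c j c' j' : Fin (n + 1))
    (hg : IsGen n c.val j.val) (hg' : IsGen n c'.val j'.val)
    (hnn : Nonneg (ofN (gen c j ⊔ gen c' j') + α2 n b i))
    (hout : ¬ InI n (ofN (gen c j ⊔ gen c' j') + α2 n b i))
    (hV : V n (α2 n b i) 0 1 (gen c j)) : V n (α2 n b i) 0 1 (gen c' j') := by
  have h1 := one_val hn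
  have hz : ((0 : Fin (n + 1)) : ℕ) = 0 := rfl
  obtain ⟨vnn, vout, v0, v1⟩ := hV
  rw [ofN_gen] at vnn vout v0 v1
  have vi := vnn ⟨i, by omega⟩
  simp only [Pi.add_apply, Gz, α2, if_true, if_false, hz, h1] at v0 v1 vi
  unfold IsGen at hg hg'
  have hc : c.val = 1 := by omega
  have hj : j.val = i := by omega
  by_cases hsame : c'.val = 1 ∧ j'.val = i
  · have e1 : c' = c := fin_eq (by omega)
    have e2 : j' = j := fin_eq (by omega)
    rw [e1, e2, V, ofN_gen]
    refine ⟨vnn, vout, ?_, Or.inr ?_⟩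
    · simp only [Pi.add_apply, Gz, α2, if_true, if_false, hz]; omega
    · simp only [Pi.add_apply, Gz, α2, if_true, if_false, hz, h1]; omega
  · exfalso
    obtain ⟨o0, o1, o2, o3⟩ := out_facts hout
    have a1 := o2 1
    have a2 := o3 j'
    simp only [Pi.add_apply, sup_coord, Gz, α2, if_true, if_false, hz, h1, hc, hj] at o0 o1 a1 a2
    omega

/-! ### family F6 : `α = e_0 + e_n - e_1 - e_i`, `B_i ↦ x_0 x_n` -/

theorem closed_F6 (hn : 4 ≤ n) {i : ℕ} (hi1 : 1 ≤ i) (hi2 : i + 2 ≤ n)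
    (c j c' j' : Fin (n + 1))
    (hg : IsGen n c.val j.val) (hg' : IsGen n c'.val j'.val)
    (hnn : Nonneg (ofN (gen c j ⊔ gen c' j') + α4 n 0 n 1 i))
    (hout : ¬ InI n (ofN (gen c j ⊔ gen c' j') + α4 n 0 n 1 i))
    (hV : V n (α4 n 0 n 1 i) 1 (-1) (gen c j)) : V n (α4 n 0 n 1 i) 1 (-1) (gen c' j') := by
  have h1 := one_val hn
  have hz : ((0 : Fin (n + 1)) : ℕ) = 0 := rfl
  obtain ⟨vnn, vout, v0, _⟩ := hV
  rw [ofN_gen] at vnn vout v0
  have vi := vnn ⟨i, by omega⟩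
  simp only [Pi.add_apply, Gz, α4, if_true, if_false, hz, h1] at v0 vi
  unfold IsGen at hg hg'
  have hc : c.val = 1 := by omega
  have hj : j.val = i := by omega
  by_cases hsame : c'.val = 1 ∧ j'.val = i
  · have e1 : c' = c := fin_eq (by omega)
    have e2 : j' = j := fin_eq (by omega)
    rw [e1, e2, V, ofN_gen]
    refine ⟨vnn, vout, ?_, Or.inl rfl⟩
    simp only [Pi.add_apply, Gz, α4, if_true, if_false, hz]; omega
  · exfalso
    obtain ⟨o0, o1, o2, o3⟩ := out_facts hout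
    have a1 := o2 j'
    simp only [Pi.add_apply, sup_coord, Gz, α4, if_true, if_false, hz, h1, hc, hj] at o0 o1 a1
    omega

/-! ### validity of the representatives -/

theorem V_intro {α : Fin (n + 1) → ℤ} {ε0 ε1 : ℤ} (c j : Fin (n + 1))
    (hnn : ∀ t, 0 ≤ (Gz n c.val j.val + α) t)
    (h0 : (Gz n c.val j.val + α) 0 < 2) (h1 : (Gz n c.val j.val + α) 1 < 2)
    (h2 : ∀ t : Fin (n + 1), 1 ≤ (Gz n c.val j.val + α) 0 → 1 ≤ t.val → t.val + 1 ≤ n →
      (Gz n c.val j.val + α) t < 1)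
    (h3 : ∀ t : Fin (n + 1), 1 ≤ (Gz n c.val j.val + α) 1 → 2 ≤ t.val → t.val + 2 ≤ n →
      (Gz n c.val j.val + α) t < 1)
    (e0 : (Gz n c.val j.val + α) 0 = ε0) (e1 : ε1 = -1 ∨ (Gz n c.val j.val + α) 1 = ε1) :
    V n α ε0 ε1 (gen c j) := by
  unfold V
  rw [ofN_gen, not_InI_iff]
  exact ⟨hnn, ⟨h0, fun h t => h2 t h, h1, fun h t => h3 t h⟩, e0, e1⟩

theorem rep_F1 (hn : 4 ≤ n) {i : Fin (n + 1)} (hi : i.val < n) :
    V n (α2 n n i.val) 1 (-1) (gen 0 i) := by
  have h1 := one_val hn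
  have hz : ((0 : Fin (n + 1)) : ℕ) = 0 := rfl
  apply V_intro
  · intro t; simp only [Pi.add_apply, Gz, α2, if_true, if_false, hz]; omega
  · simp only [Pi.add_apply, Gz, α2, if_true, if_false, hz]; omega
  · simp only [Pi.add_apply, Gz, α2, if_true, if_false, hz, h1]; omega
  · intro t; simp only [Pi.add_apply, Gz, α2, if_true, if_false, hz]; omega
  · intro t; simp only [Pi.add_apply, Gz, α2, if_true, if_false, hz, h1]; omega
  · simp only [Pi.add_apply, Gz, α2, if_true, if_false, hz]; omega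
  · exact Or.inl rfl

/-- the index `n - 1` -/
def pn (hn : 4 ≤ n) : Fin (n + 1) := ⟨n - 1, by omega⟩

/-- the index `2` -/
def tw (hn : 4 ≤ n) : Fin (n + 1) := ⟨2, by omega⟩

theorem pn_val (hn : 4 ≤ n) : (pn hn).val = n - 1 := rfl

theorem tw_val (hn : 4 ≤ n) : (tw hn).val = 2 := rfl

theorem rep_F2 (hn : 4 ≤ n) {b : ℕ} (hb1 : 1 ≤ b) (hb2 : b ≤ n) :
    V n (α2 n b 0) 0 (-1) (gen 0 (pn hn)) := by
  have h1 := one_val hn
  have hz : ((0 : Fin (n + 1)) : ℕ) = 0 := rfl
  have hp := pn_val hn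
  apply V_intro
  · intro t; simp only [Pi.add_apply, Gz, α2, if_true, if_false, hz, hp]; omega
  · simp only [Pi.add_apply, Gz, α2, if_true, if_false, hz, hp]; omega
  · simp only [Pi.add_apply, Gz, α2, if_true, if_false, hz, h1, hp]; omega
  · intro t; simp only [Pi.add_apply, Gz, α2, if_true, if_false, hz, hp]; omega
  · intro t; simp only [Pi.add_apply, Gz, α2, if_true, if_false, hz, h1, hp]; omega
  · simp only [Pi.add_apply, Gz, α2, if_true, if_false, hz, hp]; omega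
  · exact Or.inl rfl

theorem rep_F3 (hn : 4 ≤ n) :
    V n (α4 n 1 n 0 (n - 1)) 0 (-1) (gen 0 (pn hn)) := by
  have h1 := one_val hn
  have hz : ((0 : Fin (n + 1)) : ℕ) = 0 := rfl
  have hp := pn_val hn
  apply V_intro
  · intro t; simp only [Pi.add_apply, Gz, α4, if_true, if_false, hz, hp]; omega
  · simp only [Pi.add_apply, Gz, α4, if_true, if_false, hz, hp]; omega
  · simp only [Pi.add_apply, Gz, α4, if_true, if_false, hz, h1, hp]; omega
  · intro t; simp only [Pi.add_apply, Gz, α4, if_true, if_false, hz, hp]; omega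
  · intro t; simp only [Pi.add_apply, Gz, α4, if_true, if_false, hz, h1, hp]; omega
  · simp only [Pi.add_apply, Gz, α4, if_true, if_false, hz, hp]; omega
  · exact Or.inl rfl

theorem rep_F4 (hn : 4 ≤ n) {b : ℕ} (hb1 : 2 ≤ b) (hb2 : b ≤ n) :
    V n (α2 n b 1) 0 0 (gen 1 (tw hn)) := by
  have h1 := one_val hn
  have hz : ((0 : Fin (n + 1)) : ℕ) = 0 := rfl
  have hp := tw_val hn
  apply V_intro
  · intro t; simp only [Pi.add_apply, Gz, α2, if_true, if_false, hz, h1, hp]; omega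
  · simp only [Pi.add_apply, Gz, α2, if_true, if_false, hz, h1, hp]; omega
  · simp only [Pi.add_apply, Gz, α2, if_true, if_false, hz, h1, hp]; omega
  · intro t; simp only [Pi.add_apply, Gz, α2, if_true, if_false, hz, h1, hp]; omega
  · intro t; simp only [Pi.add_apply, Gz, α2, if_true, if_false, hz, h1, hp]; omega
  · simp only [Pi.add_apply, Gz, α2, if_true, if_false, hz, h1, hp]; omega
  · right; simp only [Pi.add_apply, Gz, α2, if_true, if_false, hz, h1, hp]; omega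

theorem rep_F5 (hn : 4 ≤ n) {i : Fin (n + 1)} {b : ℕ} (hi1 : 1 ≤ i.val) (hi2 : i.val + 2 ≤ n)
    (hb : b = n - 1 ∨ b = n) :
    V n (α2 n b i.val) 0 1 (gen 1 i) := by
  have h1 := one_val hn
  have hz : ((0 : Fin (n + 1)) : ℕ) = 0 := rfl
  apply V_intro
  · intro t; simp only [Pi.add_apply, Gz, α2, if_true, if_false, hz, h1]; omega
  · simp only [Pi.add_apply, Gz, α2, if_true, if_false, hz, h1]; omega
  · simp only [Pi.add_apply, Gz, α2, if_true, if_false, hz, h1]; omega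
  · intro t; simp only [Pi.add_apply, Gz, α2, if_true, if_false, hz, h1]; omega
  · intro t; simp only [Pi.add_apply, Gz, α2, if_true, if_false, hz, h1]; omega
  · simp only [Pi.add_apply, Gz, α2, if_true, if_false, hz, h1]; omega
  · right; simp only [Pi.add_apply, Gz, α2, if_true, if_false, hz, h1]; omega

theorem rep_F6 (hn : 4 ≤ n) {i : Fin (n + 1)} (hi1 : 1 ≤ i.val) (hi2 : i.val + 2 ≤ n) :
    V n (α4 n 0 n 1 i.val) 1 (-1) (gen 1 i) := by
  have h1 := one_val hn
  have hz : ((0 : Fin (n + 1)) : ℕ) = 0 := rfl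
  apply V_intro
  · intro t; simp only [Pi.add_apply, Gz, α4, if_true, if_false, hz, h1]; omega
  · simp only [Pi.add_apply, Gz, α4, if_true, if_false, hz, h1]; omega
  · simp only [Pi.add_apply, Gz, α4, if_true, if_false, hz, h1]; omega
  · intro t; simp only [Pi.add_apply, Gz, α4, if_true, if_false, hz, h1]; omega
  · intro t; simp only [Pi.add_apply, Gz, α4, if_true, if_false, hz, h1]; omega
  · simp only [Pi.add_apply, Gz, α4, if_true, if_false, hz, h1]; omega
  · exact Or.inl rfl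

end Groth.Agent.Lib.Helper1.Tgt13448
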