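import Groth.Agent.Lib.Helper1.Tgt13448b

/-!
# S13448: completeness (helper1)
-/

set_option autoImplicit false
set_option linter.unusedSectionVars false
set_option linter.unusedVariables false
set_option linter.unusedSimpArgs false

universe u

namespace Groth.Agent.Lib.Helper1.Tgt13448

open W4c1hilbpn MvPolynomial Groth.Agent.Lib.Helper44.TgtComp Groth.Agent.Lib.Helper1.TgtGen

variable (k : Type u) [Field k] {n : ℕ}

theorem sum_ind (c : Fin (n + 1)) :
    ∑ t : Fin (n + 1), (if t.val = c.val then (1 : ℤ) else 0) = 1 := by
  have : ∀ t : Fin (n + 1), (t.val = c.val) = (t = c) := fun t => by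
    rw [Fin.ext_iff]
  simp only [this, Finset.sum_ite_eq', Finset.mem_univ, if_true]

theorem sum_Gz (c j : Fin (n + 1)) : ∑ t, Gz n c.val j.val t = 2 := by
  simp only [Gz, Finset.sum_add_distrib, sum_ind]
  norm_num

theorem exists_pair {γ : Fin (n + 1) → ℤ} (hγ : Nonneg γ) (hs : ∑ t, γ t = 2) :
    ∃ a b : Fin (n + 1), ∀ t : Fin (n + 1),
      γ t = (if t.val = a.val then 1 else 0) + (if t.val = b.val then 1 else 0) := by
  have hex : ∃ a, 0 < γ a := by
    by_contra h
    push Not at h
    have : ∑ t, γ t = 0 := Finset.sum_eq_zero fun t _ => le_antisymm (h t) (hγ t)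
    omega
  obtain ⟨a, ha⟩ := hex
  have hδnn : Nonneg (fun t => γ t - if t.val = a.val then 1 else 0) := by
    intro t
    show 0 ≤ γ t - if t.val = a.val then 1 else 0
    by_cases hta : t = a
    · rw [hta, if_pos rfl]; omega
    · have : ¬ t.val = a.val := fun h => hta (Fin.ext h)
      rw [if_neg this]; have := hγ t; omega
  have hδs : ∑ t, (γ t - if t.val = a.val then 1 else 0) = 1 := by
    rw [Finset.sum_sub_distrib, hs, sum_ind]; norm_num
  obtain ⟨b, hb⟩ := Tgt13450.exists_single_of_sum_one hδnn hδs
  refine ⟨a, b, fun t => ?_⟩
  have h1 := hb t
  have h2 : (t = b) = (t.val = b.val) := by rw [Fin.ext_iff]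
  simp only [h2] at h1
  omega

theorem γ_eq (a b c j : ℕ) (t : Fin (n + 1)) :
    (Gz n c j + α4 n a b c j) t =
      (if t.val = a then 1 else 0) + (if t.val = b then 1 else 0) := by
  simp only [Pi.add_apply, Gz, α4]
  omega

theorem W_eq4 (c j c' j' : Fin (n + 1)) (a b : ℕ) (t : Fin (n + 1)) :
    (ofN (gen c j ⊔ gen c' j') + α4 n a b c.val j.val) t =
      (if t.val = a then 1 else 0) + (if t.val = b then 1 else 0) +
        (max (Gz n c.val j.val t) (Gz n c'.val j'.val t) - Gz n c.val j.val t) := by
  rw [W_eq, γ_eq]

section
variable {k}

theorem kill_edge (hn : 4 ≤ n) {α : Fin (n + 1) → ℤ} {φ : Tgt (II k n)}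
    (hφ : φ ∈ tPiece (II k n) α) {c j c' j' : Fin (n + 1)} (hg : IsGen n c.val j.val)
    (hg' : IsGen n c'.val j'.val) (hnn : Nonneg (Gz n c.val j.val + α))
    (hW : ¬ InI n (ofN (gen c j ⊔ gen c' j') + α))
    (h' : cf (II k n) α φ (Gz n c'.val j'.val + α) = 0) :
    cf (II k n) α φ (Gz n c.val j.val + α) = 0 := by
  rw [cf_edge_z k hn hφ hg hg' (nonneg_W hnn c' j') hW]; exact h'

end

theorem not_InI_intro {W : Fin (n + 1) → ℤ} (h0 : W 0 < 2) (h1 : W 1 < 2)
    (h2 : ∀ t : Fin (n + 1), 1 ≤ W 0 → 1 ≤ t.val → t.val + 1 ≤ n → W t < 1)
    (h3 : ∀ t : Fin (n + 1), 1 ≤ W 1 → 2 ≤ t.val → t.val + 2 ≤ n → W t < 1) : ¬ InI n W := by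
  rw [not_InI_iff]
  exact ⟨h0, fun h t => h2 t h, h1, fun h t => h3 t h⟩

set_option maxHeartbeats 3200000 in
theorem complete (hn : 4 ≤ n) (α : Fin (n + 1) → ℤ) (hα : ∑ t, α t = 0)
    {φ : Tgt (II k n)} (hφ : φ ∈ tPiece (II k n) α)
    (H1 : ∀ i : ℕ, i < n → α2 n n i = α → cf (II k n) α φ (Gz n 0 i + α) = 0)
    (H2 : ∀ b : ℕ, 1 ≤ b → b ≤ n → α2 n b 0 = α → cf (II k n) α φ (Gz n 0 (n - 1) + α) = 0)
    (H3 : α4 n 1 n 0 (n - 1) = α → cf (II k n) α φ (Gz n 0 (n - 1) + α) = 0)
    (H4 : ∀ b : ℕ, 2 ≤ b → b ≤ n → α2 n b 1 = α → cf (II k n) α φ (Gz n 1 2 + α) = 0)
    (H5 : ∀ i b : ℕ, 1 ≤ i → i + 2 ≤ n → (b = n - 1 ∨ b = n) → α2 n b i = α →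
      cf (II k n) α φ (Gz n 1 i + α) = 0)
    (H6 : ∀ i : ℕ, 1 ≤ i → i + 2 ≤ n → α4 n 0 n 1 i = α →
      cf (II k n) α φ (Gz n 1 i + α) = 0)
    (c j : Fin (n + 1)) (hg : IsGen n c.val j.val) :
    cf (II k n) α φ (Gz n c.val j.val + α) = 0 := by
  have h1 := one_val hn
  have hz : ((0 : Fin (n + 1)) : ℕ) = 0 := rfl
  have hp := pn_val hn
  have ht := tw_val hn
  by_cases hval : Nonneg (Gz n c.val j.val + α) ∧ ¬ InI n (Gz n c.val j.val + α)
  swap
  · exact cf_eq_zero_of_invalid k hn φ hval
  obtain ⟨hnn, hout⟩ := hval
  have hsum : ∑ t, (Gz n c.val j.val + α) t = 2 := by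
    simp only [Pi.add_apply, Finset.sum_add_distrib, hα, add_zero, sum_Gz]
  obtain ⟨a, b, hab⟩ := exists_pair hnn hsum
  have hα4 : α = α4 n a.val b.val c.val j.val := by
    funext t
    have := hab t
    simp only [Pi.add_apply, Gz] at this
    simp only [α4]
    omega
  subst hα4
  obtain ⟨o0, o1, o2, o3⟩ := out_facts hout
  have f1 := o2 a
  have f2 := o2 b
  have f3 := o3 a
  have f4 := o3 b
  simp only [γ_eq, hz, h1, if_true, if_false] at o0 o1 f1 f2 f3 f4
  have hgpn : IsGen n (0 : Fin (n + 1)).val (pn hn).val := Or.inl ⟨rfl, by rw [hp]; omega⟩
  have hgtw0 : IsGen n (0 : Fin (n + 1)).val (tw hn).val := Or.inl ⟨rfl, by rw [ht]; omega⟩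
  have hgtw1 : IsGen n (1 : Fin (n + 1)).val (tw hn).val :=
    Or.inr ⟨h1, by rw [ht]; omega, by rw [ht]; omega⟩
  have hg11 : IsGen n (1 : Fin (n + 1)).val (1 : Fin (n + 1)).val :=
    Or.inr ⟨h1, by omega, by omega⟩
  have hg' := hg
  unfold IsGen at hg'
  have ha := a.2
  have hb := b.2
  rcases hg' with ⟨hc, hj⟩ | ⟨hc, hj1, hj2⟩
  · -- type A
    have hc0 : c = 0 := fin_eq hc
    subst hc0
    by_cases hγ0 : a.val = 0 ∨ b.val = 0
    · -- γ_0 = 1 : family F1
      have := H1 j.val hj (by
        funext t
        simp only [α2, α4, hz]
        omega)
      simpa only [hz] using this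
    · by_cases hj0 : j.val = 0
      · -- edge to A_{n-1}, negative there
        refine kill_edge hn hφ hg hgpn hnn ?_ ?_
        · apply not_InI_intro
          · simp only [W_eq4]; simp only [Gz, hz, hp, if_true, if_false]; omega
          · simp only [W_eq4]; simp only [Gz, hz, h1, hp, if_true, if_false]; omega
          · intro t; simp only [W_eq4]; simp only [Gz, hz, hp, if_true, if_false]; omega
          · intro t; simp only [W_eq4]; simp only [Gz, hz, h1, hp, if_true, if_false]; omega
        · apply cf_eq_zero_of_invalid k hn
          rintro ⟨h, _⟩
          have := h 0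
          simp only [Pi.add_apply, Gz, α4, hz, hp, if_true, if_false] at this
          omega
      · by_cases hγj : a.val = j.val ∨ b.val = j.val
        · -- family F2
          have hrep : cf (II k n) (α4 n a.val b.val (0 : Fin (n + 1)).val j.val) φ
              (Gz n 0 (n - 1) + α4 n a.val b.val (0 : Fin (n + 1)).val j.val) = 0 := by
            by_cases haj : a.val = j.val
            · refine H2 b.val (by omega) (by omega) ?_
              funext t
              simp only [α2, α4, hz]
              omega
            · refine H2 a.val (by omega) (by omega) ?_
              funext t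
              simp only [α2, α4, hz]
              omega
          by_cases hjp : j.val = n - 1
          · have : j = pn hn := fin_eq (by rw [hjp, hp])
            rw [this, hz, hp]
            rw [this] at hrep
            exact hrep
          · refine kill_edge hn hφ hg hgpn hnn ?_ ?_
            · apply not_InI_intro
              · simp only [W_eq4]; simp only [Gz, hz, hp, if_true, if_false]; omega
              · simp only [W_eq4]; simp only [Gz, hz, h1, hp, if_true, if_false]; omega
              · intro t; simp only [W_eq4]; simp only [Gz, hz, hp, if_true, if_false]; omega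
              · intro t; simp only [W_eq4]; simp only [Gz, hz, h1, hp, if_true, if_false]; omega
            · rw [hz, hp]; exact hrep
        · by_cases hjp : j.val = n - 1
          · by_cases hγ1 : a.val = 1 ∨ b.val = 1
            · -- family F3
              have := H3 (by
                funext t
                simp only [α4, hz]
                omega)
              rw [hz, hjp]
              rw [hz, hjp] at this
              exact this
            · -- edge to A_2
              refine kill_edge hn hφ hg hgtw0 hnn ?_ ?_
              · apply not_InI_intro
                · simp only [W_eq4]; simp only [Gz, hz, ht, if_true, if_false]; omega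
                · simp only [W_eq4]; simp only [Gz, hz, h1, ht, if_true, if_false]; omega
                · intro t; simp only [W_eq4]; simp only [Gz, hz, ht, if_true, if_false]; omega
                · intro t; simp only [W_eq4]; simp only [Gz, hz, h1, ht, if_true, if_false]; omega
              · apply cf_eq_zero_of_invalid k hn
                rintro ⟨h, _⟩
                have := h j
                simp only [Pi.add_apply, Gz, α4, hz, ht, if_true, if_false] at this
                omega
          · -- edge to A_{n-1}, negative at j
            refine kill_edge hn hφ hg hgpn hnn ?_ ?_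
            · apply not_InI_intro
              · simp only [W_eq4]; simp only [Gz, hz, hp, if_true, if_false]; omega
              · simp only [W_eq4]; simp only [Gz, hz, h1, hp, if_true, if_false]; omega
              · intro t; simp only [W_eq4]; simp only [Gz, hz, hp, if_true, if_false]; omega
              · intro t; simp only [W_eq4]; simp only [Gz, hz, h1, hp, if_true, if_false]; omega
            · apply cf_eq_zero_of_invalid k hn
              rintro ⟨h, _⟩
              have := h j
              simp only [Pi.add_apply, Gz, α4, hz, hp, if_true, if_false] at this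
              omega
  · -- type B
    have hc1 : c = 1 := fin_eq (by rw [hc, h1])
    subst hc1
    by_cases hγ0 : a.val = 0 ∨ b.val = 0
    · -- family F6
      have := H6 j.val hj1 hj2 (by
        funext t
        simp only [α4, h1]
        omega)
      simpa only [h1] using this
    · by_cases hγ1 : a.val = 1 ∨ b.val = 1
      · -- family F5
        by_cases ha1 : a.val = 1
        · have := H5 j.val b.val hj1 hj2 (by omega) (by
            funext t
            simp only [α2, α4, h1]
            omega)
          simpa only [h1] using this
        · have := H5 j.val a.val hj1 hj2 (by omega) (by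
            funext t
            simp only [α2, α4, h1]
            omega)
          simpa only [h1] using this
      · by_cases hj1' : j.val = 1
        · -- edge to B_2, negative at 1
          refine kill_edge hn hφ hg hgtw1 hnn ?_ ?_
          · apply not_InI_intro
            · simp only [W_eq4]; simp only [Gz, hz, h1, ht, if_true, if_false]; omega
            · simp only [W_eq4]; simp only [Gz, hz, h1, ht, if_true, if_false]; omega
            · intro t; simp only [W_eq4]; simp only [Gz, hz, h1, ht, if_true, if_false]; omega
            · intro t; simp only [W_eq4]; simp only [Gz, hz, h1, ht, if_true, if_false]; omega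
          · apply cf_eq_zero_of_invalid k hn
            rintro ⟨h, _⟩
            have := h 1
            simp only [Pi.add_apply, Gz, α4, hz, h1, ht, if_true, if_false] at this
            omega
        · by_cases hγj : a.val = j.val ∨ b.val = j.val
          · -- family F4
            have hrep : cf (II k n) (α4 n a.val b.val (1 : Fin (n + 1)).val j.val) φ
                (Gz n 1 2 + α4 n a.val b.val (1 : Fin (n + 1)).val j.val) = 0 := by
              by_cases haj : a.val = j.val
              · refine H4 b.val (by omega) (by omega) ?_
                funext t
                simp only [α2, α4, h1]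
                omega
              · refine H4 a.val (by omega) (by omega) ?_
                funext t
                simp only [α2, α4, h1]
                omega
            by_cases hj2' : j.val = 2
            · have : j = tw hn := fin_eq (by rw [hj2', ht])
              rw [this, h1, ht]
              rw [this, h1, ht] at hrep
              exact hrep
            · refine kill_edge hn hφ hg hgtw1 hnn ?_ ?_
              · apply not_InI_intro
                · simp only [W_eq4]; simp only [Gz, hz, h1, ht, if_true, if_false]; omega
                · simp only [W_eq4]; simp only [Gz, hz, h1, ht, if_true, if_false]; omega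
                · intro t; simp only [W_eq4]; simp only [Gz, hz, h1, ht, if_true, if_false]; omega
                · intro t; simp only [W_eq4]; simp only [Gz, hz, h1, ht, if_true, if_false]; omega
              · rw [h1, ht]; rw [h1] at hrep; exact hrep
          · -- `γ_j = 0`
            by_cases hamid : a.val + 2 ≤ n
            · have hga : IsGen n (1 : Fin (n + 1)).val a.val := Or.inr ⟨h1, by omega, hamid⟩
              refine kill_edge hn hφ hg hga hnn ?_ ?_
              · apply not_InI_intro
                · simp only [W_eq4]; simp only [Gz, hz, h1, if_true, if_false]; omega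
                · simp only [W_eq4]; simp only [Gz, hz, h1, if_true, if_false]; omega
                · intro t; simp only [W_eq4]; simp only [Gz, hz, h1, if_true, if_false]; omega
                · intro t; simp only [W_eq4]; simp only [Gz, hz, h1, if_true, if_false]; omega
              · apply cf_eq_zero_of_invalid k hn
                rintro ⟨h, _⟩
                have := h j
                simp only [Pi.add_apply, Gz, α4, hz, h1, if_true, if_false] at this
                omega
            · by_cases hbmid : b.val + 2 ≤ n
              · have hgb : IsGen n (1 : Fin (n + 1)).val b.val := Or.inr ⟨h1, by omega, hbmid⟩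
                refine kill_edge hn hφ hg hgb hnn ?_ ?_
                · apply not_InI_intro
                  · simp only [W_eq4]; simp only [Gz, hz, h1, if_true, if_false]; omega
                  · simp only [W_eq4]; simp only [Gz, hz, h1, if_true, if_false]; omega
                  · intro t; simp only [W_eq4]; simp only [Gz, hz, h1, if_true, if_false]; omega
                  · intro t; simp only [W_eq4]; simp only [Gz, hz, h1, if_true, if_false]; omega
                · apply cf_eq_zero_of_invalid k hn
                  rintro ⟨h, _⟩
                  have := h j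
                  simp only [Pi.add_apply, Gz, α4, hz, h1, if_true, if_false] at this
                  omega
              · -- edge to B_1
                refine kill_edge hn hφ hg hg11 hnn ?_ ?_
                · apply not_InI_intro
                  · simp only [W_eq4]; simp only [Gz, hz, h1, if_true, if_false]; omega
                  · simp only [W_eq4]; simp only [Gz, hz, h1, if_true, if_false]; omega
                  · intro t; simp only [W_eq4]; simp only [Gz, hz, h1, if_true, if_false]; omega
                  · intro t; simp only [W_eq4]; simp only [Gz, hz, h1, if_true, if_false]; omega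
                · apply cf_eq_zero_of_invalid k hn
                  rintro ⟨h, _⟩
                  have := h j
                  simp only [Pi.add_apply, Gz, α4, hz, h1, if_true, if_false] at this
                  omega

end Groth.Agent.Lib.Helper1.Tgt13448
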