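import Groth.Agent.Lib.Helper1.Tgt13448c

/-!
# S13448: the count (helper1)
-/

set_option autoImplicit false
set_option linter.unusedSectionVars false
set_option linter.unusedVariables false
set_option linter.unusedSimpArgs false

universe u

namespace Groth.Agent.Lib.Helper1.Tgt13448

open W4c1hilbpn MvPolynomial Groth.Agent.Lib.Helper44.TgtComp Groth.Agent.Lib.Helper1.TgtGen

variable (k : Type u) [Field k] {n : ℕ}

variable (n) in
/-- the index type of the basis -/
abbrev Θ : Type := Fin n ⊕ Fin n ⊕ Unit ⊕ Fin (n - 1) ⊕ (Fin (n - 2) × Bool) ⊕ Fin (n - 2)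

variable (n) in
/-- `n` or `n - 1` -/
def bsel : Bool → ℕ
  | true => n
  | false => n - 1

/-- an index in `1, …, n-2` -/
def mid (j : Fin (n - 2)) : Fin (n + 1) := ⟨j.val + 1, by have := j.2; omega⟩

theorem mid_val (j : Fin (n - 2)) : (mid j).val = j.val + 1 := rfl

/-- the representing generator -/
noncomputable def gθ (hn : 4 ≤ n) : Θ n → (Fin (n + 1) →₀ ℕ)
  | .inl i => gen 0 ⟨i.val, Nat.lt_succ_of_lt i.2⟩
  | .inr (.inl _) => gen 0 (pn hn)
  | .inr (.inr (.inl _)) => gen 0 (pn hn)
  | .inr (.inr (.inr (.inl _))) => gen 1 (tw hn)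
  | .inr (.inr (.inr (.inr (.inl (j, _))))) => gen 1 (mid j)
  | .inr (.inr (.inr (.inr (.inr j)))) => gen 1 (mid j)

/-- the multidegree -/
def αθ : Θ n → (Fin (n + 1) → ℤ)
  | .inl i => α2 n n i.val
  | .inr (.inl b) => α2 n (b.val + 1) 0
  | .inr (.inr (.inl _)) => α4 n 1 n 0 (n - 1)
  | .inr (.inr (.inr (.inl b))) => α2 n (b.val + 2) 1
  | .inr (.inr (.inr (.inr (.inl (j, s))))) => α2 n (bsel n s) (j.val + 1)
  | .inr (.inr (.inr (.inr (.inr j)))) => α4 n 0 n 1 (j.val + 1)

/-- the `x_0`-exponent of the value -/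
def ε0θ : Θ n → ℤ
  | .inl _ => 1
  | .inr (.inl _) => 0
  | .inr (.inr (.inl _)) => 0
  | .inr (.inr (.inr (.inl _))) => 0
  | .inr (.inr (.inr (.inr (.inl _)))) => 0
  | .inr (.inr (.inr (.inr (.inr _)))) => 1

/-- the `x_1`-exponent of the value (`-1`: unconstrained) -/
def ε1θ : Θ n → ℤ
  | .inl _ => -1
  | .inr (.inl _) => -1
  | .inr (.inr (.inl _)) => -1
  | .inr (.inr (.inr (.inl _))) => 0
  | .inr (.inr (.inr (.inr (.inl _)))) => 1
  | .inr (.inr (.inr (.inr (.inr _)))) => -1

theorem bsel_cases (s : Bool) : bsel n s = n - 1 ∨ bsel n s = n := by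
  cases s
  · left; rfl
  · right; rfl

theorem gθ_mem (hn : 4 ≤ n) (θ : Θ n) : gθ hn θ ∈ G n := by
  have h1 := one_val hn
  have hz : ((0 : Fin (n + 1)) : ℕ) = 0 := rfl
  rcases θ with i | b | u | b | ⟨j, s⟩ | j
  · exact gen_mem_G (Or.inl ⟨rfl, i.2⟩)
  · exact gen_mem_G (Or.inl ⟨rfl, by rw [pn_val]; omega⟩)
  · exact gen_mem_G (Or.inl ⟨rfl, by rw [pn_val]; omega⟩)
  · exact gen_mem_G (Or.inr ⟨h1, by rw [tw_val]; omega, by rw [tw_val]; omega⟩)
  · exact gen_mem_G (Or.inr ⟨h1, by rw [mid_val]; omega, by rw [mid_val]; have := j.2; omega⟩)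
  · exact gen_mem_G (Or.inr ⟨h1, by rw [mid_val]; omega, by rw [mid_val]; have := j.2; omega⟩)

theorem sum_ind_nat {a : ℕ} (ha : a ≤ n) :
    ∑ t : Fin (n + 1), (if t.val = a then (1 : ℤ) else 0) = 1 :=
  sum_ind (⟨a, by omega⟩ : Fin (n + 1))

theorem sum_α2 {a c : ℕ} (ha : a ≤ n) (hc : c ≤ n) : ∑ t, α2 n a c t = 0 := by
  simp only [α2, Finset.sum_sub_distrib, sum_ind_nat ha, sum_ind_nat hc]
  norm_num

theorem sum_α4 {a b c j : ℕ} (ha : a ≤ n) (hb : b ≤ n) (hc : c ≤ n) (hj : j ≤ n) :
    ∑ t, α4 n a b c j t = 0 := by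
  simp only [α4, Finset.sum_sub_distrib, Finset.sum_add_distrib, sum_ind_nat ha, sum_ind_nat hb,
    sum_ind_nat hc, sum_ind_nat hj]
  norm_num

theorem sum_αθ (hn : 4 ≤ n) (θ : Θ n) : ∑ t, αθ θ t = 0 := by
  rcases θ with i | b | u | b | ⟨j, s⟩ | j
  · exact sum_α2 le_rfl (by have := i.2; omega)
  · exact sum_α2 (by have := b.2; omega) (by omega)
  · exact sum_α4 (by omega) le_rfl (by omega) (by omega)
  · exact sum_α2 (by have := b.2; omega) (by omega)
  · exact sum_α2 (by rcases bsel_cases (n := n) s with h | h <;> rw [h] <;> omega)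
      (by have := j.2; omega)
  · exact sum_α4 (by omega) le_rfl (by omega) (by have := j.2; omega)

theorem rep_valid (hn : 4 ≤ n) (θ : Θ n) :
    V n (αθ θ) (ε0θ θ) (ε1θ θ) (gθ hn θ) := by
  rcases θ with i | b | u | b | ⟨j, s⟩ | j
  · exact rep_F1 hn (i := ⟨i.val, Nat.lt_succ_of_lt i.2⟩) i.2
  · exact rep_F2 hn (by omega) (by have := b.2; omega)
  · exact rep_F3 hn
  · exact rep_F4 hn (by omega) (by have := b.2; omega)
  · exact rep_F5 hn (i := mid j) (by rw [mid_val]; omega) (by rw [mid_val]; have := j.2; omega)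
      (bsel_cases s)
  · exact rep_F6 hn (i := mid j) (by rw [mid_val]; omega) (by rw [mid_val]; have := j.2; omega)

theorem closed (hn : 4 ≤ n) (θ : Θ n) (c j c' j' : Fin (n + 1))
    (hg : IsGen n c.val j.val) (hg' : IsGen n c'.val j'.val)
    (hnn : Nonneg (ofN (gen c j ⊔ gen c' j') + αθ θ))
    (hout : ¬ InI n (ofN (gen c j ⊔ gen c' j') + αθ θ))
    (hV : V n (αθ θ) (ε0θ θ) (ε1θ θ) (gen c j)) : V n (αθ θ) (ε0θ θ) (ε1θ θ) (gen c' j') := by
  rcases θ with i | b | u | b | ⟨i, s⟩ | i
  · exact closed_F1 hn i.2 c j c' j' hg hg' hnn hout hV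
  · exact closed_F2 hn (by omega) (by have := b.2; omega) c j c' j' hg hg' hnn hout hV
  · exact closed_F3 hn c j c' j' hg hg' hnn hout hV
  · exact closed_F4 hn (by omega) (by have := b.2; omega) c j c' j' hg hg' hnn hout hV
  · exact closed_F5 hn (by omega) (by have := i.2; omega) (bsel_cases s) c j c' j' hg hg' hnn
      hout hV
  · exact closed_F6 hn (by omega) (by have := i.2; omega) c j c' j' hg hg' hnn hout hV


theorem bsel_inj (hn : 4 ≤ n) {s s' : Bool} (h : bsel n s = bsel n s') : s = s' := by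
  cases s <;> cases s' <;> simp only [bsel] at h <;> first | rfl | (exfalso; omega)

theorem αθ_inj (hn : 4 ≤ n) (θ θ' : Θ n) (hα : αθ θ = αθ θ') (h0 : ε0θ θ = ε0θ θ')
    (h1 : ε1θ θ = -1 ∨ ε1θ θ' = -1 ∨ ε1θ θ = ε1θ θ') : θ = θ' := by
  have hz : ((0 : Fin (n + 1)) : ℕ) = 0 := rfl
  rcases θ with i | b | u | b | ⟨j, s⟩ | j
  · have hi := i.2
    rcases θ' with i' | b' | u' | b' | ⟨j', s'⟩ | j'
    · have e := congrFun hα ⟨i.val, Nat.lt_succ_of_lt i.2⟩
      simp only [αθ, α2, if_true, if_false] at e
      have : i = i' := Fin.ext (by omega)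
      rw [this]
    · exfalso; simp only [ε0θ] at h0; first | done | omega
    · exfalso; simp only [ε0θ] at h0; first | done | omega
    · exfalso; simp only [ε0θ] at h0; first | done | omega
    · exfalso; simp only [ε0θ] at h0; first | done | omega
    · have hj' := j'.2
      exfalso; have e := congrFun hα 0; simp only [αθ, α2, α4, hz, if_true, if_false] at e; omega
  · have hb := b.2
    rcases θ' with i' | b' | u' | b' | ⟨j', s'⟩ | j'
    · exfalso; simp only [ε0θ] at h0; first | done | omega
    · have e := congrFun hα ⟨b.val + 1, by omega⟩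
      simp only [αθ, α2, if_true, if_false] at e
      have : b = b' := Fin.ext (by omega)
      rw [this]
    · exfalso
      have e := congrFun hα ⟨n - 1, by omega⟩
      simp only [αθ, α2, α4, if_true, if_false] at e
      omega
    · have hb' := b'.2
      exfalso; have e := congrFun hα 0; simp only [αθ, α2, α4, hz, if_true, if_false] at e; omega
    · have hj' := j'.2
      have hs' := bsel_cases (n := n) s'
      exfalso; have e := congrFun hα 0; simp only [αθ, α2, α4, hz, if_true, if_false] at e; omega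
    · exfalso; simp only [ε0θ] at h0; first | done | omega
  · rcases θ' with i' | b' | u' | b' | ⟨j', s'⟩ | j'
    · exfalso; simp only [ε0θ] at h0; first | done | omega
    · exfalso
      have hb' := b'.2
      have e := congrFun hα ⟨n - 1, by omega⟩
      simp only [αθ, α2, α4, if_true, if_false] at e
      omega
    · cases u; cases u'; rfl
    · have hb' := b'.2
      exfalso; have e := congrFun hα 0; simp only [αθ, α2, α4, hz, if_true, if_false] at e; omega
    · have hj' := j'.2
      have hs' := bsel_cases (n := n) s'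
      exfalso; have e := congrFun hα 0; simp only [αθ, α2, α4, hz, if_true, if_false] at e; omega
    · exfalso; simp only [ε0θ] at h0; first | done | omega
  · have hb := b.2
    rcases θ' with i' | b' | u' | b' | ⟨j', s'⟩ | j'
    · exfalso; simp only [ε0θ] at h0; first | done | omega
    · have hb' := b'.2
      exfalso; have e := congrFun hα 0; simp only [αθ, α2, α4, hz, if_true, if_false] at e; omega
    · exfalso; have e := congrFun hα 0; simp only [αθ, α2, α4, hz, if_true, if_false] at e; omega
    · have e := congrFun hα ⟨b.val + 2, by omega⟩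
      simp only [αθ, α2, if_true, if_false] at e
      have : b = b' := Fin.ext (by omega)
      rw [this]
    · exfalso; simp only [ε1θ] at h1; first | done | omega
    · exfalso; simp only [ε0θ] at h0; first | done | omega
  · have hj := j.2
    have hs := bsel_cases (n := n) s
    rcases θ' with i' | b' | u' | b' | ⟨j', s'⟩ | j'
    · exfalso; simp only [ε0θ] at h0; first | done | omega
    · have hb' := b'.2
      exfalso; have e := congrFun hα 0; simp only [αθ, α2, α4, hz, if_true, if_false] at e; omega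
    · exfalso; have e := congrFun hα 0; simp only [αθ, α2, α4, hz, if_true, if_false] at e; omega
    · exfalso; simp only [ε1θ] at h1; first | done | omega
    · have hj' := j'.2
      have hs' := bsel_cases (n := n) s'
      have e1 := congrFun hα ⟨bsel n s, by omega⟩
      have e2 := congrFun hα ⟨j.val + 1, by omega⟩
      simp only [αθ, α2, if_true, if_false] at e1 e2
      have hjj : j = j' := Fin.ext (by omega)
      have hss : s = s' := bsel_inj hn (by omega)
      rw [hjj, hss]
    · exfalso; simp only [ε0θ] at h0; first | done | omega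
  · have hj := j.2
    rcases θ' with i' | b' | u' | b' | ⟨j', s'⟩ | j'
    · have hi' := i'.2
      exfalso; have e := congrFun hα 0; simp only [αθ, α2, α4, hz, if_true, if_false] at e; omega
    · exfalso; simp only [ε0θ] at h0; first | done | omega
    · exfalso; simp only [ε0θ] at h0; first | done | omega
    · exfalso; simp only [ε0θ] at h0; first | done | omega
    · exfalso; simp only [ε0θ] at h0; first | done | omega
    · have e := congrFun hα ⟨j.val + 1, by omega⟩
      simp only [αθ, α2, α4, if_true, if_false] at e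
      have : j = j' := Fin.ext (by omega)
      rw [this]

theorem card_Θ (hn : 4 ≤ n) : Fintype.card (Θ n) = 6 * n - 6 := by
  simp only [Fintype.card_sum, Fintype.card_prod, Fintype.card_bool, Fintype.card_unit,
    Fintype.card_fin]
  omega

/-- **S13448**, in terms of `II`. -/
theorem finrank_II (hn : 4 ≤ n) :
    Module.finrank k ↥(⨆ α : {α : Fin (n + 1) → ℤ // ∑ i, α i = 0}, tPiece (II k n) α.1) =
      6 * n - 6 := by
  classical
  have h1v := one_val hn
  rw [← card_Θ hn]
  refine finrank_eq_card (isMonomial k hn) (fun α => ∑ i, α i = 0) (G n)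
    (hG_gen k hn) (gθ hn) αθ (sum_αθ hn) ?_ ?_
  · -- completeness
    intro α hα φ hφ h
    rintro _ ⟨c, j, hcj, rfl⟩
    rw [ofN_gen]
    refine complete k hn α hα hφ ?_ ?_ ?_ ?_ ?_ ?_ c j hcj
    · intro i hi hαi
      have := h (Sum.inl ⟨i, hi⟩) hαi
      simp only [gθ] at this
      rw [ofN_gen] at this
      exact this
    · intro b hb1 hb2 hαb
      have := h (Sum.inr (Sum.inl ⟨b - 1, by omega⟩)) (by
        show α2 n (b - 1 + 1) 0 = α
        rw [Nat.sub_add_cancel hb1]; exact hαb)
      simp only [gθ] at this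
      rw [ofN_gen] at this
      exact this
    · intro hα3
      have := h (Sum.inr (Sum.inr (Sum.inl ()))) hα3
      simp only [gθ] at this
      rw [ofN_gen] at this
      exact this
    · intro b hb1 hb2 hαb
      have := h (Sum.inr (Sum.inr (Sum.inr (Sum.inl ⟨b - 2, by omega⟩)))) (by
        show α2 n (b - 2 + 2) 1 = α
        rw [Nat.sub_add_cancel hb1]; exact hαb)
      simp only [gθ] at this
      rw [ofN_gen, h1v] at this
      exact this
    · intro i b hi1 hi2 hb hαb
      have hbs : ∃ s, bsel n s = b := by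
        rcases hb with hb | hb
        · exact ⟨false, hb.symm⟩
        · exact ⟨true, hb.symm⟩
      obtain ⟨s, hs⟩ := hbs
      have := h (Sum.inr (Sum.inr (Sum.inr (Sum.inr (Sum.inl (⟨i - 1, by omega⟩, s)))))) (by
        show α2 n (bsel n s) (i - 1 + 1) = α
        rw [Nat.sub_add_cancel hi1, hs]; exact hαb)
      simp only [gθ] at this
      rw [ofN_gen, h1v, mid_val] at this
      simp only [Nat.sub_add_cancel hi1] at this
      exact this
    · intro i hi1 hi2 hαi
      have := h (Sum.inr (Sum.inr (Sum.inr (Sum.inr (Sum.inr ⟨i - 1, by omega⟩))))) (by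
        show α4 n 0 n 1 (i - 1 + 1) = α
        rw [Nat.sub_add_cancel hi1]; exact hαi)
      simp only [gθ] at this
      rw [ofN_gen, h1v, mid_val] at this
      simp only [Nat.sub_add_cancel hi1] at this
      exact this
  · -- independence
    intro θ
    obtain ⟨φ, hφ, hcf⟩ := exists_of_gcompat (isMonomial k hn)
      (gcompat_of_closed k hn (αθ θ) (ε0θ θ) (ε1θ θ) (closed hn θ))
    refine ⟨φ, hφ, fun θ' hθ' => ?_⟩
    rw [hcf _ (gθ_mem hn θ')]
    unfold cV
    by_cases hθ : θ' = θ
    · rw [if_pos hθ, hθ, if_pos (rep_valid hn θ)]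
    · rw [if_neg hθ, if_neg]
      intro hV
      apply hθ
      obtain ⟨_, _, r0, r1⟩ := rep_valid hn θ'
      obtain ⟨_, _, v0, v1⟩ := hV
      rw [hθ'] at r0 r1
      apply αθ_inj hn θ' θ hθ'
      · rw [← r0, v0]
      · rcases r1 with r1 | r1
        · exact Or.inl r1
        · rcases v1 with v1 | v1
          · exact Or.inr (Or.inl v1)
          · exact Or.inr (Or.inr (by rw [← r1, v1]))

end Groth.Agent.Lib.Helper1.Tgt13448
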