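import Groth.Agent.Lib.Helper1.TgtGen

/-!
# The ideal `x_0 (x_0, …, x_{n-1}) + (x_1^q)` (helper1, for S13450)
-/

set_option autoImplicit false
set_option linter.unusedSectionVars false
set_option linter.unusedVariables false

universe u

namespace Groth.Agent.Lib.Helper1.TgtGen

open W4c1hilbpn MvPolynomial Groth.Agent.Lib.Helper44.TgtComp

/-- ideals spanned by monomials are monomial, with the expected exponent set -/
theorem span_monomial_spec {k : Type u} [Field k] {m : ℕ} (Gs : Set (Fin m →₀ ℕ))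
    (I : Ideal (MvPolynomial (Fin m) k))
    (hI : I = Ideal.span ((fun s => monomial s (1 : k)) '' Gs)) :
    IsMonomial I ∧ ∀ β, β ∈ exps I ↔ ∃ g ∈ Gs, g ≤ β := by
  classical
  have hmem : ∀ β : Fin m →₀ ℕ, monomial β (1 : k) ∈ I ↔ ∃ g ∈ Gs, g ≤ β := by
    intro β
    rw [hI, mem_ideal_span_monomial_image]
    constructor
    · intro h
      apply h β
      rw [support_monomial, if_neg one_ne_zero]
      exact Finset.mem_singleton_self β
    · intro h xi hxi
      rw [support_monomial, if_neg one_ne_zero, Finset.mem_singleton] at hxi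
      rw [hxi]; exact h
  refine ⟨?_, fun β => hmem β⟩
  intro p hp β hβ
  rw [hmem]
  rw [hI, mem_ideal_span_monomial_image] at hp
  exact hp β hβ

end Groth.Agent.Lib.Helper1.TgtGen

namespace Groth.Agent.Lib.Helper1.Tgt13450

open W4c1hilbpn MvPolynomial Groth.Agent.Lib.Helper44.TgtComp Groth.Agent.Lib.Helper1.TgtGen

variable (k : Type u) [Field k] (n q : ℕ)

/-- generator exponents: `x_0 x_j` for `j < n`, and `x_1^q` for `j = n` -/
noncomputable def gen (j : Fin (n + 1)) : Fin (n + 1) →₀ ℕ :=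
  if j.val < n then Finsupp.single 0 1 + Finsupp.single j 1 else Finsupp.single 1 q

/-- the ideal of S13450 -/
noncomputable def II : Ideal (MvPolynomial (Fin (n + 1)) k) :=
  Ideal.span ({f : MvPolynomial (Fin (n + 1)) k | ∃ i : Fin (n + 1), i.val + 1 ≤ n ∧
    f = MvPolynomial.X 0 * MvPolynomial.X i} ∪ {MvPolynomial.X 1 ^ q})

theorem II_eq : II k n q = Ideal.span ((fun s => monomial s (1 : k)) '' Set.range (gen n q)) := by
  unfold II
  congr 1
  ext f
  simp only [Set.mem_union, Set.mem_ofPred_eq, Set.mem_singleton_iff, Set.mem_image, Set.mem_range]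
  constructor
  · rintro (⟨i, hi, rfl⟩ | rfl)
    · refine ⟨gen n q i, ⟨i, rfl⟩, ?_⟩
      unfold gen
      rw [if_pos (by omega)]
      simp only [X, monomial_mul, one_mul]
    · refine ⟨gen n q (Fin.last n), ⟨Fin.last n, rfl⟩, ?_⟩
      unfold gen
      rw [if_neg (by simp)]
      rw [X_pow_eq_monomial]
  · rintro ⟨_, ⟨j, rfl⟩, rfl⟩
    unfold gen
    by_cases hj : j.val < n
    · left
      refine ⟨j, by omega, ?_⟩
      rw [if_pos hj]
      simp only [X, monomial_mul, one_mul]
    · right
      rw [if_neg hj, X_pow_eq_monomial]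

theorem isMonomial : IsMonomial (II k n q) :=
  (span_monomial_spec (Set.range (gen n q)) _ (II_eq k n q)).1

theorem mem_exps_iff_gen (β : Fin (n + 1) →₀ ℕ) :
    β ∈ exps (II k n q) ↔ ∃ j, gen n q j ≤ β := by
  rw [(span_monomial_spec (Set.range (gen n q)) _ (II_eq k n q)).2]
  simp

/-- membership predicate on integer vectors -/
def InI (v : Fin (n + 1) → ℤ) : Prop :=
  2 ≤ v 0 ∨ (1 ≤ v 0 ∧ ∃ t : Fin (n + 1), 1 ≤ t.val ∧ t.val + 1 ≤ n ∧ 1 ≤ v t) ∨ (q : ℤ) ≤ v 1


variable {n q}

theorem one_val (hn : 3 ≤ n) : ((1 : Fin (n + 1)).val) = 1 := by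
  rw [Fin.val_one']
  exact Nat.mod_eq_of_lt (by omega)

theorem mem_exps_iff (hn : 3 ≤ n) (β : Fin (n + 1) →₀ ℕ) :
    β ∈ exps (II k n q) ↔ InI n q (ofN β) := by
  rw [mem_exps_iff_gen]
  have h1 := one_val hn
  constructor
  · rintro ⟨j, hj⟩
    unfold gen at hj
    by_cases hjn : j.val < n
    · rw [if_pos hjn] at hj
      have h0 := hj 0
      have hjj := hj j
      simp only [Finsupp.add_apply, Finsupp.single_apply] at h0 hjj
      by_cases hj0 : j = 0
      · left
        subst hj0
        simp only [if_true] at h0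
        simp only [ofN_apply]
        omega
      · right; left
        have hj0' : ¬ (0 : Fin (n + 1)) = j := fun h => hj0 h.symm
        simp only [if_true, if_neg hj0, if_neg hj0'] at h0 hjj
        refine ⟨by simp only [ofN_apply]; omega, j, ?_, by omega, by simp only [ofN_apply]; omega⟩
        have : j.val ≠ 0 := fun h => hj0 (Fin.ext h)
        omega
    · rw [if_neg hjn] at hj
      right; right
      have := hj 1
      simp only [Finsupp.single_apply, if_true] at this
      simp only [ofN_apply]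
      omega
  · rintro (h | ⟨h0, t, ht1, ht2, ht⟩ | h)
    · refine ⟨0, ?_⟩
      unfold gen
      rw [if_pos (by simp; omega)]
      intro t
      simp only [Finsupp.add_apply, Finsupp.single_apply, ofN_apply] at h ⊢
      by_cases ht : (0 : Fin (n + 1)) = t
      · subst ht
        simp only [if_true]
        omega
      · simp only [if_neg ht]
        omega
    · refine ⟨t, ?_⟩
      unfold gen
      rw [if_pos (by omega)]
      intro s
      simp only [Finsupp.add_apply, Finsupp.single_apply, ofN_apply] at h0 ht ⊢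
      have ht0 : (0 : Fin (n + 1)) ≠ t := by
        intro h; rw [← h] at ht1; simp at ht1
      split_ifs with h2 h3 h3
      · exact absurd (h2.trans h3.symm) ht0
      · subst h2; omega
      · subst h3; omega
      · omega
    · refine ⟨Fin.last n, ?_⟩
      unfold gen
      rw [if_neg (by simp)]
      intro s
      simp only [Finsupp.single_apply, ofN_apply] at h ⊢
      split_ifs with h2
      · subst h2; omega
      · omega

theorem toN_mem_exps_iff (hn : 3 ≤ n) {v : Fin (n + 1) → ℤ} (hv : Nonneg v) :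
    toN v ∈ exps (II k n q) ↔ InI n q v := by
  rw [mem_exps_iff k hn, ofN_toN hv]


/-! ### integer vectors of the generators -/

variable (n q) in
/-- integer vector of the generator `j` -/
def Gz (j : Fin (n + 1)) : Fin (n + 1) → ℤ := fun t =>
  if j.val < n then (if t = 0 then 1 else 0) + (if t = j then 1 else 0)
  else (if t = 1 then (q : ℤ) else 0)

theorem ofN_gen (j : Fin (n + 1)) : ofN (gen n q j) = Gz n q j := by
  funext t
  unfold gen Gz
  by_cases hj : j.val < n
  · simp only [if_pos hj, ofN_apply, Finsupp.add_apply, Finsupp.single_apply, Nat.cast_add]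
    congr 1
    · by_cases h : (0 : Fin (n + 1)) = t
      · subst h; simp
      · have h' : ¬ t = 0 := fun e => h e.symm
        simp [h, h']
    · by_cases h : j = t
      · subst h; simp
      · have h' : ¬ t = j := fun e => h e.symm
        simp [h, h']
  · simp only [if_neg hj, ofN_apply, Finsupp.single_apply]
    by_cases h : (1 : Fin (n + 1)) = t
    · subst h; simp
    · have h' : ¬ t = 1 := fun e => h e.symm
      simp [h, h']

theorem gen_mem_exps (j : Fin (n + 1)) : gen n q j ∈ exps (II k n q) := by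
  rw [mem_exps_iff_gen]
  exact ⟨j, le_rfl⟩

theorem hG_gen (β : Fin (n + 1) →₀ ℕ) (hβ : β ∈ exps (II k n q)) :
    ∃ g ∈ Set.range (gen n q), g ∈ exps (II k n q) ∧ g ≤ β := by
  rw [mem_exps_iff_gen] at hβ
  obtain ⟨j, hj⟩ := hβ
  exact ⟨gen n q j, ⟨j, rfl⟩, gen_mem_exps k j, hj⟩

/-- `cf` vanishes at invalid points -/
theorem cf_eq_zero_of_invalid (hn : 3 ≤ n) {α : Fin (n + 1) → ℤ} (φ : Tgt (II k n q))
    {γ : Fin (n + 1) → ℤ} (h : ¬ (Nonneg γ ∧ ¬ InI n q γ)) : cf (II k n q) α φ γ = 0 := by
  unfold cf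
  rw [dif_neg]
  rintro ⟨_, h2, h3⟩
  apply h
  refine ⟨h2, ?_⟩
  rwa [toN_mem_exps_iff k hn h2] at h3

/-- edge lemma in integer form -/
theorem cf_edge_z (hn : 3 ≤ n) {α : Fin (n + 1) → ℤ} {φ : Tgt (II k n q)}
    (hφ : φ ∈ tPiece (II k n q) α) (j j' : Fin (n + 1)) (L : Fin (n + 1) →₀ ℕ)
    (hL : gen n q j ≤ L) (hL' : gen n q j' ≤ L) (W : Fin (n + 1) → ℤ) (hW : ofN L + α = W)
    (hnn : Nonneg W) (hout : ¬ InI n q W) :
    cf (II k n q) α φ (Gz n q j + α) = cf (II k n q) α φ (Gz n q j' + α) := by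
  rw [← ofN_gen, ← ofN_gen]
  refine cf_edge (isMonomial k n q) hφ (gen_mem_exps k j) (gen_mem_exps k j') hL hL' ?_ ?_
  · rw [hW]; exact hnn
  · rw [hW, toN_mem_exps_iff k hn hnn]; exact hout


theorem Gz_lt {j : Fin (n + 1)} (hj : j.val < n) (t : Fin (n + 1)) :
    Gz n q j t = (if t = 0 then 1 else 0) + (if t = j then 1 else 0) := by
  unfold Gz; rw [if_pos hj]

theorem Gz_last {j : Fin (n + 1)} (hj : ¬ j.val < n) (t : Fin (n + 1)) :
    Gz n q j t = if t = 1 then (q : ℤ) else 0 := by
  unfold Gz; rw [if_neg hj]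

theorem sup_coord (j j' t : Fin (n + 1)) :
    ofN (gen n q j ⊔ gen n q j') t = max (Gz n q j t) (Gz n q j' t) := by
  rw [← ofN_gen, ← ofN_gen]
  simp only [ofN_apply, Finsupp.sup_apply, Nat.cast_max]

theorem last_ne_zero (hn : 3 ≤ n) : Fin.last n ≠ (0 : Fin (n + 1)) := by
  intro h
  have := congrArg Fin.val h
  simp at this
  omega

theorem last_ne_one (hn : 3 ≤ n) : Fin.last n ≠ (1 : Fin (n + 1)) := by
  intro h
  have := congrArg Fin.val h
  rw [one_val hn] at this
  simp at this
  omega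

theorem one_ne_zero' (hn : 3 ≤ n) : (1 : Fin (n + 1)) ≠ 0 := by
  intro h
  have := congrArg Fin.val h
  rw [one_val hn] at this
  simp at this

theorem eq_last_of_not_lt {j : Fin (n + 1)} (hj : ¬ j.val < n) : j = Fin.last n := by
  apply Fin.ext
  have := j.2
  simp only [Fin.val_last]
  omega

/-- unfolding `¬ InI` -/
theorem not_InI_iff (v : Fin (n + 1) → ℤ) :
    ¬ InI n q v ↔ v 0 < 2 ∧ (1 ≤ v 0 → ∀ t : Fin (n + 1), 1 ≤ t.val → t.val + 1 ≤ n → v t < 1) ∧
      v 1 < q := by
  unfold InI
  constructor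
  · intro h
    refine ⟨?_, ?_, ?_⟩
    · by_contra h'; exact h (Or.inl (by omega))
    · intro h0 t ht1 ht2
      by_contra h'
      exact h (Or.inr (Or.inl ⟨h0, t, ht1, ht2, by omega⟩))
    · by_contra h'; exact h (Or.inr (Or.inr (by omega)))
  · rintro ⟨h1, h2, h3⟩ (h | ⟨h0, t, ht1, ht2, ht⟩ | h)
    · omega
    · have := h2 h0 t ht1 ht2; omega
    · omega

end Groth.Agent.Lib.Helper1.Tgt13450
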