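import Groth.Agent.Lib.Helper1.Tgt13450

/-!
# S13450: the classes (helper1)
-/

set_option autoImplicit false
set_option linter.unusedSectionVars false
set_option linter.unusedVariables false
set_option linter.unusedSimpArgs false

universe u

namespace Groth.Agent.Lib.Helper1.Tgt13450

open W4c1hilbpn MvPolynomial Groth.Agent.Lib.Helper44.TgtComp Groth.Agent.Lib.Helper1.TgtGen

variable (k : Type u) [Field k] {n q : ℕ}

theorem fin_facts (hn : 3 ≤ n) : (0 : Fin (n + 1)) ≠ 1 ∧ (1 : Fin (n + 1)) ≠ 0 ∧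
    (0 : Fin (n + 1)) ≠ Fin.last n ∧ Fin.last n ≠ (0 : Fin (n + 1)) ∧
    (1 : Fin (n + 1)) ≠ Fin.last n ∧ Fin.last n ≠ (1 : Fin (n + 1)) :=
  ⟨(one_ne_zero' hn).symm, one_ne_zero' hn, (last_ne_zero hn).symm, last_ne_zero hn,
    (last_ne_one hn).symm, last_ne_one hn⟩

variable (n q) in
/-- validity predicate -/
def V (α : Fin (n + 1) → ℤ) (ε : ℤ) (g : Fin (n + 1) →₀ ℕ) : Prop :=
  Nonneg (ofN g + α) ∧ ¬ InI n q (ofN g + α) ∧ (ofN g + α) 0 = ε

open Classical in
variable (n q) in
/-- indicator of validity -/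
noncomputable def cV (α : Fin (n + 1) → ℤ) (ε : ℤ) (g : Fin (n + 1) →₀ ℕ) : k :=
  if V n q α ε g then 1 else 0

theorem gcompat_of_closed (hn : 3 ≤ n) (α : Fin (n + 1) → ℤ) (ε : ℤ)
    (hcl : ∀ j j' : Fin (n + 1), Nonneg (ofN (gen n q j ⊔ gen n q j') + α) →
      ¬ InI n q (ofN (gen n q j ⊔ gen n q j') + α) → V n q α ε (gen n q j) →
      V n q α ε (gen n q j')) :
    GCompat (II k n q) α (Set.range (gen n q)) (cV k n q α ε) where
  sub := by
    rintro _ ⟨j, rfl⟩
    exact gen_mem_exps k j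
  gen := by
    intro β hβ
    rw [mem_exps_iff_gen] at hβ
    obtain ⟨j, hj⟩ := hβ
    exact ⟨gen n q j, ⟨j, rfl⟩, hj⟩
  c1 := by
    rintro _ ⟨j, rfl⟩ hneg
    unfold cV
    rw [if_neg]
    exact fun h => hneg h.1
  c2 := by
    rintro _ ⟨j, rfl⟩ _ ⟨j', rfl⟩ hnn hout
    rw [toN_mem_exps_iff k hn hnn] at hout
    have h1 := hcl j j' hnn hout
    have h2 := hcl j' j (by rwa [sup_comm]) (by rwa [sup_comm])
    unfold cV
    by_cases hv : V n q α ε (gen n q j)
    · rw [if_pos hv, if_pos (h1 hv)]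
    · rw [if_neg hv, if_neg (fun h => hv (h2 h))]
  c3 := by
    rintro _ ⟨j, rfl⟩ hnn hin
    rw [toN_mem_exps_iff k hn hnn] at hin
    unfold cV
    rw [if_neg]
    exact fun h => h.2.1 hin

/-! ### the multidegrees -/

variable (n) in
/-- `e_n - e_i` -/
def αa (i : Fin (n + 1)) : Fin (n + 1) → ℤ := fun t =>
  (if t = Fin.last n then 1 else 0) - (if t = i then 1 else 0)

variable (n) in
/-- `e_b - e_0` -/
def αl (b : Fin (n + 1)) : Fin (n + 1) → ℤ := fun t =>
  (if t = b then 1 else 0) - (if t = 0 then 1 else 0)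

variable (n q) in
/-- `e_0 + (q-1) e_n - q e_1` -/
def αm0 : Fin (n + 1) → ℤ := fun t =>
  (if t = 0 then 1 else 0) + (if t = Fin.last n then (q : ℤ) - 1 else 0) - (if t = 1 then (q : ℤ) else 0)

variable (n q) in
/-- `μ - q e_1` -/
def αm (μ : Fin (n + 1) →₀ ℕ) : Fin (n + 1) → ℤ := fun t =>
  (μ t : ℤ) - (if t = 1 then (q : ℤ) else 0)

/-! ### family a -/

theorem V_a (hn : 3 ≤ n) {i : Fin (n + 1)} (hi : i.val < n) (j : Fin (n + 1))
    (hV : V n q (αa n i) 1 (gen n q j)) : j = i := by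
  obtain ⟨h01, h10, h0l, hl0, h1l, hl1⟩ := fin_facts hn
  obtain ⟨hnn, hout, h0⟩ := hV
  rw [ofN_gen] at hnn hout h0
  rw [not_InI_iff] at hout
  by_cases hj : j.val < n
  · have hjl : j ≠ Fin.last n := by
      intro h; rw [h] at hj; simp at hj
    by_cases hj0 : j = 0
    · subst hj0
      simp only [Pi.add_apply, Gz_lt hj, αa, if_true, if_neg h0l] at h0
      by_cases hi0 : (0 : Fin (n + 1)) = i
      · exact hi0
      · rw [if_neg hi0] at h0; omega
    · have hj0' : ¬ (0 : Fin (n + 1)) = j := fun h => hj0 h.symm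
      simp only [Pi.add_apply, Gz_lt hj, αa, if_true, if_neg h0l, if_neg hj0'] at h0
      have h0i : ¬ (0 : Fin (n + 1)) = i := by
        intro h; rw [if_pos h] at h0; omega
      have hge : (1 : ℤ) ≤ (Gz n q j + αa n i) 0 := by
        simp only [Pi.add_apply, Gz_lt hj, αa, if_true, if_neg h0l, if_neg hj0', if_neg h0i]
        omega
      have hjv : 1 ≤ j.val := by
        have : j.val ≠ 0 := fun h => hj0 (Fin.ext h)
        omega
      have h3 := hout.2.1 hge j hjv (by omega)
      simp only [Pi.add_apply, Gz_lt hj, αa, if_true, if_neg hj0, if_neg hjl] at h3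
      by_contra hne
      rw [if_neg hne] at h3
      omega
  · exfalso
    simp only [Pi.add_apply, Gz_last hj, αa, if_neg h01, if_neg h0l] at h0
    split_ifs at h0 <;> omega


theorem closed_a (hn : 3 ≤ n) (hq : 2 ≤ q) {i : Fin (n + 1)} (hi : i.val < n) (j j' : Fin (n + 1))
    (hnn : Nonneg (ofN (gen n q j ⊔ gen n q j') + αa n i))
    (hout : ¬ InI n q (ofN (gen n q j ⊔ gen n q j') + αa n i))
    (hV : V n q (αa n i) 1 (gen n q j)) : V n q (αa n i) 1 (gen n q j') := by
  obtain ⟨h01, h10, h0l, hl0, h1l, hl1⟩ := fin_facts hn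
  have hji := V_a hn hi j hV
  subst hji
  by_cases hj'j : j' = j
  · rw [hj'j]; exact hV
  exfalso
  apply hout
  have hjl : j ≠ Fin.last n := by
    intro h; rw [h] at hi; simp at hi
  by_cases hj'n : j'.val < n
  · have hj'l : j' ≠ Fin.last n := by
      intro h; rw [h] at hj'n; simp at hj'n
    by_cases hj'0 : j' = 0
    · subst hj'0
      left
      have hj0 : ¬ (0 : Fin (n + 1)) = j := hj'j
      simp only [Pi.add_apply, sup_coord, Gz_lt hi, Gz_lt hj'n, αa, if_true, if_neg h0l, if_neg hj0]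
      omega
    · right; left
      have hj'0' : ¬ (0 : Fin (n + 1)) = j' := fun h => hj'0 h.symm
      refine ⟨?_, j', ?_, by omega, ?_⟩
      · simp only [Pi.add_apply, sup_coord, Gz_lt hi, Gz_lt hj'n, αa, if_true, if_neg h0l,
          if_neg hj'0']
        omega
      · have : j'.val ≠ 0 := fun h => hj'0 (Fin.ext h)
        omega
      · simp only [Pi.add_apply, sup_coord, Gz_lt hi, Gz_lt hj'n, αa, if_true, if_neg hj'0,
          if_neg hj'j, if_neg hj'l]
        omega
  · right; left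
    refine ⟨?_, 1, by rw [one_val hn], by rw [one_val hn]; omega, ?_⟩
    · simp only [Pi.add_apply, sup_coord, Gz_lt hi, Gz_last hj'n, αa, if_true, if_neg h0l,
        if_neg h01]
      omega
    · simp only [Pi.add_apply, sup_coord, Gz_lt hi, Gz_last hj'n, αa, if_true, if_neg h10,
        if_neg h1l]
      omega

end Groth.Agent.Lib.Helper1.Tgt13450
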