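import Groth.Agent.Lib.Helper1.Tgt13450b

/-!
# S13450: closure lemmas for the families l, m0, m (helper1)
-/

set_option autoImplicit false
set_option linter.unusedSectionVars false
set_option linter.unusedVariables false
set_option linter.unusedSimpArgs false

universe u

namespace Groth.Agent.Lib.Helper1.Tgt13450

open W4c1hilbpn MvPolynomial Groth.Agent.Lib.Helper44.TgtComp Groth.Agent.Lib.Helper1.TgtGen

variable (k : Type u) [Field k] {n q : ℕ}

theorem InI_mono {v w : Fin (n + 1) → ℤ} (h : ∀ t, v t ≤ w t) (hv : InI n q v) : InI n q w := by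
  rcases hv with h1 | ⟨h0, t, ht1, ht2, ht⟩ | h1
  · left; have := h 0; omega
  · right; left
    refine ⟨by have := h 0; omega, t, ht1, ht2, by have := h t; omega⟩
  · right; right; have := h 1; omega

theorem V_of_sup {α : Fin (n + 1) → ℤ} {ε : ℤ} (j j' : Fin (n + 1))
    (hout : ¬ InI n q (ofN (gen n q j ⊔ gen n q j') + α))
    (hnn' : Nonneg (Gz n q j' + α)) (h0 : (Gz n q j' + α) 0 = ε) : V n q α ε (gen n q j') := by
  unfold V
  rw [ofN_gen]
  refine ⟨hnn', fun h => hout (InI_mono ?_ h), h0⟩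
  intro t
  simp only [Pi.add_apply, sup_coord]
  have := le_max_right (Gz n q j t) (Gz n q j' t)
  omega

/-! ### family l -/

theorem V_l (hn : 3 ≤ n) {b : Fin (n + 1)} (hb : b ≠ 0) (j : Fin (n + 1))
    (hV : V n q (αl n b) 0 (gen n q j)) : 1 ≤ j.val ∧ j.val < n := by
  obtain ⟨h01, h10, h0l, hl0, h1l, hl1⟩ := fin_facts hn
  obtain ⟨hnn, hout, h0⟩ := hV
  rw [ofN_gen] at hnn hout h0
  have hb0 : ¬ (0 : Fin (n + 1)) = b := fun h => hb h.symm
  by_cases hj : j.val < n
  · refine ⟨?_, hj⟩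
    simp only [Pi.add_apply, Gz_lt hj, αl, if_true, if_neg hb0] at h0
    by_contra hlt
    have hj0 : (0 : Fin (n + 1)) = j := Fin.ext (by simp; omega)
    rw [if_pos hj0] at h0
    omega
  · exfalso
    have := hnn 0
    simp only [Pi.add_apply, Gz_last hj, αl, if_true, if_neg hb0, if_neg h01] at this
    omega

theorem closed_l (hn : 3 ≤ n) (hq : 2 ≤ q) {b : Fin (n + 1)} (hb : b ≠ 0) (j j' : Fin (n + 1))
    (hnn : Nonneg (ofN (gen n q j ⊔ gen n q j') + αl n b))
    (hout : ¬ InI n q (ofN (gen n q j ⊔ gen n q j') + αl n b))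
    (hV : V n q (αl n b) 0 (gen n q j)) : V n q (αl n b) 0 (gen n q j') := by
  obtain ⟨h01, h10, h0l, hl0, h1l, hl1⟩ := fin_facts hn
  obtain ⟨hj1, hjn⟩ := V_l hn hb j hV
  have hb0 : ¬ (0 : Fin (n + 1)) = b := fun h => hb h.symm
  have hj0 : ¬ j = 0 := by
    intro h; rw [h] at hj1; simp at hj1
  have hj0' : ¬ (0 : Fin (n + 1)) = j := fun h => hj0 h.symm
  by_cases hj'n : j'.val < n
  · by_cases hj'0 : j' = 0
    · exfalso
      apply hout
      subst hj'0
      right; left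
      refine ⟨?_, j, hj1, by omega, ?_⟩
      · simp only [Pi.add_apply, sup_coord, Gz_lt hjn, Gz_lt hj'n, αl, if_true, if_neg hb0,
          if_neg hj0']
        omega
      · simp only [Pi.add_apply, sup_coord, Gz_lt hjn, Gz_lt hj'n, αl, if_true, if_neg hj0]
        split_ifs <;> omega
    · have hj'0' : ¬ (0 : Fin (n + 1)) = j' := fun h => hj'0 h.symm
      apply V_of_sup j j' hout
      · intro t
        simp only [Pi.add_apply, Gz_lt hj'n, αl]
        split_ifs <;> omega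
      · simp only [Pi.add_apply, Gz_lt hj'n, αl, if_true, if_neg hb0, if_neg hj'0']
        omega
  · exfalso
    apply hout
    right; right
    simp only [Pi.add_apply, sup_coord, Gz_lt hjn, Gz_last hj'n, αl, if_true, if_neg h10]
    split_ifs <;> omega

/-! ### family m0 -/

theorem V_m0 (hn : 3 ≤ n) (hq : 2 ≤ q) (j : Fin (n + 1))
    (hV : V n q (αm0 n q) 1 (gen n q j)) : ¬ j.val < n := by
  obtain ⟨h01, h10, h0l, hl0, h1l, hl1⟩ := fin_facts hn
  obtain ⟨hnn, hout, h0⟩ := hV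
  rw [ofN_gen] at hnn hout h0
  intro hj
  have := hnn 1
  simp only [Pi.add_apply, Gz_lt hj, αm0, if_true, if_neg h10, if_neg h1l] at this
  split_ifs at this <;> omega

theorem closed_m0 (hn : 3 ≤ n) (hq : 2 ≤ q) (j j' : Fin (n + 1))
    (hnn : Nonneg (ofN (gen n q j ⊔ gen n q j') + αm0 n q))
    (hout : ¬ InI n q (ofN (gen n q j ⊔ gen n q j') + αm0 n q))
    (hV : V n q (αm0 n q) 1 (gen n q j)) : V n q (αm0 n q) 1 (gen n q j') := by
  obtain ⟨h01, h10, h0l, hl0, h1l, hl1⟩ := fin_facts hn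
  have hj := V_m0 hn hq j hV
  by_cases hj'n : j'.val < n
  · exfalso
    apply hout
    left
    simp only [Pi.add_apply, sup_coord, Gz_last hj, Gz_lt hj'n, αm0, if_true, if_neg h01,
      if_neg h0l]
    split_ifs <;> omega
  · rw [eq_last_of_not_lt hj'n, ← eq_last_of_not_lt hj]
    exact hV

/-! ### family m -/

theorem V_m (hn : 3 ≤ n) {μ : Fin (n + 1) →₀ ℕ} (hμ0 : μ 0 = 0) (j : Fin (n + 1))
    (hV : V n q (αm n q μ) 0 (gen n q j)) : ¬ j.val < n := by
  obtain ⟨h01, h10, h0l, hl0, h1l, hl1⟩ := fin_facts hn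
  obtain ⟨hnn, hout, h0⟩ := hV
  rw [ofN_gen] at hnn hout h0
  intro hj
  simp only [Pi.add_apply, Gz_lt hj, αm, if_true, if_neg h01, hμ0] at h0
  split_ifs at h0 <;> omega

theorem closed_m (hn : 3 ≤ n) (hq : 2 ≤ q) {μ : Fin (n + 1) →₀ ℕ} (hμ0 : μ 0 = 0)
    (hμ : ∃ t : Fin (n + 1), 1 ≤ t.val ∧ t.val < n ∧ 1 ≤ μ t) (j j' : Fin (n + 1))
    (hnn : Nonneg (ofN (gen n q j ⊔ gen n q j') + αm n q μ))
    (hout : ¬ InI n q (ofN (gen n q j ⊔ gen n q j') + αm n q μ))
    (hV : V n q (αm n q μ) 0 (gen n q j)) : V n q (αm n q μ) 0 (gen n q j') := by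
  obtain ⟨h01, h10, h0l, hl0, h1l, hl1⟩ := fin_facts hn
  have hj := V_m hn hμ0 j hV
  by_cases hj'n : j'.val < n
  · exfalso
    apply hout
    obtain ⟨t, ht1, ht2, ht3⟩ := hμ
    right; left
    refine ⟨?_, t, ht1, by omega, ?_⟩
    · simp only [Pi.add_apply, sup_coord, Gz_last hj, Gz_lt hj'n, αm, if_true, if_neg h01, hμ0]
      split_ifs <;> omega
    · simp only [Pi.add_apply, sup_coord, Gz_last hj, Gz_lt hj'n, αm]
      split_ifs <;> omega
  · rw [eq_last_of_not_lt hj'n, ← eq_last_of_not_lt hj]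
    exact hV

/-! ### validity of the representatives -/

theorem rep_a (hn : 3 ≤ n) (hq : 2 ≤ q) {i : Fin (n + 1)} (hi : i.val < n) :
    V n q (αa n i) 1 (gen n q i) := by
  obtain ⟨h01, h10, h0l, hl0, h1l, hl1⟩ := fin_facts hn
  unfold V
  rw [ofN_gen, not_InI_iff]
  have hil : i ≠ Fin.last n := by
    intro h; rw [h] at hi; simp at hi
  have key0 : (Gz n q i + αa n i) 0 = 1 := by
    simp only [Pi.add_apply, Gz_lt hi, αa, if_true, if_neg h0l]
    split_ifs <;> omega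
  have keyt : ∀ t : Fin (n + 1), 1 ≤ t.val → t.val + 1 ≤ n → (Gz n q i + αa n i) t = 0 := by
    intro t ht1 ht2
    have ht0 : ¬ t = 0 := by
      intro h; rw [h] at ht1; simp at ht1
    have htl : ¬ t = Fin.last n := by
      intro h; rw [h] at ht2; simp at ht2
    simp only [Pi.add_apply, Gz_lt hi, αa, if_neg ht0, if_neg htl]
    split_ifs <;> omega
  refine ⟨?_, ⟨by omega, ?_, ?_⟩, key0⟩
  · intro t
    simp only [Pi.add_apply, Gz_lt hi, αa]
    split_ifs <;> omega
  · intro _ t ht1 ht2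
    rw [keyt t ht1 ht2]; omega
  · rw [keyt 1 (by rw [one_val hn]) (by rw [one_val hn]; omega)]
    omega

/-- the index `2` -/
def tw (hn : 3 ≤ n) : Fin (n + 1) := ⟨2, by omega⟩

theorem tw_val (hn : 3 ≤ n) : (tw hn).val = 2 := rfl

theorem rep_l (hn : 3 ≤ n) (hq : 2 ≤ q) {b : Fin (n + 1)} (hb : b ≠ 0) :
    V n q (αl n b) 0 (gen n q (tw hn)) := by
  obtain ⟨h01, h10, h0l, hl0, h1l, hl1⟩ := fin_facts hn
  have hb0 : ¬ (0 : Fin (n + 1)) = b := fun h => hb h.symm
  have htn : (tw hn).val < n := by rw [tw_val]; omega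
  have ht0 : ¬ (0 : Fin (n + 1)) = tw hn := by
    intro h; have := congrArg Fin.val h; rw [tw_val] at this; simp at this
  have ht1 : ¬ (1 : Fin (n + 1)) = tw hn := by
    intro h; have := congrArg Fin.val h; rw [tw_val, one_val hn] at this; omega
  unfold V
  rw [ofN_gen, not_InI_iff]
  have key0 : (Gz n q (tw hn) + αl n b) 0 = 0 := by
    simp only [Pi.add_apply, Gz_lt htn, αl, if_true, if_neg hb0, if_neg ht0]
    omega
  refine ⟨?_, ⟨by omega, ?_, ?_⟩, key0⟩
  · intro t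
    simp only [Pi.add_apply, Gz_lt htn, αl]
    split_ifs <;> omega
  · intro h; omega
  · simp only [Pi.add_apply, Gz_lt htn, αl, if_neg h10, if_neg ht1]
    split_ifs <;> omega

theorem rep_m0 (hn : 3 ≤ n) (hq : 2 ≤ q) :
    V n q (αm0 n q) 1 (gen n q (Fin.last n)) := by
  obtain ⟨h01, h10, h0l, hl0, h1l, hl1⟩ := fin_facts hn
  have hl : ¬ (Fin.last n).val < n := by simp
  unfold V
  rw [ofN_gen, not_InI_iff]
  have key0 : (Gz n q (Fin.last n) + αm0 n q) 0 = 1 := by
    simp only [Pi.add_apply, Gz_last hl, αm0, if_true, if_neg h01, if_neg h0l]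
    omega
  have keyt : ∀ t : Fin (n + 1), 1 ≤ t.val → t.val + 1 ≤ n →
      (Gz n q (Fin.last n) + αm0 n q) t = 0 := by
    intro t ht1 ht2
    have ht0 : ¬ t = 0 := by
      intro h; rw [h] at ht1; simp at ht1
    have htl : ¬ t = Fin.last n := by
      intro h; rw [h] at ht2; simp at ht2
    simp only [Pi.add_apply, Gz_last hl, αm0, if_neg ht0, if_neg htl]
    split_ifs <;> omega
  refine ⟨?_, ⟨by omega, ?_, ?_⟩, key0⟩
  · intro t
    simp only [Pi.add_apply, Gz_last hl, αm0]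
    split_ifs <;> omega
  · intro _ t ht1 ht2
    rw [keyt t ht1 ht2]; omega
  · rw [keyt 1 (by rw [one_val hn]) (by rw [one_val hn]; omega)]
    omega

theorem rep_m (hn : 3 ≤ n) (hq : 2 ≤ q) {μ : Fin (n + 1) →₀ ℕ} (hμ0 : μ 0 = 0)
    (hμ1 : μ 1 < q) :
    V n q (αm n q μ) 0 (gen n q (Fin.last n)) := by
  obtain ⟨h01, h10, h0l, hl0, h1l, hl1⟩ := fin_facts hn
  have hl : ¬ (Fin.last n).val < n := by simp
  unfold V
  rw [ofN_gen, not_InI_iff]
  have key : ∀ t, (Gz n q (Fin.last n) + αm n q μ) t = (μ t : ℤ) := by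
    intro t
    simp only [Pi.add_apply, Gz_last hl, αm]
    split_ifs <;> omega
  refine ⟨?_, ⟨?_, ?_, ?_⟩, ?_⟩
  · intro t; rw [key]; positivity
  · rw [key, hμ0]; norm_num
  · intro h; rw [key, hμ0] at h; norm_num at h
  · rw [key]; exact_mod_cast hμ1
  · rw [key, hμ0]; rfl

end Groth.Agent.Lib.Helper1.Tgt13450
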