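import Groth.Agent.Lib.Helper1.Tgt13450c

/-!
# S13450: sums and the index set of family m (helper1)
-/

set_option autoImplicit false
set_option linter.unusedSectionVars false
set_option linter.unusedVariables false
set_option linter.unusedSimpArgs false

universe u

namespace Groth.Agent.Lib.Helper1.Tgt13450

open W4c1hilbpn MvPolynomial Groth.Agent.Lib.Helper44.TgtComp Groth.Agent.Lib.Helper1.TgtGen

variable (k : Type u) [Field k] {n q : ℕ}

theorem sum_Gz_lt {j : Fin (n + 1)} (hj : j.val < n) : ∑ t, Gz n q j t = 2 := by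
  simp only [Gz_lt hj, Finset.sum_add_distrib, Finset.sum_ite_eq', Finset.mem_univ, if_true]
  norm_num

theorem sum_Gz_last {j : Fin (n + 1)} (hj : ¬ j.val < n) : ∑ t, Gz n q j t = q := by
  simp only [Gz_last hj, Finset.sum_ite_eq', Finset.mem_univ, if_true]

theorem sum_two_pts (hn : 3 ≤ n) (γ : Fin (n + 1) → ℤ)
    (h : ∀ t : Fin (n + 1), 1 ≤ t.val → t.val + 1 ≤ n → γ t = 0) :
    ∑ t, γ t = γ 0 + γ (Fin.last n) := by
  apply Finset.sum_eq_add 0 (Fin.last n) (last_ne_zero hn).symm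
  · intro c _ hc
    apply h c
    · have : c.val ≠ 0 := fun h0 => hc.1 (Fin.ext h0)
      omega
    · have : c.val ≠ n := fun h0 => hc.2 (Fin.ext h0)
      have := c.2
      omega
  · intro h0; exact absurd (Finset.mem_univ _) h0
  · intro h0; exact absurd (Finset.mem_univ _) h0

theorem le_sum_of_nonneg {γ : Fin (n + 1) → ℤ} (hγ : Nonneg γ) (t : Fin (n + 1)) :
    γ t ≤ ∑ s, γ s :=
  Finset.single_le_sum (fun s _ => hγ s) (Finset.mem_univ t)

theorem exists_single_of_sum_one {δ : Fin (n + 1) → ℤ} (hδ : Nonneg δ) (hs : ∑ t, δ t = 1) :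
    ∃ b, ∀ t, δ t = if t = b then 1 else 0 := by
  classical
  have hex : ∃ b, 0 < δ b := by
    by_contra h
    push Not at h
    have : ∑ t, δ t = 0 := Finset.sum_eq_zero fun t _ => le_antisymm (h t) (hδ t)
    omega
  obtain ⟨b, hb⟩ := hex
  have hsplit : δ b + ∑ t ∈ Finset.univ.erase b, δ t = 1 := by
    rw [Finset.add_sum_erase _ _ (Finset.mem_univ b)]; exact hs
  have hrest_nonneg : 0 ≤ ∑ t ∈ Finset.univ.erase b, δ t := Finset.sum_nonneg fun t _ => hδ t
  have hrest : ∑ t ∈ Finset.univ.erase b, δ t = 0 := by omega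
  refine ⟨b, fun t => ?_⟩
  by_cases htb : t = b
  · rw [if_pos htb, htb]; omega
  · rw [if_neg htb]
    have := (Finset.sum_eq_zero_iff_of_nonneg (fun t _ => hδ t)).1 hrest t
      (Finset.mem_erase.2 ⟨htb, Finset.mem_univ t⟩)
    exact this

/-! ### the index set of the family m -/

variable (n q) in
/-- exponents `μ` in `x_1, …, x_n` of degree `q`, other than `q e_1` and `q e_n` -/
noncomputable def T : Finset (Fin (n + 1) →₀ ℕ) :=
  (((Finset.univ.erase 0).finsuppAntidiag q).erase (Finsupp.single 1 q)).erase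
    (Finsupp.single (Fin.last n) q)

theorem mem_T (μ : Fin (n + 1) →₀ ℕ) : μ ∈ T n q ↔ μ ≠ Finsupp.single (Fin.last n) q ∧
    μ ≠ Finsupp.single 1 q ∧ (∑ t ∈ Finset.univ.erase 0, μ t = q ∧
      μ.support ⊆ Finset.univ.erase 0) := by
  unfold T
  rw [Finset.mem_erase, Finset.mem_erase, Finset.mem_finsuppAntidiag]

theorem eq_single_of (μ : Fin (n + 1) →₀ ℕ) (hμ0 : μ 0 = 0)
    (hsum : ∑ t ∈ Finset.univ.erase 0, μ t = q) (c : Fin (n + 1)) (hc : c ≠ 0)
    (h : ∀ t, t ≠ 0 → t ≠ c → μ t = 0) : μ = Finsupp.single c q := by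
  have h1 : ∑ t ∈ Finset.univ.erase (0 : Fin (n + 1)), μ t = μ c := by
    apply Finset.sum_eq_single c
    · intro t ht htc
      exact h t (Finset.ne_of_mem_erase ht) htc
    · intro hc'
      exact absurd (Finset.mem_erase.2 ⟨hc, Finset.mem_univ _⟩) hc'
  have hcq : μ c = q := by rw [← h1, hsum]
  ext t
  rw [Finsupp.single_apply]
  by_cases htc : c = t
  · rw [if_pos htc, ← htc, hcq]
  · rw [if_neg htc]
    by_cases ht0 : t = 0
    · rw [ht0, hμ0]
    · exact h t ht0 (fun e => htc e.symm)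

theorem mem_T_facts (hn : 3 ≤ n) {μ : Fin (n + 1) →₀ ℕ} (hμ : μ ∈ T n q) :
    μ 0 = 0 ∧ μ 1 < q ∧ ∃ t : Fin (n + 1), 1 ≤ t.val ∧ t.val < n ∧ 1 ≤ μ t := by
  obtain ⟨h01, h10, h0l, hl0, h1l, hl1⟩ := fin_facts hn
  rw [mem_T] at hμ
  obtain ⟨hnl, hn1, hsum, hsupp⟩ := hμ
  have hμ0 : μ 0 = 0 := by
    by_contra h
    have h1 : (0 : Fin (n + 1)) ∈ μ.support := Finsupp.mem_support_iff.2 h
    have := hsupp h1
    simp at this
  refine ⟨hμ0, ?_, ?_⟩
  · by_contra hge
    apply hn1
    apply eq_single_of μ hμ0 hsum 1 h10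
    intro t ht0 ht1
    have hmem1 : (1 : Fin (n + 1)) ∈ Finset.univ.erase (0 : Fin (n + 1)) :=
      Finset.mem_erase.2 ⟨h10, Finset.mem_univ _⟩
    have hsplit : μ 1 + ∑ s ∈ (Finset.univ.erase (0 : Fin (n + 1))).erase 1, μ s = q := by
      rw [Finset.add_sum_erase _ _ hmem1]; exact hsum
    have hle : μ t ≤ ∑ s ∈ (Finset.univ.erase (0 : Fin (n + 1))).erase 1, μ s :=
      Finset.single_le_sum (f := fun s => μ s) (fun s _ => Nat.zero_le _)
        (Finset.mem_erase.2 ⟨ht1, Finset.mem_erase.2 ⟨ht0, Finset.mem_univ _⟩⟩)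
    omega
  · by_contra hex
    push Not at hex
    apply hnl
    apply eq_single_of μ hμ0 hsum (Fin.last n) hl0
    intro t ht0 htl
    have h1 : 1 ≤ t.val := by
      have : t.val ≠ 0 := fun h => ht0 (Fin.ext h)
      omega
    have h2 : t.val < n := by
      have : t.val ≠ n := fun h => htl (Fin.ext h)
      have := t.2
      omega
    have := hex t h1 h2
    omega

theorem toN_mem_T (hn : 3 ≤ n) {γ : Fin (n + 1) → ℤ} (hγ : Nonneg γ) (h0 : γ 0 = 0)
    (hsum : ∑ t, γ t = q) (h1 : γ 1 < q) (hl : toN γ ≠ Finsupp.single (Fin.last n) q) :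
    toN γ ∈ T n q := by
  obtain ⟨h01, h10, h0l, hl0, h1l, hl1⟩ := fin_facts hn
  rw [mem_T]
  refine ⟨hl, ?_, ?_, ?_⟩
  · intro h
    have := DFunLike.congr_fun h 1
    rw [toN_apply, Finsupp.single_apply, if_pos rfl] at this
    have := hγ 1
    omega
  · have hcast : ((∑ t ∈ Finset.univ.erase (0 : Fin (n + 1)), toN γ t : ℕ) : ℤ) = q := by
      rw [Nat.cast_sum]
      have : ∀ t ∈ Finset.univ.erase (0 : Fin (n + 1)), ((toN γ t : ℕ) : ℤ) = γ t := by
        intro t _
        rw [toN_apply]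
        exact Int.toNat_of_nonneg (hγ t)
      rw [Finset.sum_congr rfl this]
      have := Finset.add_sum_erase Finset.univ γ (Finset.mem_univ (0 : Fin (n + 1)))
      rw [h0, zero_add] at this
      rw [this, hsum]
    exact_mod_cast hcast
  · intro t ht
    rw [Finset.mem_erase]
    refine ⟨?_, Finset.mem_univ _⟩
    intro h
    rw [h, Finsupp.mem_support_iff, toN_apply, h0] at ht
    exact ht rfl

theorem card_T (hn : 3 ≤ n) (hq : 2 ≤ q) : (T n q).card + 2 = Nat.choose (n + q - 1) (n - 1) := by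
  obtain ⟨h01, h10, h0l, hl0, h1l, hl1⟩ := fin_facts hn
  have hcard : (Finset.univ.erase (0 : Fin (n + 1))).card = n := by
    rw [Finset.card_erase_of_mem (Finset.mem_univ _), Finset.card_univ, Fintype.card_fin]
    rfl
  have hA : ((Finset.univ.erase (0 : Fin (n + 1))).finsuppAntidiag q).card =
      Nat.choose (n + q - 1) (n - 1) := by
    rw [Finset.card_finsuppAntidiag_nat_eq_choose, hcard]
    apply Nat.choose_symm_of_eq_add
    omega
  have hmem : ∀ c : Fin (n + 1), c ≠ 0 →
      Finsupp.single c q ∈ (Finset.univ.erase (0 : Fin (n + 1))).finsuppAntidiag q := by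
    intro c hc
    rw [Finset.mem_finsuppAntidiag]
    constructor
    · rw [Finset.sum_eq_single c]
      · simp
      · intro t _ htc
        rw [Finsupp.single_apply, if_neg (fun e => htc e.symm)]
      · intro hc'
        exact absurd (Finset.mem_erase.2 ⟨hc, Finset.mem_univ _⟩) hc'
    · intro t ht
      rw [Finsupp.mem_support_iff, Finsupp.single_apply] at ht
      rw [Finset.mem_erase]
      refine ⟨?_, Finset.mem_univ _⟩
      intro h
      apply ht
      rw [if_neg]
      rw [h]; exact hc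
  have hne : Finsupp.single (Fin.last n) q ≠ (Finsupp.single 1 q : Fin (n + 1) →₀ ℕ) := by
    intro h
    have := DFunLike.congr_fun h 1
    rw [Finsupp.single_apply, Finsupp.single_apply, if_pos rfl, if_neg hl1] at this
    omega
  unfold T
  rw [← hA]
  have h1 := Finset.card_erase_add_one (hmem 1 h10)
  have h2 : Finsupp.single (Fin.last n) q ∈
      ((Finset.univ.erase (0 : Fin (n + 1))).finsuppAntidiag q).erase (Finsupp.single 1 q) :=
    Finset.mem_erase.2 ⟨hne, hmem _ hl0⟩
  have h3 := Finset.card_erase_add_one h2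
  omega

end Groth.Agent.Lib.Helper1.Tgt13450
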