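import Groth.Agent.Lib.Helper1.Tgt13450d

/-!
# S13450: completeness (helper1)
-/

set_option autoImplicit false
set_option linter.unusedSectionVars false
set_option linter.unusedVariables false
set_option linter.unusedSimpArgs false

universe u

namespace Groth.Agent.Lib.Helper1.Tgt13450

open W4c1hilbpn MvPolynomial Groth.Agent.Lib.Helper44.TgtComp Groth.Agent.Lib.Helper1.TgtGen

variable (k : Type u) [Field k] {n q : ℕ}

theorem W_eq (j j' t : Fin (n + 1)) (α : Fin (n + 1) → ℤ) :
    (ofN (gen n q j ⊔ gen n q j') + α) t =
      (Gz n q j + α) t + (max (Gz n q j t) (Gz n q j' t) - Gz n q j t) := by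
  simp only [Pi.add_apply, sup_coord]
  ring

theorem nonneg_W {j : Fin (n + 1)} {α : Fin (n + 1) → ℤ} (hnn : Nonneg (Gz n q j + α))
    (j' : Fin (n + 1)) : Nonneg (ofN (gen n q j ⊔ gen n q j') + α) := by
  intro t
  rw [W_eq]
  have := hnn t
  have := le_max_left (Gz n q j t) (Gz n q j' t)
  omega

theorem W_lt_lt {j j' : Fin (n + 1)} (hj : j.val < n) (hj' : j'.val < n) (hne : j ≠ j')
    (t : Fin (n + 1)) (α : Fin (n + 1) → ℤ) :
    (ofN (gen n q j ⊔ gen n q j') + α) t = (Gz n q j + α) t + if t = j' then 1 else 0 := by
  rw [W_eq]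
  congr 1
  rw [Gz_lt hj, Gz_lt hj']
  by_cases h1 : t = j'
  · have h2 : ¬ t = j := fun e => hne (e.symm.trans h1)
    rw [if_pos h1, if_neg h2]
    split_ifs <;> omega
  · rw [if_neg h1]
    split_ifs <;> omega

theorem W_last_one (hn : 3 ≤ n) (hq : 2 ≤ q) {j : Fin (n + 1)} (hj : ¬ j.val < n)
    (t : Fin (n + 1)) (α : Fin (n + 1) → ℤ) :
    (ofN (gen n q j ⊔ gen n q 1) + α) t = (Gz n q j + α) t + if t = 0 then 1 else 0 := by
  obtain ⟨h01, h10, h0l, hl0, h1l, hl1⟩ := fin_facts hn
  rw [W_eq]
  congr 1
  have h1n : (1 : Fin (n + 1)).val < n := by rw [one_val hn]; omega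
  rw [Gz_last hj, Gz_lt h1n]
  by_cases h1 : t = 0
  · rw [if_pos h1, h1]
    simp only [if_neg h01, if_true]
    norm_num
  · rw [if_neg h1]
    split_ifs <;> omega

/-- killing a node `A_j ↦ x_a x_b` with `γ_j = 0` through an edge to `A_j'`. -/
theorem kill (hn : 3 ≤ n) {α : Fin (n + 1) → ℤ} {φ : Tgt (II k n q)}
    (hφ : φ ∈ tPiece (II k n q) α) {j j' : Fin (n + 1)} (hj : j.val < n) (hj' : j'.val < n)
    (hne : j ≠ j') (hj0 : j ≠ 0) (hj'0 : j' ≠ 0)
    (hnn : Nonneg (Gz n q j + α)) (h0 : (Gz n q j + α) 0 = 0) (hjj : (Gz n q j + α) j = 0)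
    (h1 : (Gz n q j + α) 1 + (if (1 : Fin (n + 1)) = j' then 1 else 0) < q) :
    cf (II k n q) α φ (Gz n q j + α) = 0 := by
  obtain ⟨h01, h10, h0l, hl0, h1l, hl1⟩ := fin_facts hn
  have hj'0' : ¬ (0 : Fin (n + 1)) = j' := fun e => hj'0 e.symm
  have hedge := cf_edge_z k hn hφ j j' (gen n q j ⊔ gen n q j') le_sup_left le_sup_right _ rfl
    (nonneg_W hnn j') ?_
  · rw [hedge]
    apply cf_eq_zero_of_invalid k hn
    rintro ⟨h, _⟩
    have h2 := h j
    have h3 : α j = -1 := by
      simp only [Pi.add_apply, Gz_lt hj, if_neg hj0, if_true] at hjj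
      omega
    simp only [Pi.add_apply, Gz_lt hj', if_neg hj0, if_neg hne, h3] at h2
    omega
  · rw [not_InI_iff]
    refine ⟨?_, ?_, ?_⟩
    · rw [W_lt_lt hj hj' hne, h0, if_neg hj'0']; norm_num
    · intro h
      rw [W_lt_lt hj hj' hne, h0, if_neg hj'0'] at h
      norm_num at h
    · rw [W_lt_lt hj hj' hne]
      exact h1

theorem complete (hn : 3 ≤ n) (hq : 2 ≤ q) (hcase : n = 3 → 4 ≤ q) (α : Fin (n + 1) → ℤ)
    (hα : ∑ t, α t = 0) {φ : Tgt (II k n q)} (hφ : φ ∈ tPiece (II k n q) α)
    (ha : ∀ i : Fin (n + 1), i.val < n → αa n i = α → cf (II k n q) α φ (Gz n q i + α) = 0)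
    (hl : ∀ b : Fin (n + 1), b ≠ 0 → αl n b = α → cf (II k n q) α φ (Gz n q (tw hn) + α) = 0)
    (hm0 : αm0 n q = α → cf (II k n q) α φ (Gz n q (Fin.last n) + α) = 0)
    (hm : ∀ μ ∈ T n q, αm n q μ = α → cf (II k n q) α φ (Gz n q (Fin.last n) + α) = 0)
    (j : Fin (n + 1)) : cf (II k n q) α φ (Gz n q j + α) = 0 := by
  obtain ⟨h01, h10, h0l, hl0, h1l, hl1⟩ := fin_facts hn
  by_cases hval : Nonneg (Gz n q j + α) ∧ ¬ InI n q (Gz n q j + α)
  swap
  · exact cf_eq_zero_of_invalid k hn φ hval
  obtain ⟨hnn, hout⟩ := hval
  rw [not_InI_iff] at hout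
  obtain ⟨ho1, ho2, ho3⟩ := hout
  have hγt : ∀ t, (Gz n q j + α) t = Gz n q j t + α t := fun t => rfl
  have hαt : ∀ t, α t = (Gz n q j + α) t - Gz n q j t := fun t => by rw [hγt]; ring
  have hsumγ : ∑ t, (Gz n q j + α) t = ∑ t, Gz n q j t := by
    simp only [hγt, Finset.sum_add_distrib, hα, add_zero]
  have hγ0 : (Gz n q j + α) 0 = 0 ∨ (Gz n q j + α) 0 = 1 := by have := hnn 0; omega
  have htn : (tw hn).val < n := by rw [tw_val]; omega
  have ht0 : tw hn ≠ 0 := by
    intro h; have := congrArg Fin.val h; rw [tw_val] at this; simp at this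
  have ht1 : ¬ (1 : Fin (n + 1)) = tw hn := by
    intro h; have := congrArg Fin.val h; rw [tw_val, one_val hn] at this; omega
  have h1n : (1 : Fin (n + 1)).val < n := by rw [one_val hn]; omega
  by_cases hj : j.val < n
  · rw [sum_Gz_lt hj] at hsumγ
    rcases hγ0 with hγ0 | hγ0
    · -- γ_0 = 0
      by_cases hj0 : j = 0
      · -- edge to `tw`, which is negative
        have hne : j ≠ tw hn := by rw [hj0]; exact ht0.symm
        have hedge := cf_edge_z k hn hφ j (tw hn) (gen n q j ⊔ gen n q (tw hn)) le_sup_left
          le_sup_right _ rfl (nonneg_W hnn (tw hn)) ?_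
        · rw [hedge]
          apply cf_eq_zero_of_invalid k hn
          rintro ⟨h, _⟩
          have h2 := h 0
          have h3 : α 0 = -2 := by
            rw [hαt 0, hγ0, Gz_lt hj, hj0]; simp
          simp only [Pi.add_apply, Gz_lt htn, if_true, if_neg ht0.symm, h3] at h2
          omega
        · rw [not_InI_iff]
          refine ⟨?_, ?_, ?_⟩
          · rw [W_lt_lt hj htn hne, hγ0, if_neg ht0.symm]; norm_num
          · intro h
            rw [W_lt_lt hj htn hne, hγ0, if_neg ht0.symm] at h
            norm_num at h
          · rw [W_lt_lt hj htn hne, if_neg ht1, add_zero]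
            exact ho3
      · by_cases hγj : 1 ≤ (Gz n q j + α) j
        · -- family l
          have hδnn : Nonneg (fun t => (Gz n q j + α) t - if t = j then 1 else 0) := by
            intro t
            show 0 ≤ (Gz n q j + α) t - if t = j then 1 else 0
            by_cases htj : t = j
            · rw [if_pos htj, htj]; omega
            · rw [if_neg htj]; have := hnn t; omega
          have hδsum : ∑ t, ((Gz n q j + α) t - if t = j then 1 else 0) = 1 := by
            rw [Finset.sum_sub_distrib, hsumγ, Finset.sum_ite_eq' Finset.univ j]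
            simp
          obtain ⟨b, hb⟩ := exists_single_of_sum_one hδnn hδsum
          have hb0 : b ≠ 0 := by
            intro hb0
            have := hb 0
            simp only [hγ0] at this
            rw [if_neg (fun e : (0 : Fin (n + 1)) = j => hj0 e.symm), if_pos hb0.symm] at this
            omega
          have hαl : αl n b = α := by
            funext t
            rw [hαt t, Gz_lt hj]
            have := hb t
            unfold αl
            omega
          have hrep := hl b hb0 hαl
          by_cases hjt : j = tw hn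
          · rw [hjt]; exact hrep
          · have hedge := cf_edge_z k hn hφ j (tw hn) (gen n q j ⊔ gen n q (tw hn)) le_sup_left
              le_sup_right _ rfl (nonneg_W hnn (tw hn)) ?_
            · rw [hedge]; exact hrep
            · rw [not_InI_iff]
              refine ⟨?_, ?_, ?_⟩
              · rw [W_lt_lt hj htn hjt, hγ0, if_neg ht0.symm]; norm_num
              · intro h
                rw [W_lt_lt hj htn hjt, hγ0, if_neg ht0.symm] at h
                norm_num at h
              · rw [W_lt_lt hj htn hjt, if_neg ht1, add_zero]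
                exact ho3
        · -- `γ_j = 0`
          have hγj0 : (Gz n q j + α) j = 0 := by have := hnn j; omega
          by_cases hjt : j = tw hn
          · by_cases hn4 : 4 ≤ n
            · have h3n : (⟨3, by omega⟩ : Fin (n + 1)).val < n := by simp; omega
              refine kill k hn hφ hj h3n ?_ hj0 ?_ hnn hγ0 hγj0 ?_
              · rw [hjt]; intro h; have := congrArg Fin.val h; simp [tw_val] at this
              · intro h; have := congrArg Fin.val h; simp at this
              · rw [if_neg]
                · rw [add_zero]; exact ho3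
                · intro h; have := congrArg Fin.val h; rw [one_val hn] at this; simp at this
            · have hq4 : 4 ≤ q := hcase (by omega)
              refine kill k hn hφ hj h1n ?_ hj0 h10 hnn hγ0 hγj0 ?_
              · rw [hjt]; exact fun e => ht1 e.symm
              · rw [if_pos rfl]
                have := le_sum_of_nonneg hnn 1
                rw [hsumγ] at this
                omega
          · refine kill k hn hφ hj htn hjt hj0 ht0 hnn hγ0 hγj0 ?_
            rw [if_neg ht1, add_zero]; exact ho3
    · -- γ_0 = 1 : family a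
      have hz : ∀ t : Fin (n + 1), 1 ≤ t.val → t.val + 1 ≤ n → (Gz n q j + α) t = 0 := by
        intro t h1 h2
        have := ho2 (by omega) t h1 h2
        have := hnn t
        omega
      have hs := sum_two_pts hn _ hz
      have hγl : (Gz n q j + α) (Fin.last n) = 1 := by omega
      have hjl : j ≠ Fin.last n := by
        intro h; rw [h] at hj; simp at hj
      apply ha j hj
      funext t
      rw [hαt, Gz_lt hj]
      unfold αa
      by_cases ht0 : t = 0
      · rw [ht0, hγ0]; simp only [if_true, if_neg h0l]; split_ifs <;> omega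
      · by_cases htl : t = Fin.last n
        · rw [htl, hγl]; simp only [if_true, if_neg hl0, if_neg hjl.symm]; omega
        · have h1 : 1 ≤ t.val := by
            have : t.val ≠ 0 := fun h => ht0 (Fin.ext h)
            omega
          have h2 : t.val + 1 ≤ n := by
            have : t.val ≠ n := fun h => htl (Fin.ext h)
            have := t.2
            omega
          rw [hz t h1 h2]
          simp only [if_neg ht0, if_neg htl]
          omega
  · -- `j` is the last generator
    rw [sum_Gz_last hj] at hsumγ
    have hjl := eq_last_of_not_lt hj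
    rcases hγ0 with hγ0 | hγ0
    · by_cases hlast : toN (Gz n q j + α) = Finsupp.single (Fin.last n) q
      · -- edge to `A_1`
        have hγ : ∀ t, (Gz n q j + α) t = if t = Fin.last n then (q : ℤ) else 0 := by
          intro t
          have h1 := congrFun (ofN_toN hnn) t
          rw [hlast, ofN_apply, Finsupp.single_apply] at h1
          rw [← h1]
          by_cases h : Fin.last n = t
          · rw [if_pos h, if_pos h.symm]
          · rw [if_neg h, if_neg (fun e => h e.symm)]; rfl
        have hedge := cf_edge_z k hn hφ j 1 (gen n q j ⊔ gen n q 1) le_sup_left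
          le_sup_right _ rfl (nonneg_W hnn 1) ?_
        · rw [hedge]
          apply cf_eq_zero_of_invalid k hn
          rintro ⟨h, _⟩
          have h2 := h 1
          have h3 : α 1 = -q := by
            rw [hαt 1, hγ 1, Gz_last hj, if_neg h1l, if_pos rfl]; ring
          simp only [Pi.add_apply, Gz_lt h1n, if_true, if_neg h10, h3] at h2
          omega
        · rw [not_InI_iff]
          refine ⟨?_, ?_, ?_⟩
          · rw [W_last_one hn hq hj, hγ0, if_pos rfl]; norm_num
          · intro _ t ht1 ht2
            have ht0 : ¬ t = 0 := by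
              intro h; rw [h] at ht1; simp at ht1
            have htl : ¬ t = Fin.last n := by
              intro h; rw [h] at ht2; simp at ht2
            rw [W_last_one hn hq hj, hγ t, if_neg ht0, if_neg htl]; norm_num
          · rw [W_last_one hn hq hj, if_neg h10, add_zero]
            exact ho3
      · have hmem := toN_mem_T hn hnn hγ0 hsumγ ho3 hlast
        rw [hjl] at hmem ⊢
        apply hm _ hmem
        funext t
        rw [hαt t, hjl, Gz_last (by simp)]
        unfold αm
        rw [toN_apply, Int.toNat_of_nonneg]
        have := hnn t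
        rw [hjl] at this
        exact this
    · -- family m0
      have hz : ∀ t : Fin (n + 1), 1 ≤ t.val → t.val + 1 ≤ n → (Gz n q j + α) t = 0 := by
        intro t h1 h2
        have := ho2 (by omega) t h1 h2
        have := hnn t
        omega
      have hs := sum_two_pts hn _ hz
      have hγl : (Gz n q j + α) (Fin.last n) = q - 1 := by omega
      rw [hjl] at hγl hγ0 hz ⊢
      apply hm0
      funext t
      rw [hαt, hjl, Gz_last (by simp)]
      unfold αm0
      by_cases ht0 : t = 0
      · rw [ht0, hγ0]; simp only [if_true, if_neg h0l, if_neg h01]; omega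
      · by_cases htl : t = Fin.last n
        · rw [htl, hγl]; simp only [if_true, if_neg hl0, if_neg hl1]; omega
        · have h1 : 1 ≤ t.val := by
            have : t.val ≠ 0 := fun h => ht0 (Fin.ext h)
            omega
          have h2 : t.val + 1 ≤ n := by
            have : t.val ≠ n := fun h => htl (Fin.ext h)
            have := t.2
            omega
          rw [hz t h1 h2]
          simp only [if_neg ht0, if_neg htl]
          omega

end Groth.Agent.Lib.Helper1.Tgt13450
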