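import Groth.Agent.Lib.Helper1.Tgt13450e

/-!
# S13450: the count (helper1)
-/

set_option autoImplicit false
set_option linter.unusedSectionVars false
set_option linter.unusedVariables false
set_option linter.unusedSimpArgs false

universe u

namespace Groth.Agent.Lib.Helper1.Tgt13450

open W4c1hilbpn MvPolynomial Groth.Agent.Lib.Helper44.TgtComp Groth.Agent.Lib.Helper1.TgtGen

variable (k : Type u) [Field k] {n q : ℕ}

variable (n q) in
/-- the index type of the basis -/
abbrev Θ : Type := Fin n ⊕ (Fin n ⊕ Option {μ : Fin (n + 1) →₀ ℕ // μ ∈ T n q})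

variable (q) in
/-- the representing generator -/
noncomputable def gθ (hn : 3 ≤ n) : Θ n q → (Fin (n + 1) →₀ ℕ)
  | .inl i => gen n q i.castSucc
  | .inr (.inl _) => gen n q (tw hn)
  | .inr (.inr _) => gen n q (Fin.last n)

/-- the multidegree -/
def αθ : Θ n q → (Fin (n + 1) → ℤ)
  | .inl i => αa n i.castSucc
  | .inr (.inl b) => αl n b.succ
  | .inr (.inr none) => αm0 n q
  | .inr (.inr (some μ)) => αm n q μ.1

/-- the `x_0`-exponent of the value -/
def εθ : Θ n q → ℤ
  | .inl _ => 1
  | .inr (.inl _) => 0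
  | .inr (.inr none) => 1
  | .inr (.inr (some _)) => 0

theorem gθ_mem (hn : 3 ≤ n) (θ : Θ n q) : gθ q hn θ ∈ Set.range (gen n q) := by
  rcases θ with i | b | μ
  · exact ⟨_, rfl⟩
  · exact ⟨_, rfl⟩
  · exact ⟨_, rfl⟩

theorem sum_αθ (hn : 3 ≤ n) (θ : Θ n q) : ∑ t, αθ θ t = 0 := by
  obtain ⟨h01, h10, h0l, hl0, h1l, hl1⟩ := fin_facts hn
  rcases θ with i | b | _ | μ
  · simp only [αθ, αa, Finset.sum_sub_distrib, Finset.sum_ite_eq', Finset.mem_univ, if_true]
    norm_num
  · simp only [αθ, αl, Finset.sum_sub_distrib, Finset.sum_ite_eq', Finset.mem_univ, if_true]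
    norm_num
  · simp only [αθ, αm0, Finset.sum_sub_distrib, Finset.sum_add_distrib, Finset.sum_ite_eq',
      Finset.mem_univ, if_true]
    ring
  · simp only [αθ, αm, Finset.sum_sub_distrib, Finset.sum_ite_eq', Finset.mem_univ, if_true]
    have hμ := μ.2
    have h0 := (mem_T_facts hn hμ).1
    rw [mem_T] at hμ
    have hs := hμ.2.2.1
    have h2 := Finset.add_sum_erase Finset.univ (fun t => μ.1 t) (Finset.mem_univ (0 : Fin (n + 1)))
    simp only [h0, zero_add] at h2
    rw [hs] at h2
    have h3 : ((∑ t, μ.1 t : ℕ) : ℤ) = q := by rw [← h2]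
    rw [Nat.cast_sum] at h3
    rw [h3]; ring

theorem rep_valid (hn : 3 ≤ n) (hq : 2 ≤ q) (θ : Θ n q) :
    V n q (αθ θ) (εθ θ) (gθ q hn θ) := by
  rcases θ with i | b | _ | μ
  · exact rep_a hn hq (by simp)
  · exact rep_l hn hq (Fin.succ_ne_zero b)
  · exact rep_m0 hn hq
  · obtain ⟨h0, h1, _⟩ := mem_T_facts hn μ.2
    exact rep_m hn hq h0 h1

theorem closed (hn : 3 ≤ n) (hq : 2 ≤ q) (θ : Θ n q) (j j' : Fin (n + 1))
    (hnn : Nonneg (ofN (gen n q j ⊔ gen n q j') + αθ θ))
    (hout : ¬ InI n q (ofN (gen n q j ⊔ gen n q j') + αθ θ))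
    (hV : V n q (αθ θ) (εθ θ) (gen n q j)) : V n q (αθ θ) (εθ θ) (gen n q j') := by
  rcases θ with i | b | _ | μ
  · exact closed_a hn hq (by simp) j j' hnn hout hV
  · exact closed_l hn hq (Fin.succ_ne_zero b) j j' hnn hout hV
  · exact closed_m0 hn hq j j' hnn hout hV
  · obtain ⟨h0, h1, h2⟩ := mem_T_facts hn μ.2
    exact closed_m hn hq h0 h2 j j' hnn hout hV

theorem αθ_inj (hn : 3 ≤ n) (hq : 2 ≤ q) (θ θ' : Θ n q) (hα : αθ θ = αθ θ') (hε : εθ θ = εθ θ') :
    θ = θ' := by
  obtain ⟨h01, h10, h0l, hl0, h1l, hl1⟩ := fin_facts hn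
  rcases θ with i | b | _ | μ
  · rcases θ' with i' | b' | _ | μ'
    · -- a, a
      by_contra hne
      have hii : i ≠ i' := fun h => hne (by rw [h])
      have := congrFun hα i.castSucc
      simp only [αθ, αa] at this
      have h1 : ¬ i.castSucc = Fin.last n := (Fin.castSucc_lt_last i).ne
      have h2 : ¬ i.castSucc = i'.castSucc := fun h => hii (Fin.castSucc_injective _ h)
      simp only [if_neg h1, if_true, if_neg h2] at this
      omega
    · exfalso; simp only [εθ] at hε; omega
    · -- a, m0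
      exfalso
      have := congrFun hα 0
      simp only [αθ, αa, αm0, if_true, if_neg h0l, if_neg h01] at this
      split_ifs at this <;> omega
    · exfalso; simp only [εθ] at hε; omega
  · rcases θ' with i' | b' | _ | μ'
    · exfalso; simp only [εθ] at hε; omega
    · -- l, l
      by_contra hne
      have hbb : b ≠ b' := fun h => hne (by rw [h])
      have := congrFun hα b.succ
      simp only [αθ, αl] at this
      have h1 : ¬ b.succ = 0 := Fin.succ_ne_zero b
      have h2 : ¬ b.succ = b'.succ := fun h => hbb (Fin.succ_injective _ h)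
      simp only [if_true, if_neg h1, if_neg h2] at this
      omega
    · exfalso; simp only [εθ] at hε; omega
    · -- l, m
      exfalso
      have := congrFun hα 0
      have h0 := (mem_T_facts hn μ'.2).1
      have h1 : ¬ (0 : Fin (n + 1)) = b.succ := fun h => Fin.succ_ne_zero b h.symm
      simp only [αθ, αl, αm, if_true, if_neg h01, h0, if_neg h1] at this
      omega
  · rcases θ' with i' | b' | _ | μ'
    · -- m0, a
      exfalso
      have := congrFun hα 0
      simp only [αθ, αa, αm0, if_true, if_neg h0l, if_neg h01] at this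
      split_ifs at this <;> omega
    · exfalso; simp only [εθ] at hε; omega
    · rfl
    · exfalso; simp only [εθ] at hε; omega
  · rcases θ' with i' | b' | _ | μ'
    · exfalso; simp only [εθ] at hε; omega
    · -- m, l
      exfalso
      have := congrFun hα 0
      have h0 := (mem_T_facts hn μ.2).1
      have h1 : ¬ (0 : Fin (n + 1)) = b'.succ := fun h => Fin.succ_ne_zero b' h.symm
      simp only [αθ, αl, αm, if_true, if_neg h01, h0, if_neg h1] at this
      omega
    · exfalso; simp only [εθ] at hε; omega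
    · -- m, m
      have : μ = μ' := by
        apply Subtype.ext
        ext t
        have := congrFun hα t
        simp only [αθ, αm] at this
        omega
      rw [this]

theorem card_Θ (hn : 3 ≤ n) (hq : 2 ≤ q) :
    Fintype.card (Θ n q) = 2 * n - 1 + Nat.choose (n + q - 1) (n - 1) := by
  have h := card_T (q := q) hn hq
  rw [Fintype.card_sum, Fintype.card_sum, Fintype.card_option, Fintype.card_coe,
    Fintype.card_fin]
  omega

/-- **S13450**, in terms of `II`. -/
theorem finrank_II (hn : 3 ≤ n) (hq : 2 ≤ q) (hcase : n = 3 → 4 ≤ q) :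
    Module.finrank k ↥(⨆ α : {α : Fin (n + 1) → ℤ // ∑ i, α i = 0}, tPiece (II k n q) α.1) =
      2 * n - 1 + Nat.choose (n + q - 1) (n - 1) := by
  classical
  rw [← card_Θ hn hq]
  refine finrank_eq_card (isMonomial k n q) (fun α => ∑ i, α i = 0) (Set.range (gen n q))
    (hG_gen k) (gθ q hn) αθ (sum_αθ hn) ?_ ?_
  · -- completeness
    intro α hα φ hφ h
    rintro _ ⟨j, rfl⟩
    rw [ofN_gen]
    refine complete k hn hq hcase α hα hφ ?_ ?_ ?_ ?_ j
    · intro i hi hαi
      have hc : (⟨i.val, hi⟩ : Fin n).castSucc = i := Fin.ext rfl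
      have := h (Sum.inl ⟨i.val, hi⟩) (by simp only [αθ]; rw [hc]; exact hαi)
      simp only [gθ] at this
      rw [hc, ofN_gen] at this
      exact this
    · intro b hb hαb
      obtain ⟨b', rfl⟩ := Fin.exists_succ_eq.2 hb
      have := h (Sum.inr (Sum.inl b')) hαb
      simp only [gθ] at this
      rw [ofN_gen] at this
      exact this
    · intro hα0
      have := h (Sum.inr (Sum.inr none)) hα0
      simp only [gθ] at this
      rw [ofN_gen] at this
      exact this
    · intro μ hμ hαμ
      have := h (Sum.inr (Sum.inr (some ⟨μ, hμ⟩))) hαμ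
      simp only [gθ] at this
      rw [ofN_gen] at this
      exact this
  · -- independence
    intro θ
    obtain ⟨φ, hφ, hcf⟩ := exists_of_gcompat (isMonomial k n q)
      (gcompat_of_closed k hn (αθ θ) (εθ θ) (closed hn hq θ))
    refine ⟨φ, hφ, fun θ' hθ' => ?_⟩
    rw [hcf _ (gθ_mem hn θ')]
    unfold cV
    by_cases hθ : θ' = θ
    · rw [if_pos hθ, hθ, if_pos (rep_valid hn hq θ)]
    · rw [if_neg hθ, if_neg]
      intro hV
      apply hθ
      apply αθ_inj hn hq θ' θ hθ'
      have h1 := (rep_valid hn hq θ').2.2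
      have h2 := hV.2.2
      rw [← hθ'] at h2
      rw [← h1, h2]

end Groth.Agent.Lib.Helper1.Tgt13450
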