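import Groth.Agent.Lib.Helper44.TgtSum

/-!
# Graded pieces of `T(I)` for arbitrary monomial ideals via generators (helper1)

General tools on top of helper44's `TgtComp`: no finite-colength assumption.
-/

set_option autoImplicit false
set_option linter.unusedSectionVars false

universe u

namespace Groth.Agent.Lib.Helper1.TgtGen

open W4c1hilbpn MvPolynomial Groth.Agent.Lib.Helper44.TgtComp

variable {k : Type u} [Field k] {n : ℕ}

local notation "S" => MvPolynomial (Fin n) k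

theorem ofN_add (β δ : Fin n →₀ ℕ) : ofN (β + δ) = ofN β + ofN δ := by
  funext i; simp

theorem nonneg_ofN (β : Fin n →₀ ℕ) : Nonneg (ofN β) := fun i => by simp

theorem toN_add_ofN {γ : Fin n → ℤ} (h : Nonneg γ) (δ : Fin n →₀ ℕ) :
    toN (γ + ofN δ) = toN γ + δ := by
  ext i
  have := h i
  simp only [toN_apply, Pi.add_apply, ofN_apply, Finsupp.add_apply]
  omega

theorem toN_mono {γ γ' : Fin n → ℤ} (h : ∀ i, γ i ≤ γ' i) : toN γ ≤ toN γ' := by
  intro i
  simp only [toN_apply]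
  exact Int.toNat_le_toNat (h i)

/-- multiplication by a monomial: the coefficient function is constant. -/
theorem cf_mul {I : Ideal S} (hI : IsMonomial I) {α : Fin n → ℤ} {φ : Tgt I}
    (hφ : φ ∈ tPiece I α) {β : Fin n →₀ ℕ} (hβ : β ∈ exps I) (δ : Fin n →₀ ℕ)
    (hnn : Nonneg (ofN (β + δ) + α)) (hout : toN (ofN (β + δ) + α) ∉ exps I) :
    cf I α φ (ofN β + α) = cf I α φ (ofN (β + δ) + α) := by
  have hβδ : β + δ ∈ exps I := exps_add hβ δ
  have hlin : φ ⟨monomial (β + δ) 1, hβδ⟩ = (monomial δ (1 : k) : S) • φ ⟨monomial β 1, hβ⟩ := by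
    rw [← map_smul]
    congr 1
    apply Subtype.ext
    show monomial (β + δ) (1 : k) = monomial δ 1 * monomial β 1
    rw [monomial_mul, one_mul, add_comm]
  have h1 := cf_spec hI hφ hβδ hnn
  by_cases hnn0 : Nonneg (ofN β + α)
  · have h2 := cf_spec hI hφ hβ hnn0
    rw [hlin, h2, smul_comm, S_smul_mk, monomial_mul, one_mul] at h1
    have he : δ + toN (ofN β + α) = toN (ofN (β + δ) + α) := by
      rw [ofN_add, add_right_comm, toN_add_ofN hnn0, add_comm]
    rw [he] at h1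
    have h3 := congrArg (cq I (toN (ofN (β + δ) + α))) h1
    rw [cq_smul hI hout, cq_smul hI hout, cq_mk hI hout, coeff_monomial, if_pos rfl,
      mul_one, mul_one] at h3
    exact h3
  · rw [cf_of_not_nonneg φ hnn0]
    have h2 := apply_eq_zero_of_neg hφ hβ hnn0
    rw [hlin, h2, smul_zero] at h1
    have h3 := congrArg (cq I (toN (ofN (β + δ) + α))) h1
    rw [cq_zero hI hout, cq_smul hI hout, cq_mk hI hout, coeff_monomial, if_pos rfl,
      mul_one] at h3
    exact h3

/-- same with `≤`. -/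
theorem cf_le {I : Ideal S} (hI : IsMonomial I) {α : Fin n → ℤ} {φ : Tgt I}
    (hφ : φ ∈ tPiece I α) {β β' : Fin n →₀ ℕ} (hβ : β ∈ exps I) (hle : β ≤ β')
    (hnn : Nonneg (ofN β' + α)) (hout : toN (ofN β' + α) ∉ exps I) :
    cf I α φ (ofN β + α) = cf I α φ (ofN β' + α) := by
  have := cf_mul hI hφ hβ (β' - β) (by rwa [add_tsub_cancel_of_le hle])
    (by rwa [add_tsub_cancel_of_le hle])
  rwa [add_tsub_cancel_of_le hle] at this

/-- the edge relation: two generators whose lcm (shifted) is a standard monomial. -/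
theorem cf_edge {I : Ideal S} (hI : IsMonomial I) {α : Fin n → ℤ} {φ : Tgt I}
    (hφ : φ ∈ tPiece I α) {g g' L : Fin n →₀ ℕ} (hg : g ∈ exps I) (hg' : g' ∈ exps I)
    (hgL : g ≤ L) (hg'L : g' ≤ L)
    (hnn : Nonneg (ofN L + α)) (hout : toN (ofN L + α) ∉ exps I) :
    cf I α φ (ofN g + α) = cf I α φ (ofN g' + α) := by
  rw [cf_le hI hφ hg hgL hnn hout, cf_le hI hφ hg' hg'L hnn hout]

/-- vanishing criterion. -/
theorem eq_zero_of_cf {I : Ideal S} (hI : IsMonomial I) {α : Fin n → ℤ} {φ : Tgt I}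
    (hφ : φ ∈ tPiece I α) (G : Set (Fin n →₀ ℕ))
    (hG : ∀ β, β ∈ exps I → ∃ g ∈ G, g ∈ exps I ∧ g ≤ β)
    (h : ∀ g ∈ G, cf I α φ (ofN g + α) = 0) : φ = 0 := by
  apply tgt_ext hI
  intro β hβ
  rw [LinearMap.zero_apply]
  by_cases hnn : Nonneg (ofN β + α)
  · rw [cf_spec hI hφ hβ hnn]
    by_cases hin : toN (ofN β + α) ∈ exps I
    · rw [mk_monomial_eq_zero hin, smul_zero]
    · obtain ⟨g, hgG, hg, hle⟩ := hG β hβ
      rw [← cf_le hI hφ hg hle hnn hin, h g hgG, zero_smul]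
  · exact apply_eq_zero_of_neg hφ hβ hnn

/-! ### Construction from a compatible function on generators -/

section Constr

/-- compatibility conditions for a function on generators -/
structure GCompat (I : Ideal S) (α : Fin n → ℤ) (G : Set (Fin n →₀ ℕ))
    (c : (Fin n →₀ ℕ) → k) : Prop where
  sub : ∀ g ∈ G, g ∈ exps I
  gen : ∀ β, β ∈ exps I → ∃ g ∈ G, g ≤ β
  c1 : ∀ g ∈ G, ¬ Nonneg (ofN g + α) → c g = 0
  c2 : ∀ g ∈ G, ∀ g' ∈ G, Nonneg (ofN (g ⊔ g') + α) → toN (ofN (g ⊔ g') + α) ∉ exps I →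
    c g = c g'
  c3 : ∀ g ∈ G, Nonneg (ofN g + α) → toN (ofN g + α) ∈ exps I → c g = 0

theorem GCompat.principle {I : Ideal S} {α : Fin n → ℤ} {G : Set (Fin n →₀ ℕ)} {c : (Fin n →₀ ℕ) → k} (h : GCompat I α G c) {g0 g1 β' : Fin n →₀ ℕ} (h0 : g0 ∈ G) (h1 : g1 ∈ G)
    (hle0 : g0 ≤ β') (hle1 : g1 ≤ β') (hnn : Nonneg (ofN β' + α))
    (hout : toN (ofN β' + α) ∉ exps I) : c g0 = c g1 := by
  by_cases hb : ¬ Nonneg (ofN g0 + α) ∧ ¬ Nonneg (ofN g1 + α)
  · rw [h.c1 g0 h0 hb.1, h.c1 g1 h1 hb.2]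
  · have hL : g0 ⊔ g1 ≤ β' := sup_le hle0 hle1
    have hnnL : Nonneg (ofN (g0 ⊔ g1) + α) := by
      have hb' : Nonneg (ofN g0 + α) ∨ Nonneg (ofN g1 + α) := by
        by_contra hcon
        push Not at hcon
        exact hb hcon
      intro i
      rcases hb' with hb' | hb'
      · have := hb' i
        have h2 : g0 i ≤ (g0 ⊔ g1) i := (le_sup_left : g0 ≤ g0 ⊔ g1) i
        simp only [Pi.add_apply, ofN_apply] at this ⊢
        omega
      · have := hb' i
        have h2 : g1 i ≤ (g0 ⊔ g1) i := (le_sup_right : g1 ≤ g0 ⊔ g1) i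
        simp only [Pi.add_apply, ofN_apply] at this ⊢
        omega
    have houtL : toN (ofN (g0 ⊔ g1) + α) ∉ exps I := by
      intro hin
      apply hout
      refine exps_of_le hin (toN_mono fun i => ?_)
      have := hL i
      simp only [Pi.add_apply, ofN_apply]
      omega
    exact h.c2 g0 h0 g1 h1 hnnL houtL

open Classical in
/-- the lattice function attached to `c` -/
noncomputable def gfun {I : Ideal S} {α : Fin n → ℤ} {G : Set (Fin n →₀ ℕ)} {c : (Fin n →₀ ℕ) → k} (h : GCompat I α G c) (γ : Fin n → ℤ) : k :=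
  if h' : Nonneg γ ∧ bOf α γ ∈ exps I then c (Classical.choose (h.gen _ h'.2)) else 0

theorem gfun_spec {I : Ideal S} {α : Fin n → ℤ} {G : Set (Fin n →₀ ℕ)} {c : (Fin n →₀ ℕ) → k} (h : GCompat I α G c) {γ : Fin n → ℤ} (hnn : Nonneg γ)
    (hb : bOf α γ ∈ exps I) :
    ∃ g ∈ G, g ≤ bOf α γ ∧ gfun h γ = c g := by
  unfold gfun
  rw [dif_pos ⟨hnn, hb⟩]
  obtain ⟨h1, h2⟩ := Classical.choose_spec (h.gen _ hb)
  exact ⟨_, h1, h2, rfl⟩

theorem bOf_add_ev {α : Fin n → ℤ} {γ : Fin n → ℤ} {β : Fin n →₀ ℕ} (hβ : ofN β + α = γ) (i : Fin n) :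
    bOf α (γ + ev i) = β + Finsupp.single i 1 := by
  have : γ + ev i = ofN (β + Finsupp.single i 1) + α := by
    rw [ofN_add_single, ← hβ]; abel
  rw [this, bOf_add]

theorem compat_gfun {I : Ideal S} {α : Fin n → ℤ} {G : Set (Fin n →₀ ℕ)} {c : (Fin n →₀ ℕ) → k} (h : GCompat I α G c) : Compat I α (gfun h) where
  step γ hγ i hγ' := by
    obtain ⟨hb, hbe⟩ := bOf_mem_of_region hγ
    set β := bOf α γ with hβdef
    have hbi : bOf α (γ + ev i) = β + Finsupp.single i 1 := bOf_add_ev hbe i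
    have hbi' : bOf α (γ + ev i) ∈ exps I := by rw [hbi]; exact exps_add hb _
    by_cases hnn' : Nonneg (γ + ev i)
    · have hout' : toN (γ + ev i) ∉ exps I := not_nonneg_region hγ' hnn'
      obtain ⟨g1, hg1, hle1, he1⟩ := gfun_spec h hnn' hbi'
      rw [he1]
      rw [hbi] at hle1
      have hsum : ofN (β + Finsupp.single i 1) + α = γ + ev i := by
        rw [ofN_add_single, ← hbe]; abel
      by_cases hnn : Nonneg γ
      · obtain ⟨g0, hg0, hle0, he0⟩ := gfun_spec h hnn hb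
        rw [he0]
        refine (h.principle hg0 hg1 (le_trans hle0 ?_) hle1 (by rw [hsum]; exact hnn')
          (by rw [hsum]; exact hout')).symm
        intro j
        simp only [Finsupp.add_apply]
        exact Nat.le_add_right _ _
      · have : gfun h γ = 0 := by
          unfold gfun
          rw [dif_neg]
          exact fun h' => hnn h'.1
        rw [this]
        obtain ⟨g0, hg0, hle0⟩ := h.gen β hb
        have hneg0 : ¬ Nonneg (ofN g0 + α) := by
          intro hcon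
          apply hnn
          intro j
          have h1 := hcon j
          have h2 := hle0 j
          have h3 := congrFun hbe j
          simp only [Pi.add_apply, ofN_apply] at h1 h3
          omega
        rw [← h.c1 g0 hg0 hneg0]
        refine (h.principle hg0 hg1 (le_trans hle0 ?_) hle1 (by rw [hsum]; exact hnn')
          (by rw [hsum]; exact hout')).symm
        intro j
        simp only [Finsupp.add_apply]
        exact Nat.le_add_right _ _
    · have hnn : ¬ Nonneg γ := fun h' => hnn' (nonneg_add_ev h' i)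
      unfold gfun
      rw [dif_neg (fun h' => hnn' h'.1), dif_neg (fun h' => hnn h'.1)]
  neg γ _ hneg := by
    unfold gfun
    rw [dif_neg]
    exact fun h' => hneg h'.1

/-- **Construction**: a compatible function on generators comes from an element of the graded
piece. -/
theorem exists_of_gcompat {I : Ideal S} {α : Fin n → ℤ} {G : Set (Fin n →₀ ℕ)} {c : (Fin n →₀ ℕ) → k} (hI : IsMonomial I) (h : GCompat I α G c) :
    ∃ φ ∈ tPiece I α, ∀ g ∈ G, cf I α φ (ofN g + α) = c g := by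
  refine ⟨phiOf hI (compat_gfun h), phiOf_mem hI _, ?_⟩
  intro g hg
  have hgI : g ∈ exps I := h.sub g hg
  by_cases hc : Nonneg (ofN g + α) ∧ toN (ofN g + α) ∉ exps I
  · have hreg : ofN g + α ∈ region I α := mem_region_of hgI fun h' => hc.2 h'.2
    rw [cf_phiOf hI _ hreg hc.1]
    have hb : bOf α (ofN g + α) ∈ exps I := by rw [bOf_add]; exact hgI
    obtain ⟨g0, hg0, hle0, he0⟩ := gfun_spec h hc.1 hb
    rw [he0]
    rw [bOf_add] at hle0
    exact h.principle hg0 hg hle0 le_rfl hc.1 hc.2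
  · have hz : cf I α (phiOf hI (compat_gfun h)) (ofN g + α) = 0 := by
      unfold cf
      rw [dif_neg]
      intro h'
      exact hc ⟨h'.2.1, h'.2.2⟩
    rw [hz]
    by_cases hnn : Nonneg (ofN g + α)
    · have : toN (ofN g + α) ∈ exps I := by
        by_contra hcon
        exact hc ⟨hnn, hcon⟩
      exact (h.c3 g hg hnn this).symm
    · exact (h.c1 g hg hnn).symm

end Constr

/-! ### Counting -/

section Count

theorem finite_and_finrank_biSup {I : Ideal S} (hI : IsMonomial I) (s : Finset (Fin n → ℤ))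
    (hfin : ∀ α ∈ s, Module.Finite k ↥(tPiece I α)) :
    Module.Finite k ↥(⨆ α ∈ s, tPiece I α) ∧
      Module.finrank k ↥(⨆ α ∈ s, tPiece I α) = ∑ α ∈ s, Module.finrank k ↥(tPiece I α) := by
  classical
  induction s using Finset.induction_on with
  | empty =>
    have h0 : (⨆ α ∈ (∅ : Finset (Fin n → ℤ)), tPiece I α) = ⊥ := by simp
    rw [h0, Finset.sum_empty]
    exact ⟨inferInstance, finrank_bot k _⟩
  | insert a s ha ih =>
    have h1 : Module.Finite k ↥(tPiece I a) := hfin a (Finset.mem_insert_self a s)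
    obtain ⟨h2, h3⟩ := ih fun α hα => hfin α (Finset.mem_insert_of_mem hα)
    rw [Finset.iSup_insert, Finset.sum_insert ha, ← h3]
    refine ⟨inferInstance, ?_⟩
    have h4 := Submodule.finrank_sup_add_finrank_inf_eq (tPiece I a) (⨆ α ∈ s, tPiece I α)
    rw [(disjoint_tPiece_biSup hI s ha).eq_bot, finrank_bot, add_zero] at h4
    exact h4

theorem finrank_iSup_tPiece' {I : Ideal S} (hI : IsMonomial I)
    (P : (Fin n → ℤ) → Prop) (s : Finset (Fin n → ℤ)) (hs : ∀ α ∈ s, P α)
    (hbot : ∀ α, P α → α ∉ s → tPiece I α = ⊥)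
    (hfin : ∀ α ∈ s, Module.Finite k ↥(tPiece I α)) :
    Module.finrank k ↥(⨆ α : {α : Fin n → ℤ // P α}, tPiece I α.1) =
      ∑ α ∈ s, Module.finrank k ↥(tPiece I α) := by
  have h : (⨆ α : {α : Fin n → ℤ // P α}, tPiece I α.1) = ⨆ α ∈ s, tPiece I α := by
    apply le_antisymm
    · refine iSup_le fun α => ?_
      by_cases hα : α.1 ∈ s
      · exact le_biSup (fun α => tPiece I α) hα
      · rw [hbot α.1 α.2 hα]; exact bot_le
    · refine iSup₂_le fun α hα => ?_
      exact le_iSup (fun α : {α : Fin n → ℤ // P α} => tPiece I α.1) ⟨α, hs α hα⟩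
  rw [h]
  exact (finite_and_finrank_biSup hI s hfin).2

/-- **Count theorem.** -/
theorem finrank_eq_card {I : Ideal S} (hI : IsMonomial I) (P : (Fin n → ℤ) → Prop)
    (G : Set (Fin n →₀ ℕ)) (hG : ∀ β, β ∈ exps I → ∃ g ∈ G, g ∈ exps I ∧ g ≤ β)
    {Θ : Type} [Fintype Θ] [DecidableEq Θ] (gθ : Θ → (Fin n →₀ ℕ)) (αθ : Θ → (Fin n → ℤ))
    (hP : ∀ θ, P (αθ θ))
    (hcomplete : ∀ α, P α → ∀ φ ∈ tPiece I α,
      (∀ θ, αθ θ = α → cf I α φ (ofN (gθ θ) + α) = 0) → ∀ g ∈ G, cf I α φ (ofN g + α) = 0)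
    (hindep : ∀ θ, ∃ φ ∈ tPiece I (αθ θ), ∀ θ', αθ θ' = αθ θ →
      cf I (αθ θ) φ (ofN (gθ θ') + αθ θ) = if θ' = θ then 1 else 0) :
    Module.finrank k ↥(⨆ α : {α : Fin n → ℤ // P α}, tPiece I α.1) = Fintype.card Θ := by
  classical
  -- the comparison maps
  let Ψ : ∀ α : Fin n → ℤ, ↥(tPiece I α) →ₗ[k] ({θ : Θ // αθ θ = α} → k) := fun α =>
    { toFun := fun φ θ => cf I α φ.1 (ofN (gθ θ.1) + α)
      map_add' := fun φ ψ => by
        funext θ
        rw [Pi.add_apply, Submodule.coe_add, cf_add hI]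
      map_smul' := fun a φ => by
        funext θ
        rw [Pi.smul_apply, Submodule.coe_smul, cf_smul hI, RingHom.id_apply, smul_eq_mul] }
  have hinj : ∀ α, P α → Function.Injective (Ψ α) := by
    intro α hα
    rw [injective_iff_map_eq_zero]
    intro φ hφ
    apply Subtype.ext
    rw [ZeroMemClass.coe_zero]
    refine eq_zero_of_cf hI φ.2 G hG (hcomplete α hα φ.1 φ.2 ?_)
    intro θ hθ
    exact congrFun hφ ⟨θ, hθ⟩
  have hsurj : ∀ α, Function.Surjective (Ψ α) := by
    intro α f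
    have hex : ∀ θ : {θ : Θ // αθ θ = α}, ∃ φ ∈ tPiece I α, ∀ θ', αθ θ' = α →
        cf I α φ (ofN (gθ θ') + α) = if θ' = θ.1 then 1 else 0 := by
      rintro ⟨θ, rfl⟩
      exact hindep θ
    choose φθ hφθ1 hφθ2 using hex
    refine ⟨⟨∑ θ, f θ • φθ θ, Submodule.sum_mem _ fun θ _ => Submodule.smul_mem _ _ (hφθ1 θ)⟩, ?_⟩
    funext θ'
    show cf I α (∑ θ, f θ • φθ θ) (ofN (gθ θ'.1) + α) = f θ'
    have hsum : ∀ (t : Finset {θ : Θ // αθ θ = α}) (γ : Fin n → ℤ),
        cf I α (∑ θ ∈ t, f θ • φθ θ) γ = ∑ θ ∈ t, f θ * cf I α (φθ θ) γ := by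
      intro t γ
      induction t using Finset.induction_on with
      | empty =>
        simp only [Finset.sum_empty]
        unfold cf
        split_ifs with h'
        · rw [LinearMap.zero_apply, cq_zero hI h'.2.2]
        · rfl
      | insert a t ha ih =>
        rw [Finset.sum_insert ha, Finset.sum_insert ha, cf_add hI, cf_smul hI, ih]
    rw [hsum, Finset.sum_eq_single θ']
    · rw [hφθ2 θ' θ'.1 θ'.2, if_pos rfl, mul_one]
    · intro θ _ hne
      rw [hφθ2 θ θ'.1 θ'.2, if_neg, mul_zero]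
      intro h'
      exact hne (Subtype.ext h'.symm)
    · intro h'; exact absurd (Finset.mem_univ θ') h'
  have hequiv : ∀ α, P α → Nonempty (↥(tPiece I α) ≃ₗ[k] ({θ : Θ // αθ θ = α} → k)) := fun α hα =>
    ⟨LinearEquiv.ofBijective (Ψ α) ⟨hinj α hα, hsurj α⟩⟩
  set s : Finset (Fin n → ℤ) := Finset.univ.image αθ with hs
  have hsP : ∀ α ∈ s, P α := by
    intro α hα
    rw [hs, Finset.mem_image] at hα
    obtain ⟨θ, _, rfl⟩ := hα
    exact hP θ
  have hbot : ∀ α, P α → α ∉ s → tPiece I α = ⊥ := by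
    intro α hα hns
    obtain ⟨e⟩ := hequiv α hα
    have hemp : IsEmpty {θ : Θ // αθ θ = α} := by
      constructor
      rintro ⟨θ, hθ⟩
      apply hns
      rw [hs, Finset.mem_image]
      exact ⟨θ, Finset.mem_univ _, hθ⟩
    rw [Submodule.eq_bot_iff]
    intro φ hφ
    have : e ⟨φ, hφ⟩ = e 0 := Subsingleton.elim _ _
    have h2 := e.injective this
    exact congrArg Subtype.val h2
  have hfin : ∀ α ∈ s, Module.Finite k ↥(tPiece I α) := by
    intro α hα
    obtain ⟨e⟩ := hequiv α (hsP α hα)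
    exact Module.Finite.equiv e.symm
  rw [finrank_iSup_tPiece' hI P s hsP hbot hfin]
  have hfr : ∀ α ∈ s, Module.finrank k ↥(tPiece I α) =
      (Finset.univ.filter fun θ => αθ θ = α).card := by
    intro α hα
    obtain ⟨e⟩ := hequiv α (hsP α hα)
    rw [e.finrank_eq, Module.finrank_fintype_fun_eq_card, Fintype.card_subtype]
  rw [Finset.sum_congr rfl hfr, ← Finset.card_univ]
  exact (Finset.card_eq_sum_card_image αθ Finset.univ).symm

end Count

end Groth.Agent.Lib.Helper1.TgtGen
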