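import Groth.Agent.Lib.Helper1.ThetaPairing

/-!
# Theta groups: duality for the commutator pairing
-/

namespace Groth.Agent.Lib.Helper1.Theta

universe u

variable {k : Type u} [Field k] {Γ : Type u} [Group Γ]

theorem natCast_ne_zero_of_coprime (k : Type u) [Field k] {n : ℕ} (hn : n ≠ 0)
    (hc : n.Coprime (ringExpChar k)) : (n : k) ≠ 0 := by
  have hE : ExpChar k (ringExpChar k) := inferInstance
  generalize ringExpChar k = q at hE hc
  cases hE with
  | zero => exact_mod_cast hn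
  | prime hq =>
    intro h0
    rw [CharP.cast_eq_zero_iff k q] at h0
    exact hq.one_lt.ne' (Nat.Coprime.eq_one_of_dvd hc.symm h0)

namespace IsTheta

variable {ι : kˣ →* Γ} (h : IsTheta ι)
include h

/-- The commutative group structure on `K = Γ/ι(kˣ)`. -/
@[reducible] noncomputable def commGroupK : CommGroup (Γ ⧸ ι.range) :=
  { @QuotientGroup.Quotient.group Γ _ ι.range h.normal with
    mul_comm := by
      have hn := h.normal
      intro a b
      induction a using QuotientGroup.induction_on with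
      | H a =>
        induction b using QuotientGroup.induction_on with
        | H b =>
          rw [← QuotientGroup.mk_mul, ← QuotientGroup.mk_mul, QuotientGroup.eq]
          convert h.comm_mem b⁻¹ a⁻¹ using 1
          group }

variable [Finite (Γ ⧸ ι.range)]

theorem pow_card_mem (γ : Γ) : γ ^ Nat.card (Γ ⧸ ι.range) ∈ ι.range := by
  have hn := h.normal
  rw [← QuotientGroup.eq_one_iff, QuotientGroup.mk_pow]
  exact pow_card_eq_one'

variable [IsAlgClosed k] (hcop : (Nat.card (Γ ⧸ ι.range)).Coprime (ringExpChar k))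
include hcop

theorem card_ne_zero : ((Nat.card (Γ ⧸ ι.range) : ℕ) : k) ≠ 0 :=
  natCast_ne_zero_of_coprime k Nat.card_pos.ne' hcop

theorem hasEnough :
    let _ := h.commGroupK
    HasEnoughRootsOfUnity k (Monoid.exponent (Γ ⧸ ι.range)) := by
  intro cg
  have hne : NeZero ((Monoid.exponent (Γ ⧸ ι.range) : ℕ) : k) :=
    ⟨natCast_ne_zero_of_coprime k (Monoid.exponent_ne_zero_of_finite)
      (Nat.Coprime.coprime_dvd_left (Group.exponent_dvd_nat_card) hcop)⟩
  infer_instance

/-- The pairing as a surjective homomorphism `Γ → Hom(K, kˣ)` with kernel the centre. -/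
theorem exists_pairingHom :
    let _ := h.commGroupK
    ∃ Ψ₀ : Γ →* ((Γ ⧸ ι.range) →* kˣ),
      (∀ δ γ : Γ, Ψ₀ δ (QuotientGroup.mk γ) = h.e γ δ) ∧ Ψ₀.ker = ι.range ∧
        Function.Surjective Ψ₀ := by
  have hn := h.normal
  intro cg
  have hroots := h.hasEnough hcop
  -- the map `Γ → (K →* kˣ)`
  have hker : ∀ δ : Γ, ι.range ≤ (h.eHom δ).ker := by
    rintro δ _ ⟨z, rfl⟩
    rw [MonoidHom.mem_ker, eHom_apply, h.e_ι_left]
  let Ψ₀ : Γ →* ((Γ ⧸ ι.range) →* kˣ) :=
    { toFun := fun δ => QuotientGroup.lift ι.range (h.eHom δ) (hker δ)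
      map_one' := by
        ext x
        simp [h.e_one_right]
      map_mul' := by
        intro a b
        ext x
        simp [h.e_mul_right] }
  have hΨ₀ : ∀ δ γ : Γ, Ψ₀ δ (QuotientGroup.mk γ) = h.e γ δ := fun δ γ => rfl
  have hker2 : Ψ₀.ker = ι.range := by
    ext δ
    rw [MonoidHom.mem_ker, h.mem_range_iff]
    constructor
    · intro h1 γ
      rw [← hΨ₀, h1]; rfl
    · intro h1
      refine MonoidHom.ext fun x => ?_
      induction x using QuotientGroup.induction_on with
      | H γ => rw [hΨ₀, h1]; rfl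
  let Ψ : (Γ ⧸ ι.range) →* ((Γ ⧸ ι.range) →* kˣ) := QuotientGroup.lift ι.range Ψ₀ hker2.ge
  have hinj : Function.Injective Ψ := by
    rw [injective_iff_map_eq_one]
    intro a ha
    induction a using QuotientGroup.induction_on with
    | H a =>
      rw [QuotientGroup.eq_one_iff, ← hker2]
      exact ha
  have hcard : Nat.card (Γ ⧸ ι.range) = Nat.card ((Γ ⧸ ι.range) →* kˣ) :=
    (CommGroup.card_monoidHom_of_hasEnoughRootsOfUnity (Γ ⧸ ι.range) k).symm
  have hfin : Finite ((Γ ⧸ ι.range) →* kˣ) :=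
    Nat.finite_of_card_ne_zero (hcard ▸ Nat.card_pos.ne')
  have hbij : Function.Bijective Ψ :=
    (Nat.bijective_iff_injective_and_card Ψ).mpr ⟨hinj, hcard⟩
  refine ⟨Ψ₀, hΨ₀, hker2, fun φ => ?_⟩
  obtain ⟨κ, hκ⟩ := hbij.2 φ
  induction κ using QuotientGroup.induction_on with
  | H δ => exact ⟨δ, hκ⟩

/-- Every character of `K` is of the form `e(·, δ)`. -/
theorem exists_e_eq_of_charK :
    let _ := h.commGroupK
    ∀ φ : (Γ ⧸ ι.range) →* kˣ, ∃ δ : Γ, ∀ γ : Γ, φ (QuotientGroup.mk γ) = h.e γ δ := by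
  intro cg φ
  obtain ⟨Ψ₀, hΨ, -, hsurj⟩ := h.exists_pairingHom hcop
  obtain ⟨δ, rfl⟩ := hsurj φ
  exact ⟨δ, fun γ => hΨ δ γ⟩

/-- (D1) Every character of `Γ` trivial on the centre is `e(·, δ)`. -/
theorem exists_e_eq_of_char (χ : Γ →* kˣ) (hχ : ∀ z, χ (ι z) = 1) :
    ∃ δ : Γ, ∀ γ : Γ, χ γ = h.e γ δ := by
  have hn := h.normal
  have hker : ι.range ≤ χ.ker := by
    rintro _ ⟨z, rfl⟩
    exact hχ z
  obtain ⟨δ, hδ⟩ := h.exists_e_eq_of_charK hcop (QuotientGroup.lift ι.range χ hker)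
  exact ⟨δ, fun γ => by rw [← hδ γ]; rfl⟩

/-- (D2) Every character of a subgroup `H` which is trivial on `H ∩ ι(kˣ)` is `e(·, δ)|_H`. -/
theorem exists_e_eq_of_char_subgroup (H : Subgroup Γ) (χ : H →* kˣ)
    (hχ : ∀ x : H, (x : Γ) ∈ ι.range → χ x = 1) :
    ∃ δ : Γ, ∀ x : H, χ x = h.e x δ := by
  have hn := h.normal
  let cg := h.commGroupK
  have hroots := h.hasEnough hcop
  let π := QuotientGroup.mk' ι.range
  let f : H →* H.map π := π.subgroupMap H
  have hf : Function.Surjective f := π.subgroupMap_surjective H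
  have hker : f.ker ≤ χ.ker := by
    intro x hx
    rw [MonoidHom.mem_ker] at hx ⊢
    apply hχ
    have h1 : π (x : Γ) = 1 := congrArg Subtype.val hx
    exact (QuotientGroup.eq_one_iff _).mp h1
  let χbar : H.map π →* kˣ := f.liftOfSurjective hf ⟨χ, hker⟩
  obtain ⟨φ, hφ⟩ := MonoidHom.domRestrict_surjective (M := k) (H.map π) χbar
  obtain ⟨δ, hδ⟩ := h.exists_e_eq_of_charK hcop φ
  refine ⟨δ, fun x => ?_⟩
  rw [← hδ x]
  have h1 : χbar (f x) = χ x := MonoidHom.liftOfRightInverse_comp_apply _ _ _ _ _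
  rw [← h1, ← hφ]
  rfl

/-- (D3) `[H : Z] · [C(H) : Z] = [Γ : Z]` for `Z ≤ H`. -/
theorem relIndex_mul_relIndex_centralizer (H : Subgroup Γ) :
    ι.range.relIndex H * ι.range.relIndex (Subgroup.centralizer (H : Set Γ)) = ι.range.index := by
  have hn := h.normal
  let cg := h.commGroupK
  obtain ⟨Ψ₀, hΨ, hkerΨ, hsurj⟩ := h.exists_pairingHom hcop
  have hroots := h.hasEnough hcop
  let π := QuotientGroup.mk' ι.range
  let Hbar := H.map π
  let A := (MonoidHom.domRestrictHom Hbar kˣ).ker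
  have hA : A.comap Ψ₀ = Subgroup.centralizer (H : Set Γ) := by
    ext δ
    rw [Subgroup.mem_comap, MonoidHom.mem_ker, MonoidHom.domRestrictHom_apply,
      MonoidHom.domRestrict_eq_one_iff, Subgroup.mem_centralizer_iff]
    constructor
    · intro h1 γ hγ
      have h2 := h1 (π γ) (Subgroup.mem_map_of_mem π hγ)
      rw [show π γ = QuotientGroup.mk γ from rfl, hΨ, h.e_eq_one_iff] at h2
      exact h2
    · rintro h1 _ ⟨γ, hγ, rfl⟩
      rw [show π γ = QuotientGroup.mk γ from rfl, hΨ, h.e_eq_one_iff]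
      exact h1 γ hγ
  have h1 : ι.range.relIndex (Subgroup.centralizer (H : Set Γ)) = Nat.card A := by
    have h0 : Ψ₀.ker.relIndex (A.comap Ψ₀) = Nat.card A := by
      rw [← MonoidHom.comap_bot, Subgroup.relIndex_comap, Subgroup.relIndex_bot_left,
        Subgroup.map_comap_eq_self_of_surjective hsurj]
    rw [hkerΨ, hA] at h0
    exact h0
  have h2 : ι.range.relIndex H = Nat.card Hbar := by
    have h3 : (⊥ : Subgroup (Γ ⧸ ι.range)).comap π = ι.range := by
      rw [MonoidHom.comap_bot, QuotientGroup.ker_mk']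
    rw [← Subgroup.relIndex_bot_left, ← Subgroup.relIndex_comap, h3]
  have h3 : Nat.card A = Nat.card ((Γ ⧸ ι.range) ⧸ Hbar) :=
    CommGroup.card_domRestrictHom_ker (M := k) Hbar
  rw [h1, h2, h3, mul_comm, Subgroup.index]
  exact (Subgroup.card_eq_card_quotient_mul_card_subgroup Hbar).symm

end IsTheta

end Groth.Agent.Lib.Helper1.Theta
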