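import Groth.Agent.Lib.Helper1.ThetaRep

/-!
# Theta groups: existence of an irreducible weight-one representation
-/

namespace Groth.Agent.Lib.Helper1.Theta

universe u

section General

variable {k : Type*} [Field k] {G : Type*} [Monoid G] {V : Type*} [AddCommGroup V] [Module k V]

/-- A nonzero finite-dimensional representation has an irreducible subrepresentation. -/
theorem exists_irreducible_sub (ρ : Representation k G V) [FiniteDimensional k V] [Nontrivial V] :
    ∃ a : Subrepresentation ρ, Representation.IsIrreducible a.toRepresentation := by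
  classical
  have hex : ∃ n, ∃ a : Subrepresentation ρ, a ≠ ⊥ ∧ Module.finrank k a.toSubmodule = n := by
    refine ⟨_, ⊤, ?_, rfl⟩
    intro h0
    obtain ⟨v, hv⟩ := exists_ne (0 : V)
    have h1 : v ∈ (⊤ : Subrepresentation ρ).toSubmodule := Submodule.mem_top
    rw [h0] at h1
    exact hv ((Submodule.mem_bot k).mp h1)
  obtain ⟨a, ha0, ha⟩ := Nat.find_spec hex
  have hmin : ∀ b : Subrepresentation ρ, b ≠ ⊥ → b ≤ a → b = a := by
    intro b hb0 hba
    have h1 : Nat.find hex ≤ Module.finrank k b.toSubmodule := Nat.find_min' hex ⟨b, hb0, rfl⟩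
    rw [← ha] at h1
    exact Subrepresentation.toSubmodule_injective
      (Submodule.eq_of_le_of_finrank_le (show b.toSubmodule ≤ a.toSubmodule from hba) h1)
  refine ⟨a, ?_⟩
  have hnt : Nontrivial (Subrepresentation a.toRepresentation) := by
    refine ⟨⊥, ⊤, fun h0 => ha0 ?_⟩
    apply Subrepresentation.toSubmodule_injective
    change a.toSubmodule = ⊥
    rw [eq_bot_iff]
    intro v hv
    have h1 : (⟨v, hv⟩ : a.toSubmodule) ∈ (⊤ : Subrepresentation a.toRepresentation).toSubmodule :=
      Submodule.mem_top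
    rw [← h0] at h1
    have h2 := (Submodule.mem_bot k).mp h1
    exact (Submodule.mem_bot k).mpr (congrArg Subtype.val h2)
  refine { hnt with eq_bot_or_eq_top := fun c => ?_ }
  let b : Subrepresentation ρ :=
    { toSubmodule := c.toSubmodule.map a.toSubmodule.subtype
      apply_mem_toSubmodule := by
        rintro g _ ⟨w, hw, rfl⟩
        exact ⟨a.toRepresentation g w, c.apply_mem_toSubmodule g hw, rfl⟩ }
  have hba : b ≤ a := by
    rintro _ ⟨w, _, rfl⟩
    exact w.2
  by_cases hb0 : b = ⊥
  · left
    apply Subrepresentation.toSubmodule_injective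
    change c.toSubmodule = ⊥
    rw [eq_bot_iff]
    intro w hw
    have h1 : (w : V) ∈ b.toSubmodule := ⟨w, hw, rfl⟩
    rw [hb0] at h1
    have h2 := (Submodule.mem_bot k).mp h1
    exact (Submodule.mem_bot k).mpr (Subtype.ext h2)
  · right
    have hb := hmin b hb0 hba
    apply Subrepresentation.toSubmodule_injective
    change c.toSubmodule = ⊤
    rw [eq_top_iff]
    intro w _
    have h1 : (w : V) ∈ b.toSubmodule := by rw [hb]; exact w.2
    obtain ⟨w', hw', hww'⟩ := h1
    have h2 : w' = w := Subtype.ext hww'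
    rw [← h2]; exact hw'

end General

variable {k : Type u} [Field k] {Γ : Type u} [Group Γ]

/-- The space of functions `f : Γ → k` with `f (ι z * γ) = z * f γ`. -/
def indSubmodule (ι : kˣ →* Γ) : Submodule k (Γ → k) where
  carrier := {f | ∀ (z : kˣ) (γ : Γ), f (ι z * γ) = (z : k) * f γ}
  add_mem' := by
    intro f f' hf hf' z γ
    rw [Pi.add_apply, Pi.add_apply, hf, hf', mul_add]
  zero_mem' := by
    intro z γ
    rw [Pi.zero_apply, Pi.zero_apply, mul_zero]
  smul_mem' := by
    intro c f hf z γ
    rw [Pi.smul_apply, Pi.smul_apply, hf, smul_eq_mul, smul_eq_mul, mul_left_comm]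

/-- Right translation of functions. -/
def rtrans (k : Type u) [Field k] (Γ : Type u) [Group Γ] : Representation k Γ (Γ → k) where
  toFun g := LinearMap.funLeft k k (fun γ => γ * g)
  map_one' := by
    ext f γ
    simp [LinearMap.funLeft_apply]
  map_mul' g g' := by
    ext f γ
    simp [LinearMap.funLeft_apply, mul_assoc]

theorem rtrans_apply (g : Γ) (f : Γ → k) (γ : Γ) : rtrans k Γ g f γ = f (γ * g) := rfl

/-- The induced representation as a subrepresentation of the function space. -/
def indSub (ι : kˣ →* Γ) : Subrepresentation (rtrans k Γ) where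
  toSubmodule := indSubmodule ι
  apply_mem_toSubmodule := by
    intro g f hf z γ
    rw [rtrans_apply, rtrans_apply, mul_assoc, hf]

namespace IsTheta

variable {ι : kˣ →* Γ} (h : IsTheta ι)
include h

theorem indSub_weightOne : IsWeightOne ι (indSub ι).toRepresentation := by
  intro z f
  apply Subtype.ext
  funext γ
  change rtrans k Γ (ι z) f.1 γ = ((z : k) • f.1) γ
  rw [rtrans_apply, ← h.central, f.2 z γ, Pi.smul_apply, smul_eq_mul]

theorem indSub_nontrivial : Nontrivial (indSub ι).toSubmodule := by
  classical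
  let f₀ : Γ → k := fun γ => if hγ : γ ∈ ι.range then ((hγ.choose : kˣ) : k) else 0
  have hf₀ : f₀ ∈ indSubmodule ι := by
    intro z γ
    by_cases hγ : γ ∈ ι.range
    · have hγ' : ι z * γ ∈ ι.range := ι.range.mul_mem ⟨z, rfl⟩ hγ
      simp only [f₀, dif_pos hγ, dif_pos hγ']
      have h1 : hγ'.choose = z * hγ.choose := by
        apply h.inj
        rw [hγ'.choose_spec, map_mul, hγ.choose_spec]
      rw [h1, Units.val_mul]
    · have hγ' : ι z * γ ∉ ι.range := by
        intro h1
        have hz : ι z ∈ ι.range := ⟨z, rfl⟩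
        exact hγ ((Subgroup.mul_mem_cancel_left ι.range hz).mp h1)
      simp only [f₀, dif_neg hγ, dif_neg hγ', mul_zero]
  have h1 : f₀ 1 = 1 := by
    have h2 : (1 : Γ) ∈ ι.range := ι.range.one_mem
    simp only [f₀, dif_pos h2]
    have h3 : h2.choose = 1 := by
      apply h.inj
      rw [h2.choose_spec, map_one]
    rw [h3, Units.val_one]
  refine ⟨⟨⟨f₀, hf₀⟩, 0, fun h0 => ?_⟩⟩
  have h2 : f₀ 1 = 0 := congrFun (congrArg Subtype.val h0) 1
  rw [h1] at h2
  exact one_ne_zero h2

theorem indSub_finite [Finite (Γ ⧸ ι.range)] : Module.Finite k (indSub ι).toSubmodule := by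
  let s : (Γ ⧸ ι.range) → Γ := Quotient.out
  have hsmk : ∀ κ : Γ ⧸ ι.range, (QuotientGroup.mk (s κ) : Γ ⧸ ι.range) = κ :=
    fun κ => Quotient.out_eq' κ
  have hs : ∀ γ : Γ, ∃ z : kˣ, γ = ι z * s (QuotientGroup.mk γ) := by
    intro γ
    have h1 : (s (QuotientGroup.mk γ))⁻¹ * γ ∈ ι.range := by
      rw [← QuotientGroup.eq]; exact hsmk _
    obtain ⟨z, hz⟩ := h1
    refine ⟨z, ?_⟩
    rw [h.central, hz]; group
  let φ : (indSub ι).toSubmodule →ₗ[k] ((Γ ⧸ ι.range) → k) :=
    (LinearMap.funLeft k k s) ∘ₗ (indSubmodule ι).subtype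
  have hφ : Function.Injective φ := by
    rw [← LinearMap.ker_eq_bot, LinearMap.ker_eq_bot']
    intro f hf
    apply Subtype.ext
    funext γ
    obtain ⟨z, hz⟩ := hs γ
    have h1 : f.1 (s (QuotientGroup.mk γ)) = 0 := congrFun hf (QuotientGroup.mk γ)
    rw [hz, f.2 z, h1, mul_zero]
    rfl
  exact Module.Finite.of_injective φ hφ

/-- Existence of an irreducible weight-one representation. -/
theorem exists_irreducible_weightOne [Finite (Γ ⧸ ι.range)] :
    ∃ (V : Type u) (_ : AddCommGroup V) (_ : Module k V) (_ : Module.Finite k V)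
      (ρ : Representation k Γ V), Representation.IsIrreducible ρ ∧ IsWeightOne ι ρ := by
  have h1 := h.indSub_nontrivial
  have h2 := h.indSub_finite
  obtain ⟨a, ha⟩ := exists_irreducible_sub (indSub ι).toRepresentation
  have h3 : Module.Finite k a.toSubmodule := Module.Finite.of_injective a.toSubmodule.subtype
    (Submodule.injective_subtype _)
  refine ⟨a.toSubmodule, inferInstance, inferInstance, h3, a.toRepresentation, ha, ?_⟩
  intro z v
  apply Subtype.ext
  exact h.indSub_weightOne z v.1

end IsTheta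

end Groth.Agent.Lib.Helper1.Theta
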