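import Mathlib

/-!
# Joint eigenspace decomposition for commuting finite-order families
-/

namespace Groth.Agent.Lib.Helper1.Theta

universe u

section Joint

variable {k : Type*} [Field k] {G : Type*} [Group G] {M : Type*} [AddCommGroup M] [Module k M]
  (T : Representation k G M)

/-- The joint eigenspace of a representation for a character. -/
def jointEigenspace (χ : G →* kˣ) : Submodule k M :=
  ⨅ g, Module.End.eigenspace (T g) ((χ g : kˣ) : k)

theorem mem_jointEigenspace {χ : G →* kˣ} {m : M} :
    m ∈ jointEigenspace T χ ↔ ∀ g, T g m = ((χ g : kˣ) : k) • m := by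
  unfold jointEigenspace
  rw [Submodule.mem_iInf]
  exact forall_congr' fun g => Module.End.mem_eigenspace_iff

theorem iSupIndep_jointEigenspace (hcomm : ∀ g g', T g * T g' = T g' * T g) :
    iSupIndep (fun χ : G →* kˣ => jointEigenspace T χ) := by
  have h1 : iSupIndep fun c : G → k => ⨅ g, Module.End.maxGenEigenspace (T g) (c g) :=
    Module.End.independent_iInf_maxGenEigenspace_of_forall_mapsTo (fun g => T g)
    (fun i j φ => Module.End.mapsTo_maxGenEigenspace_of_comm (hcomm j i) φ)
  have hinj : Function.Injective (fun (χ : G →* kˣ) (g : G) => ((χ g : kˣ) : k)) := by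
    intro χ χ' hχ
    ext g
    exact congrFun hχ g
  have h2 : iSupIndep (fun χ : G →* kˣ =>
      ⨅ g, Module.End.maxGenEigenspace (T g) ((χ g : kˣ) : k)) := h1.comp hinj
  refine h2.mono ?_
  intro χ
  change jointEigenspace T χ ≤ ⨅ g, Module.End.maxGenEigenspace (T g) ((χ g : kˣ) : k)
  unfold jointEigenspace
  exact le_iInf fun g => (iInf_le _ g).trans Module.End.eigenspace_le_maxGenEigenspace

theorem iSup_jointEigenspace [IsAlgClosed k] [FiniteDimensional k M]
    (hcomm : ∀ g g', T g * T g' = T g' * T g) (N : ℕ) (hN : (N : k) ≠ 0)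
    (hpow : ∀ g : G, T (g ^ N) = 1) :
    ⨆ χ : G →* kˣ, jointEigenspace T χ = ⊤ := by
  have hss : ∀ g : G, Module.End.IsSemisimple (T g) := by
    intro g
    have hsq : Squarefree (Polynomial.X ^ N - Polynomial.C (1 : k)) :=
      (Polynomial.separable_X_pow_sub_C (1 : k) hN one_ne_zero).squarefree
    apply Module.End.isSemisimple_of_squarefree_aeval_eq_zero hsq
    rw [map_sub, map_pow, Polynomial.aeval_X, Polynomial.aeval_C, map_one, ← map_pow, hpow,
      sub_self]
  have hjoint := Module.End.iSup_iInf_maxGenEigenspace_eq_top_of_iSup_maxGenEigenspace_eq_top_of_commute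
    (fun g => T g) (fun g g' _ => hcomm g g')
    (fun g => Module.End.iSup_maxGenEigenspace_eq_top (T g))
  rw [eq_top_iff, ← hjoint]
  apply iSup_le
  intro c
  by_cases hbot : (⨅ g, Module.End.maxGenEigenspace (T g) (c g)) = ⊥
  · rw [hbot]; exact bot_le
  obtain ⟨m, hm, hm0⟩ := (Submodule.ne_bot_iff _).mp hbot
  have hE : ∀ (m' : M), m' ∈ (⨅ g, Module.End.maxGenEigenspace (T g) (c g)) →
      ∀ g, T g m' = c g • m' := by
    intro m' hm' g
    have h1 := (Submodule.mem_iInf _).mp hm' g
    rw [(hss g).isFinitelySemisimple.maxGenEigenspace_eq_eigenspace,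
      Module.End.mem_eigenspace_iff] at h1
    exact h1
  have hc1 : c 1 = 1 := by
    have h1 := hE m hm 1
    rw [map_one, Module.End.one_apply] at h1
    have h2 : (1 - c 1) • m = 0 := by rw [sub_smul, one_smul, ← h1, sub_self]
    rcases smul_eq_zero.mp h2 with h3 | h3
    · exact (sub_eq_zero.mp h3).symm
    · exact absurd h3 hm0
  have hcmul : ∀ g g', c (g * g') = c g * c g' := by
    intro g g'
    have h1 := hE m hm (g * g')
    rw [map_mul, Module.End.mul_apply, hE m hm g', map_smul, hE m hm g, smul_smul] at h1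
    have h2 : (c g' * c g - c (g * g')) • m = 0 := by rw [sub_smul, h1, sub_self]
    rcases smul_eq_zero.mp h2 with h3 | h3
    · rw [← sub_eq_zero.mp h3, mul_comm]
    · exact absurd h3 hm0
  let χ₀ : G →* k := { toFun := c, map_one' := hc1, map_mul' := hcmul }
  refine le_trans ?_ (le_iSup _ χ₀.toHomUnits)
  intro m' hm'
  rw [mem_jointEigenspace]
  intro g
  rw [MonoidHom.coe_toHomUnits]
  exact hE m' hm' g

end Joint

end Groth.Agent.Lib.Helper1.Theta
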