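import Groth.Agent.Lib.Helper1.ThetaDuality

/-!
# Theta groups: Lagrangian subgroups and maximal level subgroups
-/

namespace Groth.Agent.Lib.Helper1.Theta

universe u

variable {k : Type u} [Field k] {Γ : Type u} [Group Γ]

namespace IsTheta

variable {ι : kˣ →* Γ} (h : IsTheta ι)
include h

theorem mem_sup_range_iff (H : Subgroup Γ) (x : Γ) :
    x ∈ H ⊔ ι.range ↔ ∃ y ∈ H, ∃ z : kˣ, y * ι z = x := by
  have hn := h.normal
  rw [← SetLike.mem_coe, Subgroup.mul_normal, Set.mem_mul]
  constructor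
  · rintro ⟨y, hy, _, ⟨z, rfl⟩, rfl⟩
    exact ⟨y, hy, z, rfl⟩
  · rintro ⟨y, hy, z, rfl⟩
    exact ⟨y, hy, ι z, ⟨z, rfl⟩, rfl⟩

/-- Level subgroups are commutative. -/
theorem level_comm (H : Subgroup Γ) (hH : H ⊓ ι.range = ⊥) :
    ∀ a ∈ H, ∀ b ∈ H, a * b = b * a := by
  intro a ha b hb
  have h1 : a * b * a⁻¹ * b⁻¹ ∈ H ⊓ ι.range :=
    ⟨H.mul_mem (H.mul_mem (H.mul_mem ha hb) (H.inv_mem ha)) (H.inv_mem hb), h.comm_mem a b⟩
  rw [hH, Subgroup.mem_bot] at h1
  calc a * b = (a * b * a⁻¹ * b⁻¹) * (b * a) := by group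
    _ = b * a := by rw [h1, one_mul]

variable [Finite (Γ ⧸ ι.range)]

theorem lagrangian_tfae [IsAlgClosed k]
    (hcop : (Nat.card (Γ ⧸ ι.range)).Coprime (ringExpChar k))
    (H : Subgroup Γ) (hH : ι.range ≤ H) :
    List.TFAE [
      IsMulCommutative H ∧ ∀ H' : Subgroup Γ, IsMulCommutative H' → H ≤ H' → H' = H,
      IsMulCommutative H ∧ (ι.range.relIndex H) ^ 2 = ι.range.index,
      H = Subgroup.centralizer (H : Set Γ)] := by
  have hcount := h.relIndex_mul_relIndex_centralizer hcop H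
  have hidx : ι.range.index ≠ 0 := Subgroup.index_ne_zero_of_finite
  have hle : IsMulCommutative H → H ≤ Subgroup.centralizer (H : Set Γ) := by
    intro hc x hx
    rw [Subgroup.mem_centralizer_iff]
    intro y hy
    exact (isMulCommutative_iff_of_setLike.mp hc) y hy x hx
  have h31 : H = Subgroup.centralizer (H : Set Γ) → IsMulCommutative H := by
    intro h3
    refine isMulCommutative_iff_of_setLike.mpr fun a ha b hb => ?_
    have hb' : b ∈ Subgroup.centralizer (H : Set Γ) := h3 ▸ hb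
    exact (Subgroup.mem_centralizer_iff.mp hb') a ha
  tfae_have 3 → 1 := by
    intro h3
    refine ⟨h31 h3, fun H' hc' hle' => le_antisymm ?_ hle'⟩
    intro x hx
    rw [h3, Subgroup.mem_centralizer_iff]
    intro y hy
    exact (isMulCommutative_iff_of_setLike.mp hc') y (hle' hy) x hx
  tfae_have 1 → 3 := by
    rintro ⟨hc, hmax⟩
    refine le_antisymm (hle hc) ?_
    intro g hg
    rw [Subgroup.mem_centralizer_iff] at hg
    have hcomm : ∀ x ∈ (H : Set Γ) ∪ {g}, ∀ y ∈ (H : Set Γ) ∪ {g}, x * y = y * x := by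
      rintro x (hx | hx) y (hy | hy)
      · exact (isMulCommutative_iff_of_setLike.mp hc) x hx y hy
      · rw [Set.mem_singleton_iff] at hy; subst hy; exact hg x hx
      · rw [Set.mem_singleton_iff] at hx; subst hx; exact (hg y hy).symm
      · rw [Set.mem_singleton_iff] at hx hy; rw [hx, hy]
    have h1 := hmax (Subgroup.closure ((H : Set Γ) ∪ {g})) (Subgroup.isMulCommutative_closure hcomm)
      (fun x hx => Subgroup.subset_closure (Or.inl hx))
    rw [← h1]
    exact Subgroup.subset_closure (Or.inr rfl)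
  tfae_have 3 → 2 := by
    intro h3
    refine ⟨h31 h3, ?_⟩
    rw [← h3] at hcount
    rw [sq]; exact hcount
  tfae_have 2 → 3 := by
    rintro ⟨hc, hsq⟩
    refine le_antisymm (hle hc) ?_
    have h1 : ι.range.relIndex H ≠ 0 := by
      intro h0; rw [h0] at hsq; exact hidx (by rw [← hsq]; rfl)
    have h2 : ι.range.relIndex (Subgroup.centralizer (H : Set Γ)) = ι.range.relIndex H := by
      rw [← hcount, sq] at hsq
      exact (Nat.eq_of_mul_eq_mul_left (Nat.pos_of_ne_zero h1) hsq).symm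
    have h3 := Subgroup.relIndex_mul_relIndex _ _ _ hH (hle hc)
    rw [h2] at h3
    have h4 : H.relIndex (Subgroup.centralizer (H : Set Γ)) = 1 := by
      have := Nat.eq_of_mul_eq_mul_left (Nat.pos_of_ne_zero h1) (h3.trans (mul_one _).symm)
      exact this
    exact Subgroup.relIndex_eq_one.mp h4
  tfae_finish

end IsTheta

end Groth.Agent.Lib.Helper1.Theta
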