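import Groth.Agent.Lib.Helper1.ThetaLagrangian

/-!
# Theta groups: maximal level subgroups are Lagrangian
-/

namespace Groth.Agent.Lib.Helper1.Theta

universe u

variable {k : Type u} [Field k] {Γ : Type u} [Group Γ]

namespace IsTheta

variable {ι : kˣ →* Γ} (h : IsTheta ι)
include h

variable [Finite (Γ ⧸ ι.range)]

/-- The subgroup `{y * g^i | y ∈ H}` for `g` commuting with `H`. -/
def adjoinComm (H : Subgroup Γ) (g : Γ) (hg : ∀ y ∈ H, y * g = g * y) : Subgroup Γ where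
  carrier := {x | ∃ y ∈ H, ∃ i : ℤ, x = y * g ^ i}
  one_mem' := ⟨1, H.one_mem, 0, by simp⟩
  mul_mem' := by
    rintro _ _ ⟨y, hy, i, rfl⟩ ⟨y', hy', j, rfl⟩
    refine ⟨y * y', H.mul_mem hy hy', i + j, ?_⟩
    have hc : Commute (g ^ i) y' := (Commute.zpow_left (hg y' hy').symm i)
    rw [zpow_add, mul_assoc, ← mul_assoc (g ^ i), hc.eq, mul_assoc, mul_assoc]
  inv_mem' := by
    rintro _ ⟨y, hy, i, rfl⟩
    refine ⟨y⁻¹, H.inv_mem hy, -i, ?_⟩
    have hc : Commute (g ^ i) y := (Commute.zpow_left (hg y hy).symm i)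
    rw [mul_inv_rev, zpow_neg]
    exact (hc.inv_left.inv_right).eq

omit h [Finite (Γ ⧸ ι.range)] in
theorem mem_adjoinComm {H : Subgroup Γ} {g : Γ} (hg : ∀ y ∈ H, y * g = g * y) (x : Γ) :
    x ∈ adjoinComm H g hg ↔ ∃ y ∈ H, ∃ i : ℤ, x = y * g ^ i := Iff.rfl

theorem centralizer_le_of_maximal_level [IsAlgClosed k] (H : Subgroup Γ) (hH : H ⊓ ι.range = ⊥)
    (hmax : ∀ H' : Subgroup Γ, H' ⊓ ι.range = ⊥ → H ≤ H' → H' = H) :
    Subgroup.centralizer (H : Set Γ) ≤ H ⊔ ι.range := by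
  classical
  intro g hg
  rw [Subgroup.mem_centralizer_iff] at hg
  set S := H ⊔ ι.range with hS
  have hex : ∃ n, 0 < n ∧ g ^ n ∈ S :=
    ⟨Nat.card (Γ ⧸ ι.range), Nat.card_pos, (le_sup_right : ι.range ≤ S) (h.pow_card_mem g)⟩
  set n := Nat.find hex with hn
  obtain ⟨hnpos, hgn⟩ := Nat.find_spec hex
  have hmin : ∀ m, 0 < m → g ^ m ∈ S → n ≤ m := fun m h1 h2 => Nat.find_min' hex ⟨h1, h2⟩
  have hdiv : ∀ i : ℤ, g ^ i ∈ S → (n : ℤ) ∣ i := by
    intro i hi
    have h1 : g ^ (i % n) ∈ S := by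
      have h0 : i % n = i - n * (i / n) := by rw [Int.emod_def]
      rw [h0, zpow_sub, zpow_mul, zpow_natCast]
      exact S.mul_mem hi (S.inv_mem (S.zpow_mem hgn _))
    have h2 : 0 ≤ i % n := Int.emod_nonneg _ (by exact_mod_cast hnpos.ne')
    have h3 : i % n < n := Int.emod_lt_of_pos _ (by exact_mod_cast hnpos)
    obtain ⟨r, hr⟩ := Int.eq_ofNat_of_zero_le h2
    rw [hr, zpow_natCast] at h1
    have h4 : r < n := by
      rw [hr] at h3; exact_mod_cast h3
    have h5 : r = 0 := by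
      by_contra h5
      exact absurd (hmin r (Nat.pos_of_ne_zero h5) h1) (not_le.mpr h4)
    rw [h5] at hr
    exact Int.dvd_of_emod_eq_zero hr
  obtain ⟨h₀, hh₀, z, hz⟩ := (h.mem_sup_range_iff H _).mp hgn
  obtain ⟨w, hw⟩ := IsAlgClosed.exists_pow_nat_eq (z : k) hnpos
  have hw0 : w ≠ 0 := by
    rintro rfl
    rw [zero_pow hnpos.ne'] at hw
    exact z.ne_zero hw.symm
  set wu : kˣ := Units.mk0 w hw0 with hwu_def
  have hwu : wu ^ n = z := Units.ext (by simpa [wu] using hw)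
  set g' := g * ι wu⁻¹ with hg'
  have hcg : Commute g (ι wu⁻¹) := (h.central wu⁻¹ g).symm
  have hg'n : g' ^ n = h₀ := by
    rw [hg', hcg.mul_pow, ← hz, ← map_pow, inv_pow, hwu, mul_assoc, ← map_mul, mul_inv_cancel,
      map_one, mul_one]
  have hg'comm : ∀ y ∈ H, y * g' = g' * y := by
    intro y hy
    rw [hg', ← mul_assoc, hg y hy, mul_assoc, mul_assoc, h.central]
  have hgi : ∀ i : ℤ, g ^ i = g' ^ i * ι (wu ^ i) := by
    intro i
    have h1 : g = g' * ι wu := by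
      rw [hg', mul_assoc, ← map_mul, inv_mul_cancel, map_one, mul_one]
    have hc' : Commute g' (ι wu) := (h.central wu g').symm
    conv_lhs => rw [h1]
    rw [hc'.mul_zpow, map_zpow]
  have hlevel : adjoinComm H g' hg'comm ⊓ ι.range = ⊥ := by
    rw [eq_bot_iff]
    rintro x ⟨⟨y, hy, i, rfl⟩, ⟨c, hc⟩⟩
    have h1 : g ^ i ∈ S := by
      rw [hgi i]
      have h2 : g' ^ i = y⁻¹ * ι c := by rw [hc]; group
      rw [h2, mul_assoc, ← map_mul]
      exact (h.mem_sup_range_iff H _).mpr ⟨y⁻¹, H.inv_mem hy, _, rfl⟩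
    obtain ⟨q, rfl⟩ := hdiv i h1
    have h2 : g' ^ ((n : ℤ) * q) ∈ H := by
      rw [zpow_mul, zpow_natCast, hg'n]
      exact H.zpow_mem hh₀ q
    have h3 : y * g' ^ ((n : ℤ) * q) ∈ H ⊓ ι.range := ⟨H.mul_mem hy h2, ⟨c, hc⟩⟩
    rw [hH] at h3
    exact h3
  have hle : H ≤ adjoinComm H g' hg'comm := fun y hy => ⟨y, hy, 0, by simp⟩
  have heq := hmax _ hlevel hle
  have hg'H : g' ∈ H := by
    rw [← heq]
    exact ⟨1, H.one_mem, 1, by simp⟩
  have h1 : g = g' * ι wu := by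
    rw [hg', mul_assoc, ← map_mul, inv_mul_cancel, map_one, mul_one]
  rw [h1]
  exact (h.mem_sup_range_iff H _).mpr ⟨g', hg'H, wu, rfl⟩

/-- A maximal level subgroup has `|H|² = |K|`. -/
theorem card_sq_of_maximal_level [IsAlgClosed k]
    (hcop : (Nat.card (Γ ⧸ ι.range)).Coprime (ringExpChar k))
    (H : Subgroup Γ) (hH : H ⊓ ι.range = ⊥)
    (hmax : ∀ H' : Subgroup Γ, H' ⊓ ι.range = ⊥ → H ≤ H' → H' = H) :
    Nat.card H ^ 2 = Nat.card (Γ ⧸ ι.range) := by
  have hn := h.normal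
  set S := H ⊔ ι.range with hS
  have hcount := h.relIndex_mul_relIndex_centralizer hcop S
  have hcS : Subgroup.centralizer (S : Set Γ) = S := by
    apply le_antisymm
    · exact (Subgroup.centralizer_le (show (H : Set Γ) ⊆ S from (le_sup_left : H ≤ S))).trans
        (h.centralizer_le_of_maximal_level H hH hmax)
    · intro x hx
      obtain ⟨y, hy, z, rfl⟩ := (h.mem_sup_range_iff H x).mp hx
      rw [Subgroup.mem_centralizer_iff]
      intro x' hx'
      obtain ⟨y', hy', z', rfl⟩ := (h.mem_sup_range_iff H x').mp hx'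
      have h1 := h.level_comm H hH y hy y' hy'
      calc y' * ι z' * (y * ι z) = (y' * y) * (ι z' * ι z) := by
            rw [mul_assoc, ← mul_assoc (ι z'), h.central z' y, mul_assoc, mul_assoc]
        _ = (y * y') * (ι z * ι z') := by
            rw [h1, ← map_mul, ← map_mul, mul_comm z z']
        _ = y * ι z * (y' * ι z') := by
            rw [mul_assoc, ← mul_assoc y', ← h.central z y', mul_assoc, mul_assoc]
  rw [hcS] at hcount
  have h1 : ι.range.relIndex S = Nat.card H := by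
    rw [hS, Subgroup.relIndex_sup_right, ← Subgroup.inf_relIndex_left, hH,
      Subgroup.relIndex_bot_left]
  rw [h1] at hcount
  rw [sq, hcount, Subgroup.index]

end IsTheta

end Groth.Agent.Lib.Helper1.Theta
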