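import Mathlib

/-!
# Theta groups: the commutator pairing and duality

Setting: `ι : kˣ →* Γ` injective with image the centre of `Γ`, all commutators central.
-/

namespace Groth.Agent.Lib.Helper1.Theta

universe u

variable {k : Type u} [Field k] {Γ : Type u} [Group Γ]

/-- The hypotheses on a (group of points of a) non-degenerate theta group. -/
structure IsTheta (ι : kˣ →* Γ) : Prop where
  inj : Function.Injective ι
  cent : ι.range = Subgroup.center Γ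
  comm : commutator Γ ≤ ι.range

namespace IsTheta

variable {ι : kˣ →* Γ} (h : IsTheta ι)
include h

open scoped commutatorElement in
theorem comm_mem (γ δ : Γ) : γ * δ * γ⁻¹ * δ⁻¹ ∈ ι.range :=
  h.comm (Subgroup.commutator_mem_commutator (Subgroup.mem_top γ) (Subgroup.mem_top δ))

theorem central (z : kˣ) (γ : Γ) : ι z * γ = γ * ι z := by
  have h1 : ι z ∈ Subgroup.center Γ := h.cent ▸ ⟨z, rfl⟩
  exact ((Subgroup.mem_center_iff.mp h1) γ).symm

/-- The commutator pairing with values in `kˣ`. -/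
noncomputable def e (γ δ : Γ) : kˣ := (h.comm_mem γ δ).choose

theorem ι_e (γ δ : Γ) : ι (h.e γ δ) = γ * δ * γ⁻¹ * δ⁻¹ := (h.comm_mem γ δ).choose_spec

theorem mul_comm' (γ δ : Γ) : γ * δ = ι (h.e γ δ) * (δ * γ) := by
  rw [h.ι_e]; group

theorem e_unique {γ δ : Γ} {z : kˣ} (hz : γ * δ = ι z * (δ * γ)) : h.e γ δ = z := by
  apply h.inj
  rw [h.ι_e, hz]; group

theorem e_mul_left (γ₁ γ₂ δ : Γ) : h.e (γ₁ * γ₂) δ = h.e γ₁ δ * h.e γ₂ δ := by
  apply h.e_unique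
  calc γ₁ * γ₂ * δ = γ₁ * (γ₂ * δ) := mul_assoc _ _ _
    _ = γ₁ * (ι (h.e γ₂ δ) * (δ * γ₂)) := by rw [← h.mul_comm' γ₂ δ]
    _ = ι (h.e γ₂ δ) * ((γ₁ * δ) * γ₂) := by
        rw [← mul_assoc γ₁, ← h.central, mul_assoc, mul_assoc]
    _ = ι (h.e γ₂ δ) * ((ι (h.e γ₁ δ) * (δ * γ₁)) * γ₂) := by rw [← h.mul_comm' γ₁ δ]
    _ = ι (h.e γ₁ δ * h.e γ₂ δ) * (δ * (γ₁ * γ₂)) := by
        rw [map_mul, h.central (h.e γ₁ δ) (ι (h.e γ₂ δ))]
        simp only [mul_assoc]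
  
theorem e_swap (γ δ : Γ) : h.e δ γ = (h.e γ δ)⁻¹ := by
  apply h.e_unique
  have := h.mul_comm' γ δ
  rw [map_inv, this, ← mul_assoc, inv_mul_cancel, one_mul]

theorem e_mul_right (γ δ₁ δ₂ : Γ) : h.e γ (δ₁ * δ₂) = h.e γ δ₁ * h.e γ δ₂ := by
  rw [h.e_swap (δ₁ * δ₂) γ, h.e_mul_left, h.e_swap δ₁ γ, h.e_swap δ₂ γ, mul_inv]

theorem e_ι_left (z : kˣ) (δ : Γ) : h.e (ι z) δ = 1 := by
  apply h.e_unique
  rw [map_one, one_mul, h.central]

theorem e_ι_right (γ : Γ) (z : kˣ) : h.e γ (ι z) = 1 := by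
  rw [h.e_swap (ι z) γ, h.e_ι_left, inv_one]

theorem e_eq_one_iff (γ δ : Γ) : h.e γ δ = 1 ↔ γ * δ = δ * γ := by
  constructor
  · intro h1
    have := h.mul_comm' γ δ
    rwa [h1, map_one, one_mul] at this
  · intro h1
    apply h.e_unique
    rw [map_one, one_mul, h1]

theorem mem_range_iff (γ : Γ) : γ ∈ ι.range ↔ ∀ δ, h.e δ γ = 1 := by
  rw [h.cent, Subgroup.mem_center_iff]
  simp only [h.e_eq_one_iff]

theorem mem_range_iff' (γ : Γ) : γ ∈ ι.range ↔ ∀ δ, h.e γ δ = 1 := by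
  rw [h.mem_range_iff]
  constructor
  · intro h1 δ; rw [h.e_swap δ γ, h1, inv_one]
  · intro h1 δ; rw [h.e_swap γ δ, h1, inv_one]

theorem e_one_left (δ : Γ) : h.e 1 δ = 1 := by
  rw [h.e_eq_one_iff, one_mul, mul_one]

theorem e_one_right (γ : Γ) : h.e γ 1 = 1 := by
  rw [h.e_eq_one_iff, one_mul, mul_one]

theorem e_self (γ : Γ) : h.e γ γ = 1 := by
  rw [h.e_eq_one_iff]

theorem e_inv_right (γ δ : Γ) : h.e γ δ⁻¹ = (h.e γ δ)⁻¹ := by
  rw [eq_inv_iff_mul_eq_one, ← h.e_mul_right, inv_mul_cancel, h.e_one_right]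

theorem e_inv_left (γ δ : Γ) : h.e γ⁻¹ δ = (h.e γ δ)⁻¹ := by
  rw [eq_inv_iff_mul_eq_one, ← h.e_mul_left, inv_mul_cancel, h.e_one_left]

/-- The pairing as a bihomomorphism; `eHom δ γ = e γ δ` (a character in the first variable). -/
noncomputable def eHom (δ : Γ) : Γ →* kˣ where
  toFun γ := h.e γ δ
  map_one' := h.e_one_left δ
  map_mul' γ₁ γ₂ := h.e_mul_left γ₁ γ₂ δ

@[simp] theorem eHom_apply (δ γ : Γ) : h.eHom δ γ = h.e γ δ := rfl

theorem normal : (ι.range).Normal := by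
  rw [h.cent]; infer_instance

end IsTheta

end Groth.Agent.Lib.Helper1.Theta
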