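import Groth.Agent.Lib.Helper1.ThetaLevel
import Groth.Agent.Lib.Helper1.ThetaJoint

/-!
# Theta groups: weight-one representations (Stone–von Neumann)
-/

namespace Groth.Agent.Lib.Helper1.Theta

universe u

variable {k : Type u} [Field k] {Γ : Type u} [Group Γ]

/-- A representation has weight one if `ι z` acts as the scalar `z`. -/
def IsWeightOne (ι : kˣ →* Γ) {V : Type*} [AddCommGroup V] [Module k V]
    (ρ : Representation k Γ V) : Prop :=
  ∀ (z : kˣ) (v : V), ρ (ι z) v = (z : k) • v

namespace IsTheta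

variable {ι : kˣ →* Γ} (h : IsTheta ι)
include h

section Basic

variable {V : Type*} [AddCommGroup V] [Module k V] {ρ : Representation k Γ V}
  (hρ : IsWeightOne ι ρ)
include hρ

/-- `ρ(γ)ρ(δ) = e(γ,δ) ρ(δ)ρ(γ)`. -/
theorem rho_comm (γ δ : Γ) (v : V) :
    ρ γ (ρ δ v) = ((h.e γ δ : kˣ) : k) • ρ δ (ρ γ v) := by
  have h1 : ρ (γ * δ) v = ρ (ι (h.e γ δ) * (δ * γ)) v := by rw [← h.mul_comm' γ δ]
  rw [map_mul, map_mul, map_mul, Module.End.mul_apply, Module.End.mul_apply,
    Module.End.mul_apply, hρ] at h1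
  exact h1

end Basic

section Conj

variable {V W : Type*} [AddCommGroup V] [Module k V] [AddCommGroup W] [Module k W]
  {ρ : Representation k Γ V} {σ : Representation k Γ W}
  (hρ : IsWeightOne ι ρ) (hσ : IsWeightOne ι σ)
include hρ hσ

omit h in
theorem linHom_ι (z : kˣ) : Representation.linHom ρ σ (ι z) = 1 := by
  ext f v
  rw [Representation.linHom_apply, LinearMap.comp_apply, LinearMap.comp_apply, ← map_inv, hρ,
    map_smul, hσ, smul_smul, Module.End.one_apply, Units.val_inv_eq_inv_val,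
    mul_inv_cancel₀ z.ne_zero, one_smul]

theorem linHom_comm (g g' : Γ) :
    Representation.linHom ρ σ g * Representation.linHom ρ σ g' =
      Representation.linHom ρ σ g' * Representation.linHom ρ σ g := by
  rw [← map_mul, ← map_mul, h.mul_comm' g g', map_mul, linHom_ι hρ hσ, one_mul]

variable [Finite (Γ ⧸ ι.range)]

theorem linHom_pow (g : Γ) :
    Representation.linHom ρ σ (g ^ Nat.card (Γ ⧸ ι.range)) = 1 := by
  obtain ⟨z, hz⟩ := h.pow_card_mem g
  rw [← hz, linHom_ι hρ hσ]

variable [IsAlgClosed k] (hcop : (Nat.card (Γ ⧸ ι.range)).Coprime (ringExpChar k))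
  [FiniteDimensional k V] [FiniteDimensional k W]
include hcop

/-- (E) `Hom_k(V, W)` is spanned by maps `f` with `σ(g) f ρ(g)⁻¹ = e(g,δ) f`. -/
theorem span_twisted_eq_top :
    Submodule.span k {f : V →ₗ[k] W | ∃ δ : Γ, ∀ g : Γ,
      Representation.linHom ρ σ g f = ((h.e g δ : kˣ) : k) • f} = ⊤ := by
  have h1 := iSup_jointEigenspace (Representation.linHom ρ σ) (h.linHom_comm hρ hσ)
    (Nat.card (Γ ⧸ ι.range)) (h.card_ne_zero hcop) (h.linHom_pow hρ hσ)
  rw [eq_top_iff, ← h1]
  apply iSup_le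
  intro χ f hf
  by_cases hf0 : f = 0
  · rw [hf0]; exact Submodule.zero_mem _
  apply Submodule.subset_span
  rw [mem_jointEigenspace] at hf
  have hχ : ∀ z, χ (ι z) = 1 := by
    intro z
    have h2 := hf (ι z)
    rw [linHom_ι hρ hσ, Module.End.one_apply] at h2
    have h3 : ((1 : k) - ((χ (ι z) : kˣ) : k)) • f = 0 := by
      rw [sub_smul, one_smul, ← h2, sub_self]
    rcases smul_eq_zero.mp h3 with h4 | h4
    · exact Units.ext (sub_eq_zero.mp h4).symm
    · exact absurd h4 hf0
  obtain ⟨δ, hδ⟩ := h.exists_e_eq_of_char hcop χ hχ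
  exact ⟨δ, fun g => by rw [hf g, hδ g]⟩

omit [Finite (Γ ⧸ ι.range)] [IsAlgClosed k] [FiniteDimensional k V] [FiniteDimensional k W] hσ hcop in
/-- Untwisting: if `σ(g) f ρ(g)⁻¹ = e(g,δ) f` for all `g`, then `f ∘ ρ(δ⁻¹)` is intertwining. -/
theorem untwist {f : V →ₗ[k] W} {δ : Γ}
    (hf : ∀ g : Γ, Representation.linHom ρ σ g f = ((h.e g δ : kˣ) : k) • f) (g : Γ) (v : V) :
    (f ∘ₗ ρ δ⁻¹) (ρ g v) = σ g ((f ∘ₗ ρ δ⁻¹) v) := by
  have h1 : ∀ w : V, σ g (f w) = ((h.e g δ : kˣ) : k) • f (ρ g w) := by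
    intro w
    have h2 := LinearMap.congr_fun (hf g) (ρ g w)
    rw [Representation.linHom_apply, LinearMap.comp_apply, LinearMap.comp_apply,
      LinearMap.smul_apply] at h2
    rw [← h2, ← Module.End.mul_apply, ← map_mul, inv_mul_cancel, map_one, Module.End.one_apply]
  rw [LinearMap.comp_apply, LinearMap.comp_apply, h1, h.rho_comm hρ g δ⁻¹, map_smul, smul_smul,
    h.e_inv_right, Units.val_inv_eq_inv_val, mul_inv_cancel₀ (Units.ne_zero _), one_smul]

end Conj

section Irred

variable {V W : Type*} [AddCommGroup V] [Module k V] [AddCommGroup W] [Module k W]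
  {ρ : Representation k Γ V} {σ : Representation k Γ W}

omit h in
theorem nontrivial_of_irreducible (ρ : Representation k Γ V) [Representation.IsIrreducible ρ] :
    Nontrivial V := by
  by_contra hV
  rw [not_nontrivial_iff_subsingleton] at hV
  obtain ⟨a, b, hab⟩ := exists_pair_ne (Subrepresentation ρ)
  have : Subsingleton (Submodule k V) := (Submodule.subsingleton_iff k).mpr hV
  exact hab (Subrepresentation.toSubmodule_injective (Subsingleton.elim _ _))

variable (hρ : IsWeightOne ι ρ) (hσ : IsWeightOne ι σ)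
  [Finite (Γ ⧸ ι.range)] [IsAlgClosed k]
  (hcop : (Nat.card (Γ ⧸ ι.range)).Coprime (ringExpChar k))
  [FiniteDimensional k V] [FiniteDimensional k W]
include hρ hcop

/-- Uniqueness of the irreducible weight-one representation. -/
theorem nonempty_equiv (hσ : IsWeightOne ι σ) [Representation.IsIrreducible ρ]
    [Representation.IsIrreducible σ] : Nonempty (Representation.Equiv ρ σ) := by
  have hV := nontrivial_of_irreducible ρ
  have hW := nontrivial_of_irreducible σ
  have hM : Nontrivial (V →ₗ[k] W) := by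
    have h0 : 0 < Module.finrank k (V →ₗ[k] W) := by
      rw [Module.finrank_linearMap k k V W]
      exact Nat.mul_pos Module.finrank_pos Module.finrank_pos
    exact Module.nontrivial_of_finrank_pos (R := k) h0
  have hspan := h.span_twisted_eq_top hρ hσ hcop
  obtain ⟨f, ⟨δ, hf⟩, hf0⟩ : ∃ f ∈ {f : V →ₗ[k] W | ∃ δ : Γ, ∀ g : Γ,
      Representation.linHom ρ σ g f = ((h.e g δ : kˣ) : k) • f}, f ≠ 0 := by
    by_contra hcon
    push Not at hcon
    have h1 := (Submodule.span_eq_bot (R := k)).mpr hcon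
    rw [hspan] at h1
    exact top_ne_bot h1
  let F : Representation.IntertwiningMap ρ σ :=
    ⟨f ∘ₗ ρ δ⁻¹, fun g => by ext v; exact h.untwist hρ hf g v⟩
  have hF0 : F ≠ 0 := by
    intro h0
    apply hf0
    ext w
    have h1 : F (ρ δ w) = 0 := by rw [h0]; rfl
    have h2 : F (ρ δ w) = f (ρ δ⁻¹ (ρ δ w)) := rfl
    rw [h2, ← Module.End.mul_apply, ← map_mul, inv_mul_cancel, map_one,
      Module.End.one_apply] at h1
    exact h1
  rcases Representation.IsIrreducible.bijective_or_eq_zero F with hb | h0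
  · exact ⟨F.ofBijective hb⟩
  · exact absurd h0 hF0

/-- `(dim V)² = |K|` for an irreducible weight-one representation. -/
theorem finrank_sq [Representation.IsIrreducible ρ] :
    Module.finrank k V ^ 2 = Nat.card (Γ ⧸ ι.range) := by
  classical
  have hV := nontrivial_of_irreducible ρ
  have hfin : Fintype (Γ ⧸ ι.range) := Fintype.ofFinite _
  let s : (Γ ⧸ ι.range) → Γ := Quotient.out
  have hsmk : ∀ κ : Γ ⧸ ι.range, (QuotientGroup.mk (s κ) : Γ ⧸ ι.range) = κ :=
    fun κ => Quotient.out_eq' κ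
  have hs : ∀ γ : Γ, ∃ z : kˣ, γ = s (QuotientGroup.mk γ) * ι z := by
    intro γ
    have h1 : (s (QuotientGroup.mk γ))⁻¹ * γ ∈ ι.range := by
      rw [← QuotientGroup.eq]; exact hsmk _
    obtain ⟨z, hz⟩ := h1
    exact ⟨z, by rw [hz]; group⟩
  let b : (Γ ⧸ ι.range) → (V →ₗ[k] V) := fun κ => ρ (s κ)
  have hli : LinearIndependent k b := by
    have hind := iSupIndep_jointEigenspace (Representation.linHom ρ ρ) (h.linHom_comm hρ hρ)
    have hinj : Function.Injective (fun κ : Γ ⧸ ι.range => h.eHom (s κ)) := by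
      intro κ κ' hκ
      have h1 : (s κ)⁻¹ * s κ' ∈ ι.range := by
        rw [h.mem_range_iff]
        intro g
        have h2 := DFunLike.congr_fun hκ g
        simp only [eHom_apply] at h2
        rw [h.e_mul_right, h.e_inv_right, h2, inv_mul_cancel]
      have h3 := (QuotientGroup.eq).mpr h1
      rwa [hsmk, hsmk] at h3
    refine (hind.comp hinj).linearIndependent _ (fun κ => ?_) (fun κ => ?_)
    · rw [Function.comp_apply, mem_jointEigenspace]
      intro g
      ext v
      rw [Representation.linHom_apply, LinearMap.comp_apply, LinearMap.comp_apply,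
        LinearMap.smul_apply, eHom_apply, h.rho_comm hρ g (s κ), ← Module.End.mul_apply (ρ g),
        ← map_mul, mul_inv_cancel, map_one, Module.End.one_apply]
    · intro h0
      obtain ⟨v, hv⟩ := exists_ne (0 : V)
      have h1 : ρ (s κ)⁻¹ (ρ (s κ) v) = v := by
        rw [← Module.End.mul_apply, ← map_mul, inv_mul_cancel, map_one, Module.End.one_apply]
      rw [show ρ (s κ) = b κ from rfl, h0, LinearMap.zero_apply, map_zero] at h1
      exact hv h1.symm
  have hspan : Submodule.span k (Set.range b) = ⊤ := by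
    rw [eq_top_iff, ← h.span_twisted_eq_top hρ hρ hcop, Submodule.span_le]
    rintro f ⟨δ, hf⟩
    let F : Representation.IntertwiningMap ρ ρ :=
      ⟨f ∘ₗ ρ δ⁻¹, fun g => by ext v; exact h.untwist hρ hf g v⟩
    obtain ⟨c, hc⟩ :=
      (Representation.IsIrreducible.algebraMap_intertwiningMap_bijective_of_isAlgClosed
        (ρ := ρ)).2 F
    have hfc : f = c • ρ δ := by
      ext v
      have h1 : F (ρ δ v) = c • ρ δ v := by
        rw [← hc, Representation.IntertwiningMap.algebraMap_apply]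
        rfl
      have h2 : F (ρ δ v) = f (ρ δ⁻¹ (ρ δ v)) := rfl
      rw [h2, ← Module.End.mul_apply (ρ δ⁻¹) (ρ δ), ← map_mul, inv_mul_cancel, map_one,
        Module.End.one_apply] at h1
      rw [h1, LinearMap.smul_apply]
    obtain ⟨z, hz⟩ := hs δ
    have h3 : ρ (s (QuotientGroup.mk δ)) * ρ (ι z) = (z : k) • ρ (s (QuotientGroup.mk δ)) := by
      ext v
      rw [Module.End.mul_apply, hρ, map_smul, LinearMap.smul_apply]
    rw [SetLike.mem_coe, hfc, hz, map_mul, h3, smul_smul]
    exact Submodule.smul_mem _ _ (Submodule.subset_span ⟨_, rfl⟩)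
  have h1 : Module.finrank k (V →ₗ[k] V) = Fintype.card (Γ ⧸ ι.range) :=
    Module.finrank_eq_card_basis (Module.Basis.mk hli hspan.ge)
  rw [Nat.card_eq_fintype_card, ← h1, Module.finrank_linearMap k k V V, sq]

end Irred

end IsTheta

end Groth.Agent.Lib.Helper1.Theta
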