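import Groth.Agent.Lib.Helper1.ThetaRep

/-!
# Theta groups: weight-one representations are semisimple; invariants of level subgroups
-/

namespace Groth.Agent.Lib.Helper1.Theta

universe u

variable {k : Type u} [Field k] {Γ : Type u} [Group Γ]

namespace IsTheta

variable {ι : kˣ →* Γ} (h : IsTheta ι)
include h

section Maschke

variable {W : Type*} [AddCommGroup W] [Module k W] {ρ : Representation k Γ W}
  (hρ : IsWeightOne ι ρ) [Finite (Γ ⧸ ι.range)]
include hρ

omit h in
/-- Maschke's theorem for weight-one representations. -/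
theorem isSemisimple (hN : ((Nat.card (Γ ⧸ ι.range) : ℕ) : k) ≠ 0) :
    Representation.IsSemisimpleRepresentation ρ := by
  classical
  have hfin : Fintype (Γ ⧸ ι.range) := Fintype.ofFinite _
  refine ⟨fun a => ?_⟩
  obtain ⟨P₀, hP₀⟩ := a.toSubmodule.subtype.exists_leftInverse_of_injective
    (Submodule.ker_subtype _)
  let P : W →ₗ[k] W := a.toSubmodule.subtype ∘ₗ P₀
  have hPmem : ∀ w, P w ∈ a.toSubmodule := fun w => (P₀ w).2
  have hPid : ∀ w ∈ a.toSubmodule, P w = w := by
    intro w hw
    have h1 := LinearMap.congr_fun hP₀ ⟨w, hw⟩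
    exact congrArg Subtype.val h1
  let T := Representation.linHom ρ ρ
  let F : Γ → (W →ₗ[k] W) := fun γ => T γ P
  have hF : ∀ γ z, F (γ * ι z) = F γ := by
    intro γ z
    change T (γ * ι z) P = T γ P
    rw [map_mul, Module.End.mul_apply, linHom_ι hρ hρ, Module.End.one_apply]
  let Fbar : (Γ ⧸ ι.range) → (W →ₗ[k] W) := Quotient.lift F (by
    intro x y hxy
    obtain ⟨z, hz⟩ := QuotientGroup.leftRel_apply.mp hxy
    have h1 : y = x * ι z := by rw [hz]; group
    rw [h1, hF])
  have hFbar : ∀ γ, Fbar (QuotientGroup.mk γ) = F γ := fun γ => rfl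
  have hFapply : ∀ γ w, F γ w = ρ γ (P (ρ γ⁻¹ w)) := fun γ w => rfl
  let S : W →ₗ[k] W := ∑ κ, Fbar κ
  let c : k := ((Nat.card (Γ ⧸ ι.range) : ℕ) : k)⁻¹
  let π : W →ₗ[k] W := c • S
  have hSmem : ∀ w, S w ∈ a.toSubmodule := by
    intro w
    rw [LinearMap.sum_apply]
    refine Submodule.sum_mem _ fun κ _ => ?_
    induction κ using QuotientGroup.induction_on with
    | H γ =>
      rw [hFbar, hFapply]
      exact a.apply_mem_toSubmodule γ (hPmem _)
  have hπmem : ∀ w, π w ∈ a.toSubmodule := fun w => by
    rw [LinearMap.smul_apply]; exact Submodule.smul_mem _ _ (hSmem w)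
  have hSid : ∀ w ∈ a.toSubmodule, S w = ((Nat.card (Γ ⧸ ι.range) : ℕ) : k) • w := by
    intro w hw
    rw [LinearMap.sum_apply]
    have h1 : ∀ κ ∈ (Finset.univ : Finset (Γ ⧸ ι.range)), Fbar κ w = w := by
      intro κ _
      induction κ using QuotientGroup.induction_on with
      | H γ =>
        rw [hFbar, hFapply, hPid _ (a.apply_mem_toSubmodule γ⁻¹ hw), ← Module.End.mul_apply,
          ← map_mul, mul_inv_cancel, map_one, Module.End.one_apply]
    rw [Finset.sum_congr rfl h1, Finset.sum_const, Finset.card_univ, Nat.card_eq_fintype_card,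
      Nat.cast_smul_eq_nsmul]
  have hπid : ∀ w ∈ a.toSubmodule, π w = w := by
    intro w hw
    rw [LinearMap.smul_apply, hSid w hw, smul_smul, inv_mul_cancel₀ hN, one_smul]
  have hTS : ∀ g, T g S = S := by
    intro g
    rw [map_sum]
    have h1 : ∀ κ, T g (Fbar κ) = Fbar (g • κ) := by
      intro κ
      induction κ using QuotientGroup.induction_on with
      | H γ =>
        rw [MulAction.Quotient.smul_mk, hFbar, hFbar]
        change T g (T γ P) = T (g * γ) P
        rw [map_mul, Module.End.mul_apply]
    rw [Finset.sum_congr rfl (fun κ _ => h1 κ)]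
    exact Equiv.sum_comp (MulAction.toPerm g) Fbar
  have hπeq : ∀ g w, π (ρ g w) = ρ g (π w) := by
    intro g w
    have h1 : T g π = π := by
      rw [map_smul, hTS]
    have h2 := LinearMap.congr_fun h1 (ρ g w)
    rw [Representation.linHom_apply, LinearMap.comp_apply, LinearMap.comp_apply,
      ← Module.End.mul_apply (ρ g⁻¹), ← map_mul, inv_mul_cancel, map_one,
      Module.End.one_apply] at h2
    exact h2.symm
  let b : Subrepresentation ρ :=
    { toSubmodule := LinearMap.ker π
      apply_mem_toSubmodule := by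
        intro g w hw
        rw [LinearMap.mem_ker] at hw ⊢
        rw [hπeq, hw, map_zero] }
  refine ⟨b, ?_, ?_⟩
  · rw [disjoint_iff]
    apply Subrepresentation.toSubmodule_injective
    change a.toSubmodule ⊓ LinearMap.ker π = ⊥
    rw [eq_bot_iff]
    rintro w ⟨hwa, hwb⟩
    rw [SetLike.mem_coe, LinearMap.mem_ker, hπid w hwa] at hwb
    exact (Submodule.mem_bot k).mpr hwb
  · rw [codisjoint_iff]
    apply Subrepresentation.toSubmodule_injective
    change a.toSubmodule ⊔ LinearMap.ker π = ⊤
    rw [eq_top_iff]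
    intro w _
    have h1 : w = π w + (w - π w) := by abel
    rw [h1]
    refine Submodule.add_mem_sup (hπmem w) ?_
    rw [LinearMap.mem_ker, map_sub, hπid _ (hπmem w), sub_self]

end Maschke

section Invariants

variable {W : Type*} [AddCommGroup W] [Module k W] {ρ : Representation k Γ W}
  (hρ : IsWeightOne ι ρ) [Finite (Γ ⧸ ι.range)] [IsAlgClosed k]
  (hcop : (Nat.card (Γ ⧸ ι.range)).Coprime (ringExpChar k)) [FiniteDimensional k W]
include hρ hcop

open scoped IsMulCommutative in
/-- For a level subgroup `H`, `dim W = |H| · dim W^H`. -/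
theorem finrank_eq_card_mul_invariants (H : Subgroup Γ) (hH : H ⊓ ι.range = ⊥) :
    Module.finrank k W =
      Nat.card H * Module.finrank k (Representation.invariants (ρ.comp H.subtype)) := by
  classical
  have hn := h.normal
  have hHcomm := h.level_comm H hH
  have hc : IsMulCommutative H := isMulCommutative_iff_of_setLike.mpr hHcomm
  let j : H →* (Γ ⧸ ι.range) := (QuotientGroup.mk' ι.range).comp H.subtype
  have hj : Function.Injective j := by
    rw [injective_iff_map_eq_one]
    intro x hx
    have h1 : (x : Γ) ∈ ι.range := (QuotientGroup.eq_one_iff _).mp hx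
    have h2 : (x : Γ) ∈ H ⊓ ι.range := ⟨x.2, h1⟩
    rw [hH, Subgroup.mem_bot] at h2
    exact Subtype.ext h2
  have hHfin : Finite H := Finite.of_injective j hj
  have hdvd : Nat.card H ∣ Nat.card (Γ ⧸ ι.range) := Subgroup.card_dvd_of_injective j hj
  have hN : ((Nat.card H : ℕ) : k) ≠ 0 := by
    obtain ⟨m, hm⟩ := hdvd
    have h1 := h.card_ne_zero hcop
    rw [hm, Nat.cast_mul] at h1
    exact left_ne_zero_of_mul h1
  let T : Representation k H W := ρ.comp H.subtype
  have hcommT : ∀ x y, T x * T y = T y * T x := by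
    intro x y
    rw [← map_mul, ← map_mul, mul_comm]
  have hpow : ∀ x : H, T (x ^ Nat.card H) = 1 := by
    intro x
    rw [pow_card_eq_one', map_one]
  have hsup := iSup_jointEigenspace T hcommT (Nat.card H) hN hpow
  have hind := iSupIndep_jointEigenspace T hcommT
  have hroots : HasEnoughRootsOfUnity k (Monoid.exponent H) := by
    have hne : NeZero ((Monoid.exponent H : ℕ) : k) := ⟨by
      obtain ⟨m, hm⟩ := Group.exponent_dvd_nat_card (G := H)
      intro h0
      apply hN
      rw [hm, Nat.cast_mul, h0, zero_mul]⟩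
    infer_instance
  have hcard : Nat.card (H →* kˣ) = Nat.card H :=
    CommGroup.card_monoidHom_of_hasEnoughRootsOfUnity H k
  have hfinX : Finite (H →* kˣ) := Nat.finite_of_card_ne_zero (hcard ▸ Nat.card_pos.ne')
  have hfintX : Fintype (H →* kˣ) := Fintype.ofFinite _
  have hint := DirectSum.isInternal_submodule_of_iSupIndep_of_iSup_eq_top hind hsup
  have h1 : Module.finrank k W = ∑ χ : H →* kˣ, Module.finrank k (jointEigenspace T χ) := by
    rw [← (LinearEquiv.ofBijective (DirectSum.coeLinearMap _) hint).finrank_eq,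
      Module.finrank_directSum]
  have hinv : Representation.invariants T = jointEigenspace T 1 := by
    ext w
    rw [Representation.mem_invariants, mem_jointEigenspace]
    simp only [MonoidHom.one_apply, Units.val_one, one_smul]
  have h2 : ∀ χ : H →* kˣ, Module.finrank k (jointEigenspace T χ) =
      Module.finrank k (jointEigenspace T 1) := by
    intro χ
    have hχ : ∀ x : H, (x : Γ) ∈ ι.range → χ x = 1 := by
      intro x hx
      have h2 : (x : Γ) ∈ H ⊓ ι.range := ⟨x.2, hx⟩
      rw [hH, Subgroup.mem_bot] at h2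
      rw [show x = 1 from Subtype.ext h2, map_one]
    obtain ⟨δ, hδ⟩ := h.exists_e_eq_of_char_subgroup hcop H χ hχ
    have hinjρ : ∀ g : Γ, Function.Injective (ρ g) := by
      intro g
      apply Function.LeftInverse.injective (g := ρ g⁻¹)
      intro w
      rw [← Module.End.mul_apply, ← map_mul, inv_mul_cancel, map_one, Module.End.one_apply]
    have hm1 : ∀ w ∈ jointEigenspace T 1, ρ δ w ∈ jointEigenspace T χ := by
      intro w hw
      rw [mem_jointEigenspace] at hw ⊢
      intro x
      have h3 := hw x
      simp only [MonoidHom.one_apply, Units.val_one, one_smul] at h3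
      change ρ x (ρ δ w) = _
      rw [h.rho_comm hρ x δ, show ρ (x : Γ) w = T x w from rfl, h3, hδ x]
    have hm2 : ∀ w ∈ jointEigenspace T χ, ρ δ⁻¹ w ∈ jointEigenspace T 1 := by
      intro w hw
      rw [mem_jointEigenspace] at hw ⊢
      intro x
      have h3 := hw x
      simp only [MonoidHom.one_apply, Units.val_one, one_smul]
      change ρ x (ρ δ⁻¹ w) = _
      rw [h.rho_comm hρ x δ⁻¹, show ρ (x : Γ) w = T x w from rfl, h3, map_smul, smul_smul,
        h.e_inv_right, hδ x, Units.val_inv_eq_inv_val, inv_mul_cancel₀ (Units.ne_zero _),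
        one_smul]
    apply le_antisymm
    · exact LinearMap.finrank_le_finrank_of_injective (f := (ρ δ⁻¹).restrict hm2)
        (fun a b hab => Subtype.ext (hinjρ _ (congrArg Subtype.val hab)))
    · exact LinearMap.finrank_le_finrank_of_injective (f := (ρ δ).restrict hm1)
        (fun a b hab => Subtype.ext (hinjρ _ (congrArg Subtype.val hab)))
  rw [h1, Finset.sum_congr rfl (fun χ _ => h2 χ), Finset.sum_const, Finset.card_univ,
    smul_eq_mul, ← Nat.card_eq_fintype_card, hcard, hinv]

end Invariants

end IsTheta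

end Groth.Agent.Lib.Helper1.Theta
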