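import Mathlib

/-!
# Binary forms: dimensions, linear factors, and the trisecant family of a rational quintic
-/

set_option autoImplicit false
open MvPolynomial

namespace Groth.Agent.Lib.Helper1.Trisec

variable (K : Type*) [Field K]

instance finite_Sd (d : ℕ) : Module.Finite K ↥(homogeneousSubmodule (Fin 2) K d) :=
  Module.Finite.iff_fg.2 (homogeneousSubmodule_fg (Fin 2) K d)

lemma finrank_Sd (d : ℕ) : Module.finrank K ↥(homogeneousSubmodule (Fin 2) K d) = d + 1 := by
  classical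
  rw [homogeneousSubmodule_eq_finsupp_supported]
  have hfin : {e : Fin 2 →₀ ℕ | e.degree = d}.Finite := Finsupp.finite_of_degree_eq d
  let _ : Fintype ↥{e : Fin 2 →₀ ℕ | e.degree = d} := hfin.fintype
  rw [(AddMonoidAlgebra.supportedEquivFinsupp (R := K) (S := K) {e : Fin 2 →₀ ℕ | e.degree = d}).finrank_eq,
    Module.finrank_finsupp_self]
  rw [Fintype.card_of_subtype (Finset.finsuppAntidiag (Finset.univ : Finset (Fin 2)) d)]
  · rw [Finset.card_finsuppAntidiag_nat_eq_choose]
    simp only [Finset.card_univ, Fintype.card_fin]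
    have : 2 + d - 1 = d + 1 := by omega
    rw [this, Nat.choose_succ_self_right]
  · intro x
    rw [Finset.mem_finsuppAntidiag]
    simp [Finsupp.degree_eq_sum]

variable {K}

/-- a binary cubic over an algebraically closed field has a linear factor -/
lemma exists_factor [IsAlgClosed K] (g : MvPolynomial (Fin 2) K) (hg : g.IsHomogeneous 3) :
    ∃ l q : MvPolynomial (Fin 2) K, l.IsHomogeneous 1 ∧ q.IsHomogeneous 2 ∧ g = l * q := by
  set p : Polynomial K := aeval ![Polynomial.X, 1] g with hp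
  have hgp : p.homogenize 3 = g := Polynomial.homogenize_eq_of_isHomogeneous hg rfl
  have hdeg : p.natDegree ≤ 3 := by
    have := MvPolynomial.aeval_natDegree_le (m := 3) (n := 1) g hg.totalDegree_le
      ![Polynomial.X, 1] (by intro i; fin_cases i <;> simp)
    simpa using this
  by_cases hnd : p.natDegree = 0
  · refine ⟨(1 : Polynomial K).homogenize 1, p.homogenize 2, Polynomial.isHomogeneous_homogenize _,
      Polynomial.isHomogeneous_homogenize _, ?_⟩
    rw [← Polynomial.homogenize_mul _ _ (by simp) (by omega), one_mul]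
    exact hgp.symm
  · have hd : p.degree ≠ 0 := by
      intro h
      apply hnd
      exact Polynomial.natDegree_eq_of_degree_eq_some h
    obtain ⟨a, ha⟩ := IsAlgClosed.exists_root p hd
    obtain ⟨q₁, hq₁⟩ := Polynomial.dvd_iff_isRoot.2 ha
    have hq₁d : q₁.natDegree ≤ 2 := by
      by_cases hq0 : q₁ = 0
      · rw [hq0]; simp
      · have := Polynomial.natDegree_mul (Polynomial.X_sub_C_ne_zero a) hq0
        rw [← hq₁, Polynomial.natDegree_X_sub_C] at this
        omega
    refine ⟨(Polynomial.X - Polynomial.C a).homogenize 1, q₁.homogenize 2,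
      Polynomial.isHomogeneous_homogenize _, Polynomial.isHomogeneous_homogenize _, ?_⟩
    rw [← Polynomial.homogenize_mul _ _ (by rw [Polynomial.natDegree_X_sub_C]) hq₁d, ← hq₁]
    exact hgp.symm

local notation "P" => MvPolynomial (Fin 2) K
local notation "S" => homogeneousSubmodule (Fin 2) K

lemma finrank_mulLeft_map (g : P) (hg : g ≠ 0) (d : ℕ) :
    Module.finrank K ↥((S d).map (LinearMap.mulLeft K g)) = d + 1 := by
  have hinj : Function.Injective (LinearMap.mulLeft K g) := by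
    intro x y hxy
    exact mul_left_cancel₀ hg hxy
  rw [← (Submodule.equivMapOfInjective _ hinj (S d)).finrank_eq, finrank_Sd]

/-- for any functional there is a nonzero cubic `g` with `ℓ (g * e) = 0` for all quadrics `e` -/
lemma exists_cubic (ℓ : P →ₗ[K] K) :
    ∃ g ∈ S 3, g ≠ 0 ∧ ∀ e ∈ S 2, ℓ (g * e) = 0 := by
  let Φ : ↥(S 3) →ₗ[K] ↥(S 2) →ₗ[K] K :=
    ((LinearMap.mul K P).compr₂ ℓ).domRestrict₁₂ (S 3) (S 2)
  have hlt : Module.finrank K (↥(S 2) →ₗ[K] K) < Module.finrank K ↥(S 3) := by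
    have h1 : Module.finrank K (↥(S 2) →ₗ[K] K) = 3 := by
      have := Subspace.dual_finrank_eq (K := K) (V := ↥(S 2))
      rw [finrank_Sd] at this
      exact this
    rw [h1, finrank_Sd]
    norm_num
  have hker := LinearMap.ker_ne_bot_of_finrank_lt hlt (f := Φ)
  obtain ⟨x, hx, hx0⟩ := Submodule.exists_mem_ne_zero_of_ne_bot hker
  refine ⟨x.1, x.2, fun h => hx0 (Subtype.ext h), fun e he => ?_⟩
  have := LinearMap.congr_fun (LinearMap.mem_ker.1 hx) ⟨e, he⟩
  exact this

/-- the hyperplane count -/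
lemma two_le_finrank_inf (V : Submodule K P) (hV : V ≤ S 5) (hdim : Module.finrank K ↥V = 4)
    (ℓ : P →ₗ[K] K) (hℓV : ∀ v ∈ V, ℓ v = 0) (hℓ : ∃ F ∈ S 5, ℓ F ≠ 0)
    (g : P) (hg3 : g ∈ S 3) (hg : g ≠ 0) (hge : ∀ e ∈ S 2, ℓ (g * e) = 0) :
    2 ≤ Module.finrank K ↥(V ⊓ (S 2).map (LinearMap.mulLeft K g)) := by
  set U := (S 2).map (LinearMap.mulLeft K g) with hU
  set W := LinearMap.ker ℓ ⊓ S 5 with hW
  have hVW : V ≤ W := fun v hv => ⟨LinearMap.mem_ker.2 (hℓV v hv), hV hv⟩
  have hUW : U ≤ W := by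
    rintro _ ⟨e, he, rfl⟩
    refine ⟨LinearMap.mem_ker.2 (hge e he), ?_⟩
    exact IsHomogeneous.mul (m := 3) (n := 2) hg3 he
  have hWlt : W < S 5 := by
    refine lt_of_le_of_ne inf_le_right ?_
    intro h
    obtain ⟨F, hF, hF0⟩ := hℓ
    have : F ∈ W := by rw [h]; exact hF
    exact hF0 (LinearMap.mem_ker.1 this.1)
  have hW5 : Module.finrank K ↥W ≤ 5 := by
    have := Submodule.finrank_lt_finrank_of_lt hWlt
    rw [finrank_Sd] at this
    omega
  have _ : FiniteDimensional K ↥W := Submodule.finiteDimensional_of_le (inf_le_right : W ≤ S 5)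
  have _ : FiniteDimensional K ↥V := Submodule.finiteDimensional_of_le hV
  have _ : FiniteDimensional K ↥U := Submodule.finiteDimensional_of_le (hUW.trans inf_le_right)
  have h1 := Submodule.finrank_sup_add_finrank_inf_eq V U
  have h2 : Module.finrank K ↥(V ⊔ U) ≤ Module.finrank K ↥W :=
    Submodule.finrank_mono (sup_le hVW hUW)
  have h3 : Module.finrank K ↥U = 3 := finrank_mulLeft_map g hg 2
  omega

/-- a nonzero cubic `g` with `g * S_2 ⊆ V` contradicts the separation hypothesis -/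
lemma not_mul_le [IsAlgClosed K] (V : Submodule K P) (hV : V ≤ S 5)
    (hdim : Module.finrank K ↥V = 4)
    (hsep : ∀ e ∈ S 2, e ≠ 0 → ∀ F ∈ S 5, ∃ v ∈ V, ∃ h ∈ S 3, F = v + e * h)
    (g : P) (hg3 : g ∈ S 3) (hg : g ≠ 0) (hgV : ∀ e ∈ S 2, g * e ∈ V) : False := by
  obtain ⟨l, q, hl, hq, hglq⟩ := exists_factor g hg3
  have hq0 : q ≠ 0 := by rintro rfl; exact hg (by rw [hglq, mul_zero])
  set T := (S 3).map (LinearMap.mulLeft K q) with hT
  set U := (S 2).map (LinearMap.mulLeft K g) with hU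
  have hTS : T ≤ S 5 := by
    rintro _ ⟨h, hh, rfl⟩
    exact IsHomogeneous.mul (m := 2) (n := 3) hq hh
  have hUV : U ≤ V := by
    rintro _ ⟨e, he, rfl⟩
    exact hgV e he
  have hUT : U ≤ T := by
    rintro _ ⟨e, he, rfl⟩
    refine ⟨l * e, IsHomogeneous.mul (m := 1) (n := 2) hl he, ?_⟩
    simp only [LinearMap.mulLeft_apply]
    rw [hglq]; ring
  have hle : S 5 ≤ V ⊔ T := by
    intro F hF
    obtain ⟨v, hv, h, hh, rfl⟩ := hsep q hq hq0 F hF
    exact Submodule.add_mem_sup hv ⟨h, hh, rfl⟩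
  have _ : FiniteDimensional K ↥V := Submodule.finiteDimensional_of_le hV
  have _ : FiniteDimensional K ↥T := Submodule.finiteDimensional_of_le hTS
  have _ : FiniteDimensional K ↥(V ⊔ T) := Submodule.finiteDimensional_of_le (sup_le hV hTS)
  have _ : FiniteDimensional K ↥(V ⊓ T) := Submodule.finiteDimensional_of_le (inf_le_left.trans hV)
  have h1 := Submodule.finrank_sup_add_finrank_inf_eq V T
  have h2 : Module.finrank K ↥(S 5) ≤ Module.finrank K ↥(V ⊔ T) := Submodule.finrank_mono hle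
  have h3 : Module.finrank K ↥U ≤ Module.finrank K ↥(V ⊓ T) :=
    Submodule.finrank_mono (le_inf hUV hUT)
  have h4 : Module.finrank K ↥U = 3 := finrank_mulLeft_map g hg 2
  have h5 : Module.finrank K ↥T = 4 := finrank_mulLeft_map q hq0 3
  rw [finrank_Sd] at h2
  omega

/-- projection to quintic forms -/
noncomputable def proj5 : P →ₗ[K] ↥(S 5) :=
  (homogeneousComponent 5).codRestrict (S 5) (fun x => homogeneousComponent_isHomogeneous 5 x)

lemma proj5_of_mem (F : P) (hF : F ∈ S 5) : proj5 F = ⟨F, hF⟩ :=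
  Subtype.ext (homogeneousComponent_eq_self hF)

theorem main [IsAlgClosed K] (V : Submodule K P) (hV : V ≤ S 5)
    (hdim : Module.finrank K ↥V = 4)
    (hsep : ∀ e ∈ S 2, e ≠ 0 → ∀ F ∈ S 5, ∃ v ∈ V, ∃ h ∈ S 3, F = v + e * h)
    (F : Finset P) :
    ∃ g ∈ S 3, g ≠ 0 ∧ 2 ≤ Module.finrank K ↥(V ⊓ (S 2).map (LinearMap.mulLeft K g)) ∧
      ∀ g' ∈ F, ∀ c : K, g ≠ c • g' := by
  classical
  set V' : Submodule K ↥(S 5) := V.comap (S 5).subtype with hV'
  have h2 : Module.finrank K (↥(S 5) ⧸ V') = 2 := by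
    have h1 := V'.finrank_quotient_add_finrank
    rw [(Submodule.comapSubtypeEquivOfLe hV).finrank_eq, hdim, finrank_Sd] at h1
    omega
  let b := Module.finBasisOfFinrankEq K (↥(S 5) ⧸ V') h2
  let L : K → (P →ₗ[K] K) := fun t => ((b.coord 0 + t • b.coord 1) ∘ₗ V'.mkQ) ∘ₗ proj5
  have hLapp : ∀ (t : K) (G : P) (hG : G ∈ S 5),
      L t G = b.coord 0 (V'.mkQ ⟨G, hG⟩) + t * b.coord 1 (V'.mkQ ⟨G, hG⟩) := by
    intro t G hG
    simp only [L, LinearMap.comp_apply, proj5_of_mem G hG, LinearMap.add_apply,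
      LinearMap.smul_apply, smul_eq_mul]
  have hLV : ∀ t, ∀ v ∈ V, L t v = 0 := by
    intro t v hv
    have hmem : (⟨v, hV hv⟩ : ↥(S 5)) ∈ V' := hv
    have hz : V'.mkQ ⟨v, hV hv⟩ = 0 := by
      rw [Submodule.mkQ_apply]; exact (Submodule.Quotient.mk_eq_zero V').2 hmem
    rw [hLapp t v (hV hv), hz]
    simp
  have hLne : ∀ t, ∃ G ∈ S 5, L t G ≠ 0 := by
    intro t
    obtain ⟨x, hx⟩ := V'.mkQ_surjective (b 0)
    refine ⟨x.1, x.2, ?_⟩
    rw [hLapp t x.1 x.2]
    have : (⟨x.1, x.2⟩ : ↥(S 5)) = x := rfl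
    rw [this, hx]
    simp
  have hLL : ∀ t t' : K, t ≠ t' → ∀ G ∈ S 5, L t G = 0 → L t' G = 0 → G ∈ V := by
    intro t t' htt G hG h1 h2'
    rw [hLapp t G hG] at h1
    rw [hLapp t' G hG] at h2'
    have hc1 : b.coord 1 (V'.mkQ ⟨G, hG⟩) = 0 := by
      have : (t - t') * b.coord 1 (V'.mkQ ⟨G, hG⟩) = 0 := by linear_combination h1 - h2'
      rcases mul_eq_zero.1 this with h | h
      · exact absurd (sub_eq_zero.1 h) htt
      · exact h
    have hc0 : b.coord 0 (V'.mkQ ⟨G, hG⟩) = 0 := by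
      rw [hc1, mul_zero, add_zero] at h1; exact h1
    have hz : V'.mkQ ⟨G, hG⟩ = 0 := by
      apply b.repr.injective
      ext i
      fin_cases i
      · simpa using hc0
      · simpa using hc1
    rw [Submodule.mkQ_apply] at hz
    have := (Submodule.Quotient.mk_eq_zero V').1 hz
    exact this
  choose gt hgt3 hgt0 hgte using fun t => exists_cubic (L t)
  by_contra hcon
  push Not at hcon
  have hall : ∀ t, ∃ g' ∈ F, ∃ c : K, gt t = c • g' := fun t =>
    hcon (gt t) (hgt3 t) (hgt0 t)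
      (two_le_finrank_inf V hV hdim (L t) (hLV t) (hLne t) (gt t) (hgt3 t) (hgt0 t) (hgte t))
  choose f hfF c hc using hall
  let f' : K → ↥F := fun t => ⟨f t, hfF t⟩
  have _ : Infinite K := IsAlgClosed.instInfinite
  obtain ⟨t, t', htt, hff⟩ := Finite.exists_ne_map_eq_of_infinite f'
  have hff' : f t = f t' := congrArg Subtype.val hff
  have hct : c t ≠ 0 := by
    intro h0
    apply hgt0 t
    rw [hc t, h0, zero_smul]
  have hrel : gt t' = (c t' / c t) • gt t := by
    rw [hc t, hc t', hff', smul_smul, div_mul_cancel₀ _ hct]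
  have hct' : c t' ≠ 0 := by
    intro h0
    apply hgt0 t'
    rw [hc t', h0, zero_smul]
  refine not_mul_le V hV hdim hsep (gt t) (hgt3 t) (hgt0 t) fun e he => ?_
  have hge5 : gt t * e ∈ S 5 := IsHomogeneous.mul (m := 3) (n := 2) (hgt3 t) he
  refine hLL t t' htt _ hge5 (hgte t e he) ?_
  have h1 := hgte t' e he
  rw [hrel, smul_mul_assoc, map_smul, smul_eq_mul] at h1
  rcases mul_eq_zero.1 h1 with h | h
  · exact absurd h (div_ne_zero hct' hct)
  · exact h

end Groth.Agent.Lib.Helper1.Trisec
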