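import Mathlib.AlgebraicGeometry.Morphisms.WeaklyEtale
import Mathlib.AlgebraicGeometry.Morphisms.FormallyUnramified
import Mathlib.AlgebraicGeometry.Morphisms.Etale
import Mathlib.RingTheory.Ideal.Pure

set_option autoImplicit false
universe u

namespace Groth.Agent.Lib.Helper1

open TensorProduct

theorem formallyUnramified_of_flat_lmul' {R S : Type*} [CommRing R] [CommRing S] [Algebra R S]
    (h : (Algebra.TensorProduct.lmul' R (S := S)).toRingHom.Flat) :
    Algebra.FormallyUnramified R S := by
  let F : S ⊗[R] S →+* S := (Algebra.TensorProduct.lmul' R (S := S)).toRingHom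
  have hF : Function.Surjective F := fun x ↦ ⟨x ⊗ₜ 1, by simp [F]⟩
  let _ : Algebra (S ⊗[R] S) S := F.toAlgebra
  have hflat : Module.Flat (S ⊗[R] S) S := h
  have hpure : (KaehlerDifferential.ideal R S).Pure := by
    let e : ((S ⊗[R] S) ⧸ KaehlerDifferential.ideal R S) ≃ₐ[S ⊗[R] S] S :=
      Ideal.quotientKerAlgEquivOfSurjective (f := Algebra.ofId (S ⊗[R] S) S) hF
    exact Module.Flat.of_linearEquiv e.toLinearEquiv
  have hid := Ideal.isIdempotentElem_of_pure (KaehlerDifferential.ideal R S)
  rw [← Ideal.cotangent_subsingleton_iff] at hid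
  exact ⟨hid⟩

end Groth.Agent.Lib.Helper1

namespace Groth.Agent.Lib.Helper1

open AlgebraicGeometry CategoryTheory Limits

theorem formallyUnramified_of_flat_diagonal {X Y : Scheme.{u}} (f : X ⟶ Y)
    [Flat (pullback.diagonal f)] : FormallyUnramified f := by
  wlog hY : ∃ R, Y = Spec R
  · rw [IsZariskiLocalAtTarget.iff_of_openCover (P := @FormallyUnramified) Y.affineCover]
    intro i
    have inst : Flat (pullback.diagonal (pullback.snd f (Y.affineCover.f i))) :=
      MorphismProperty.pullback_snd (P := .diagonal @Flat) _ _ ‹_›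
    exact this (pullback.snd _ _) ⟨_, rfl⟩
  obtain ⟨R, rfl⟩ := hY
  wlog hX : ∃ S, X = Spec S generalizing X
  · rw [IsZariskiLocalAtSource.iff_of_openCover (P := @FormallyUnramified) X.affineCover]
    intro i
    have inst : Flat (pullback.diagonal (X.affineCover.f i ≫ f)) :=
      MorphismProperty.comp_mem (.diagonal @Flat) _ _
        (inferInstanceAs (Flat _)) ‹_›
    exact this (_ ≫ _) ⟨_, rfl⟩
  obtain ⟨S, rfl⟩ := hX
  obtain ⟨φ, rfl : Spec.map φ = f⟩ := Spec.homEquiv.symm.surjective f
  rw [HasRingHomProperty.Spec_iff (P := @FormallyUnramified)]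
  algebraize [φ.hom]
  let F := (Algebra.TensorProduct.lmul' R (S := S)).toRingHom
  have : Flat (Spec.map (CommRingCat.ofHom F)) := by
    rwa [← MorphismProperty.cancel_right_of_respectsIso (P := @Flat) _
      (pullbackSpecIso R S S).inv, ← AlgebraicGeometry.diagonal_SpecMap R S]
  rw [HasRingHomProperty.Spec_iff (P := @Flat)] at this
  exact formallyUnramified_of_flat_lmul' this

end Groth.Agent.Lib.Helper1
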