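import Mathlib
import Groth.Agent.S9225

/-!
# Regularity of a Weierstrass model over a DVR with `a₃, a₄, a₆ ∈ m`, `a₆ ∉ m²` (helper1)
-/

set_option autoImplicit false

namespace Groth.Agent.Lib.Helper1.WeierReg

open Polynomial
open scoped Polynomial.Bivariate

section Deriv

variable {R : Type*} [CommRing R]

/-- `∂/∂X` on `R[X][Y]`, coefficientwise. -/
noncomputable def DX : Derivation R R[X][Y] R[X][Y] :=
  PolynomialModule.equivPolynomialSelf.compDer (Polynomial.derivative' (R := R)).mapCoeffs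

lemma coeff_DX (p : R[X][Y]) (i : ℕ) : (DX p).coeff i = derivative (p.coeff i) := rfl

lemma DX_C (p : R[X]) : DX (C p : R[X][Y]) = C (derivative p) := by
  ext1 i
  rw [coeff_DX, coeff_C, coeff_C]
  split_ifs <;> simp

lemma DX_Y : DX (X : R[X][Y]) = 0 := by
  ext1 i
  rw [coeff_DX, coeff_X]
  split_ifs <;> simp

lemma DX_polynomial (W : WeierstrassCurve.Affine R) : DX W.polynomial = W.polynomialX := by
  rw [WeierstrassCurve.Affine.polynomial, WeierstrassCurve.Affine.polynomialX]
  simp only [map_add, map_sub, Derivation.leibniz, Derivation.leibniz_pow, DX_C, DX_Y, smul_eq_mul,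
    mul_zero, zero_add, add_zero, smul_zero, derivative_add, derivative_mul, derivative_C, derivative_X,
    derivative_X_pow, zero_mul, mul_one]
  simp only [map_add, map_mul, map_pow, C_add, C_mul]
  norm_num
  ring

lemma DY_polynomial (W : WeierstrassCurve.Affine R) :
    derivative W.polynomial = W.polynomialY := by
  rw [WeierstrassCurve.Affine.polynomial, WeierstrassCurve.Affine.polynomialY]
  simp only [derivative_add, derivative_sub, derivative_mul, derivative_C, derivative_X,
    derivative_X_pow, zero_mul, mul_one, zero_add, sub_zero]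
  simp only [map_add, map_mul]
  norm_num
  rw [show (C (2 : R) : R[X]) = 2 from map_ofNat C 2]

end Deriv

/-- In a domain, the only singular point of `y² + a₁xy = x³ + a₂x²` is the origin. -/
lemma sing_unique {D : Type*} [CommRing D] [IsDomain D] (a₁ a₂ x y : D)
    (e1 : y ^ 2 + a₁ * x * y - (x ^ 3 + a₂ * x ^ 2) = 0)
    (e2 : a₁ * y - (3 * x ^ 2 + 2 * a₂ * x) = 0)
    (e3 : 2 * y + a₁ * x = 0) : x = 0 ∧ y = 0 := by
  have hx : x = 0 := by
    by_contra hx
    have h1 : x ^ 2 * (4 * x + (a₁ ^ 2 + 4 * a₂)) = 0 := by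
      linear_combination (-4) * e1 + (2 * y + a₁ * x) * e3
    have h2 : x * (6 * x + (a₁ ^ 2 + 4 * a₂)) = 0 := by
      linear_combination (-2) * e2 + a₁ * e3
    have h1' : 4 * x + (a₁ ^ 2 + 4 * a₂) = 0 :=
      (mul_eq_zero.mp h1).resolve_left (pow_ne_zero 2 hx)
    have h2' : 6 * x + (a₁ ^ 2 + 4 * a₂) = 0 := (mul_eq_zero.mp h2).resolve_left hx
    have h3 : (2 : D) * x = 0 := by linear_combination h2' - h1'
    have h4 : (2 : D) = 0 := (mul_eq_zero.mp h3).resolve_right hx
    have h5 : a₁ * x = 0 := by linear_combination e3 - y * h4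
    have h6 : a₁ = 0 := (mul_eq_zero.mp h5).resolve_right hx
    have h7 : x ^ 2 = 0 := by
      linear_combination (-1) * e2 + y * h6 - (x ^ 2 + a₂ * x) * h4
    exact hx ((pow_eq_zero_iff (two_ne_zero)).mp h7)
  refine ⟨hx, ?_⟩
  have : y ^ 2 = 0 := by
    rw [hx] at e1
    linear_combination e1
  exact (pow_eq_zero_iff (two_ne_zero)).mp this

section Key

variable {R : Type*} [CommRing R] [IsDomain R] [IsDiscreteValuationRing R]

open IsLocalRing

/-- evaluation at the origin `R[X][Y] → R`. -/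
noncomputable def ev0 : R[X][Y] →+* R := (Polynomial.evalRingHom 0).comp (Polynomial.evalRingHom 0)

lemma sub_ev0_mem (q : R[X][Y]) :
    q - C (C (ev0 q)) ∈ Ideal.span ({C X, Y} : Set R[X][Y]) := by
  have h1 : (X : R[X][Y]) ∣ q - C (q.coeff 0) := Polynomial.X_dvd_sub_C
  have h2 : (X : R[X]) ∣ q.coeff 0 - C ((q.coeff 0).coeff 0) := Polynomial.X_dvd_sub_C
  obtain ⟨u, hu⟩ := h1
  obtain ⟨v, hv⟩ := h2
  have hev : ev0 q = (q.coeff 0).coeff 0 := by
    simp [ev0, Polynomial.coeff_zero_eq_eval_zero]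
  have : q - C (C (ev0 q)) = Y * u + C X * C v := by
    rw [hev, ← hu, ← C_mul, ← hv, C_sub]
    ring
  rw [this]
  refine Ideal.add_mem _ (Ideal.mul_mem_right _ _ (Ideal.subset_span (by simp)))
    (Ideal.mul_mem_right _ _ (Ideal.subset_span (by simp)))

theorem key_aux {D : Type*} [CommRing D] [IsDomain D] (ψ : R[X][Y] →+* D)
    (p : Ideal R[X][Y]) [hp : p.IsPrime] (hker : ∀ q, ψ q = 0 ↔ q ∈ p)
    (W : WeierstrassCurve.Affine R) (hΔ : W.Δ ≠ 0)
    (h3 : W.a₃ ∈ maximalIdeal R) (h4 : W.a₄ ∈ maximalIdeal R)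
    (h6 : W.a₆ ∈ maximalIdeal R) (h6' : W.a₆ ∉ maximalIdeal R ^ 2)
    (hW : W.polynomial ∈ p) (hWX : W.polynomialX ∈ p) (hWY : W.polynomialY ∈ p)
    (t : R[X][Y]) (ht : t ∉ p) (hmem : t * W.polynomial ∈ p ^ 2) : False := by
  let φ : R →+* D := ψ.comp (C.comp C)
  set x : D := ψ (C X) with hx
  set y : D := ψ Y with hy
  have hφ : ∀ a : R, ψ (C (C a)) = φ a := fun a => rfl
  have e1 : y ^ 2 + φ W.a₁ * x * y + φ W.a₃ * y -
      (x ^ 3 + φ W.a₂ * x ^ 2 + φ W.a₄ * x + φ W.a₆) = 0 := by
    have h0 : ψ W.polynomial = 0 := (hker _).mpr hW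
    rw [← h0, WeierstrassCurve.Affine.polynomial]
    simp only [map_add, map_sub, map_mul, map_pow, hφ, hx, hy]
    ring
  have e2 : φ W.a₁ * y - (3 * x ^ 2 + 2 * φ W.a₂ * x + φ W.a₄) = 0 := by
    have h0 : ψ W.polynomialX = 0 := (hker _).mpr hWX
    rw [← h0, WeierstrassCurve.Affine.polynomialX]
    simp only [map_add, map_sub, map_mul, map_pow, hφ, hx, hy, map_ofNat]
  have e3 : 2 * y + φ W.a₁ * x + φ W.a₃ = 0 := by
    have h0 : ψ W.polynomialY = 0 := (hker _).mpr hWY
    rw [← h0, WeierstrassCurve.Affine.polynomialY]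
    simp only [map_add, map_sub, map_mul, map_pow, hφ, hx, hy, map_ofNat, add_assoc]
  obtain ⟨π, hπ⟩ := IsDiscreteValuationRing.exists_irreducible R
  have hmax : maximalIdeal R = Ideal.span {π} := hπ.maximalIdeal_eq
  by_cases hπp : φ π = 0
  · -- special fibre
    have hm0 : ∀ a ∈ maximalIdeal R, φ a = 0 := by
      intro a ha
      rw [hmax, Ideal.mem_span_singleton] at ha
      obtain ⟨c, rfl⟩ := ha
      simp [hπp]
    rw [hm0 _ h3, hm0 _ h4, hm0 _ h6] at e1
    rw [hm0 _ h4] at e2
    rw [hm0 _ h3] at e3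
    obtain ⟨hx0, hy0⟩ := sing_unique (φ W.a₁) (φ W.a₂) x y
      (by linear_combination e1) (by linear_combination e2) (by linear_combination e3)
    have hXp : (C X : R[X][Y]) ∈ p := (hker _).mp hx0
    have hYp : (Y : R[X][Y]) ∈ p := (hker _).mp hy0
    have hπmem : (C (C π) : R[X][Y]) ∈ p := (hker _).mp hπp
    -- p is the maximal ideal over the origin of the special fibre
    have hle : Ideal.comap (ev0 (R := R)) (maximalIdeal R) ≤ p := by
      intro q hq
      rw [Ideal.mem_comap, hmax, Ideal.mem_span_singleton] at hq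
      obtain ⟨c, hc⟩ := hq
      have h1 : q - C (C (ev0 q)) ∈ p := by
        refine (Ideal.span_le.mpr ?_) (sub_ev0_mem q)
        rintro _ (rfl | rfl)
        · exact hXp
        · exact hYp
      have h2 : (C (C (ev0 q)) : R[X][Y]) ∈ p := by
        rw [hc, map_mul, map_mul]
        exact p.mul_mem_right _ hπmem
      have := p.add_mem h1 h2
      rwa [sub_add_cancel] at this
    have hev_surj : Function.Surjective (ev0 (R := R)) := fun r => ⟨C (C r), by simp [ev0]⟩
    have hmaxn : (Ideal.comap (ev0 (R := R)) (maximalIdeal R)).IsMaximal :=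
      Ideal.comap_isMaximal_of_surjective _ hev_surj
    have hpeq : p = Ideal.comap (ev0 (R := R)) (maximalIdeal R) :=
      (hmaxn.eq_of_le hp.ne_top hle).symm
    have hmap : ∀ q ∈ p ^ 2, ev0 q ∈ maximalIdeal R ^ 2 := by
      intro q hq
      have : Ideal.map (ev0 (R := R)) (p ^ 2) ≤ maximalIdeal R ^ 2 := by
        rw [Ideal.map_pow]
        refine Ideal.pow_right_mono ?_ 2
        rw [Ideal.map_le_iff_le_comap, hpeq]
      exact this (Ideal.mem_map_of_mem _ hq)
    have h := hmap _ hmem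
    rw [map_mul] at h
    have hevW : ev0 W.polynomial = -W.a₆ := by
      simp [ev0, WeierstrassCurve.Affine.polynomial]
    have htu : IsUnit (ev0 t) := by
      by_contra hnu
      apply ht
      rw [hpeq, Ideal.mem_comap]
      exact (IsLocalRing.mem_maximalIdeal _).mpr hnu
    rw [hevW] at h
    apply h6'
    have h' := Ideal.mul_mem_left _ (↑htu.unit⁻¹ : R) h
    rw [← mul_assoc, IsUnit.val_inv_mul, one_mul] at h'
    simpa using (Ideal.neg_mem_iff _).mp h'
  · -- generic fibre
    have hφinj : Function.Injective φ := by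
      rw [injective_iff_map_eq_zero]
      intro a ha
      by_contra hne
      obtain ⟨n, u, rfl⟩ := IsDiscreteValuationRing.eq_unit_mul_pow_irreducible hne hπ
      rw [map_mul, map_pow] at ha
      rcases eq_zero_or_eq_zero_of_mul_eq_zero ha with h | h
      · exact (u.isUnit.map φ).ne_zero h
      · exact hπp (eq_zero_of_pow_eq_zero h)
    set W' : WeierstrassCurve.Affine D := WeierstrassCurve.map W φ with hW'
    have hΔ' : W'.Δ ≠ 0 := by
      rw [hW', WeierstrassCurve.map_Δ]
      exact fun h => hΔ (hφinj (by rw [h, map_zero]))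
    have heq : W'.Equation x y := by
      rw [WeierstrassCurve.Affine.equation_iff']
      simpa [hW'] using e1
    have hns := (W'.equation_iff_nonsingular_of_Δ_ne_zero hΔ').mp heq
    rw [WeierstrassCurve.Affine.nonsingular_iff'] at hns
    rcases hns.2 with h | h
    · exact h (by simpa [hW'] using e2)
    · exact h (by simpa [hW'] using e3)


theorem key (W : WeierstrassCurve.Affine R) (hΔ : W.Δ ≠ 0)
    (h3 : W.a₃ ∈ maximalIdeal R) (h4 : W.a₄ ∈ maximalIdeal R)
    (h6 : W.a₆ ∈ maximalIdeal R) (h6' : W.a₆ ∉ maximalIdeal R ^ 2)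
    (p : Ideal R[X][Y]) [hp : p.IsPrime] (hW : W.polynomial ∈ p) (t : R[X][Y]) (ht : t ∉ p) :
    t * W.polynomial ∉ p ^ 2 := by
  intro hmem
  have hWY : W.polynomialY ∈ p := by
    have h := Groth.Agent.S9225.derivation_sq_mem (Polynomial.derivative' (R := R[X])) p _ hmem
    rw [Derivation.leibniz, smul_eq_mul, smul_eq_mul] at h
    have h' : t * W.polynomialY ∈ p := by
      have := p.sub_mem h (p.mul_mem_right (Polynomial.derivative' (R := R[X]) t) hW)
      rw [add_sub_cancel_right] at this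
      rw [← DY_polynomial]
      exact this
    exact (hp.mem_or_mem h').resolve_left ht
  have hWX : W.polynomialX ∈ p := by
    have h := Groth.Agent.S9225.derivation_sq_mem (DX (R := R)) p _ hmem
    rw [Derivation.leibniz, smul_eq_mul, smul_eq_mul] at h
    have h' : t * W.polynomialX ∈ p := by
      have := p.sub_mem h (p.mul_mem_right (DX (R := R) t) hW)
      rw [add_sub_cancel_right] at this
      rw [← DX_polynomial]
      exact this
    exact (hp.mem_or_mem h').resolve_left ht
  have hdom : IsDomain (R[X][Y] ⧸ p) := Ideal.Quotient.isDomain p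
  have hker : ∀ q : R[X][Y], (Ideal.Quotient.mk p) q = 0 ↔ q ∈ p :=
    fun q => Ideal.Quotient.eq_zero_iff_mem
  exact key_aux (D := R[X][Y] ⧸ p) (Ideal.Quotient.mk p) p hker W hΔ h3 h4 h6 h6'
    hW hWX hWY t ht hmem

end Key

end Groth.Agent.Lib.Helper1.WeierReg
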