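import Mathlib

/-!
# `ℤ[F,V]/(FV - q, h)` : tools for the minimal central order of Weil numbers

`R = ℤ[F,V] = MvPolynomial (Fin 2) ℤ`, `L = ℤ[T;T⁻¹]`.
* `θ : R → L`, `F ↦ T`, `V ↦ q T⁻¹`; `ker θ = (FV - q)` (`ker_θ`).
* `ψ : R → L`, `F ↦ q T⁻¹`, `V ↦ T`.
* `ε₀ : R → ℤ[X]`, `F ↦ 0`, `V ↦ X`; `ker ε₀ = (F)`.
-/

open MvPolynomial

namespace Groth.Agent.Lib.Helper1.WeilCI

noncomputable section

abbrev R := MvPolynomial (Fin 2) ℤ
abbrev L := LaurentPolynomial ℤ

/-- the monomial `c T^n` -/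
abbrev sg (n : ℤ) (c : ℤ) : L := AddMonoidAlgebra.single n c

variable (q : ℤ)

def g : R := X 0 * X 1 - C q

def θ : R →ₐ[ℤ] L := aeval ![sg 1 1, sg (-1) q]
def ψ : R →ₐ[ℤ] L := aeval ![sg (-1) q, sg 1 1]
def ε₀ : R →ₐ[ℤ] Polynomial ℤ := aeval ![0, Polynomial.X]

lemma sg_coeff (n m c : ℤ) : (sg n c).coeff m = if n = m then c else 0 := by
  show (AddMonoidAlgebra.single n c : L).coeff m = _
  rw [AddMonoidAlgebra.coeff_single, Finsupp.single_apply]

@[simp] lemma θ_X0 : θ q (X 0) = sg 1 1 := by simp [θ]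
@[simp] lemma θ_X1 : θ q (X 1) = sg (-1) q := by simp [θ]
@[simp] lemma ψ_X0 : ψ q (X 0) = sg (-1) q := by simp [ψ]
@[simp] lemma ψ_X1 : ψ q (X 1) = sg 1 1 := by simp [ψ]
@[simp] lemma ε₀_X0 : ε₀ (X 0) = 0 := by simp [ε₀]
@[simp] lemma ε₀_X1 : ε₀ (X 1) = Polynomial.X := by simp [ε₀]

lemma algebraMap_L (c : ℤ) : algebraMap ℤ L c = sg 0 c := by
  rfl

lemma θ_C (c : ℤ) : θ q (C c) = sg 0 c := by
  rw [θ, aeval_C, algebraMap_L]

lemma ψ_C (c : ℤ) : ψ q (C c) = sg 0 c := by
  rw [ψ, aeval_C, algebraMap_L]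

lemma ε₀_C (c : ℤ) : ε₀ (C c) = Polynomial.C c := by
  rw [ε₀, aeval_C]; rfl

lemma sg_mul (n m a b : ℤ) : sg n a * sg m b = sg (n + m) (a * b) := by
  exact AddMonoidAlgebra.single_mul_single _ _ _ _

lemma θ_g : θ q (g q) = 0 := by
  rw [g, map_sub, map_mul, θ_X0, θ_X1, θ_C, sg_mul]
  simp

lemma ψ_g : ψ q (g q) = 0 := by
  rw [g, map_sub, map_mul, ψ_X0, ψ_X1, ψ_C, sg_mul]
  simp

lemma ε₀_g : ε₀ (g q) = - Polynomial.C q := by
  rw [g, map_sub, map_mul, ε₀_X0, ε₀_C]; simp

/-- normal form: every element is `a(F) + b(V)` modulo `FV - q`. -/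
lemma exists_nf (x : R) : ∃ a b : Polynomial ℤ,
    x - (Polynomial.aeval (X 0 : R) a + Polynomial.aeval (X 1 : R) b) ∈ Ideal.span {g q} := by
  induction x using MvPolynomial.induction_on with
  | C c =>
    refine ⟨Polynomial.C c, 0, ?_⟩
    simp
  | add x y hx hy =>
    obtain ⟨a, b, h1⟩ := hx
    obtain ⟨a', b', h2⟩ := hy
    refine ⟨a + a', b + b', ?_⟩
    have := Ideal.add_mem _ h1 h2
    convert this using 1
    simp only [map_add]; ring
  | mul_X x i hx =>
    obtain ⟨a, b, h1⟩ := hx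
    have hg : g q ∈ Ideal.span {g q} := Ideal.subset_span rfl
    fin_cases i
    · -- multiply by F
      refine ⟨Polynomial.X * a + Polynomial.C (b.coeff 0) * Polynomial.X,
        Polynomial.C q * b.divX, ?_⟩
      have hb : Polynomial.aeval (X 1 : R) b
          = Polynomial.aeval (X 1 : R) b.divX * X 1 + C (b.coeff 0) := by
        conv_lhs => rw [← Polynomial.divX_mul_X_add b]
        simp
      have key : x * X 0 - (Polynomial.aeval (X 0 : R) (Polynomial.X * a + Polynomial.C (b.coeff 0) * Polynomial.X)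
            + Polynomial.aeval (X 1 : R) (Polynomial.C q * b.divX))
          = (x - (Polynomial.aeval (X 0 : R) a + Polynomial.aeval (X 1 : R) b)) * X 0
            + g q * Polynomial.aeval (X 1 : R) b.divX := by
        rw [hb]
        simp only [map_add, map_mul, Polynomial.aeval_X, Polynomial.aeval_C, g]
        simp only [algebraMap_eq]
        ring
      show x * X 0 - _ ∈ _
      rw [key]
      exact Ideal.add_mem _ (Ideal.mul_mem_right _ _ h1) (Ideal.mul_mem_right _ _ hg)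
    · refine ⟨Polynomial.C q * a.divX,
        Polynomial.X * b + Polynomial.C (a.coeff 0) * Polynomial.X, ?_⟩
      have ha : Polynomial.aeval (X 0 : R) a
          = Polynomial.aeval (X 0 : R) a.divX * X 0 + C (a.coeff 0) := by
        conv_lhs => rw [← Polynomial.divX_mul_X_add a]
        simp
      have key : x * X 1 - (Polynomial.aeval (X 0 : R) (Polynomial.C q * a.divX)
            + Polynomial.aeval (X 1 : R) (Polynomial.X * b + Polynomial.C (a.coeff 0) * Polynomial.X))
          = (x - (Polynomial.aeval (X 0 : R) a + Polynomial.aeval (X 1 : R) b)) * X 1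
            + g q * Polynomial.aeval (X 0 : R) a.divX := by
        rw [ha]
        simp only [map_add, map_mul, Polynomial.aeval_X, Polynomial.aeval_C, g]
        simp only [algebraMap_eq]
        ring
      show x * X 1 - _ ∈ _
      rw [key]
      exact Ideal.add_mem _ (Ideal.mul_mem_right _ _ h1) (Ideal.mul_mem_right _ _ hg)

lemma aeval_sg_one (a : Polynomial ℤ) : Polynomial.aeval (sg 1 1) a = Polynomial.toLaurent a := by
  have : Polynomial.aeval (sg 1 1) = Polynomial.toLaurentAlg (R := ℤ) := by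
    apply Polynomial.algHom_ext
    rw [Polynomial.aeval_X, Polynomial.toLaurentAlg_apply, Polynomial.toLaurent_X]
    rfl
  rw [this, Polynomial.toLaurentAlg_apply]

lemma toLaurent_coeff (a : Polynomial ℤ) (n : ℤ) :
    (Polynomial.toLaurent a).coeff n = if 0 ≤ n then a.coeff n.toNat else 0 := by
  induction a using Polynomial.induction_on' with
  | add a b ha hb =>
    rw [map_add, AddMonoidAlgebra.coeff_add, Finsupp.add_apply, ha, hb]
    split_ifs <;> simp
  | monomial j c =>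
    rw [← Polynomial.C_mul_X_pow_eq_monomial, Polynomial.toLaurent_C_mul_X_pow,
      ← LaurentPolynomial.single_eq_C_mul_T]
    have := sg_coeff (j : ℤ) n c
    rw [show (AddMonoidAlgebra.single (j:ℤ) c : L) = sg j c from rfl, this,
      Polynomial.C_mul_X_pow_eq_monomial, Polynomial.coeff_monomial]
    by_cases hn : 0 ≤ n
    · rw [if_pos hn]
      by_cases hj : (j : ℤ) = n
      · rw [if_pos hj, if_pos (by omega)]
      · rw [if_neg hj, if_neg (by omega)]
    · rw [if_neg hn, if_neg (by omega)]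

lemma aeval_sg_neg_coeff (b : Polynomial ℤ) (n : ℤ) :
    (Polynomial.aeval (sg (-1) q) b).coeff n
      = if n ≤ 0 then b.coeff n.natAbs * q ^ n.natAbs else 0 := by
  induction b using Polynomial.induction_on' with
  | add a b ha hb =>
    rw [map_add, AddMonoidAlgebra.coeff_add, Finsupp.add_apply, ha, hb]
    split_ifs <;> simp [add_mul]
  | monomial j c =>
    rw [Polynomial.aeval_monomial]
    have h1 : (sg (-1) q) ^ j = sg (-(j:ℤ)) (q ^ j) := by
      show (AddMonoidAlgebra.single (-1:ℤ) q : L) ^ j = _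
      rw [AddMonoidAlgebra.single_pow]
      congr 1
      simp
    rw [h1, algebraMap_L, sg_mul, sg_coeff, Polynomial.coeff_monomial]
    by_cases hn : n ≤ 0
    · rw [if_pos hn]
      by_cases hj : (0:ℤ) + -(j : ℤ) = n
      · rw [if_pos hj, if_pos (by omega)]
        have : n.natAbs = j := by omega
        rw [this]
      · rw [if_neg hj, if_neg (by omega)]; simp
    · rw [if_neg hn, if_neg (by omega)]

lemma θ_aeval_X0 (a : Polynomial ℤ) :
    θ q (Polynomial.aeval (X 0 : R) a) = Polynomial.toLaurent a := by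
  rw [← Polynomial.aeval_algHom_apply, θ_X0, aeval_sg_one]

lemma θ_aeval_X1 (b : Polynomial ℤ) :
    θ q (Polynomial.aeval (X 1 : R) b) = Polynomial.aeval (sg (-1) q) b := by
  rw [← Polynomial.aeval_algHom_apply, θ_X1]

lemma ψ_aeval_X0 (b : Polynomial ℤ) :
    ψ q (Polynomial.aeval (X 0 : R) b) = Polynomial.aeval (sg (-1) q) b := by
  rw [← Polynomial.aeval_algHom_apply, ψ_X0]

lemma mem_span_g_of_θ (x : R) (hx : x ∈ Ideal.span {g q}) : θ q x = 0 := by
  obtain ⟨y, rfl⟩ := Ideal.mem_span_singleton'.mp hx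
  rw [map_mul, θ_g, mul_zero]

lemma mem_span_g_of_ψ (x : R) (hx : x ∈ Ideal.span {g q}) : ψ q x = 0 := by
  obtain ⟨y, rfl⟩ := Ideal.mem_span_singleton'.mp hx
  rw [map_mul, ψ_g, mul_zero]

theorem ker_θ (hq : q ≠ 0) (x : R) : θ q x = 0 ↔ x ∈ Ideal.span {g q} := by
  refine ⟨fun hx => ?_, mem_span_g_of_θ q x⟩
  obtain ⟨a, b, hmem⟩ := exists_nf q x
  have h0 : θ q (Polynomial.aeval (X 0 : R) a + Polynomial.aeval (X 1 : R) b) = 0 := by
    have := mem_span_g_of_θ q _ hmem
    rw [map_sub, hx, zero_sub, neg_eq_zero] at this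
    exact this
  rw [map_add, θ_aeval_X0, θ_aeval_X1] at h0
  have hc : ∀ n : ℤ, (if 0 ≤ n then a.coeff n.toNat else 0)
      + (if n ≤ 0 then b.coeff n.natAbs * q ^ n.natAbs else 0) = 0 := by
    intro n
    have := congrArg (fun l : L => l.coeff n) h0
    simp only [AddMonoidAlgebra.coeff_add, Finsupp.add_apply] at this
    rw [toLaurent_coeff, aeval_sg_neg_coeff] at this
    simpa using this
  have ha : ∀ m : ℕ, 1 ≤ m → a.coeff m = 0 := by
    intro m hm
    have := hc m
    rw [if_pos (by omega), if_neg (by omega)] at this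
    simpa using this
  have hb : ∀ m : ℕ, 1 ≤ m → b.coeff m = 0 := by
    intro m hm
    have := hc (-(m:ℤ))
    rw [if_neg (by omega), if_pos (by omega)] at this
    have h2 : (-(m:ℤ)).natAbs = m := by omega
    rw [h2, zero_add] at this
    rcases mul_eq_zero.mp this with h | h
    · exact h
    · exact absurd (pow_eq_zero_iff (by omega) |>.mp h) hq
  have h00 : a.coeff 0 + b.coeff 0 = 0 := by
    have := hc 0
    simpa using this
  have ha' : a = Polynomial.C (a.coeff 0) := by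
    ext m
    rcases Nat.eq_zero_or_pos m with rfl | hm
    · simp
    · rw [ha m hm, Polynomial.coeff_C, if_neg (by omega)]
  have hb' : b = Polynomial.C (b.coeff 0) := by
    ext m
    rcases Nat.eq_zero_or_pos m with rfl | hm
    · simp
    · rw [hb m hm, Polynomial.coeff_C, if_neg (by omega)]
  have hy : Polynomial.aeval (X 0 : R) a + Polynomial.aeval (X 1 : R) b = 0 := by
    rw [ha', hb', Polynomial.aeval_C, Polynomial.aeval_C, ← map_add, h00, map_zero]
  rwa [hy, sub_zero] at hmem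

lemma sub_aeval_ε₀_mem (x : R) :
    x - Polynomial.aeval (X 1 : R) (ε₀ x) ∈ Ideal.span {(X 0 : R)} := by
  induction x using MvPolynomial.induction_on with
  | C c =>
    rw [ε₀_C, Polynomial.aeval_C]
    simp
  | add x y hx hy =>
    have := Ideal.add_mem _ hx hy
    convert this using 1
    simp only [map_add]; ring
  | mul_X x i hx =>
    fin_cases i
    · show x * X 0 - Polynomial.aeval (X 1 : R) (ε₀ (x * X 0)) ∈ _
      rw [map_mul, ε₀_X0, mul_zero, map_zero, sub_zero]
      exact Ideal.mul_mem_left _ _ (Ideal.subset_span rfl)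
    · show x * X 1 - Polynomial.aeval (X 1 : R) (ε₀ (x * X 1)) ∈ _
      rw [map_mul, ε₀_X1, map_mul, Polynomial.aeval_X, ← sub_mul]
      exact Ideal.mul_mem_right _ _ hx

lemma ε₀_eq_zero_iff (x : R) : ε₀ x = 0 ↔ x ∈ Ideal.span {(X 0 : R)} := by
  constructor
  · intro h
    have := sub_aeval_ε₀_mem x
    rwa [h, map_zero, sub_zero] at this
  · intro h
    obtain ⟨y, rfl⟩ := Ideal.mem_span_singleton'.mp h
    rw [map_mul, ε₀_X0, mul_zero]

/-- `ψ x ≡ ε₀ x` modulo `q`. -/
lemma exists_ψ_eq (x : R) : ∃ μ : L, ψ q x = Polynomial.toLaurent (ε₀ x) + sg 0 q * μ := by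
  induction x using MvPolynomial.induction_on with
  | C c =>
    refine ⟨0, ?_⟩
    rw [ψ_C, ε₀_C, Polynomial.toLaurent_C, mul_zero, add_zero]
    rfl
  | add x y hx hy =>
    obtain ⟨μ, h1⟩ := hx
    obtain ⟨ν, h2⟩ := hy
    refine ⟨μ + ν, ?_⟩
    rw [map_add, map_add, map_add, h1, h2]; ring
  | mul_X x i hx =>
    obtain ⟨μ, h1⟩ := hx
    fin_cases i
    · refine ⟨ψ q x * sg (-1) 1, ?_⟩
      show ψ q (x * X 0) = Polynomial.toLaurent (ε₀ (x * X 0)) + _
      rw [map_mul, map_mul, ε₀_X0, mul_zero, map_zero, zero_add, ψ_X0]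
      have : sg (-1) q = sg 0 q * sg (-1) 1 := by rw [sg_mul]; simp
      rw [this]; ring
    · refine ⟨μ * sg 1 1, ?_⟩
      show ψ q (x * X 1) = Polynomial.toLaurent (ε₀ (x * X 1)) + _
      rw [map_mul, map_mul, ε₀_X1, ψ_X1, h1, map_mul, Polynomial.toLaurent_X]
      have : (LaurentPolynomial.T 1 : L) = sg 1 1 := rfl
      rw [this]; ring

lemma sg_zero_mul_coeff (c : ℤ) (μ : L) (n : ℤ) : (sg 0 c * μ).coeff n = c * μ.coeff n := by
  show (AddMonoidAlgebra.single (0:ℤ) c * μ).coeff n = _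
  rw [AddMonoidAlgebra.coeff_single_mul_apply]
  simp

/-- coefficients of `ε₀ x` are congruent mod `q` to those of `ψ x`. -/
lemma ε₀_coeff_dvd_sub (x : R) (n : ℕ) : q ∣ (ψ q x).coeff (n : ℤ) - (ε₀ x).coeff n := by
  obtain ⟨μ, h⟩ := exists_ψ_eq q x
  rw [h, AddMonoidAlgebra.coeff_add, Finsupp.add_apply, toLaurent_coeff, if_pos (by omega),
    sg_zero_mul_coeff]
  simp

lemma sg_pow (n c : ℤ) (k : ℕ) : (sg n c) ^ k = sg (k * n) (c ^ k) := by
  show (AddMonoidAlgebra.single n c : L) ^ k = _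
  rw [AddMonoidAlgebra.single_pow]
  congr 1

lemma map_eq_zero_iff_C_dvd (f : Polynomial ℤ) :
    f.map (Int.castRingHom (ZMod q.natAbs)) = 0 ↔ Polynomial.C q ∣ f := by
  rw [Polynomial.C_dvd_iff_dvd_coeff, Polynomial.ext_iff]
  refine forall_congr' fun i => ?_
  rw [Polynomial.coeff_map, Polynomial.coeff_zero, eq_intCast,
    ZMod.intCast_zmod_eq_zero_iff_dvd, Int.natAbs_dvd]

/-- every element becomes a polynomial in `F` after multiplying by a power of `F`, mod `FV - q`. -/
lemma exists_pow_mul_sub_mem (hq : q ≠ 0) (x : R) : ∃ (N : ℕ) (u : Polynomial ℤ),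
    X 0 ^ N * x - Polynomial.aeval (X 0 : R) u ∈ Ideal.span {g q} := by
  obtain ⟨N, u, hu⟩ := LaurentPolynomial.exists_T_pow (θ q x)
  refine ⟨N, u, ?_⟩
  rw [← ker_θ q hq, map_sub, map_mul, map_pow, θ_X0, θ_aeval_X0, hu, sg_pow, sub_eq_zero,
    mul_comm]
  congr 1
  show (AddMonoidAlgebra.single ((N:ℤ) * 1) (1 ^ N) : L) = LaurentPolynomial.T (N:ℤ)
  rw [mul_one, one_pow]; rfl

section PartB

variable {q} (hq : q ≠ 0) {D : ℕ} {P : Polynomial ℤ} (hP : P.Monic)
  (hP0 : P.coeff 0 = q ^ D ∨ P.coeff 0 = - q ^ D)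
  {h : R} (hh : X 0 ^ D * h - Polynomial.aeval (X 0 : R) P ∈ Ideal.span {g q})

include hh in
lemma θ_h : sg D 1 * θ q h = Polynomial.toLaurent P := by
  have := mem_span_g_of_θ q _ hh
  rw [map_sub, map_mul, map_pow, θ_X0, θ_aeval_X0, sg_pow, sub_eq_zero] at this
  simpa using this

include hh hP in
lemma θ_h_ne_zero : θ q h ≠ 0 := by
  intro h0
  have := θ_h hh
  rw [h0, mul_zero] at this
  exact hP.ne_zero (Polynomial.toLaurent_eq_zero.mp this.symm)

include hh hP hq in
/-- `h` is a nonzerodivisor modulo `FV - q`. -/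
lemma mem_span_g_of_h_mul (x : R) (hx : h * x ∈ Ideal.span {g q}) : x ∈ Ideal.span {g q} := by
  rw [← ker_θ q hq] at hx ⊢
  rw [map_mul] at hx
  rcases mul_eq_zero.mp hx with h1 | h1
  · exact absurd h1 (θ_h_ne_zero hP hh)
  · exact h1

include hh in
lemma ψ_h_coeff (k : ℤ) : q ^ D * (ψ q h).coeff k
    = if k ≤ D then P.coeff (k - D).natAbs * q ^ (k - D).natAbs else 0 := by
  have := mem_span_g_of_ψ q _ hh
  rw [map_sub, map_mul, map_pow, ψ_X0, ψ_aeval_X0, sg_pow, sub_eq_zero] at this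
  have h2 := congrArg (fun l : L => l.coeff (k - D)) this
  beta_reduce at h2
  rw [aeval_sg_neg_coeff] at h2
  have h3 : (sg (↑D * -1) (q ^ D) * ψ q h).coeff (k - D) = q ^ D * (ψ q h).coeff k := by
    show (AddMonoidAlgebra.single ((D:ℤ) * -1) (q ^ D) * ψ q h).coeff (k - D) = _
    rw [AddMonoidAlgebra.coeff_single_mul_apply]
    congr 2
    ring
  rw [h3] at h2
  rw [h2]
  by_cases hk : k ≤ D
  · rw [if_pos hk, if_pos (by omega)]
  · rw [if_neg hk, if_neg (by omega)]

include hh hq in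
lemma ψ_h_coeff_gt (k : ℕ) (hk : D < k) : (ψ q h).coeff (k : ℤ) = 0 := by
  have := ψ_h_coeff hh (k : ℤ)
  rw [if_neg (by omega)] at this
  rcases mul_eq_zero.mp this with h1 | h1
  · exact absurd (eq_zero_of_pow_eq_zero h1) hq
  · exact h1

include hh hq hP0 in
lemma ψ_h_coeff_D : (ψ q h).coeff (D : ℤ) = 1 ∨ (ψ q h).coeff (D : ℤ) = -1 := by
  have := ψ_h_coeff hh (D : ℤ)
  rw [if_pos le_rfl] at this
  simp only [sub_self, Int.natAbs_zero, pow_zero, mul_one] at this
  have hqD : q ^ D ≠ 0 := pow_ne_zero _ hq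
  rcases hP0 with h0 | h0
  · left
    rw [h0] at this
    exact mul_left_cancel₀ hqD (by rw [this, mul_one])
  · right
    rw [h0] at this
    exact mul_left_cancel₀ hqD (by rw [this, mul_neg, mul_one])

include hh hq hP0 in
/-- `ε₀ h` is a nonzerodivisor modulo `q` in `ℤ[X]`. -/
lemma C_dvd_of_C_dvd_mul (β : Polynomial ℤ) (hβ : Polynomial.C q ∣ β * ε₀ h) :
    Polynomial.C q ∣ β := by
  rw [← map_eq_zero_iff_C_dvd] at hβ ⊢
  rw [Polynomial.map_mul] at hβ
  set η := (ε₀ h).map (Int.castRingHom (ZMod q.natAbs)) with hη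
  have hcast : ∀ a b : ℤ, q ∣ a - b → ((a : ℤ) : ZMod q.natAbs) = ((b : ℤ) : ZMod q.natAbs) := by
    intro a b hab
    rw [← sub_eq_zero, ← Int.cast_sub, ZMod.intCast_zmod_eq_zero_iff_dvd, Int.natAbs_dvd]
    exact hab
  have hcoeff : ∀ k : ℕ, η.coeff k = (((ψ q h).coeff (k : ℤ) : ℤ) : ZMod q.natAbs) := by
    intro k
    rw [hη, Polynomial.coeff_map, eq_intCast]
    exact (hcast _ _ (ε₀_coeff_dvd_sub q h k)).symm
  have hdeg : η.natDegree ≤ D := by
    rw [Polynomial.natDegree_le_iff_coeff_eq_zero]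
    intro k hk
    rw [hcoeff k, ψ_h_coeff_gt hq hh k hk, Int.cast_zero]
  have hreg : IsRegular η := by
    rcases ψ_h_coeff_D hq hP0 hh with h1 | h1
    · have : η.Monic := Polynomial.monic_of_natDegree_le_of_coeff_eq_one D hdeg (by
        rw [hcoeff D, h1, Int.cast_one])
      exact this.isRegular
    · have : (-η).Monic := Polynomial.monic_of_natDegree_le_of_coeff_eq_one D (by
        rwa [Polynomial.natDegree_neg]) (by
        rw [Polynomial.coeff_neg, hcoeff D, h1, Int.cast_neg, Int.cast_one, neg_neg])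
      have h2 := this.isRegular
      have : η = (-1) * (-η) := by ring
      rw [this]
      exact (IsUnit.isRegular (isUnit_one.neg)).mul h2
  exact hreg.right (by show _ * η = 0 * η; rw [hβ, zero_mul])

include hh hq hP0 in
/-- `F` is a nonzerodivisor modulo `(FV - q, h)`. -/
lemma mem_of_X0_mul_mem (y : R) (hy : X 0 * y ∈ Ideal.span {g q, h}) :
    y ∈ Ideal.span {g q, h} := by
  obtain ⟨a, b, hab⟩ := Ideal.mem_span_pair.mp hy
  -- apply ε₀
  have e1 := congrArg ε₀ hab
  rw [map_add, map_mul, map_mul, map_mul, ε₀_X0, zero_mul, ε₀_g] at e1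
  have hdiv : Polynomial.C q ∣ ε₀ b * ε₀ h := by
    refine ⟨ε₀ a, ?_⟩
    linear_combination e1
  obtain ⟨w, hw⟩ := C_dvd_of_C_dvd_mul hq hP0 hh _ hdiv
  -- b = F b₁ + q w(V)
  obtain ⟨b₁, hb₁⟩ := Ideal.mem_span_singleton'.mp (sub_aeval_ε₀_mem b)
  set w' : R := Polynomial.aeval (X 1 : R) w with hw'
  have hb : b = X 0 * (b₁ + X 1 * w') - g q * w' := by
    have : Polynomial.aeval (X 1 : R) (ε₀ b) = C q * w' := by
      rw [hw, map_mul, Polynomial.aeval_C]; rfl
    rw [this] at hb₁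
    have hb2 : b = b₁ * X 0 + C q * w' := by linear_combination -hb₁
    rw [hb2, g]; ring
  set b₁' : R := b₁ + X 1 * w' with hb₁'
  have e2 : X 0 * (y - b₁' * h) = g q * (a - w' * h) := by
    rw [hb] at hab
    linear_combination -hab
  have e3 := congrArg ε₀ e2
  rw [map_mul, ε₀_X0, zero_mul, map_mul, ε₀_g] at e3
  have e4 : ε₀ (a - w' * h) = 0 := by
    rcases mul_eq_zero.mp e3.symm with h1 | h1
    · exact absurd (by simpa using h1) hq
    · exact h1
  obtain ⟨c, hc⟩ := Ideal.mem_span_singleton'.mp ((ε₀_eq_zero_iff _).mp e4)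
  have e5 : y - b₁' * h = g q * c := by
    have hX : (X 0 : R) ≠ 0 := X_ne_zero 0
    apply mul_left_cancel₀ hX
    rw [e2, ← hc]; ring
  have : y = c * g q + b₁' * h := by linear_combination e5
  rw [this]
  exact Ideal.mem_span_pair.mpr ⟨c, b₁', rfl⟩

include hh hq hP0 in
lemma mem_of_X0_pow_mul_mem (N : ℕ) (y : R) (hy : X 0 ^ N * y ∈ Ideal.span {g q, h}) :
    y ∈ Ideal.span {g q, h} := by
  induction N with
  | zero => simpa using hy
  | succ N ih =>
    apply ih
    apply mem_of_X0_mul_mem hq hP0 hh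
    convert hy using 1
    ring

include hh hq hP0 in
/-- Abstract form of the kernel computation. -/
theorem ker_eq {A : Type*} [CommRing A] (φ : R →+* A) (hφg : φ (g q) = 0)
    (hreg : IsSMulRegular A (φ (X 0)))
    (hφP : φ (Polynomial.aeval (X 0 : R) P) = 0)
    (hdvd : ∀ u : Polynomial ℤ, φ (Polynomial.aeval (X 0 : R) u) = 0 → P ∣ u) :
    RingHom.ker φ = Ideal.span {g q, h} := by
  have hφspan : ∀ x, x ∈ Ideal.span {g q} → φ x = 0 := by
    intro x hx
    obtain ⟨y, rfl⟩ := Ideal.mem_span_singleton'.mp hx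
    rw [map_mul, hφg, mul_zero]
  have hregpow : ∀ N : ℕ, ∀ z : A, φ (X 0) ^ N * z = 0 → z = 0 := by
    intro N z hz
    have := (hreg.pow N)
    apply this
    simpa using hz
  apply le_antisymm
  · intro x hx
    rw [RingHom.mem_ker] at hx
    obtain ⟨N, u, hu⟩ := LaurentPolynomial.exists_T_pow (θ q x)
    have h1 : X 0 ^ N * x - Polynomial.aeval (X 0 : R) u ∈ Ideal.span {g q} := by
      rw [← ker_θ q hq, map_sub, map_mul, map_pow, θ_X0, θ_aeval_X0, hu, sg_pow, sub_eq_zero,
        mul_comm]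
      congr 1
      show (AddMonoidAlgebra.single ((N:ℤ) * 1) (1 ^ N) : L) = LaurentPolynomial.T (N:ℤ)
      rw [mul_one, one_pow]; rfl
    have h2 := hφspan _ h1
    rw [map_sub, map_mul, hx, mul_zero, zero_sub, neg_eq_zero] at h2
    obtain ⟨w, rfl⟩ := hdvd u h2
    apply mem_of_X0_pow_mul_mem hq hP0 hh N
    have hg1 : g q ∈ Ideal.span {g q, h} := Ideal.subset_span (by simp)
    have hh1 : h ∈ Ideal.span {g q, h} := Ideal.subset_span (by simp)
    have hle : Ideal.span {g q} ≤ Ideal.span {g q, h} :=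
      Ideal.span_mono (by simp)
    have h3 : X 0 ^ N * x = (X 0 ^ N * x - Polynomial.aeval (X 0 : R) (P * w))
        - (X 0 ^ D * h - Polynomial.aeval (X 0 : R) P) * Polynomial.aeval (X 0 : R) w
        + X 0 ^ D * Polynomial.aeval (X 0 : R) w * h := by
      rw [map_mul]; ring
    rw [h3]
    exact Ideal.add_mem _ (Ideal.sub_mem _ (hle h1) (Ideal.mul_mem_right _ _ (hle hh)))
      (Ideal.mul_mem_left _ _ hh1)
  · rw [Ideal.span_le]
    intro x hx
    rcases hx with rfl | rfl
    · exact hφg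
    · show φ x = 0
      have h1 := hφspan _ hh
      rw [map_sub, map_mul, map_pow, hφP, sub_zero] at h1
      exact hregpow D _ h1

include hh hq hP in
theorem isWeaklyRegular :
    RingTheory.Sequence.IsWeaklyRegular R [g q, h] := by
  have hg0 : g q ≠ 0 := by
    intro h0
    have := congrArg ε₀ h0
    rw [ε₀_g, map_zero, neg_eq_zero] at this
    exact hq (by simpa using this)
  rw [RingTheory.Sequence.isWeaklyRegular_cons_iff, RingTheory.Sequence.isWeaklyRegular_singleton_iff]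
  refine ⟨?_, ?_⟩
  · rw [isSMulRegular_iff_right_eq_zero_of_smul]
    intro x hx
    rcases mul_eq_zero.mp hx with h1 | h1
    · exact absurd h1 hg0
    · exact h1
  · rw [isSMulRegular_iff_right_eq_zero_of_smul]
    intro x hx
    obtain ⟨y, rfl⟩ := Submodule.Quotient.mk_surjective _ x
    rw [← Submodule.Quotient.mk_smul, Submodule.Quotient.mk_eq_zero] at hx
    rw [Submodule.Quotient.mk_eq_zero]
    obtain ⟨z, -, hz⟩ := (Submodule.mem_smul_pointwise_iff_exists _ _ _).mp hx
    have h1 : h * y ∈ Ideal.span {g q} := by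
      rw [Ideal.mem_span_singleton']
      exact ⟨z, by rw [mul_comm]; simpa using hz⟩
    obtain ⟨c, hc⟩ := Ideal.mem_span_singleton'.mp (mem_span_g_of_h_mul hq hP hh y h1)
    rw [Submodule.mem_smul_pointwise_iff_exists]
    exact ⟨c, trivial, by rw [← hc, smul_eq_mul, mul_comm]⟩

end PartB

end

end Groth.Agent.Lib.Helper1.WeilCI
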