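import Mathlib
import Groth.Agent.Lib.Helper1.WeilCI

/-!
# Functional equation of Weil polynomials and existence of `h`

* `funcEq` : for a monic `P ∈ ℤ[X]` of degree `2D` all of whose complex roots satisfy
  `z * conj z = q`, `P.coeff k * q^k = P.coeff 0 * P.coeff (2D - k)` for `k ≤ 2D`.
* `exists_h` : existence of `h ∈ ℤ[F,V]` with `F^D h ≡ P(F)` mod `FV - q`.
-/

open Polynomial

namespace Groth.Agent.Lib.Helper1.WeilFE

noncomputable section

/-- reflecting the product `∏ (X - z)` composed with `qX`. -/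
lemma reflect_prod (q : ℂ) (s : Multiset ℂ) :
    reflect (Multiset.card s) (((s.map (fun z => X - C z)).prod).comp (C q * X))
      = (s.map (fun z => C q - C z * X)).prod := by
  induction s using Multiset.induction with
  | empty => simp
  | cons a s ih =>
    rw [Multiset.map_cons, Multiset.prod_cons, Multiset.map_cons, Multiset.prod_cons, mul_comp,
      Multiset.card_cons, add_comm]
    rw [reflect_mul (F := 1) (G := Multiset.card s), ih]
    · congr 1
      have : (X - C a : ℂ[X]).comp (C q * X) = C q * X ^ 1 - C a * X ^ 0 := by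
        simp
      rw [this, reflect_sub, reflect_C_mul_X_pow, reflect_C_mul_X_pow]
      simp [revAt_le]
    · refine (natDegree_comp_le).trans ?_
      have h1 : (X - C a : ℂ[X]).natDegree ≤ 1 := natDegree_X_sub_C_le a
      have h2 : (C q * X : ℂ[X]).natDegree ≤ 1 := (natDegree_C_mul_le q X).trans natDegree_X_le
      calc _ ≤ 1 * 1 := Nat.mul_le_mul h1 h2
        _ = 1 := by norm_num
    · refine (natDegree_comp_le).trans ?_
      have h1 : ((s.map (fun z => X - C z)).prod : ℂ[X]).natDegree = Multiset.card s := by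
        exact natDegree_multiset_prod_X_sub_C_eq_card s
      have h2 : (C q * X : ℂ[X]).natDegree ≤ 1 := (natDegree_C_mul_le q X).trans natDegree_X_le
      calc _ ≤ Multiset.card s * 1 := by rw [h1]; exact Nat.mul_le_mul le_rfl h2
        _ = Multiset.card s := by norm_num

theorem funcEq (q : ℤ) (D : ℕ) (P : ℤ[X]) (hP : P.Monic) (hdeg : P.natDegree = 2 * D)
    (hroots : ∀ z ∈ P.aroots ℂ, z * (starRingEnd ℂ) z = (q : ℂ)) :
    ∀ k ≤ 2 * D, P.coeff k * q ^ k = P.coeff 0 * P.coeff (2 * D - k) := by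
  set f : ℂ[X] := P.map (algebraMap ℤ ℂ) with hf
  have hfm : f.Monic := hP.map _
  have hsp : f.Splits := IsAlgClosed.splits f
  have hfdeg : f.natDegree = 2 * D := by rw [hf, hP.natDegree_map, hdeg]
  set s := f.roots with hs
  have hcard : Multiset.card s = 2 * D := by rw [hs, ← hsp.natDegree_eq_card_roots, hfdeg]
  have hfprod : f = (s.map (fun z => X - C z)).prod := hsp.eq_prod_roots_of_monic hfm
  -- conjugation stability
  have hconj : s.map (starRingEnd ℂ) = s := by
    have h1 : f.map (starRingEnd ℂ) = f := by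
      rw [hf, Polynomial.map_map]
      congr 1
      exact RingHom.ext_int _ _
    have h2 := roots_map_of_injective_of_card_eq_natDegree (p := f) (f := starRingEnd ℂ)
      (starRingEnd ℂ).injective (by rw [← hs, hcard, hfdeg])
    rw [h1] at h2
    exact h2
  have hmem : ∀ z ∈ s, z * (starRingEnd ℂ) z = (q : ℂ) := fun z hz => hroots z hz
  -- the key polynomial identity
  have key : reflect (2 * D) (f.comp (C (q : ℂ) * X)) = C (f.coeff 0) * f := by
    conv_lhs => rw [hfprod, ← hcard]
    rw [reflect_prod]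
    have h1 : s.map (fun z => C (q : ℂ) - C z * X)
        = s.map (fun z => C (-z) * (X - C ((starRingEnd ℂ) z))) := by
      apply Multiset.map_congr rfl
      intro z hz
      rw [← hmem z hz]
      simp only [map_mul, C_neg]
      ring
    rw [h1, Multiset.prod_map_mul]
    have h2 : (s.map (fun z => X - C ((starRingEnd ℂ) z))).prod = f := by
      conv_rhs => rw [hfprod, ← hconj]
      rw [Multiset.map_map]
      rfl
    rw [h2]
    congr 1
    have h3 := hsp.coeff_zero_eq_prod_roots_of_monic hfm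
    rw [h3, hfdeg]
    have h4 : (s.map (fun z => C (-z))).prod = C ((s.map (fun z => -z)).prod) := by
      have := map_multiset_prod (C : ℂ →+* ℂ[X]) (s.map (fun z => -z))
      rw [this, Multiset.map_map]
      rfl
    rw [h4]
    congr 1
    have h5 : (s.map (fun z => -z)) = s.map (fun z => (-1 : ℂ) * z) := by
      apply Multiset.map_congr rfl
      intro z _; ring
    rw [h5, Multiset.prod_map_mul, Multiset.map_const', Multiset.prod_replicate, hcard,
      Multiset.map_id']
  intro k hk
  have h1 := congrArg (fun g : ℂ[X] => g.coeff (2 * D - k)) key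
  simp only [coeff_reflect, coeff_C_mul] at h1
  rw [revAt_le (Nat.sub_le _ _), Nat.sub_sub_self hk, comp_C_mul_X_coeff] at h1
  rw [hf, coeff_map, coeff_map, coeff_map] at h1
  have h2 : ((P.coeff k * q ^ k : ℤ) : ℂ) = ((P.coeff 0 * P.coeff (2 * D - k) : ℤ) : ℂ) := by
    push_cast
    simpa using h1
  exact_mod_cast h2

section Consequences

variable {q : ℤ} (hq : q ≠ 0) {D : ℕ} {P : ℤ[X]} (hP : P.Monic) (hdeg : P.natDegree = 2 * D)
  (hfe : ∀ k ≤ 2 * D, P.coeff k * q ^ k = P.coeff 0 * P.coeff (2 * D - k))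

include hP hdeg hfe in
lemma coeff_zero_eq : P.coeff 0 = q ^ D ∨ P.coeff 0 = - q ^ D := by
  have h1 := hfe (2 * D) le_rfl
  have h2 : P.coeff (2 * D) = 1 := by rw [← hdeg]; exact hP.coeff_natDegree
  rw [h2, one_mul, Nat.sub_self] at h1
  have h3 : (P.coeff 0) ^ 2 = (q ^ D) ^ 2 := by rw [← pow_mul, mul_comm D 2, h1]; ring
  exact sq_eq_sq_iff_eq_or_eq_neg.mp h3

include hq hfe in
lemma coeff_sub_eq (ε : ℤ) (hε : P.coeff 0 = ε * q ^ D) (j : ℕ) (hj : j ≤ D) :
    P.coeff (D - j) = ε * q ^ j * P.coeff (D + j) := by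
  have h1 := hfe (D - j) (by omega)
  have h2 : 2 * D - (D - j) = D + j := by omega
  rw [h2, hε] at h1
  have h3 : q ^ D = q ^ (D - j) * q ^ j := by rw [← pow_add]; congr 1; omega
  have h4 : q ^ (D - j) ≠ 0 := pow_ne_zero _ hq
  apply mul_right_cancel₀ h4
  rw [h1, h3]; ring

open MvPolynomial in
include hq hP hdeg hfe in
/-- existence of `h` with `F^D h ≡ P(F)` modulo `FV - q`. -/
theorem exists_h : ∃ h : WeilCI.R,
    (MvPolynomial.X 0 : WeilCI.R) ^ D * h - Polynomial.aeval (MvPolynomial.X 0 : WeilCI.R) P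
      ∈ Ideal.span {WeilCI.g q} := by
  obtain ⟨ε, hε⟩ : ∃ ε : ℤ, P.coeff 0 = ε * q ^ D := by
    rcases coeff_zero_eq hP hdeg hfe with h | h
    · exact ⟨1, by rw [h, one_mul]⟩
    · exact ⟨-1, by rw [h]; ring⟩
  have hc := coeff_sub_eq hq hfe ε hε
  let F : WeilCI.R := MvPolynomial.X 0
  let V : WeilCI.R := MvPolynomial.X 1
  let cc : ℕ → WeilCI.R := fun k => MvPolynomial.C (P.coeff k)
  refine ⟨∑ j ∈ Finset.range (D + 1), cc (D + j) * F ^ j
      + ∑ j ∈ Finset.range D, MvPolynomial.C ε * cc (D + (j + 1)) * V ^ (j + 1), ?_⟩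
  have hP' : Polynomial.aeval F P = ∑ k ∈ Finset.range (2 * D + 1), cc k * F ^ k := by
    rw [Polynomial.aeval_eq_sum_range, hdeg]
    refine Finset.sum_congr rfl fun k _ => ?_
    rw [Algebra.smul_def]; rfl
  have hsplit : ∑ k ∈ Finset.range (2 * D + 1), cc k * F ^ k
      = ∑ j ∈ Finset.range D, cc (D - 1 - j) * F ^ (D - 1 - j)
        + ∑ j ∈ Finset.range (D + 1), cc (D + j) * F ^ (D + j) := by
    have : 2 * D + 1 = D + (D + 1) := by ring
    rw [this, Finset.sum_range_add, Finset.sum_range_reflect (fun k => cc k * F ^ k) D]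
  have hterm : ∀ j ∈ Finset.range D, cc (D - 1 - j) = MvPolynomial.C ε * MvPolynomial.C (q ^ (j + 1)) * cc (D + (j + 1)) := by
    intro j hj
    have hj' : j + 1 ≤ D := by have := Finset.mem_range.mp hj; omega
    have := hc (j + 1) hj'
    show MvPolynomial.C (P.coeff (D - 1 - j)) = _
    have h2 : D - 1 - j = D - (j + 1) := by omega
    rw [h2, this]
    simp only [map_mul, cc]
  have hmain : F ^ D * (∑ j ∈ Finset.range (D + 1), cc (D + j) * F ^ j
      + ∑ j ∈ Finset.range D, MvPolynomial.C ε * cc (D + (j + 1)) * V ^ (j + 1)) - Polynomial.aeval F P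
      = ∑ j ∈ Finset.range D, MvPolynomial.C ε * cc (D + (j + 1)) * F ^ (D - 1 - j)
          * ((F * V) ^ (j + 1) - (MvPolynomial.C q) ^ (j + 1)) := by
    rw [hP', hsplit, mul_add, Finset.mul_sum, Finset.mul_sum]
    have h1 : ∑ j ∈ Finset.range (D + 1), F ^ D * (cc (D + j) * F ^ j)
        = ∑ j ∈ Finset.range (D + 1), cc (D + j) * F ^ (D + j) := by
      refine Finset.sum_congr rfl fun j _ => ?_
      rw [pow_add]; ring
    rw [h1]
    have h2 : ∑ j ∈ Finset.range D, F ^ D * (MvPolynomial.C ε * cc (D + (j + 1)) * V ^ (j + 1))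
        - ∑ j ∈ Finset.range D, cc (D - 1 - j) * F ^ (D - 1 - j)
        = ∑ j ∈ Finset.range D, MvPolynomial.C ε * cc (D + (j + 1)) * F ^ (D - 1 - j)
          * ((F * V) ^ (j + 1) - (MvPolynomial.C q) ^ (j + 1)) := by
      rw [← Finset.sum_sub_distrib]
      refine Finset.sum_congr rfl fun j hj => ?_
      rw [hterm j hj]
      have hj' : j + 1 ≤ D := by have := Finset.mem_range.mp hj; omega
      have h3 : F ^ D = F ^ (D - 1 - j) * F ^ (j + 1) := by
        rw [← pow_add]; congr 1; omega
      rw [h3, mul_pow, map_pow]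
      ring
    rw [← h2]; ring
  show F ^ D * _ - Polynomial.aeval F P ∈ _
  rw [hmain]
  refine Ideal.sum_mem _ fun j _ => ?_
  apply Ideal.mul_mem_left
  rw [Ideal.mem_span_singleton]
  exact sub_dvd_pow_sub_pow _ _ _

end Consequences

end

end Groth.Agent.Lib.Helper1.WeilFE
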