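import Mathlib
import Groth.Agent.Lib.Helper1.WeilCI
import Groth.Agent.Lib.Helper1.WeilFE
import Groth.Agent.S17984

/-!
# The minimal central order `R_w` of a finite family of Weil numbers: basic facts
-/

open MvPolynomial

namespace Groth.Agent.Lib.Helper1.WeilOrder

universe u

noncomputable section

set_option linter.unusedSectionVars false

variable (p e : ℕ) [Fact p.Prime]
    {ι : Type} [Fintype ι] (K : ι → Type u) [∀ i, Field (K i)] [∀ i, CharZero (K i)] (π : ∀ i, K i)

/-- the product of the minimal polynomials -/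
abbrev Pw : Polynomial ℤ := ∏ i, minpoly ℤ (π i)

/-- the map `ℤ[F,V] → ∏ K_i` -/
abbrev φ' : MvPolynomial (Fin 2) ℤ →ₐ[ℤ] ((i : ι) → K i) :=
  aeval ![fun i => π i, fun i => ((p : K i) ^ e) / π i]

variable (hint : ∀ i, IsIntegral ℤ (π i))
    (hweil : ∀ i, ∀ z ∈ (minpoly ℤ (π i)).aroots ℂ, ‖z‖ = Real.sqrt ((p : ℝ) ^ e))
    (hinj : ∀ i j, minpoly ℤ (π i) = minpoly ℤ (π j) → i = j)
    (D : ℕ) (hD : ∑ i, (minpoly ℤ (π i)).natDegree = 2 * D)

include hint in
lemma Pw_monic : (Pw K π).Monic :=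
  Polynomial.monic_prod_of_monic _ _ (fun i _ => minpoly.monic (hint i))

include hint hD in
lemma Pw_natDegree : (Pw K π).natDegree = 2 * D := by
  rw [Pw, Polynomial.natDegree_prod_of_monic _ _ (fun i _ => minpoly.monic (hint i)), hD]

lemma q_ne_zero : ((p : ℤ) ^ e) ≠ 0 :=
  pow_ne_zero _ (by exact_mod_cast (Fact.out : p.Prime).ne_zero)

include hint hweil in
lemma Pw_roots : ∀ z ∈ (Pw K π).aroots ℂ, z * (starRingEnd ℂ) z = (((p : ℤ) ^ e : ℤ) : ℂ) := by
  intro z hz
  rw [Polynomial.mem_aroots] at hz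
  have h1 : ∏ i, Polynomial.aeval z (minpoly ℤ (π i)) = 0 := by
    rw [← map_prod]; exact hz.2
  obtain ⟨i, -, hi⟩ := Finset.prod_eq_zero_iff.mp h1
  have h2 : z ∈ (minpoly ℤ (π i)).aroots ℂ := by
    rw [Polynomial.mem_aroots]
    exact ⟨(minpoly.monic (hint i)).ne_zero, hi⟩
  have h3 := hweil i z h2
  rw [Complex.mul_conj, Complex.normSq_eq_norm_sq, h3, Real.sq_sqrt (by positivity)]
  push_cast; rfl

include hint hweil hD in
lemma fe : ∀ k ≤ 2 * D, (Pw K π).coeff k * ((p : ℤ) ^ e) ^ k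
    = (Pw K π).coeff 0 * (Pw K π).coeff (2 * D - k) :=
  WeilFE.funcEq _ D _ (Pw_monic K π hint) (Pw_natDegree K π hint D hD)
    (Pw_roots p e K π hint hweil)

include hint hweil hD in
lemma exists_h : ∃ h : MvPolynomial (Fin 2) ℤ,
    X 0 ^ D * h - Polynomial.aeval (X 0 : MvPolynomial (Fin 2) ℤ) (Pw K π) ∈
      Ideal.span ({X 0 * X 1 - C ((p : ℤ) ^ e)} : Set (MvPolynomial (Fin 2) ℤ)) :=
  WeilFE.exists_h (q_ne_zero p e) (Pw_monic K π hint) (Pw_natDegree K π hint D hD)
    (fe p e K π hint hweil D hD)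

include hint hweil hD in
lemma Pw_coeff_zero : (Pw K π).coeff 0 = ((p : ℤ) ^ e) ^ D ∨ (Pw K π).coeff 0 = - ((p : ℤ) ^ e) ^ D :=
  WeilFE.coeff_zero_eq (Pw_monic K π hint) (Pw_natDegree K π hint D hD)
    (fe p e K π hint hweil D hD)

include hint hweil hD in
lemma π_ne_zero (i : ι) : π i ≠ 0 := by
  intro h0
  have h1 : Polynomial.aeval (π i) (Pw K π) = 0 := by
    rw [Pw, map_prod]
    exact Finset.prod_eq_zero (Finset.mem_univ i) (minpoly.aeval ℤ (π i))
  rw [h0, Polynomial.aeval_def, Polynomial.eval₂_at_zero] at h1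
  have h2 : (((Pw K π).coeff 0 : ℤ) : K i) = 0 := by simpa using h1
  have h3 : (Pw K π).coeff 0 = 0 := by exact_mod_cast h2
  rcases Pw_coeff_zero p e K π hint hweil D hD with h | h
  · rw [h3] at h
    exact pow_ne_zero D (q_ne_zero p e) h.symm
  · rw [h3] at h
    exact pow_ne_zero D (q_ne_zero p e) (neg_eq_zero.mp h.symm)

lemma φ'_X0 : φ' p e K π (X 0) = fun i => π i := by simp [φ']
lemma φ'_X1 : φ' p e K π (X 1) = fun i => ((p : K i) ^ e) / π i := by simp [φ']

lemma φ'_aeval (u : Polynomial ℤ) (i : ι) :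
    φ' p e K π (Polynomial.aeval (X 0 : MvPolynomial (Fin 2) ℤ) u) i = Polynomial.aeval (π i) u := by
  rw [← Polynomial.aeval_algHom_apply, φ'_X0]
  have := Polynomial.aeval_algHom_apply (Pi.evalAlgHom ℤ K i) (fun i => π i) u
  simpa using this.symm

include hint hinj in
lemma Pw_dvd_of_aeval (u : Polynomial ℤ) (hu : ∀ i, Polynomial.aeval (π i) u = 0) : Pw K π ∣ u := by
  have hirr : ∀ i, Irreducible (minpoly ℤ (π i)) := fun i => minpoly.irreducible (hint i)
  apply Finset.prod_dvd_of_isRelPrime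
  · intro i _ j _ hij
    show IsRelPrime (minpoly ℤ (π i)) (minpoly ℤ (π j))
    rw [(hirr i).isRelPrime_iff_not_dvd]
    intro hdiv
    have hass := (hirr i).associated_of_dvd (hirr j) hdiv
    exact hij (hinj i j (Polynomial.eq_of_monic_of_associated (minpoly.monic (hint i))
      (minpoly.monic (hint j)) hass))
  · intro i _
    exact minpoly.isIntegrallyClosed_dvd (hint i) (hu i)

lemma φ'_aeval1 (u : Polynomial ℤ) (i : ι) :
    φ' p e K π (Polynomial.aeval (X 1 : MvPolynomial (Fin 2) ℤ) u) i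
      = Polynomial.aeval (((p : K i) ^ e) / π i) u := by
  rw [← Polynomial.aeval_algHom_apply, φ'_X1]
  have := Polynomial.aeval_algHom_apply (Pi.evalAlgHom ℤ K i)
    (fun i => ((p : K i) ^ e) / π i) u
  simpa using this.symm

include hint hweil hD in
/-- `q/π_i` is again a root of `P_w`. -/
lemma Pw_V (i : ι) : Polynomial.aeval (((p : K i) ^ e) / π i) (Pw K π) = 0 := by
  have hx := π_ne_zero p e K π hint hweil D hD i
  set x := π i with hxdef
  set y := ((p : K i) ^ e) / x with hy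
  have hxy : x * y = (p : K i) ^ e := by rw [hy]; field_simp
  have hdeg := Pw_natDegree K π hint D hD
  have hfe := fe p e K π hint hweil D hD
  have h1 : x ^ (2 * D) * Polynomial.aeval y (Pw K π)
      = (((Pw K π).coeff 0 : ℤ) : K i) * Polynomial.aeval x (Pw K π) := by
    rw [Polynomial.aeval_eq_sum_range, Polynomial.aeval_eq_sum_range, hdeg, Finset.mul_sum,
      Finset.mul_sum]
    rw [← Finset.sum_range_reflect (fun k => (((Pw K π).coeff 0 : ℤ) : K i) * ((Pw K π).coeff k • x ^ k))]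
    refine Finset.sum_congr rfl fun k hk => ?_
    have hk' : k ≤ 2 * D := by have := Finset.mem_range.mp hk; omega
    have h2 : 2 * D + 1 - 1 - k = 2 * D - k := by omega
    rw [h2]
    have h3 : x ^ (2 * D) = x ^ (2 * D - k) * x ^ k := by rw [← pow_add]; congr 1; omega
    have h4 := hfe k hk'
    have h5 : (((Pw K π).coeff k : ℤ) : K i) * ((p : K i) ^ e) ^ k
        = (((Pw K π).coeff 0 : ℤ) : K i) * (((Pw K π).coeff (2 * D - k) : ℤ) : K i) := by
      have := congrArg (fun n : ℤ => (n : K i)) h4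
      push_cast at this
      exact this
    rw [zsmul_eq_mul, zsmul_eq_mul, h3]
    calc x ^ (2 * D - k) * x ^ k * (((Pw K π).coeff k : ℤ) * y ^ k)
        = x ^ (2 * D - k) * ((((Pw K π).coeff k : ℤ) : K i) * (x * y) ^ k) := by rw [mul_pow]; ring
      _ = x ^ (2 * D - k) * ((((Pw K π).coeff 0 : ℤ) : K i) * (((Pw K π).coeff (2 * D - k) : ℤ) : K i)) := by
          rw [hxy, h5]
      _ = _ := by ring
  have h6 : Polynomial.aeval x (Pw K π) = 0 := by
    rw [Pw, map_prod]
    exact Finset.prod_eq_zero (Finset.mem_univ i) (minpoly.aeval ℤ (π i))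
  rw [h6, mul_zero] at h1
  rcases mul_eq_zero.mp h1 with h | h
  · exact absurd (eq_zero_of_pow_eq_zero h) hx
  · exact h

include hint in
lemma isIntegral_X0 : IsIntegral ℤ (φ' p e K π (X 0)) := by
  refine ⟨Pw K π, Pw_monic K π hint, ?_⟩
  show Polynomial.aeval (φ' p e K π (X 0)) (Pw K π) = 0
  rw [Polynomial.aeval_algHom_apply]
  funext i
  rw [φ'_aeval, Pw, map_prod]
  exact Finset.prod_eq_zero (Finset.mem_univ i) (minpoly.aeval ℤ (π i))

include hint hweil hD in
lemma isIntegral_X1 : IsIntegral ℤ (φ' p e K π (X 1)) := by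
  refine ⟨Pw K π, Pw_monic K π hint, ?_⟩
  show Polynomial.aeval (φ' p e K π (X 1)) (Pw K π) = 0
  rw [Polynomial.aeval_algHom_apply]
  funext i
  rw [φ'_aeval1]
  exact Pw_V p e K π hint hweil D hD i

include hint hweil hD in
lemma finite_range : Module.Finite ℤ (φ' p e K π).range := by
  have h1 : (φ' p e K π).range
      = Algebra.adjoin ℤ (Set.range ![fun i => π i, fun i => ((p : K i) ^ e) / π i]) :=
    (Algebra.adjoin_range_eq_range_aeval ℤ _).symm
  have h2 : (Algebra.adjoin ℤ (Set.range ![fun i => π i, fun i => ((p : K i) ^ e) / π i])).toSubmodule.FG := by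
    apply fg_adjoin_of_finite (Set.finite_range _)
    rintro x ⟨j, rfl⟩
    fin_cases j
    · have := isIntegral_X0 p e K π hint
      rwa [φ'_X0] at this
    · have := isIntegral_X1 p e K π hint hweil D hD
      rwa [φ'_X1] at this
  rw [h1]
  exact Module.Finite.iff_fg.mpr h2

end

end Groth.Agent.Lib.Helper1.WeilOrder
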