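import Mathlib
import Groth.Agent.Lib.Helper1.WeilOrder
import Groth.Agent.Lib.Helper73.DimFT.Basic

/-!
# The minimal central order `R_w`: free of rank `2D`, Krull dimension one
-/

open MvPolynomial

namespace Groth.Agent.Lib.Helper1.WeilOrder

universe u

noncomputable section

set_option linter.unusedSectionVars false

variable (p e : ℕ) [Fact p.Prime]
    {ι : Type} [Fintype ι] (K : ι → Type u) [∀ i, Field (K i)] [∀ i, CharZero (K i)] (π : ∀ i, K i)
    (hint : ∀ i, IsIntegral ℤ (π i))
    (hweil : ∀ i, ∀ z ∈ (minpoly ℤ (π i)).aroots ℂ, ‖z‖ = Real.sqrt ((p : ℝ) ^ e))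
    (hinj : ∀ i j, minpoly ℤ (π i) = minpoly ℤ (π j) → i = j)
    (D : ℕ) (hD : ∑ i, (minpoly ℤ (π i)).natDegree = 2 * D)

include hint hweil hD in
lemma free_range : Module.Free ℤ (φ' p e K π).range := by
  haveI := finite_range p e K π hint hweil D hD
  infer_instance

/-- the map `ℤ[X] → ∏ K_i`, `X ↦ (π_i)` -/
abbrev α : Polynomial ℤ →ₐ[ℤ] ((i : ι) → K i) := Polynomial.aeval (fun i => π i)

lemma α_apply (u : Polynomial ℤ) (i : ι) : α K π u i = Polynomial.aeval (π i) u := by
  have := Polynomial.aeval_algHom_apply (Pi.evalAlgHom ℤ K i) (fun i => π i) u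
  simpa using this.symm

lemma α_eq (u : Polynomial ℤ) :
    α K π u = φ' p e K π (Polynomial.aeval (X 0 : MvPolynomial (Fin 2) ℤ) u) := by
  funext i
  rw [α_apply, φ'_aeval]

include hint hinj in
lemma ker_α : RingHom.ker (α K π) = Ideal.span {Pw K π} := by
  ext u
  rw [RingHom.mem_ker, Ideal.mem_span_singleton]
  constructor
  · intro h
    apply Pw_dvd_of_aeval K π hint hinj
    intro i
    rw [← α_apply, h]; rfl
  · rintro ⟨w, rfl⟩
    funext i
    rw [α_apply, map_mul, Pw, map_prod]
    rw [Finset.prod_eq_zero (Finset.mem_univ i) (minpoly.aeval ℤ (π i)), zero_mul]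
    rfl

include hint hinj hD in
lemma finrank_A₀ : Module.Finite ℤ (α K π).range ∧ Module.finrank ℤ (α K π).range = 2 * D := by
  have hmon := Pw_monic K π hint
  have hsurj : Function.Surjective (α K π).rangeRestrict := (α K π).rangeRestrict_surjective
  have hker : RingHom.ker (α K π).rangeRestrict = Ideal.span {Pw K π} := by
    rw [← ker_α K π hint hinj]
    ext u
    rw [RingHom.mem_ker, RingHom.mem_ker]
    constructor
    · intro h
      have := congrArg Subtype.val h
      simpa using this
    · intro h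
      apply Subtype.ext
      simpa using h
  let e1 : (Polynomial ℤ ⧸ RingHom.ker (α K π).rangeRestrict) ≃ₐ[ℤ] (α K π).range :=
    Ideal.quotientKerAlgEquivOfSurjective hsurj
  let e2 : (Polynomial ℤ ⧸ RingHom.ker (α K π).rangeRestrict) ≃ₐ[ℤ] AdjoinRoot (Pw K π) :=
    Ideal.quotientEquivAlgOfEq ℤ hker
  let e3 : AdjoinRoot (Pw K π) ≃ₗ[ℤ] (α K π).range := e2.symm.toLinearEquiv.trans e1.toLinearEquiv
  let pb := AdjoinRoot.powerBasis' hmon
  haveI : Module.Finite ℤ (AdjoinRoot (Pw K π)) := pb.finite
  refine ⟨Module.Finite.equiv e3, ?_⟩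
  rw [← e3.finrank_eq, pb.finrank, AdjoinRoot.powerBasis'_dim, Pw_natDegree K π hint D hD]

lemma A₀_le : (α K π).range ≤ (φ' p e K π).range := by
  rintro _ ⟨u, rfl⟩
  exact ⟨_, (α_eq p e K π u).symm⟩

lemma πv_mul_mem (y : (i : ι) → K i) (hy : y ∈ (α K π).range) (N : ℕ) :
    (fun i => π i) ^ N * y ∈ (α K π).range := by
  obtain ⟨u, rfl⟩ := hy
  refine ⟨Polynomial.X ^ N * u, ?_⟩
  rw [map_mul, map_pow]
  congr 1
  simp

include hint hweil hD in
lemma exists_N : ∃ N : ℕ, ∀ y ∈ (φ' p e K π).range,
    (fun i => π i) ^ N * y ∈ (α K π).range := by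
  classical
  have hfin := finite_range p e K π hint hweil D hD
  obtain ⟨S, hS⟩ : (Subalgebra.toSubmodule (φ' p e K π).range).FG := Module.Finite.iff_fg.mp hfin
  have hSmem : ∀ s ∈ S, s ∈ (φ' p e K π).range := by
    intro s hs
    have : s ∈ Submodule.span ℤ (S : Set ((i : ι) → K i)) := Submodule.subset_span hs
    rw [hS] at this
    exact this
  have key : ∀ T : Finset ((i : ι) → K i), (∀ s ∈ T, s ∈ (φ' p e K π).range) →
      ∃ N : ℕ, ∀ s ∈ T, (fun i => π i) ^ N * s ∈ (α K π).range := by
    intro T
    induction T using Finset.induction_on with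
    | empty => intro _; exact ⟨0, fun s hs => by simp at hs⟩
    | insert a T ha ih =>
      intro hT
      obtain ⟨N₁, hN₁⟩ := ih (fun s hs => hT s (Finset.mem_insert_of_mem hs))
      obtain ⟨x, hx0⟩ := hT a (Finset.mem_insert_self a T)
      have hx : φ' p e K π x = a := hx0
      obtain ⟨N₂, u, hu⟩ := WeilCI.exists_pow_mul_sub_mem _ (q_ne_zero p e) x
      have ha2 : (fun i => π i) ^ N₂ * a ∈ (α K π).range := by
        refine ⟨u, ?_⟩
        show α K π u = _
        have h1 : (φ' p e K π) (X 0 ^ N₂ * x - Polynomial.aeval (X 0 : MvPolynomial (Fin 2) ℤ) u) = 0 := by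
          obtain ⟨c, hc⟩ := Ideal.mem_span_singleton'.mp hu
          rw [← hc, map_mul]
          have hg0 : (φ' p e K π) (WeilCI.g ((p : ℤ) ^ e)) = 0 := by
            show (φ' p e K π) (X 0 * X 1 - C ((p : ℤ) ^ e)) = 0
            rw [map_sub, map_mul, φ'_X0, φ'_X1]
            funext i
            have hπi := π_ne_zero p e K π hint hweil D hD i
            have : (φ' p e K π) (C ((p : ℤ) ^ e)) i = ((p : K i) ^ e) := by
              rw [φ', aeval_C]
              simp
            rw [Pi.sub_apply, Pi.mul_apply, this, Pi.zero_apply, mul_div_cancel₀ _ hπi, sub_self]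
          rw [hg0, mul_zero]
        rw [map_sub, map_mul, map_pow, φ'_X0, sub_eq_zero, hx] at h1
        rw [α_eq p e K π u, ← h1]
      refine ⟨N₁ + N₂, ?_⟩
      intro s hs
      rcases Finset.mem_insert.mp hs with rfl | hs
      · rw [pow_add, mul_assoc]
        exact πv_mul_mem K π _ ha2 N₁
      · rw [pow_add, mul_comm ((fun i => π i) ^ N₁), mul_assoc]
        exact πv_mul_mem K π _ (hN₁ s hs) N₂
  obtain ⟨N, hN⟩ := key S hSmem
  refine ⟨N, ?_⟩
  intro y hy
  have hy' : y ∈ Submodule.span ℤ (S : Set ((i : ι) → K i)) := by rw [hS]; exact hy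
  induction hy' using Submodule.span_induction with
  | mem s hs => exact hN s hs
  | zero => rw [mul_zero]; exact Subalgebra.zero_mem _
  | add a b _ _ iha ihb =>
    rw [mul_add]
    have ha' : a ∈ (φ' p e K π).range := by
      have : a ∈ Submodule.span ℤ (S : Set ((i : ι) → K i)) := by assumption
      rw [hS] at this; exact this
    have hb' : b ∈ (φ' p e K π).range := by
      have : b ∈ Submodule.span ℤ (S : Set ((i : ι) → K i)) := by assumption
      rw [hS] at this; exact this
    exact Subalgebra.add_mem _ (iha ha') (ihb hb')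
  | smul n a _ iha =>
    rw [mul_smul_comm]
    have ha' : a ∈ (φ' p e K π).range := by
      have : a ∈ Submodule.span ℤ (S : Set ((i : ι) → K i)) := by assumption
      rw [hS] at this; exact this
    exact Subalgebra.smul_mem _ (iha ha') n

include hint hweil hinj hD in
lemma finrank_range : Module.finrank ℤ (φ' p e K π).range = 2 * D := by
  have hfin := finite_range p e K π hint hweil D hD
  obtain ⟨hfinA, hrk⟩ := finrank_A₀ K π hint hinj D hD
  have := hfinA
  obtain ⟨N, hN⟩ := exists_N p e K π hint hweil D hD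
  apply le_antisymm
  · rw [← hrk]
    let f : (φ' p e K π).range →ₗ[ℤ] (α K π).range :=
      { toFun := fun y => ⟨(fun i => π i) ^ N * y.1, hN y.1 y.2⟩
        map_add' := fun a b => by
          apply Subtype.ext
          simp [mul_add]
        map_smul' := fun n a => by
          apply Subtype.ext
          simp only [RingHom.id_apply, SetLike.val_smul, mul_smul_comm] }
    apply LinearMap.finrank_le_finrank_of_injective (f := f)
    intro a b hab
    have h1 := congrArg Subtype.val hab
    simp only [f, LinearMap.coe_mk, AddHom.coe_mk] at h1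
    apply Subtype.ext
    funext i
    have h2 := congrFun h1 i
    simp only [Pi.mul_apply, Pi.pow_apply] at h2
    exact mul_left_cancel₀ (pow_ne_zero N (π_ne_zero p e K π hint hweil D hD i)) h2
  · rw [← hrk]
    let f : (α K π).range →ₗ[ℤ] (φ' p e K π).range :=
      (Subalgebra.inclusion (A₀_le p e K π)).toLinearMap
    apply LinearMap.finrank_le_finrank_of_injective (f := f)
    exact Subalgebra.inclusion_injective (A₀_le p e K π)

include hint hweil hD in
lemma krullDim_range [Nonempty ι] : ringKrullDim (φ' p e K π).range = 1 := by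
  have hfin := finite_range p e K π hint hweil D hD
  have : Algebra.IsIntegral ℤ (φ' p e K π).range := Algebra.IsIntegral.of_finite ℤ _
  have hinj' : Function.Injective (algebraMap ℤ (φ' p e K π).range) := by
    rw [injective_iff_map_eq_zero]
    intro n hn
    have h1 := congrArg Subtype.val hn
    obtain ⟨i⟩ := (inferInstance : Nonempty ι)
    have h2 := congrFun h1 i
    have h3 : ((n : ℤ) : K i) = 0 := by simpa using h2
    exact_mod_cast h3
  rw [Groth.Agent.Lib.Helper73.ringKrullDim_eq_of_isIntegral_of_injective hinj']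
  exact IsPrincipalIdealRing.ringKrullDim_eq_one ℤ Int.not_isField

end

end Groth.Agent.Lib.Helper1.WeilOrder
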