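import Mathlib
import Groth.Agent.Lib.Helper1.WeilOrder
import Groth.Agent.Lib.Helper85.GorRing
import Groth.Agent.Lib.Helper85.RegGor

/-!
# The minimal central order `R_w` is Gorenstein (complete intersection over `ℤ[F,V]`)
-/

open MvPolynomial

namespace Groth.Agent.Lib.Helper1.WeilOrder

universe u

noncomputable section

set_option linter.unusedSectionVars false

/-- `ULift ℤ` is a Gorenstein ring. -/
theorem gorRing_ulift_int : LocCoh.IsGorensteinRing (ULift.{u} ℤ) := by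
  have h1 : IsDomain (ULift.{u} ℤ) :=
    MulEquiv.isDomain ℤ (ULift.ringEquiv : ULift.{u} ℤ ≃+* ℤ).toMulEquiv
  have h2 : IsPrincipalIdealRing (ULift.{u} ℤ) :=
    IsPrincipalIdealRing.of_surjective (ULift.ringEquiv : ULift.{u} ℤ ≃+* ℤ).symm.toRingHom
      (ULift.ringEquiv : ULift.{u} ℤ ≃+* ℤ).symm.surjective
  exact { isGorensteinLocalRing_localization := fun P _ =>
      Groth.Agent.Lib.Helper85.FLCrit.isGorensteinLocalRing_of_regular _ }

variable (p e : ℕ) [Fact p.Prime]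
    {ι : Type} [Fintype ι] (K : ι → Type u) [∀ i, Field (K i)] [∀ i, CharZero (K i)] (π : ∀ i, K i)
    (hint : ∀ i, IsIntegral ℤ (π i))
    (hweil : ∀ i, ∀ z ∈ (minpoly ℤ (π i)).aroots ℂ, ‖z‖ = Real.sqrt ((p : ℝ) ^ e))
    (hinj : ∀ i j, minpoly ℤ (π i) = minpoly ℤ (π j) → i = j)
    (D : ℕ) (hD : ∑ i, (minpoly ℤ (π i)).natDegree = 2 * D)

include hint hweil hinj hD in
theorem gor_range (he : 0 < e) : LocCoh.IsGorensteinRing (φ' p e K π).range := by
  obtain ⟨h, hh⟩ := exists_h p e K π hint hweil D hD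
  obtain ⟨hker, -⟩ := Groth.Agent.S17984.result p e he ι K π hint hweil hinj D hD h hh
  have hq := q_ne_zero p e
  set q : ℤ := (p : ℤ) ^ e with hqdef
  have hkermem : ∀ x : MvPolynomial (Fin 2) ℤ, φ' p e K π x = 0 ↔ x ∈ Ideal.span {WeilCI.g q, h} := by
    intro x
    rw [← RingHom.mem_ker]
    exact Iff.of_eq (congrArg (x ∈ ·) hker)
  have hZ : LocCoh.IsGorensteinRing (ULift.{u} ℤ) := gorRing_ulift_int
  have hdomZ : IsDomain (ULift.{u} ℤ) :=
    MulEquiv.isDomain ℤ (ULift.ringEquiv : ULift.{u} ℤ ≃+* ℤ).toMulEquiv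
  have hRu : LocCoh.IsGorensteinRing (MvPolynomial (Fin 2) (ULift.{u} ℤ)) := by
    have := Groth.Agent.Lib.Helper85.GorRing.gorRing_mvPolynomial (ULift.{u} ℤ) (ULift.{u} (Fin 2))
    exact Groth.Agent.Lib.Helper85.GorRing.gorRing_of_ringEquiv
      (MvPolynomial.renameEquiv (ULift.{u} ℤ) (Equiv.ulift : ULift.{u} (Fin 2) ≃ Fin 2)).toRingEquiv
  let E : MvPolynomial (Fin 2) ℤ ≃+* MvPolynomial (Fin 2) (ULift.{u} ℤ) :=
    MvPolynomial.mapEquiv (Fin 2) (ULift.ringEquiv : ULift.{u} ℤ ≃+* ℤ).symm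
  let Φ : MvPolynomial (Fin 2) (ULift.{u} ℤ) →+* (φ' p e K π).range :=
    ((φ' p e K π).rangeRestrict : MvPolynomial (Fin 2) ℤ →+* (φ' p e K π).range).comp
      E.symm.toRingHom
  have hΦ : ∀ y, Φ y = 0 ↔ E.symm y ∈ Ideal.span {WeilCI.g q, h} := by
    intro y
    rw [← hkermem]
    constructor
    · intro h0
      have := congrArg Subtype.val h0
      simpa [Φ] using this
    · intro h0
      apply Subtype.ext
      simpa [Φ] using h0
  have hΦsurj : Function.Surjective Φ := by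
    intro y
    obtain ⟨x, hx⟩ := (φ' p e K π).rangeRestrict_surjective y
    refine ⟨E x, ?_⟩
    show (φ' p e K π).rangeRestrict (E.symm (E x)) = y
    rw [E.symm_apply_apply, hx]
  set gu := E (WeilCI.g q) with hgu
  set hu := E h with hhu
  have hg0 : WeilCI.g q ≠ 0 := by
    intro h0
    have := congrArg WeilCI.ε₀ h0
    rw [WeilCI.ε₀_g, map_zero, neg_eq_zero] at this
    exact hq (by simpa using this)
  have hgu0 : gu ≠ 0 := by
    rw [hgu]
    exact (map_ne_zero_iff E E.injective).mpr hg0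
  have hgureg : IsSMulRegular (MvPolynomial (Fin 2) (ULift.{u} ℤ)) gu := by
    intro a b hab
    exact mul_left_cancel₀ hgu0 hab
  have hS₁ : LocCoh.IsGorensteinRing (MvPolynomial (Fin 2) (ULift.{u} ℤ) ⧸ Ideal.span {gu}) :=
    Groth.Agent.Lib.Helper85.GorRing.gorRing_quot gu hgureg
  have hΦgu : Φ gu = 0 := by
    rw [hΦ, hgu, E.symm_apply_apply]
    exact Ideal.subset_span (by simp)
  have hΦhu : Φ hu = 0 := by
    rw [hΦ, hhu, E.symm_apply_apply]
    exact Ideal.subset_span (by simp)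
  have hΦspan : ∀ a ∈ Ideal.span {gu}, Φ a = 0 := by
    intro a ha
    obtain ⟨c, rfl⟩ := Ideal.mem_span_singleton'.mp ha
    rw [map_mul, hΦgu, mul_zero]
  let ψ₁ : (MvPolynomial (Fin 2) (ULift.{u} ℤ) ⧸ Ideal.span {gu}) →+* (φ' p e K π).range :=
    Ideal.Quotient.lift (Ideal.span {gu}) Φ hΦspan
  have hψsurj : Function.Surjective ψ₁ :=
    Ideal.Quotient.lift_surjective_of_surjective _ hΦspan hΦsurj
  -- transport of span membership
  have hspan_g : ∀ x : MvPolynomial (Fin 2) (ULift.{u} ℤ),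
      x ∈ Ideal.span {gu} ↔ E.symm x ∈ Ideal.span {WeilCI.g q} := by
    intro x
    rw [Ideal.mem_span_singleton', Ideal.mem_span_singleton']
    constructor
    · rintro ⟨c, rfl⟩
      exact ⟨E.symm c, by rw [map_mul, hgu, E.symm_apply_apply]⟩
    · rintro ⟨c, hc⟩
      refine ⟨E c, ?_⟩
      rw [hgu, ← map_mul, hc, E.apply_symm_apply]
  have hhh : X 0 ^ D * h - Polynomial.aeval (X 0 : MvPolynomial (Fin 2) ℤ) (Pw K π)
      ∈ Ideal.span {WeilCI.g q} := hh
  have hhureg : IsSMulRegular (MvPolynomial (Fin 2) (ULift.{u} ℤ) ⧸ Ideal.span {gu})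
      (Ideal.Quotient.mk (Ideal.span {gu}) hu) := by
    rw [isSMulRegular_iff_right_eq_zero_of_smul]
    intro x hx
    obtain ⟨x, rfl⟩ := Ideal.Quotient.mk_surjective x
    rw [smul_eq_mul, ← map_mul, Ideal.Quotient.eq_zero_iff_mem, hspan_g, map_mul, hhu,
      E.symm_apply_apply] at hx
    rw [Ideal.Quotient.eq_zero_iff_mem, hspan_g]
    exact WeilCI.mem_span_g_of_h_mul hq (Pw_monic K π hint) hhh _ hx
  have hkerψ : RingHom.ker ψ₁ = Ideal.span {Ideal.Quotient.mk (Ideal.span {gu}) hu} := by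
    ext x
    obtain ⟨x, rfl⟩ := Ideal.Quotient.mk_surjective x
    rw [RingHom.mem_ker, Ideal.mem_span_singleton']
    show Φ x = 0 ↔ _
    rw [hΦ, Ideal.mem_span_pair]
    constructor
    · rintro ⟨a, b, hab⟩
      refine ⟨Ideal.Quotient.mk _ (E b), ?_⟩
      rw [← map_mul, Ideal.Quotient.eq, hspan_g, map_sub, map_mul, E.symm_apply_apply, hhu,
        E.symm_apply_apply, ← hab]
      rw [Ideal.mem_span_singleton']
      exact ⟨-a, by ring⟩
    · rintro ⟨c, hc⟩
      obtain ⟨c, rfl⟩ := Ideal.Quotient.mk_surjective c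
      rw [← map_mul, Ideal.Quotient.eq, hspan_g, map_sub, map_mul, hhu, E.symm_apply_apply,
        Ideal.mem_span_singleton'] at hc
      obtain ⟨d, hd⟩ := hc
      exact ⟨-d, E.symm c, by linear_combination -hd⟩
  exact Groth.Agent.Lib.Helper85.GorRing.gorRing_of_surjective
    (R := MvPolynomial (Fin 2) (ULift.{u} ℤ) ⧸ Ideal.span {gu}) (R' := (φ' p e K π).range)
    ψ₁ hψsurj (Ideal.Quotient.mk (Ideal.span {gu}) hu) hhureg hkerψ

end

end Groth.Agent.Lib.Helper1.WeilOrder
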